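import Mathlib
import Cfsg.Prelude.Def_CaseTheorems

/-!
Normal form and subgroup structure of quasi-dihedral (semidihedral) 2-groups.
`SD S r x y`: `x` has order `8r`, `y` is an involution with `y x y⁻¹ = x^(4r-1)`.
-/

set_option autoImplicit false
set_option linter.dupNamespace false
set_option linter.unusedSectionVars false

namespace CfsgLib.TwoGroups.SD

/-- The defining data of a quasi-dihedral group of order `16 r`. -/
structure SD (S : Type*) [Group S] (r : ℕ) (x y : S) : Prop where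
  pow_two' : ∃ t, r = 2 ^ t
  ordx : orderOf x = 8 * r
  ordy : orderOf y = 2
  rel : y * x * y⁻¹ = x ^ ((4 * r : ℤ) - 1)
  card : Nat.card S = 16 * r
  gen : ∀ g : S, ∃ k : ℤ, g = x ^ k ∨ g = x ^ k * y
  notMem : y ∉ Subgroup.zpowers x

theorem exists_sd {S : Type*} [Group S] [Finite S] (hS : Cfsg.IsQuasiDihedral S) :
    ∃ (r : ℕ) (x y : S), SD S r x y := by
  obtain ⟨n, hn, hcard, x, y, hx, hy, hrel⟩ := hS
  obtain ⟨t, rfl⟩ : ∃ t, n = t + 3 := ⟨n - 3, by omega⟩
  have hpos : 0 < 2 ^ t := pow_pos two_pos t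
  have h8 : orderOf x = 8 * 2 ^ t := by rw [hx, pow_add]; ring
  have h4 : 2 ^ (t + 3 - 1) = 4 * 2 ^ t := by
    rw [show t + 3 - 1 = t + 2 by omega, pow_add]; ring
  rw [h4] at hrel
  have hnot : y ∉ Subgroup.zpowers x := by
    intro h
    obtain ⟨i, rfl⟩ := Subgroup.mem_zpowers_iff.mp h
    rw [← zpow_natCast x (4 * 2 ^ t - 1), ((Commute.refl x).zpow_left i).eq, mul_inv_cancel_right] at hrel
    have h1 : x ^ (((4 * 2 ^ t - 1 : ℕ) : ℤ) - 1) = 1 := by
      rw [zpow_sub, ← hrel, zpow_one, mul_inv_cancel]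
    rw [show (((4 * 2 ^ t - 1 : ℕ) : ℤ) - 1) = ((4 * 2 ^ t - 2 : ℕ) : ℤ) by omega, zpow_natCast] at h1
    have h2 := Nat.le_of_dvd (by omega) (orderOf_dvd_of_pow_eq_one h1)
    omega
  have hidx : (Subgroup.zpowers x).index = 2 := by
    have h := (Subgroup.zpowers x).card_mul_index
    rw [Nat.card_zpowers, h8, hcard] at h
    apply Nat.eq_of_mul_eq_mul_left (show 0 < 8 * 2 ^ t by omega)
    rw [h, pow_succ, pow_add]
    ring
  refine ⟨2 ^ t, x, y, ⟨t, rfl⟩, h8, hy, ?_, ?_, ?_, hnot⟩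
  · rw [hrel, ← zpow_natCast]
    congr 1
    rw [Nat.cast_sub (by omega)]
    push_cast
    ring
  · rw [hcard, pow_succ, pow_add]; ring
  · intro g
    by_cases hg : g ∈ Subgroup.zpowers x
    · obtain ⟨k, hk⟩ := Subgroup.mem_zpowers_iff.mp hg
      exact ⟨k, Or.inl hk.symm⟩
    · have h := (Subgroup.mul_mem_iff_of_index_two hidx (a := g) (b := y)).mpr
        (iff_of_false hg hnot)
      obtain ⟨k, hk⟩ := Subgroup.mem_zpowers_iff.mp h
      refine ⟨k, Or.inr ?_⟩
      have hyy : y * y = 1 := by rw [← pow_two, ← hy, pow_orderOf_eq_one]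
      rw [hk, mul_assoc, hyy, mul_one]

section Recognition

variable {G : Type*} [Group G] {m : ℕ}

theorem zpow_congr {u : G} (hu : u ^ m = 1) {a b : ℤ} (h : (a : ZMod m) = b) : u ^ a = u ^ b := by
  obtain ⟨c, hc⟩ := (ZMod.intCast_eq_intCast_iff_dvd_sub a b m).mp h
  rw [show b = a + (m : ℤ) * c by omega, zpow_add, zpow_mul, zpow_natCast, hu, one_zpow, mul_one]

theorem cast_zpow {u : G} (hu : u ^ m = 1) (a : ℤ) : u ^ ((a : ZMod m).cast : ℤ) = u ^ a :=
  zpow_congr hu (ZMod.intCast_zmod_cast _)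

/-- The hom out of a dihedral group given by a rotation `u` and an involution `v` inverting it. -/
def dihedralHom (u v : G) (hu : u ^ m = 1) (hv : v * v = 1) (hvu : v * u * v⁻¹ = u⁻¹) :
    DihedralGroup m →* G where
  toFun g := match g with
    | .r i => u ^ (i.cast : ℤ)
    | .sr i => v * u ^ (i.cast : ℤ)
  map_one' := by
    show u ^ ((0 : ZMod m).cast : ℤ) = 1
    rw [show ((0 : ZMod m).cast : ℤ) = 0 by simp, zpow_zero]
  map_mul' := by
    have hvi : v⁻¹ = v := inv_eq_of_mul_eq_one_right hv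
    have hk : ∀ k : ℤ, v * u ^ k = u ^ (-k) * v := by
      intro k
      rw [← mul_inv_eq_iff_eq_mul, ← conj_zpow, hvu, inv_zpow']
    rintro (i | i) (j | j) <;>
      obtain ⟨a, rfl⟩ := ZMod.intCast_surjective i <;>
      obtain ⟨b, rfl⟩ := ZMod.intCast_surjective j <;>
      simp only [DihedralGroup.r_mul_r, DihedralGroup.r_mul_sr, DihedralGroup.sr_mul_r,
        DihedralGroup.sr_mul_sr, ← Int.cast_add, ← Int.cast_sub, cast_zpow hu]
    · rw [zpow_add]
    · rw [← mul_assoc, show u ^ a * v = v * u ^ (-a) by rw [hk, neg_neg], mul_assoc, ← zpow_add]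
      congr 2; ring
    · rw [mul_assoc, zpow_add]
    · rw [show v * u ^ a * (v * u ^ b) = (v * u ^ a) * v * u ^ b by group, hk, mul_assoc _ v v, hv,
        mul_one, ← zpow_add]
      congr 1; ring

theorem dihedralHom_injective (u v : G) (hu : u ^ m = 1) (hv : v * v = 1)
    (hvu : v * u * v⁻¹ = u⁻¹) (hord : orderOf u = m) (hnot : v ∉ Subgroup.zpowers u) :
    Function.Injective (dihedralHom u v hu hv hvu) := by
  rw [injective_iff_map_eq_one]
  rintro (i | i) h <;> obtain ⟨a, rfl⟩ := ZMod.intCast_surjective i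
  · change u ^ (((a : ZMod m)).cast : ℤ) = 1 at h
    rw [cast_zpow hu, ← orderOf_dvd_iff_zpow_eq_one, hord] at h
    rw [DihedralGroup.one_def, (ZMod.intCast_zmod_eq_zero_iff_dvd a m).mpr h]
  · change v * u ^ (((a : ZMod m)).cast : ℤ) = 1 at h
    rw [cast_zpow hu, mul_eq_one_iff_eq_inv, ← zpow_neg] at h
    exact absurd ⟨-a, h.symm⟩ hnot

theorem range_dihedralHom (u v : G) (hu : u ^ m = 1) (hv : v * v = 1)
    (hvu : v * u * v⁻¹ = u⁻¹) :
    (dihedralHom u v hu hv hvu).range = Subgroup.closure {u, v} := by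
  have hu' : u ∈ Subgroup.closure {u, v} := Subgroup.subset_closure (by simp)
  refine le_antisymm ?_ ((Subgroup.closure_le _).mpr ?_)
  · rintro _ ⟨i | i, rfl⟩
    · exact Subgroup.zpow_mem _ hu' _
    · exact Subgroup.mul_mem _ (Subgroup.subset_closure (by simp)) (Subgroup.zpow_mem _ hu' _)
  · rintro g (rfl | rfl)
    · refine ⟨.r ((1 : ℤ) : ZMod m), ?_⟩
      change g ^ ((((1 : ℤ) : ZMod m)).cast : ℤ) = g
      rw [cast_zpow hu, zpow_one]
    · refine ⟨.sr ((0 : ℤ) : ZMod m), ?_⟩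
      change g * u ^ ((((0 : ℤ) : ZMod m)).cast : ℤ) = g
      rw [cast_zpow hu, zpow_zero, mul_one]

/-- The hom out of a quaternion group given by `u` and `v` with `v² = u^m` inverting it. -/
def quaternionHom (u v : G) (hu : u ^ (2 * m) = 1) (hv : v * v = u ^ m)
    (hvu : v * u * v⁻¹ = u⁻¹) : QuaternionGroup m →* G where
  toFun g := match g with
    | .a i => u ^ (i.cast : ℤ)
    | .xa i => v * u ^ (i.cast : ℤ)
  map_one' := by
    show u ^ ((0 : ZMod (2 * m)).cast : ℤ) = 1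
    rw [show ((0 : ZMod (2 * m)).cast : ℤ) = 0 by simp, zpow_zero]
  map_mul' := by
    have hk : ∀ k : ℤ, v * u ^ k = u ^ (-k) * v := by
      intro k
      rw [← mul_inv_eq_iff_eq_mul, ← conj_zpow, hvu, inv_zpow']
    rintro (i | i) (j | j) <;>
      obtain ⟨a, rfl⟩ := ZMod.intCast_surjective i <;>
      obtain ⟨b, rfl⟩ := ZMod.intCast_surjective j <;>
      simp only [QuaternionGroup.a_mul_a, QuaternionGroup.a_mul_xa, QuaternionGroup.xa_mul_a,
        QuaternionGroup.xa_mul_xa, ← Int.cast_add, ← Int.cast_sub, cast_zpow hu]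
    · rw [zpow_add]
    · rw [← mul_assoc, show u ^ a * v = v * u ^ (-a) by rw [hk, neg_neg], mul_assoc, ← zpow_add]
      congr 2; ring
    · rw [mul_assoc, zpow_add]
    · rw [show ((m : ZMod (2 * m)) + ((b : ℤ) : ZMod (2 * m)) - ((a : ℤ) : ZMod (2 * m))) =
          (((m : ℤ) + b - a : ℤ) : ZMod (2 * m)) by push_cast; rfl, cast_zpow hu]
      rw [show v * u ^ a * (v * u ^ b) = (v * u ^ a) * v * u ^ b by group, hk, mul_assoc _ v v, hv,
        ← zpow_natCast, ← zpow_add, ← zpow_add]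
      congr 1; ring

theorem quaternionHom_injective (u v : G) (hu : u ^ (2 * m) = 1) (hv : v * v = u ^ m)
    (hvu : v * u * v⁻¹ = u⁻¹) (hord : orderOf u = 2 * m) (hnot : v ∉ Subgroup.zpowers u) :
    Function.Injective (quaternionHom u v hu hv hvu) := by
  rw [injective_iff_map_eq_one]
  rintro (i | i) h <;> obtain ⟨a, rfl⟩ := ZMod.intCast_surjective i
  · change u ^ (((a : ZMod (2 * m))).cast : ℤ) = 1 at h
    rw [cast_zpow hu, ← orderOf_dvd_iff_zpow_eq_one, hord] at h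
    rw [QuaternionGroup.one_def, (ZMod.intCast_zmod_eq_zero_iff_dvd a (2 * m)).mpr h]
  · change v * u ^ (((a : ZMod (2 * m))).cast : ℤ) = 1 at h
    rw [cast_zpow hu, mul_eq_one_iff_eq_inv, ← zpow_neg] at h
    exact absurd ⟨-a, h.symm⟩ hnot

theorem range_quaternionHom (u v : G) (hu : u ^ (2 * m) = 1) (hv : v * v = u ^ m)
    (hvu : v * u * v⁻¹ = u⁻¹) :
    (quaternionHom u v hu hv hvu).range = Subgroup.closure {u, v} := by
  have hu' : u ∈ Subgroup.closure {u, v} := Subgroup.subset_closure (by simp)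
  refine le_antisymm ?_ ((Subgroup.closure_le _).mpr ?_)
  · rintro _ ⟨i | i, rfl⟩
    · exact Subgroup.zpow_mem _ hu' _
    · exact Subgroup.mul_mem _ (Subgroup.subset_closure (by simp)) (Subgroup.zpow_mem _ hu' _)
  · rintro g (rfl | rfl)
    · refine ⟨.a ((1 : ℤ) : ZMod (2 * m)), ?_⟩
      change g ^ ((((1 : ℤ) : ZMod (2 * m))).cast : ℤ) = g
      rw [cast_zpow hu, zpow_one]
    · refine ⟨.xa ((0 : ℤ) : ZMod (2 * m)), ?_⟩
      change g * u ^ ((((0 : ℤ) : ZMod (2 * m))).cast : ℤ) = g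
      rw [cast_zpow hu, zpow_zero, mul_one]

/-- Maximal subgroups of a finite `p`-group have index `p`. -/
theorem index_of_isCoatom [Finite G] {p : ℕ} [Fact p.Prime] (hG : IsPGroup p G) {M : Subgroup G}
    (hM : IsCoatom M) : M.index = p := by
  obtain ⟨n, hn⟩ := hG.exists_card_eq
  obtain ⟨k, hk⟩ := (hG.to_subgroup M).exists_card_eq
  have hkn : k < n := by
    by_contra hh
    apply hM.1
    apply Subgroup.eq_top_of_le_card
    rw [hn, hk]
    exact Nat.pow_le_pow_right (Nat.Prime.pos Fact.out) (by omega)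
  obtain ⟨K, hK, hMK⟩ := Sylow.exists_subgroup_card_pow_succ (G := G)
    (hn ▸ pow_dvd_pow p (Nat.succ_le_iff.mpr hkn)) hk
  have hKtop : K = ⊤ := by
    refine hM.2 K (lt_of_le_of_ne hMK ?_)
    rintro rfl
    rw [hk] at hK
    have := Nat.pow_right_injective (Nat.Prime.two_le Fact.out) hK
    omega
  subst hKtop
  rw [Subgroup.card_top, hn] at hK
  have h := M.card_mul_index
  rw [hk, hn, hK, pow_succ] at h
  exact Nat.eq_of_mul_eq_mul_left (pow_pos (Nat.Prime.pos Fact.out) k) h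

theorem isCoatom_of_index_two [Finite G] {M : Subgroup G} (hM : M.index = 2) : IsCoatom M := by
  refine ⟨fun h => by simp [h] at hM, fun K hK => Subgroup.index_eq_one.mp ?_⟩
  rcases (Nat.dvd_prime Nat.prime_two).mp (hM ▸ Subgroup.index_dvd_of_le hK.le) with h | h
  · exact h
  · exfalso
    have := Subgroup.index_strictAnti hK
    omega

end Recognition

variable {S : Type*} [Group S] {r : ℕ} {x y : S}

theorem r_pos (h : SD S r x y) : 0 < r := by
  obtain ⟨t, rfl⟩ := h.pow_two'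
  positivity

theorem isPGroup (h : SD S r x y) : IsPGroup 2 S := by
  obtain ⟨t, ht⟩ := h.pow_two'
  refine IsPGroup.of_card (n := t + 4) ?_
  rw [h.card, ht, pow_add]; ring

theorem zpow_x_eq (h : SD S r x y) {a b : ℤ} : x ^ a = x ^ b ↔ (8 * (r : ℤ)) ∣ b - a := by
  rw [← mul_inv_eq_one, ← zpow_neg, ← zpow_add, ← orderOf_dvd_iff_zpow_eq_one, h.ordx,
    dvd_sub_comm]
  push_cast
  rw [sub_eq_add_neg]

theorem zpow_x_eq_one (h : SD S r x y) {a : ℤ} : x ^ a = 1 ↔ (8 * (r : ℤ)) ∣ a := by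
  rw [← orderOf_dvd_iff_zpow_eq_one, h.ordx]
  push_cast
  rfl

theorem yy (h : SD S r x y) : y * y = 1 := by
  rw [← pow_two, ← h.ordy, pow_orderOf_eq_one]

theorem y_inv (h : SD S r x y) : y⁻¹ = y := inv_eq_of_mul_eq_one_right (yy h)

theorem y_mul (h : SD S r x y) (k : ℤ) : y * x ^ k = x ^ ((4 * r - 1) * k) * y := by
  rw [← mul_inv_eq_iff_eq_mul, ← conj_zpow, h.rel, ← zpow_mul]

theorem mul_y (h : SD S r x y) (k : ℤ) : x ^ k * y = y * x ^ ((4 * r - 1) * k) := by
  rw [y_mul h, mul_left_inj, zpow_x_eq h]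
  exact ⟨(2 * r - 1) * k, by ring⟩

theorem not_mem_y (h : SD S r x y) (k l : ℤ) : x ^ k * y ≠ x ^ l := by
  intro e
  apply h.notMem
  refine ⟨-k + l, ?_⟩
  show x ^ (-k + l) = y
  rw [zpow_add, ← e, zpow_neg, inv_mul_cancel_left]

theorem xy_eq (h : SD S r x y) {a b : ℤ} : x ^ a * y = x ^ b * y ↔ (8 * (r : ℤ)) ∣ b - a := by
  rw [mul_left_inj, zpow_x_eq h]

theorem xy_mul_xy (h : SD S r x y) (a b : ℤ) :
    (x ^ a * y) * (x ^ b * y) = x ^ (a + (4 * r - 1) * b) := by
  rw [mul_assoc, ← mul_assoc y, y_mul h, mul_assoc, yy h, mul_one, ← zpow_add]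

theorem conj_pow (h : SD S r x y) (c a : ℤ) :
    x ^ c * (x ^ a * y) * (x ^ c)⁻¹ = x ^ (a + c * (2 - 4 * r)) * y := by
  rw [← zpow_neg, ← mul_assoc (x ^ c), ← zpow_add, mul_assoc, y_mul h, ← mul_assoc, ← zpow_add]
  congr 2; ring

theorem conj_y_pow (h : SD S r x y) (k : ℤ) : y * x ^ k * y⁻¹ = x ^ ((4 * r - 1) * k) := by
  rw [y_mul h, mul_inv_cancel_right]

theorem conj_yy (h : SD S r x y) (a : ℤ) :
    y * (x ^ a * y) * y⁻¹ = x ^ ((4 * r - 1) * a) * y := by
  rw [← mul_assoc, y_mul h, mul_assoc _ y y, yy h, mul_one, y_inv h]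

/-- Elements with exponents of equal parity outside `⟨x⟩` are conjugate. -/
theorem exists_conj_xy (h : SD S r x y) {a b : ℤ} (hab : (2 : ℤ) ∣ b - a) :
    ∃ c : ℤ, x ^ c * (x ^ a * y) * (x ^ c)⁻¹ = x ^ b * y := by
  obtain ⟨e, he⟩ := hab
  refine ⟨e * (1 + 2 * r), ?_⟩
  rw [conj_pow h, xy_eq h]
  exact ⟨(r : ℤ) * e, by rw [show b = a + 2 * e by omega]; ring⟩

theorem commute_pow_y (h : SD S r x y) {k : ℤ} : Commute (x ^ k) y ↔ (4 * (r : ℤ)) ∣ k := by
  unfold Commute SemiconjBy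
  rw [y_mul h, xy_eq h]
  constructor
  · rintro ⟨c, hc⟩
    have : (2 : ℤ) * ((2 * r - 1) * k) = 2 * (4 * r * c) := by linear_combination hc
    exact ⟨r * k - c * (1 + 2 * r), by
      linear_combination -(1 + 2 * (r : ℤ)) * (mul_left_cancel₀ two_ne_zero this)⟩
  · rintro ⟨c, rfl⟩
    exact ⟨(2 * r - 1) * c, by ring⟩

theorem commute_pow_xy (h : SD S r x y) {k a : ℤ} :
    Commute (x ^ k) (x ^ a * y) ↔ (4 * (r : ℤ)) ∣ k := by
  rw [← commute_pow_y h]
  constructor
  · intro hc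
    have := ((Commute.refl x).zpow_zpow k (-a)).mul_right hc
    rwa [← mul_assoc, ← zpow_add, neg_add_cancel, zpow_zero, one_mul] at this
  · intro hc
    exact ((Commute.refl x).zpow_zpow k a).mul_right hc

theorem orderOf_zpow_eq_two (h : SD S r x y) {k : ℤ} :
    orderOf (x ^ k) = 2 ↔ x ^ k = x ^ (4 * r : ℤ) := by
  have hr := r_pos h
  rw [orderOf_eq_prime_iff, zpow_x_eq h, ← zpow_natCast, ← zpow_mul, zpow_x_eq_one h, ne_eq,
    zpow_x_eq_one h]
  constructor
  · rintro ⟨⟨c, hc⟩, hk⟩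
    have hk2 : k = 4 * r * c := by push_cast at hc; linarith
    rcases Int.even_or_odd c with ⟨d, rfl⟩ | ⟨d, rfl⟩
    · exact absurd ⟨d, by rw [hk2]; ring⟩ hk
    · exact ⟨-d, by rw [hk2]; ring⟩
  · rintro ⟨c, hc⟩
    refine ⟨⟨1 - 2 * c, by push_cast; linarith⟩, ?_⟩
    rintro ⟨d, rfl⟩
    have : (4 * (r : ℤ)) * 1 = 4 * r * (2 * (c + d)) := by linarith
    have := mul_left_cancel₀ (by positivity) this
    omega

theorem xy_sq (h : SD S r x y) (a : ℤ) : (x ^ a * y) ^ 2 = x ^ (4 * r * a : ℤ) := by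
  rw [pow_two, xy_mul_xy h]; congr 1; ring

theorem orderOf_xy_even (h : SD S r x y) {a : ℤ} (ha : Even a) : orderOf (x ^ a * y) = 2 := by
  obtain ⟨c, rfl⟩ := ha
  refine orderOf_eq_prime ?_ fun e => not_mem_y h _ 0 (by rw [e, zpow_zero])
  rw [xy_sq h, zpow_x_eq_one h]
  exact ⟨c, by ring⟩

theorem orderOf_xy_odd (h : SD S r x y) {a : ℤ} (ha : Odd a) : orderOf (x ^ a * y) = 4 := by
  have hr := r_pos h
  obtain ⟨c, rfl⟩ := ha
  have h1 : ¬ (x ^ (2 * c + 1) * y) ^ (2 ^ 1) = 1 := by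
    rw [show (2:ℕ) ^ 1 = 2 from rfl, xy_sq h, zpow_x_eq_one h]
    rintro ⟨d, hd⟩
    have := mul_left_cancel₀ (show (4 * (r : ℤ)) ≠ 0 by positivity)
      (show 4 * (r : ℤ) * (2 * c + 1) = 4 * r * (2 * d) by linarith)
    omega
  have h2 : (x ^ (2 * c + 1) * y) ^ (2 ^ (1 + 1)) = 1 := by
    rw [show (2:ℕ) ^ (1 + 1) = 2 * 2 from rfl, pow_mul, xy_sq h, ← zpow_natCast, ← zpow_mul,
      zpow_x_eq_one h]
    exact ⟨2 * c + 1, by push_cast; ring⟩
  simpa using orderOf_eq_prime_pow h1 h2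

theorem orderOf_zpow_eq_four (h : SD S r x y) {k : ℤ} :
    orderOf (x ^ k) = 4 ↔ x ^ k = x ^ (2 * r : ℤ) ∨ x ^ k = x ^ (-(2 * r) : ℤ) := by
  have hr := r_pos h
  constructor
  · intro ho
    have h2 : orderOf (x ^ (2 * k)) = 2 := by
      rw [show x ^ (2 * k) = (x ^ k) ^ 2 by rw [← zpow_natCast, ← zpow_mul]; congr 1; push_cast; ring,
        orderOf_pow' _ two_ne_zero, ho]
      rfl
    rw [orderOf_zpow_eq_two h, zpow_x_eq h] at h2
    obtain ⟨c, hc⟩ := h2
    rw [zpow_x_eq h, zpow_x_eq h]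
    rcases Int.even_or_odd c with ⟨d, rfl⟩ | ⟨d, rfl⟩
    · exact Or.inl ⟨d, by linarith⟩
    · exact Or.inr ⟨d, by linarith⟩
  · intro hk
    have key : ∀ s : ℤ, (s = 1 ∨ s = -1) → orderOf (x ^ (2 * r * s)) = 4 := by
      intro s hs
      have h1 : ¬ (x ^ (2 * r * s)) ^ (2 ^ 1) = 1 := by
        rw [← zpow_natCast, ← zpow_mul, zpow_x_eq_one h]
        rintro ⟨d, hd⟩
        push_cast at hd
        have := mul_left_cancel₀ (show (4 * (r : ℤ)) ≠ 0 by positivity)
          (show 4 * (r : ℤ) * s = 4 * r * (2 * d) by linarith)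
        omega
      have h2 : (x ^ (2 * r * s)) ^ (2 ^ (1 + 1)) = 1 := by
        rw [← zpow_natCast, ← zpow_mul, zpow_x_eq_one h]
        exact ⟨s, by push_cast; ring⟩
      simpa using orderOf_eq_prime_pow h1 h2
    rcases hk with e | e <;> rw [e]
    · simpa using key 1 (Or.inl rfl)
    · simpa using key (-1) (Or.inr rfl)

theorem involution_cases (h : SD S r x y) {g : S} (hg : orderOf g = 2) :
    g = x ^ (4 * r : ℤ) ∨ ∃ a : ℤ, Even a ∧ g = x ^ a * y := by
  obtain ⟨k, rfl | rfl⟩ := h.gen g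
  · exact Or.inl ((orderOf_zpow_eq_two h).mp hg)
  · rcases Int.even_or_odd k with he | ho
    · exact Or.inr ⟨k, he, rfl⟩
    · rw [orderOf_xy_odd h ho] at hg; omega

theorem center_eq (h : SD S r x y) :
    Subgroup.center S = Subgroup.zpowers (x ^ (4 * r : ℤ)) := by
  refine le_antisymm ?_ (Subgroup.zpowers_le.mpr (Subgroup.mem_center_iff.mpr ?_))
  · intro g hg
    rw [Subgroup.mem_center_iff] at hg
    obtain ⟨k, rfl | rfl⟩ := h.gen g
    · obtain ⟨c, rfl⟩ := (commute_pow_y h).mp (hg y).symm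
      exact ⟨c, (zpow_mul x _ _).symm⟩
    · exfalso
      have h1 : Commute (x ^ (1 : ℤ)) (x ^ k * y) := hg (x ^ (1 : ℤ))
      have := Int.le_of_dvd one_pos ((commute_pow_xy h).mp h1)
      have := r_pos h
      omega
  · intro g
    have hc : Commute (x ^ (4 * r : ℤ)) y := (commute_pow_y h).mpr dvd_rfl
    obtain ⟨k, rfl | rfl⟩ := h.gen g
    · exact ((Commute.refl x).zpow_zpow k _).eq
    · exact (((Commute.refl x).zpow_zpow k _).mul_left hc.symm).eq

theorem card_center (h : SD S r x y) : Nat.card (Subgroup.center S) = 2 := by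
  rw [center_eq h, Nat.card_zpowers]
  exact (orderOf_zpow_eq_two h).mpr rfl

theorem isConj_xy (h : SD S r x y) {a b : ℤ} (hab : (2 : ℤ) ∣ b - a) :
    IsConj (x ^ a * y) (x ^ b * y) := by
  obtain ⟨c, hc⟩ := exists_conj_xy h hab
  exact isConj_iff.mpr ⟨_, hc⟩

/-- Conjugates of a power of `x` are powers of `x`. -/
theorem conj_zpowers (h : SD S r x y) (g : S) (k : ℤ) :
    g * x ^ k * g⁻¹ = x ^ k ∨ g * x ^ k * g⁻¹ = x ^ ((4 * r - 1) * k) := by
  obtain ⟨c, rfl | rfl⟩ := h.gen g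
  · left
    rw [((Commute.refl x).zpow_zpow c k).eq, mul_inv_cancel_right]
  · right
    rw [show x ^ c * y * x ^ k * (x ^ c * y)⁻¹ = x ^ c * (y * x ^ k * y⁻¹) * (x ^ c)⁻¹ by group,
      conj_y_pow h, ((Commute.refl x).zpow_zpow c _).eq, mul_inv_cancel_right]

theorem not_isConj_xy (h : SD S r x y) (k a : ℤ) : ¬ IsConj (x ^ k) (x ^ a * y) := by
  intro hc
  obtain ⟨g, hg⟩ := isConj_iff.mp hc
  rcases conj_zpowers h g k with e | e <;> rw [e] at hg <;> exact not_mem_y h _ _ hg.symm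

/-! ### Maximal subgroups -/

/-- `⟨x², y⟩`. -/
def dih (x y : S) : Subgroup S := Subgroup.closure {x ^ (2 : ℤ), y}

/-- `⟨x², xy⟩`. -/
def quat (x y : S) : Subgroup S := Subgroup.closure {x ^ (2 : ℤ), x ^ (1 : ℤ) * y}

theorem orderOf_sq (h : SD S r x y) : orderOf (x ^ (2 : ℤ)) = 4 * r := by
  rw [show (2 : ℤ) = ((2 : ℕ) : ℤ) from rfl, zpow_natCast, orderOf_pow' _ two_ne_zero, h.ordx,
    Nat.gcd_eq_right (by omega)]
  omega

theorem sq_hyp (h : SD S r x y) (v : S) (a : ℤ) (hv : v = x ^ a * y) :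
    v * x ^ (2 : ℤ) * v⁻¹ = (x ^ (2 : ℤ))⁻¹ ∧ v ∉ Subgroup.zpowers (x ^ (2 : ℤ)) := by
  subst hv
  constructor
  · rw [show x ^ a * y * x ^ (2 : ℤ) * (x ^ a * y)⁻¹ = x ^ a * (y * x ^ (2 : ℤ) * y⁻¹) * (x ^ a)⁻¹
      by group, conj_y_pow h, ((Commute.refl x).zpow_zpow a _).eq, mul_inv_cancel_right,
      ← zpow_neg, zpow_x_eq h]
    exact ⟨-1, by ring⟩
  · rintro ⟨k, hk⟩
    exact not_mem_y h a (2 * k) (by rw [zpow_mul]; exact hk.symm)

theorem dih_data (h : SD S r x y) :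
    (x ^ (2 : ℤ)) ^ (4 * r) = 1 ∧ y * x ^ (2 : ℤ) * y⁻¹ = (x ^ (2 : ℤ))⁻¹ ∧
      y ∉ Subgroup.zpowers (x ^ (2 : ℤ)) := by
  refine ⟨?_, sq_hyp h y 0 (by rw [zpow_zero, one_mul])⟩
  rw [← orderOf_sq h, pow_orderOf_eq_one]

theorem nonempty_dih_equiv (h : SD S r x y) :
    Nonempty (dih x y ≃* DihedralGroup (4 * r)) := by
  obtain ⟨h1, h2, h3⟩ := dih_data h
  have hinj := dihedralHom_injective _ y h1 (yy h) h2 (orderOf_sq h) h3
  exact ⟨((MonoidHom.ofInjective hinj).trans
    (MulEquiv.subgroupCongr (range_dihedralHom _ y h1 (yy h) h2))).symm⟩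

theorem nonempty_quat_equiv (h : SD S r x y) :
    Nonempty (quat x y ≃* QuaternionGroup (2 * r)) := by
  obtain ⟨h2, h3⟩ := sq_hyp h _ 1 rfl
  have h1 : (x ^ (2 : ℤ)) ^ (2 * (2 * r)) = 1 := by
    rw [show 2 * (2 * r) = 4 * r by ring, ← orderOf_sq h, pow_orderOf_eq_one]
  have hv : (x ^ (1 : ℤ) * y) * (x ^ (1 : ℤ) * y) = (x ^ (2 : ℤ)) ^ (2 * r) := by
    rw [← zpow_natCast, ← zpow_mul, xy_mul_xy h]
    congr 1
    push_cast
    ring
  have hinj := quaternionHom_injective _ _ h1 hv h2 (by rw [orderOf_sq h]; ring) h3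
  exact ⟨((MonoidHom.ofInjective hinj).trans
    (MulEquiv.subgroupCongr (range_quaternionHom _ _ h1 hv h2))).symm⟩

variable [Finite S]

theorem index_zpowers (h : SD S r x y) : (Subgroup.zpowers x).index = 2 := by
  have h' := (Subgroup.zpowers x).card_mul_index
  rw [Nat.card_zpowers, h.ordx, h.card] at h'
  apply Nat.eq_of_mul_eq_mul_left (show 0 < 8 * r by have := r_pos h; omega)
  rw [h']; ring

theorem index_dih (h : SD S r x y) : (dih x y).index = 2 := by
  obtain ⟨e⟩ := nonempty_dih_equiv h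
  have h' := (dih x y).card_mul_index
  rw [Nat.card_congr e.toEquiv, DihedralGroup.nat_card, h.card] at h'
  apply Nat.eq_of_mul_eq_mul_left (show 0 < 2 * (4 * r) by have := r_pos h; omega)
  rw [h']; ring

theorem index_quat (h : SD S r x y) : (quat x y).index = 2 := by
  obtain ⟨e⟩ := nonempty_quat_equiv h
  have : NeZero (2 * r) := ⟨by have := r_pos h; omega⟩
  have h' := (quat x y).card_mul_index
  rw [Nat.card_congr e.toEquiv, Nat.card_eq_fintype_card, QuaternionGroup.card, h.card] at h'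
  apply Nat.eq_of_mul_eq_mul_left (show 0 < 4 * (2 * r) by have := r_pos h; omega)
  rw [h']; ring

theorem x_not_mem_dih (h : SD S r x y) : x ∉ dih x y := by
  intro hx
  have hy : y ∈ dih x y := Subgroup.subset_closure (by simp)
  have : dih x y = ⊤ := by
    rw [Subgroup.eq_top_iff']
    intro g
    obtain ⟨k, rfl | rfl⟩ := h.gen g
    · exact Subgroup.zpow_mem _ hx k
    · exact Subgroup.mul_mem _ (Subgroup.zpow_mem _ hx k) hy
  have := index_dih h
  simp_all

theorem zpow_mem_of_index_two {M : Subgroup S} (hM : M.index = 2) (g : S) (k : ℤ) (hk : Odd k) :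
    g ^ k ∈ M ↔ g ∈ M := by
  obtain ⟨c, rfl⟩ := hk
  rw [zpow_add_one, zpow_mul,
    Subgroup.mul_mem_cancel_left M (M.zpow_mem (by
      rw [zpow_two]; exact Subgroup.mul_self_mem_of_index_two hM g) c)]

theorem coatom_cases (h : SD S r x y) {M : Subgroup S} (hM : M.index = 2) :
    M = Subgroup.zpowers x ∨ M = quat x y ∨ M = dih x y := by
  have heq : ∀ {A : Subgroup S}, A ≤ M → A.index = 2 → M = A := by
    intro A hA hAi
    symm
    refine Subgroup.eq_of_le_of_card_ge hA ?_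
    have h1 := A.card_mul_index
    have h2 := M.card_mul_index
    rw [hAi] at h1
    rw [hM] at h2
    omega
  have hsq : x ^ (2 : ℤ) ∈ M := by
    rw [zpow_two]; exact Subgroup.mul_self_mem_of_index_two hM x
  by_cases hx : x ∈ M
  · exact Or.inl (heq (Subgroup.zpowers_le.mpr hx) (index_zpowers h))
  by_cases hy : y ∈ M
  · refine Or.inr (Or.inr (heq ((Subgroup.closure_le _).mpr ?_) (index_dih h)))
    rintro g (rfl | rfl) <;> assumption
  · refine Or.inr (Or.inl (heq ((Subgroup.closure_le _).mpr ?_) (index_quat h)))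
    rintro g (rfl | rfl)
    · exact hsq
    · rw [zpow_one, SetLike.mem_coe, Subgroup.mul_mem_iff_of_index_two hM]
      exact iff_of_false hx hy

theorem commutator_le_of_index_two {G : Type*} [Group G] {M : Subgroup G} (hM : M.index = 2) :
    commutator G ≤ M := by
  rw [commutator_def, Subgroup.commutator_le]
  intro a _ b _
  rw [commutatorElement_def, Subgroup.mul_mem_iff_of_index_two hM, Subgroup.mul_mem_iff_of_index_two hM,
    Subgroup.mul_mem_iff_of_index_two hM, inv_mem_iff, inv_mem_iff]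
  tauto

theorem commutator_eq (h : SD S r x y) : commutator S = Subgroup.zpowers (x ^ (2 : ℤ)) := by
  refine le_antisymm ?_ (Subgroup.zpowers_le.mpr ?_)
  · intro g hg
    obtain ⟨k, rfl⟩ := Subgroup.mem_zpowers_iff.mp (commutator_le_of_index_two (index_zpowers h) hg)
    have h2 := commutator_le_of_index_two (index_dih h) hg
    rcases Int.even_or_odd k with ⟨c, rfl⟩ | hk
    · exact ⟨c, by simp only; rw [← zpow_mul]; congr 1; ring⟩
    · exact absurd ((zpow_mem_of_index_two (index_dih h) x k hk).mp h2) (x_not_mem_dih h)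
  · have hm := Subgroup.commutator_mem_commutator (Subgroup.mem_top (x ^ (1 + 2 * r : ℤ)))
      (Subgroup.mem_top y)
    rw [← commutator_def, commutatorElement_def] at hm
    convert hm using 1
    rw [show x ^ (1 + 2 * r : ℤ) * y * (x ^ (1 + 2 * r : ℤ))⁻¹ * y⁻¹
      = x ^ (1 + 2 * r : ℤ) * (x ^ (0 : ℤ) * y) * (x ^ (1 + 2 * r : ℤ))⁻¹ * y⁻¹ by group,
      conj_pow h, mul_inv_cancel_right, zpow_x_eq h]
    exact ⟨-(r : ℤ), by ring⟩

theorem frattini_eq (h : SD S r x y) : frattini S = Subgroup.zpowers (x ^ (2 : ℤ)) := by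
  have : Fact (Nat.Prime 2) := ⟨Nat.prime_two⟩
  refine le_antisymm ?_ ?_
  · intro g hg
    obtain ⟨k, rfl⟩ := Subgroup.mem_zpowers_iff.mp
      (frattini_le_coatom (isCoatom_of_index_two (index_zpowers h)) hg)
    have h2 := frattini_le_coatom (isCoatom_of_index_two (index_dih h)) hg
    rcases Int.even_or_odd k with ⟨c, rfl⟩ | hk
    · exact ⟨c, by simp only; rw [← zpow_mul]; congr 1; ring⟩
    · exact absurd ((zpow_mem_of_index_two (index_dih h) x k hk).mp h2) (x_not_mem_dih h)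
  · rw [← commutator_eq h]
    unfold frattini Order.radical
    refine le_iInf fun M => le_iInf fun hM => ?_
    exact commutator_le_of_index_two (index_of_isCoatom (isPGroup h) hM)

theorem closure_involutions (h : SD S r x y) :
    Subgroup.closure {g : S | orderOf g = 2} = dih x y := by
  refine le_antisymm ((Subgroup.closure_le _).mpr ?_) ((Subgroup.closure_le _).mpr ?_)
  · intro g hg
    have hsq : x ^ (2 : ℤ) ∈ dih x y := Subgroup.subset_closure (by simp)
    rcases involution_cases h hg with rfl | ⟨a, ⟨c, rfl⟩, rfl⟩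
    · rw [show (4 * r : ℤ) = 2 * (2 * r) by ring, zpow_mul]
      exact Subgroup.zpow_mem _ hsq _
    · rw [show c + c = 2 * c by ring, zpow_mul]
      exact Subgroup.mul_mem _ (Subgroup.zpow_mem _ hsq _) (Subgroup.subset_closure (by simp))
  · rintro g (rfl | rfl)
    · rw [show x ^ (2 : ℤ) = (x ^ (2 : ℤ) * y) * y by rw [mul_assoc, yy h, mul_one]]
      exact Subgroup.mul_mem _ (Subgroup.subset_closure (orderOf_xy_even h ⟨1, rfl⟩))
        (Subgroup.subset_closure h.ordy)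
    · exact Subgroup.subset_closure h.ordy

omit [Finite S] in
theorem zpowers_zpow_of_odd (h : SD S r x y) {k : ℤ} (hk : Odd k) :
    x ∈ Subgroup.zpowers (x ^ k) := by
  obtain ⟨t, ht⟩ := h.pow_two'
  have hcop : IsCoprime k ((2 : ℤ) ^ (t + 3)) := by
    refine IsCoprime.pow_right ?_
    obtain ⟨c, rfl⟩ := hk
    exact ⟨1, -c, by ring⟩
  obtain ⟨u, v, huv⟩ := hcop
  refine ⟨u, ?_⟩
  show (x ^ k) ^ u = x
  rw [← zpow_mul]
  nth_rw 2 [← zpow_one x]
  rw [zpow_x_eq h]
  exact ⟨v, by rw [ht]; push_cast; rw [← huv, pow_add]; ring⟩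

theorem normal_cases (h : SD S r x y) (N : Subgroup S) [hN : N.Normal] (hne : N ≠ ⊤) :
    IsCoatom N ∨ (IsCyclic N ∧ N ≤ commutator S) := by
  by_cases hsub : N ≤ Subgroup.zpowers x
  · by_cases hxN : x ∈ N
    · left
      rw [le_antisymm hsub (Subgroup.zpowers_le.mpr hxN)]
      exact isCoatom_of_index_two (index_zpowers h)
    · right
      have hle : N ≤ commutator S := by
        intro g hg
        obtain ⟨k, rfl⟩ := Subgroup.mem_zpowers_iff.mp (hsub hg)
        rw [commutator_eq h]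
        rcases Int.even_or_odd k with ⟨c, rfl⟩ | hk
        · exact ⟨c, by simp only; rw [← zpow_mul]; congr 1; ring⟩
        · exact absurd ((Subgroup.zpowers_le.mpr hg) (zpowers_zpow_of_odd h hk)) hxN
      refine ⟨?_, hle⟩
      have : IsCyclic (Subgroup.zpowers x) := inferInstance
      exact isCyclic_of_injective (Subgroup.inclusion hsub) (Subgroup.inclusion_injective hsub)
  · left
    obtain ⟨g, hg, hgx⟩ := SetLike.not_le_iff_exists.mp hsub
    obtain ⟨a, rfl | rfl⟩ := h.gen g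
    · exact absurd (Subgroup.zpow_mem_zpowers x a) hgx
    have hsq : x ^ (2 : ℤ) ∈ N := by
      have h1 := N.mul_mem (hN.conj_mem _ hg (x ^ (1 + 2 * r : ℤ))) (N.inv_mem hg)
      rw [conj_pow h] at h1
      convert h1 using 1
      rw [show ∀ u v w : S, u * w * (v * w)⁻¹ = u * v⁻¹ from fun u v w => by group, ← zpow_neg,
        ← zpow_add, zpow_x_eq h]
      exact ⟨-(r : ℤ), by ring⟩
    have heq : ∀ A : Subgroup S, A ≤ N → A.index = 2 → IsCoatom N := fun A hA hAi => by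
      have hAc := isCoatom_of_index_two hAi
      rcases hA.eq_or_lt with e | hlt
      · exact e ▸ hAc
      · exact absurd (hAc.2 N hlt) hne
    rcases Int.even_or_odd a with ⟨c, rfl⟩ | ⟨c, rfl⟩
    · refine heq (dih x y) ((Subgroup.closure_le _).mpr ?_) (index_dih h)
      rintro g (rfl | rfl)
      · exact hsq
      · have := N.mul_mem (N.zpow_mem hsq (-c)) hg
        rwa [← zpow_mul, ← mul_assoc, ← zpow_add, show 2 * -c + (c + c) = 0 by ring, zpow_zero,
          one_mul] at this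
    · refine heq (quat x y) ((Subgroup.closure_le _).mpr ?_) (index_quat h)
      rintro g (rfl | rfl)
      · exact hsq
      · have := N.mul_mem (N.zpow_mem hsq (-c)) hg
        rwa [← zpow_mul, ← mul_assoc, ← zpow_add, show 2 * -c + (2 * c + 1) = 1 by ring] at this

/-! ### Four-groups and quaternion subgroups -/

omit [Finite S] in
theorem centralizer_xy (h : SD S r x y) {a : ℤ} (g : S) :
    Commute g (x ^ a * y) ↔ ∃ j : ℤ, g = x ^ (4 * r * j : ℤ) ∨ g = x ^ (4 * r * j : ℤ) * (x ^ a * y) := by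
  constructor
  · intro hg
    obtain ⟨k, rfl | rfl⟩ := h.gen g
    · obtain ⟨j, rfl⟩ := (commute_pow_xy h).mp hg
      exact ⟨j, Or.inl rfl⟩
    · have h1 : Commute (x ^ (k - a)) (x ^ a * y) := by
        have := hg.mul_left (Commute.refl (x ^ a * y)).inv_left
        rwa [show ∀ u v w : S, u * w * (v * w)⁻¹ = u * v⁻¹ from fun u v w => by group, ← zpow_neg,
          ← zpow_add, ← sub_eq_add_neg] at this
      obtain ⟨j, hj⟩ := (commute_pow_xy h).mp h1
      refine ⟨j, Or.inr ?_⟩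
      rw [← hj, ← mul_assoc, ← zpow_add, sub_add_cancel]
  · rintro ⟨j, rfl | rfl⟩
    · exact (commute_pow_xy h).mpr ⟨j, rfl⟩
    · exact ((commute_pow_xy h).mpr ⟨j, rfl⟩).mul_left (Commute.refl _)

omit [Finite S] in
theorem central_pow (h : SD S r x y) (j : ℤ) :
    x ^ (4 * r * j : ℤ) = 1 ∨ x ^ (4 * r * j : ℤ) = x ^ (4 * r : ℤ) := by
  rcases Int.even_or_odd j with ⟨d, rfl⟩ | ⟨d, rfl⟩
  · left; rw [zpow_x_eq_one h]; exact ⟨d, by ring⟩
  · right; rw [zpow_x_eq h]; exact ⟨-d, by ring⟩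

theorem card_centralizer_xy (h : SD S r x y) (a : ℤ) :
    Nat.card (Subgroup.centralizer ({x ^ a * y} : Set S)) = 4 := by
  have hset : ((Subgroup.centralizer ({x ^ a * y} : Set S) : Subgroup S) : Set S) =
      {1, x ^ (4 * r : ℤ), x ^ a * y, x ^ (4 * r : ℤ) * (x ^ a * y)} := by
    ext g
    simp only [SetLike.mem_coe, Subgroup.mem_centralizer_singleton_iff, Set.mem_insert_iff,
      Set.mem_singleton_iff]
    constructor
    · intro hg
      obtain ⟨j, e | e⟩ := (centralizer_xy h g).mp hg <;>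
        rcases central_pow h j with e' | e' <;> rw [e'] at e <;> simp_all
    · intro hg
      refine (centralizer_xy h g).mpr ?_
      rcases hg with rfl | rfl | rfl | rfl
      · exact ⟨0, Or.inl (by simp)⟩
      · exact ⟨1, Or.inl (by simp)⟩
      · exact ⟨0, Or.inr (by simp)⟩
      · exact ⟨1, Or.inr (by simp)⟩
  have hne : x ^ (4 * r : ℤ) ≠ 1 := by
    intro e
    have := (orderOf_zpow_eq_two h).mpr rfl
    rw [e, orderOf_one] at this
    omega
  show Nat.card ((Subgroup.centralizer ({x ^ a * y} : Set S) : Subgroup S) : Set S) = 4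
  rw [hset, Nat.card_coe_set_eq]
  have hxy1 : ∀ b : ℤ, x ^ b * y ≠ 1 := fun b => by simpa using not_mem_y h b 0
  rw [Set.ncard_insert_of_notMem, Set.ncard_insert_of_notMem, Set.ncard_insert_of_notMem,
    Set.ncard_singleton]
  · simp [hne]
  · simp only [Set.mem_insert_iff, Set.mem_singleton_iff, not_or]
    exact ⟨(not_mem_y h _ _).symm, by rw [← mul_assoc, ← zpow_add]; exact (not_mem_y h _ _).symm⟩
  · simp only [Set.mem_insert_iff, Set.mem_singleton_iff, not_or]
    exact ⟨hne.symm, (hxy1 a).symm, by rw [← mul_assoc, ← zpow_add]; exact (hxy1 _).symm⟩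

theorem exists_xy_of_klein (h : SD S r x y) {T : Subgroup S} (hT : IsKleinFour T) :
    ∃ a : ℤ, Even a ∧ x ^ a * y ∈ T ∧ T = Subgroup.centralizer ({x ^ a * y} : Set S) := by
  have hc : Nat.card T = 4 := IsKleinFour.card_four
  have hsq : ∀ g : T, g ^ 2 = 1 := fun g => by
    rw [← IsKleinFour.exponent_two (G := T)]; exact Monoid.pow_exponent_eq_one g
  obtain ⟨a, ha, hmem⟩ : ∃ a : ℤ, Even a ∧ x ^ a * y ∈ T := by
    by_contra hne
    push Not at hne
    have hle : T ≤ Subgroup.zpowers (x ^ (4 * r : ℤ)) := by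
      intro g hg
      by_cases h1 : g = 1
      · rw [h1]; exact one_mem _
      have ho : orderOf g = 2 := orderOf_eq_prime (congrArg Subtype.val (hsq ⟨g, hg⟩)) h1
      rcases involution_cases h ho with e | ⟨a, ha, e⟩
      · rw [e]; exact Subgroup.mem_zpowers _
      · exact absurd (e ▸ hg) (hne a ha)
    have := Subgroup.card_le_of_le hle
    rw [hc, Nat.card_zpowers, (orderOf_zpow_eq_two h).mpr rfl] at this
    omega
  refine ⟨a, ha, hmem, Subgroup.eq_of_le_of_card_ge ?_ ?_⟩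
  · intro g hg
    rw [Subgroup.mem_centralizer_singleton_iff]
    exact congrArg Subtype.val (mul_comm_of_exponent_two (IsKleinFour.exponent_two (G := T))
      ⟨g, hg⟩ ⟨_, hmem⟩)
  · rw [card_centralizer_xy h, hc]

theorem klein_eq_of_mem (h : SD S r x y) {T : Subgroup S} (hT : IsKleinFour T) {a : ℤ}
    (ha : x ^ a * y ∈ T) : T = Subgroup.centralizer ({x ^ a * y} : Set S) := by
  refine Subgroup.eq_of_le_of_card_ge ?_ ?_
  · intro g hg
    rw [Subgroup.mem_centralizer_singleton_iff]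
    exact congrArg Subtype.val (mul_comm_of_exponent_two (IsKleinFour.exponent_two (G := T))
      ⟨g, hg⟩ ⟨_, ha⟩)
  · rw [card_centralizer_xy h]; exact (IsKleinFour.card_four (G := T)).ge

omit [Finite S] in
theorem map_centralizer_conj (g w : S) :
    (Subgroup.centralizer ({w} : Set S)).map (MulAut.conj g).toMonoidHom =
      Subgroup.centralizer ({g * w * g⁻¹} : Set S) := by
  ext u
  simp only [Subgroup.mem_map, MulEquiv.coe_toMonoidHom, MulAut.conj_apply,
    Subgroup.mem_centralizer_singleton_iff]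
  constructor
  · rintro ⟨v, hv, rfl⟩
    calc g * v * g⁻¹ * (g * w * g⁻¹) = g * (v * w) * g⁻¹ := by group
      _ = g * (w * v) * g⁻¹ := by rw [hv]
      _ = g * w * g⁻¹ * (g * v * g⁻¹) := by group
  · intro hu
    refine ⟨g⁻¹ * u * g, ?_, by group⟩
    calc g⁻¹ * u * g * w = g⁻¹ * (u * (g * w * g⁻¹)) * g := by group
      _ = g⁻¹ * ((g * w * g⁻¹) * u) * g := by rw [hu]
      _ = w * (g⁻¹ * u * g) := by group

theorem klein_conj (h : SD S r x y) {T₁ T₂ : Subgroup S} (h₁ : IsKleinFour T₁)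
    (h₂ : IsKleinFour T₂) : ∃ s : S, T₁.map (MulAut.conj s).toMonoidHom = T₂ := by
  obtain ⟨a, ha, -, e₁⟩ := exists_xy_of_klein h h₁
  obtain ⟨b, hb, -, e₂⟩ := exists_xy_of_klein h h₂
  obtain ⟨c, hc⟩ := exists_conj_xy h (a := a) (b := b) (even_iff_two_dvd.mp (hb.sub ha))
  exact ⟨x ^ c, by rw [e₁, e₂, map_centralizer_conj, hc]⟩

theorem klein_facts (h : SD S r x y) {T : Subgroup S} (hT : IsKleinFour T) :
    Subgroup.centralizer (T : Set S) = T ∧
      T.relIndex (Subgroup.normalizer (T : Set S)) = 2 := by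
  obtain ⟨a, ha, hmem, hTc⟩ := exists_xy_of_klein h hT
  have hcomm : ∀ u ∈ T, ∀ v ∈ T, u * v = v * u := fun u hu v hv =>
    congrArg Subtype.val (mul_comm_of_exponent_two (IsKleinFour.exponent_two (G := T))
      ⟨u, hu⟩ ⟨v, hv⟩)
  have hT4 : x ^ (4 * r : ℤ) ∈ T := by
    rw [hTc, Subgroup.mem_centralizer_singleton_iff]
    exact ((centralizer_xy h _).mpr ⟨1, Or.inl (by simp)⟩).eq
  refine ⟨le_antisymm ?_ (fun u hu => Subgroup.mem_centralizer_iff.mpr
    fun v hv => hcomm v hv u hu), ?_⟩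
  · intro u hu
    rw [hTc, Subgroup.mem_centralizer_singleton_iff]
    exact ((Subgroup.mem_centralizer_iff.mp hu) _ hmem).symm
  -- an element of the normalizer fixes or moves `x^a y`
  have key : ∀ g ∈ Subgroup.normalizer (T : Set S), g * (x ^ a * y) * g⁻¹ = x ^ a * y ∨
      g * (x ^ a * y) * g⁻¹ = x ^ (4 * r : ℤ) * (x ^ a * y) := by
    intro g hg
    have hm := (Subgroup.mem_normalizer_iff.mp hg _).mp hmem
    rw [hTc, Subgroup.mem_centralizer_singleton_iff] at hm
    have ho : orderOf (g * (x ^ a * y) * g⁻¹) = 2 := by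
      rw [show g * (x ^ a * y) * g⁻¹ = MulAut.conj g (x ^ a * y) from rfl, MulEquiv.orderOf_eq,
        orderOf_xy_even h ha]
    obtain ⟨j, e | e⟩ := (centralizer_xy h _).mp hm <;>
      rcases central_pow h j with e' | e' <;> rw [e'] at e
    · rw [e, orderOf_one] at ho; omega
    · exfalso
      have hcen : g * (x ^ a * y) * g⁻¹ ∈ Subgroup.center S := by
        rw [e, center_eq h]; exact Subgroup.mem_zpowers _
      have h2 := (inferInstance : (Subgroup.center S).Normal).conj_mem _ hcen g⁻¹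
      rw [show g⁻¹ * (g * (x ^ a * y) * g⁻¹) * g⁻¹⁻¹ = x ^ a * y by group, center_eq h] at h2
      obtain ⟨j', hj'⟩ := h2
      exact not_mem_y h a (4 * r * j') (by rw [zpow_mul]; exact hj'.symm)
    · exact Or.inl (by rw [e, one_mul])
    · exact Or.inr e
  have hfix : ∀ g : S, g * (x ^ a * y) * g⁻¹ = x ^ a * y ↔ g ∈ T := fun g => by
    rw [hTc, Subgroup.mem_centralizer_singleton_iff, mul_inv_eq_iff_eq_mul]
  have hcen4 : ∀ g : S, g * x ^ (4 * r : ℤ) * g⁻¹ = x ^ (4 * r : ℤ) := fun g => by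
    refine mul_inv_eq_iff_eq_mul.mpr (Subgroup.mem_center_iff.mp ?_ g)
    rw [center_eq h]; exact Subgroup.mem_zpowers _
  have hx2r : x ^ (2 * r : ℤ) * (x ^ a * y) * (x ^ (2 * r : ℤ))⁻¹ =
      x ^ (4 * r : ℤ) * (x ^ a * y) := by
    rw [conj_pow h, ← mul_assoc, ← zpow_add, xy_eq h]
    exact ⟨(r : ℤ), by ring⟩
  have hx2n : x ^ (2 * r : ℤ) ∈ Subgroup.normalizer (T : Set S) := by
    rw [hTc, Subgroup.mem_normalizer_iff]
    intro u
    have e := map_centralizer_conj (x ^ (2 * r : ℤ)) (x ^ a * y)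
    have e2 : Subgroup.centralizer ({x ^ (4 * r : ℤ) * (x ^ a * y)} : Set S) =
        Subgroup.centralizer ({x ^ a * y} : Set S) := by
      ext v
      simp only [Subgroup.mem_centralizer_singleton_iff]
      have hv : Commute v (x ^ (4 * r : ℤ)) := mul_inv_eq_iff_eq_mul.mp (hcen4 v)
      refine ⟨fun hh => ?_, fun hh => (hv.mul_right hh).eq⟩
      have := (hv.inv_right.mul_right hh).eq
      rwa [inv_mul_cancel_left] at this
    rw [hx2r, e2] at e
    constructor
    · intro hu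
      rw [← e]
      exact ⟨u, hu, rfl⟩
    · intro hu
      rw [← e] at hu
      obtain ⟨v, hv, hvu⟩ := hu
      simp only [MulEquiv.coe_toMonoidHom, MulAut.conj_apply] at hvu
      exact (mul_left_cancel (mul_right_cancel hvu)) ▸ hv
  rw [Subgroup.relIndex, Subgroup.index_eq_two_iff]
  refine ⟨⟨_, hx2n⟩, fun b => ?_⟩
  simp only [Subgroup.mem_subgroupOf, Subgroup.coe_mul, ← hfix]
  have h4 : (b : S) * x ^ (2 * r : ℤ) * (x ^ a * y) * ((b : S) * x ^ (2 * r : ℤ))⁻¹ =
      x ^ (4 * r : ℤ) * ((b : S) * (x ^ a * y) * (b : S)⁻¹) := by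
    rw [show (b : S) * x ^ (2 * r : ℤ) * (x ^ a * y) * ((b : S) * x ^ (2 * r : ℤ))⁻¹ =
      b * (x ^ (2 * r : ℤ) * (x ^ a * y) * (x ^ (2 * r : ℤ))⁻¹) * (b : S)⁻¹ by group, hx2r,
      show (b : S) * (x ^ (4 * r : ℤ) * (x ^ a * y)) * (b : S)⁻¹ =
        (b * x ^ (4 * r : ℤ) * (b : S)⁻¹) * (b * (x ^ a * y) * (b : S)⁻¹) by group, hcen4]
  have hne : x ^ (4 * r : ℤ) * (x ^ a * y) ≠ x ^ a * y := by
    intro e
    have := (orderOf_zpow_eq_two h).mpr rfl
    rw [mul_eq_right.mp e, orderOf_one] at this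
    omega
  rcases key b b.2 with e | e <;> rw [h4, e]
  · exact Or.inr ⟨rfl, hne⟩
  · refine Or.inl ⟨?_, hne⟩
    rw [← mul_assoc, ← zpow_add, (zpow_x_eq_one h).mpr ⟨1, by ring⟩, one_mul]

end CfsgLib.TwoGroups.SD
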