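import Mathlib
import Cfsg.Agent.Lib.OddOrder41.NormalElementary
import Cfsg.Agent.Lib.TwoGroups.Semidihedral

/-!
A finite 2-group with at most one involution is cyclic or generalized quaternion.
-/

set_option autoImplicit false

namespace CfsgLib.TwoGroups.OneInvolution

variable {P : Type*} [Group P] [Finite P]

theorem sq_eq_one_cases (h1 : ∀ a b : P, orderOf a = 2 → orderOf b = 2 → a = b) {g z : P}
    (hg : g * g = 1) (hz : orderOf z = 2) : g = 1 ∨ g = z := by
  by_cases hg1 : g = 1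
  · exact Or.inl hg1
  · exact Or.inr (h1 g z (orderOf_eq_prime (by rw [pow_two, hg]) hg1) hz)

/-- An element of maximal order generates a commutative 2-group with at most one involution. -/
theorem exists_generator (hP : IsPGroup 2 P)
    (h1 : ∀ a b : P, orderOf a = 2 → orderOf b = 2 → a = b) (A : Subgroup P)
    (hA : IsMulCommutative A) : ∃ x ∈ A, A = Subgroup.zpowers x := by
  classical
  have : Fact (Nat.Prime 2) := ⟨Nat.prime_two⟩
  obtain ⟨⟨x, hx⟩, hmax⟩ := Finite.exists_max (fun a : A => orderOf (a : P))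
  refine ⟨x, hx, le_antisymm ?_ (Subgroup.zpowers_le.2 hx)⟩
  intro g hg
  obtain ⟨e, he⟩ := IsPGroup.iff_orderOf.1 hP g
  induction e generalizing g with
  | zero => rw [pow_zero, orderOf_eq_one_iff] at he; rw [he]; exact one_mem _
  | succ e ih =>
    have hsq : orderOf (g ^ 2) = 2 ^ e := by
      rw [orderOf_pow' _ two_ne_zero, he, Nat.gcd_eq_right (dvd_pow_self 2 e.succ_ne_zero),
        pow_succ, Nat.mul_div_cancel _ two_pos]
    obtain ⟨i, hi⟩ := ih (A.pow_mem hg 2) hsq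
    replace hi : x ^ i = g ^ 2 := hi
    obtain ⟨d, hd⟩ := IsPGroup.iff_orderOf.1 hP x
    have hed : 2 ^ (e + 1) ≤ 2 ^ d := by rw [← he, ← hd]; exact hmax ⟨g, hg⟩
    have hd1 : 1 ≤ d := by
      have := (Nat.pow_le_pow_iff_right (by norm_num : 1 < 2)).1 hed
      omega
    have hz : orderOf (x ^ 2 ^ (d - 1)) = 2 := by
      rw [orderOf_pow' _ (pow_ne_zero _ two_ne_zero), hd,
        Nat.gcd_eq_right (pow_dvd_pow 2 (by omega)), Nat.pow_div (by omega) two_pos,
        show d - (d - 1) = 1 by omega, pow_one]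
    have hgx : Commute g x := congrArg Subtype.val (hA.is_comm.comm ⟨g, hg⟩ ⟨x, hx⟩)
    rcases Int.even_or_odd i with ⟨j, hj⟩ | ⟨j, hj⟩
    · have hu : (g * x ^ (-j)) * (g * x ^ (-j)) = 1 := by
        rw [← pow_two, (hgx.zpow_right (-j)).mul_pow, ← hi, ← zpow_natCast, ← zpow_mul, ← zpow_add,
          hj]
        norm_num
        rw [show j + j + -(j * 2) = 0 by ring, zpow_zero]
      have hmem : g * x ^ (-j) ∈ Subgroup.zpowers x := by
        rcases sq_eq_one_cases h1 hu hz with e1 | e1 <;> rw [e1]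
        · exact one_mem _
        · exact pow_mem (Subgroup.mem_zpowers x) _
      have := mul_mem hmem (Subgroup.zpow_mem _ (Subgroup.mem_zpowers x) j)
      rwa [mul_assoc, ← zpow_add, neg_add_cancel, zpow_zero, mul_one] at this
    · exfalso
      have hco : Nat.Coprime (orderOf x) i.natAbs := by
        rw [hd]
        apply Nat.Coprime.pow_left
        rw [Nat.prime_two.coprime_iff_not_dvd, ← Int.natCast_dvd, hj]
        omega
      have h3 : orderOf (x ^ i) = 2 ^ d := by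
        rcases Int.natAbs_eq i with e1 | e1 <;> rw [e1]
        · rw [zpow_natCast, hco.orderOf_pow, hd]
        · rw [zpow_neg, orderOf_inv, zpow_natCast, hco.orderOf_pow, hd]
      rw [hi, hsq] at h3
      have h4 := Nat.pow_right_injective le_rfl h3
      have h5 := (Nat.pow_le_pow_iff_right (by norm_num : 1 < 2)).1 hed
      omega

theorem two_split {m : ℕ} {k : ℤ} (h : (2 : ℤ) ^ (m + 1) ∣ k ^ 2 - 1) :
    Odd k ∧ ((2 : ℤ) ^ m ∣ k - 1 ∨ (2 : ℤ) ^ m ∣ k + 1) := by
  rcases Int.even_or_odd k with ⟨j, hj⟩ | ⟨j, hj⟩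
  · exfalso
    have h1 : (2 : ℤ) ∣ k ^ 2 - 1 := (dvd_pow_self _ (Nat.succ_ne_zero m)).trans h
    have h2 : (2 : ℤ) ∣ k ^ 2 := ⟨2 * j * j, by rw [hj]; ring⟩
    have := h2.sub h1
    simp at this
  refine ⟨⟨j, hj⟩, ?_⟩
  rcases m with _ | m
  · simp
  have h' : (2 : ℤ) ^ m ∣ j * (j + 1) := by
    rw [hj, show (2 * j + 1) ^ 2 - 1 = 2 ^ 2 * (j * (j + 1)) by ring, show m + 1 + 1 = 2 + m by omega,
      pow_add] at h
    exact (mul_dvd_mul_iff_left (by norm_num)).mp h
  rcases Int.even_or_odd j with ⟨i, hi⟩ | ⟨i, hi⟩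
  · left
    have : (2 : ℤ) ^ m ∣ j :=
      IsCoprime.dvd_of_dvd_mul_right (IsCoprime.pow_left ⟨-i, 1, by rw [hi]; ring⟩) h'
    rw [hj, add_sub_cancel_right, pow_succ']
    exact mul_dvd_mul_left 2 this
  · right
    have : (2 : ℤ) ^ m ∣ j + 1 :=
      IsCoprime.dvd_of_dvd_mul_left (IsCoprime.pow_left ⟨-i, 1, by rw [hi]; ring⟩) h'
    rw [hj, show 2 * j + 1 + 1 = 2 * (j + 1) by ring, pow_succ']
    exact mul_dvd_mul_left 2 this

/-- A finite 2-group with at most one involution is cyclic or generalized quaternion. -/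
theorem isCyclic_or_quaternion (hP : IsPGroup 2 P)
    (h1 : ∀ a b : P, orderOf a = 2 → orderOf b = 2 → a = b) :
    IsCyclic P ∨ ∃ n : ℕ, 1 ≤ n ∧ Nonempty (P ≃* QuaternionGroup (2 ^ n)) := by
  classical
  have : Fact (Nat.Prime 2) := ⟨Nat.prime_two⟩
  have : Group.IsNilpotent P := hP.isNilpotent
  obtain ⟨A, -, hAn, hAa, hAc⟩ := CfsgLib.OddOrder41.exists_normal_abelian_self_centralizing
    (⊥ : Subgroup P) inferInstance ⟨⟨fun a b => Subsingleton.elim _ _⟩⟩
  obtain ⟨x, hxA, hA⟩ := exists_generator hP h1 A hAa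
  by_cases hall : ∀ g : P, g ∈ A
  · left
    exact ⟨⟨x, fun g => by have := hall g; rwa [hA] at this⟩⟩
  right
  push Not at hall
  obtain ⟨g0, hg0⟩ := hall
  have hself : ∀ g : P, Commute g x → g ∈ A := by
    intro g hg
    rw [← hAc, Subgroup.mem_centralizer_iff]
    intro a ha
    rw [SetLike.mem_coe, hA] at ha
    obtain ⟨k, rfl⟩ := ha
    exact (hg.zpow_right k).eq.symm
  have hex : ∀ g : P, ∃ k : ℤ, g * x * g⁻¹ = x ^ k := by
    intro g
    have h := hAn.conj_mem x hxA g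
    rw [hA] at h
    obtain ⟨k, hk⟩ := h
    exact ⟨k, hk.symm⟩
  obtain ⟨m, hm⟩ := IsPGroup.iff_orderOf.1 hP x
  have hdvd : ∀ a b : ℤ, x ^ a = x ^ b ↔ (2 : ℤ) ^ m ∣ a - b := by
    intro a b
    have hc : ((2 ^ m : ℕ) : ℤ) = (2 : ℤ) ^ m := by norm_num
    rw [← mul_inv_eq_one, ← zpow_sub, ← orderOf_dvd_iff_zpow_eq_one, hm, hc]
  have hone : ∀ a : ℤ, x ^ a = 1 ↔ (2 : ℤ) ^ m ∣ a := by
    intro a
    have := hdvd a 0
    rwa [zpow_zero, sub_zero] at this
  -- the order of `x` is at least 4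
  have hm2 : 2 ≤ m := by
    by_contra hcon
    apply hg0
    apply hself
    obtain ⟨k, hk⟩ := hex g0
    have h2 : x ^ k = x := by
      interval_cases m
      · rw [pow_zero, orderOf_eq_one_iff] at hm; rw [hm, one_zpow]
      · have hx2 : orderOf x = 2 := by simpa using hm
        rw [← hk]
        refine h1 _ _ ?_ hx2
        rw [← hx2]
        exact MulEquiv.orderOf_eq (MulAut.conj g0) x
    rw [h2] at hk
    exact mul_inv_eq_iff_eq_mul.1 hk
  have hz : orderOf (x ^ ((2 : ℤ) ^ (m - 1))) = 2 := by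
    rw [show ((2 : ℤ) ^ (m - 1)) = ((2 ^ (m - 1) : ℕ) : ℤ) by norm_num, zpow_natCast,
      orderOf_pow' _ (pow_ne_zero _ two_ne_zero), hm, Nat.gcd_eq_right (pow_dvd_pow 2 (by omega)),
      Nat.pow_div (by omega) two_pos, show m - (m - 1) = 1 by omega, pow_one]
  -- elements of order two modulo `A` invert `x`
  have key : ∀ y : P, y ∉ A → y ^ 2 ∈ A →
      y * x * y⁻¹ = x⁻¹ ∧ y * y = x ^ ((2 : ℤ) ^ (m - 1)) := by
    intro y hy hy2
    obtain ⟨k, hk⟩ := hex y
    rw [hA] at hy2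
    obtain ⟨l, hl⟩ := hy2
    replace hl : x ^ l = y * y := by rw [← pow_two]; exact hl
    have hk2 : (2 : ℤ) ^ m ∣ k ^ 2 - 1 := by
      rw [← hdvd, zpow_one]
      calc x ^ (k ^ 2) = (x ^ k) ^ k := by rw [← zpow_mul, pow_two]
        _ = (y * x * y⁻¹) ^ k := by rw [hk]
        _ = y * (y * x * y⁻¹) * y⁻¹ := by rw [conj_zpow, hk]
        _ = x ^ l * x * (x ^ l)⁻¹ := by rw [hl]; group
        _ = x := by group
    have hlk : (2 : ℤ) ^ m ∣ l * (k - 1) := by
      have h3 : y * x ^ l * y⁻¹ = x ^ l := by rw [hl]; group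
      rw [← conj_zpow, hk, ← zpow_mul, hdvd] at h3
      rwa [show k * l - l = l * (k - 1) by ring] at h3
    have hno : ∀ j : ℤ, ¬ (2 : ℤ) ^ m ∣ l + j * (k + 1) := by
      intro j hj
      have hu : (y * x ^ j) * (y * x ^ j) = 1 := by
        calc y * x ^ j * (y * x ^ j) = (y * x ^ j * y⁻¹) * (y * y) * x ^ j := by group
          _ = x ^ (k * j + l + j) := by rw [← conj_zpow, hk, ← hl, ← zpow_mul, ← zpow_add, ← zpow_add]
          _ = 1 := by rw [hone]; convert hj using 1; ring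
      apply hy
      have hmem : y * x ^ j ∈ A := by
        rcases sq_eq_one_cases h1 hu hz with e1 | e1 <;> rw [e1]
        · exact A.one_mem
        · exact A.zpow_mem hxA _
      simpa [mul_assoc] using A.mul_mem hmem (A.inv_mem (A.zpow_mem hxA j))
    have hne1 : ¬ (2 : ℤ) ^ m ∣ k - 1 := by
      intro h3
      apply hy
      apply hself
      rw [← hdvd, zpow_one] at h3
      rw [h3] at hk
      exact mul_inv_eq_iff_eq_mul.1 hk
    obtain ⟨n, rfl⟩ : ∃ n, m = n + 2 := ⟨m - 2, by omega⟩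
    rw [show n + 2 - 1 = n + 1 by omega]
    have hpow : (2 : ℤ) ^ (n + 2) = 2 * 2 ^ (n + 1) := pow_succ' 2 (n + 1)
    have hne : (2 : ℤ) ^ (n + 1) ≠ 0 := pow_ne_zero _ two_ne_zero
    -- `k ≡ -1`
    have hkm : (2 : ℤ) ^ (n + 2) ∣ k + 1 := by
      obtain ⟨hkodd, hc | hc⟩ := two_split (m := n + 1) hk2
      · obtain ⟨c, hc⟩ := hc
        have hcodd : ¬ (2 : ℤ) ∣ c := by
          rintro ⟨d, rfl⟩
          exact hne1 ⟨d, by rw [hc, hpow]; ring⟩
        rcases n with _ | n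
        · obtain ⟨d, hd⟩ := Int.odd_iff.2 (Int.two_dvd_ne_zero.1 hcodd)
          exact ⟨d + 1, by rw [show k = (k - 1) + 1 by ring, hc, hd]; ring⟩
        exfalso
        have hleven : (2 : ℤ) ∣ l := by
          rw [hc, hpow, show l * (2 ^ (n + 1 + 1) * c) = 2 ^ (n + 1 + 1) * (l * c) by ring,
            mul_comm (2 : ℤ)] at hlk
          have h4 := (mul_dvd_mul_iff_left hne).1 hlk
          exact (Int.prime_two.dvd_mul.1 h4).resolve_right hcodd
        obtain ⟨l', rfl⟩ := hleven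
        have hco : IsCoprime ((2 : ℤ) ^ (n + 1 + 2)) (1 + 2 ^ (n + 1) * c) :=
          IsCoprime.pow_left ⟨-(2 ^ n * c), 1, by rw [pow_succ']; ring⟩
        obtain ⟨u, v, huv⟩ := hco
        refine hno (-(v * l')) ?_
        refine ⟨2 * l' * u, ?_⟩
        rw [show k + 1 = (k - 1) + 2 by ring, hc, pow_succ' (2 : ℤ) (n + 1)]
        linear_combination (-2 * l') * huv
      · obtain ⟨c, hc⟩ := hc
        rcases Int.even_or_odd c with ⟨d, rfl⟩ | ⟨d, hd⟩
        · exact ⟨d, by rw [hc, hpow]; ring⟩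
        rcases n with _ | n
        · exfalso
          exact hne1 ⟨d, by rw [show k = (k + 1) - 1 by ring, hc, hd]; ring⟩
        exfalso
        -- here `l` is a multiple of `2 ^ (m - 1)`
        have hco : IsCoprime ((2 : ℤ) ^ (n + 1 + 1)) (2 ^ (n + 1) * c - 1) :=
          IsCoprime.pow_left ⟨2 ^ n * c, -1, by rw [pow_succ']; ring⟩
        have h5 : (2 : ℤ) ^ (n + 1 + 1) ∣ l := by
          apply hco.dvd_of_dvd_mul_right
          rw [show k - 1 = (k + 1) - 2 by ring, hc, hpow, pow_succ' (2 : ℤ) (n + 1)] at hlk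
          rw [pow_succ' (2 : ℤ) (n + 1)]
          rw [show l * (2 * 2 ^ (n + 1) * c - 2) = 2 * (l * (2 ^ (n + 1) * c - 1)) by ring] at hlk
          exact (mul_dvd_mul_iff_left (two_ne_zero : (2 : ℤ) ≠ 0)).1 hlk
        obtain ⟨l', rfl⟩ := h5
        refine hno (-l') ⟨-(l' * d), ?_⟩
        rw [hc, hd, hpow]
        ring
    have hinv : y * x * y⁻¹ = x⁻¹ := by
      rw [hk, ← zpow_neg_one, hdvd]
      rwa [sub_neg_eq_add]
    refine ⟨hinv, ?_⟩
    rw [← hl, hdvd]
    have h5 : (2 : ℤ) ^ (n + 1) ∣ l := by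
      have h6 : (2 : ℤ) ^ (n + 2) ∣ 2 * l := by
        have h7 := dvd_sub (hkm.mul_left l) hlk
        rwa [show l * (k + 1) - l * (k - 1) = 2 * l by ring] at h7
      rw [hpow] at h6
      exact (mul_dvd_mul_iff_left (two_ne_zero : (2 : ℤ) ≠ 0)).1 h6
    obtain ⟨l', hl'⟩ := h5
    rcases Int.even_or_odd l' with ⟨d, hd⟩ | ⟨d, hd⟩
    · exfalso
      refine hno 0 ⟨d, ?_⟩
      rw [hl', hd, hpow]; ring
    · exact ⟨d, by rw [hl', hd, hpow]; ring⟩
  -- `A` has index two
  have hy0 : ∃ y : P, y ∉ A ∧ y ^ 2 ∈ A := by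
    obtain ⟨e, he⟩ := IsPGroup.iff_orderOf.1 hP g0
    have hex2 : ∃ i, g0 ^ 2 ^ i ∈ A :=
      ⟨e, by rw [← he, pow_orderOf_eq_one]; exact A.one_mem⟩
    have h0 : Nat.find hex2 ≠ 0 := fun e0 => hg0 (by
      have := Nat.find_spec hex2
      rwa [e0, pow_zero, pow_one] at this)
    refine ⟨g0 ^ 2 ^ (Nat.find hex2 - 1), Nat.find_min hex2 (by omega), ?_⟩
    rw [← pow_mul, ← pow_succ, Nat.sub_add_cancel (by omega)]
    exact Nat.find_spec hex2
  obtain ⟨y, hy, hy2⟩ := hy0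
  obtain ⟨hinv, hysq⟩ := key y hy hy2
  have hmod : ∀ g : P, g ^ 2 ∈ A → g ∈ A ∨ g * y⁻¹ ∈ A := by
    intro g hg
    by_cases hgA : g ∈ A
    · exact Or.inl hgA
    · right
      apply hself
      obtain ⟨hginv, -⟩ := key g hgA hg
      show g * y⁻¹ * x = x * (g * y⁻¹)
      have h3 : y⁻¹ * x * y = x⁻¹ := by
        have h4 := congrArg (fun t => y⁻¹ * t * y) hinv
        have h5 : x = y⁻¹ * x⁻¹ * y := by
          rw [← h4]; group
        have h6 := congrArg (·⁻¹) h5
        simpa [mul_assoc] using h6.symm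
      calc g * y⁻¹ * x = g * (y⁻¹ * x * y) * g⁻¹ * (g * y⁻¹) := by group
        _ = x * (g * y⁻¹) := by
          rw [h3, show g * x⁻¹ * g⁻¹ = (g * x * g⁻¹)⁻¹ by group, hginv, inv_inv]
  have hcover : ∀ g : P, g ∈ A ∨ g * y⁻¹ ∈ A := by
    intro g
    by_contra hcon
    push Not at hcon
    obtain ⟨hgA, hgy⟩ := hcon
    obtain ⟨e, he⟩ := IsPGroup.iff_orderOf.1 hP g
    have hex2 : ∃ i, g ^ 2 ^ i ∈ A :=
      ⟨e, by rw [← he, pow_orderOf_eq_one]; exact A.one_mem⟩
    set i := Nat.find hex2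
    have h0 : i ≠ 0 := fun e0 => hgA (by
      have := Nat.find_spec hex2
      rwa [show Nat.find hex2 = 0 from e0, pow_zero, pow_one] at this)
    by_cases hi1 : i = 1
    · have := Nat.find_spec hex2
      rw [show Nat.find hex2 = 1 from hi1, pow_one] at this
      rcases hmod g this with h | h
      · exact hgA h
      · exact hgy h
    · set u := g ^ 2 ^ (i - 2)
      have hu2 : u ^ 2 = g ^ 2 ^ (i - 1) := by
        rw [← pow_mul, ← pow_succ, show i - 2 + 1 = i - 1 by omega]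
      obtain ⟨hinv2, -⟩ := key (u ^ 2) (by rw [hu2]; exact Nat.find_min hex2 (by omega)) (by
        rw [hu2, ← pow_mul, ← pow_succ, show i - 1 + 1 = i by omega]
        exact Nat.find_spec hex2)
      obtain ⟨k, hk⟩ := hex u
      have h3 : x ^ (k * k) = x ^ (-1 : ℤ) := by
        rw [zpow_neg_one, ← hinv2]
        calc x ^ (k * k) = (x ^ k) ^ k := by rw [zpow_mul]
          _ = u * (u * x * u⁻¹) * u⁻¹ := by rw [← hk, conj_zpow, hk]
          _ = u ^ 2 * x * (u ^ 2)⁻¹ := by rw [pow_two]; group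
      rw [hdvd] at h3
      have h4 : (4 : ℤ) ∣ k * k + 1 := by
        refine (Dvd.dvd.trans ?_ h3).trans (dvd_of_eq (by ring))
        rw [show (4 : ℤ) = 2 ^ 2 by norm_num]
        exact pow_dvd_pow 2 hm2
      obtain ⟨c, hc⟩ := h4
      rcases Int.even_or_odd k with ⟨d, rfl⟩ | ⟨d, rfl⟩ <;> ring_nf at hc <;> omega
  obtain ⟨n, rfl⟩ : ∃ n, m = n + 1 := ⟨m - 1, by omega⟩
  rw [Nat.add_sub_cancel] at hysq
  refine ⟨n, by omega, ?_⟩
  have hu : x ^ (2 * 2 ^ n) = 1 := by rw [← pow_succ', ← hm, pow_orderOf_eq_one]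
  have hv : y * y = x ^ (2 ^ n : ℕ) := by
    rw [hysq, ← zpow_natCast]; norm_num
  have hnot : y ∉ Subgroup.zpowers x := fun h => hy (hA ▸ h)
  have hinj := CfsgLib.TwoGroups.SD.quaternionHom_injective x y hu hv hinv
    (by rw [hm, pow_succ']) hnot
  have hrange := CfsgLib.TwoGroups.SD.range_quaternionHom x y hu hv hinv
  have hsurj : Function.Surjective (CfsgLib.TwoGroups.SD.quaternionHom x y hu hv hinv) := by
    rw [← MonoidHom.range_eq_top, hrange, Subgroup.eq_top_iff']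
    intro g
    have hxc : Subgroup.zpowers x ≤ Subgroup.closure ({x, y} : Set P) :=
      Subgroup.zpowers_le.2 (Subgroup.subset_closure (by simp))
    rcases hcover g with h | h
    · exact hxc (hA ▸ h)
    · have h2 := Subgroup.mul_mem _ (hxc (hA ▸ h))
        (Subgroup.subset_closure (show y ∈ ({x, y} : Set P) by simp))
      rwa [inv_mul_cancel_right] at h2
  exact ⟨(MulEquiv.ofBijective _ ⟨hinj, hsurj⟩).symm⟩

end CfsgLib.TwoGroups.OneInvolution
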