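import Mathlib

/-!
Evaluation of the transfer on elements whose powers have controlled conjugates.
-/

set_option autoImplicit false

namespace CfsgLib.TwoGroups

/-- If the images of the `G`-conjugates lying in `H` of the powers of `g` are the images of those
powers, the transfer of `g` is the `[G : H]`-th power of the image of `g`. -/
theorem transfer_eq_pow_of_controlled {G A : Type*} [Group G] [CommGroup A] {H : Subgroup G}
    [H.FiniteIndex] (φ : H →* A) (g : G) (hg : g ∈ H)
    (key : ∀ (k : ℕ) (a : G) (h : a⁻¹ * g ^ k * a ∈ H),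
      φ ⟨a⁻¹ * g ^ k * a, h⟩ = φ ⟨g, hg⟩ ^ k) :
    MonoidHom.transfer φ g = φ ⟨g, hg⟩ ^ H.index := by
  classical
  let := H.fintypeQuotientOfFiniteIndex
  rw [MonoidHom.transfer_eq_prod_quotient_orbitRel_zpowers_quot,
    Subgroup.index_eq_sum_minimalPeriod H g, ← Finset.prod_pow_eq_pow_sum]
  exact Finset.prod_congr rfl (fun q _ => key _ _ _)

end CfsgLib.TwoGroups
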