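import Mathlib
import Cfsg.Agent.Lib.TwoGroups.ControlledTransfer

/-!
Local tools for 2-fusion: permuting three subgroups in a normalizer, fully normalized subgroups,
and homomorphisms from controlled fusion.
-/

set_option autoImplicit false

namespace CfsgLib.TwoGroups.FT

open Subgroup

variable {G : Type*} [Group G]

/-- The conjugate `g K g⁻¹`. -/
def cj (g : G) (K : Subgroup G) : Subgroup G := K.map (MulAut.conj g).toMonoidHom

theorem mem_cj {g u : G} {K : Subgroup G} : u ∈ cj g K ↔ g⁻¹ * u * g ∈ K := by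
  constructor
  · rintro ⟨v, hv, rfl⟩
    simpa [mul_assoc] using hv
  · intro h
    exact ⟨_, h, by simp [mul_assoc]⟩

theorem conj_mem_cj {g u : G} {K : Subgroup G} (h : u ∈ K) : g * u * g⁻¹ ∈ cj g K := ⟨u, h, rfl⟩

theorem cj_cj (g h : G) (K : Subgroup G) : cj g (cj h K) = cj (g * h) K := by
  ext u
  simp [mem_cj, mul_assoc]

theorem cj_one (K : Subgroup G) : cj 1 K = K := by
  ext u
  simp [mem_cj]

theorem cj_inv_cj (g : G) (K : Subgroup G) : cj g⁻¹ (cj g K) = K := by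
  rw [cj_cj, inv_mul_cancel, cj_one]

theorem cj_cj_inv (g : G) (K : Subgroup G) : cj g (cj g⁻¹ K) = K := by
  rw [cj_cj, mul_inv_cancel, cj_one]

theorem cj_mono {g : G} {K L : Subgroup G} (h : K ≤ L) : cj g K ≤ cj g L := Subgroup.map_mono h

theorem cj_injective (g : G) : Function.Injective (cj g) :=
  Subgroup.map_injective (MulAut.conj g).injective

theorem card_cj (g : G) (K : Subgroup G) : Nat.card (cj g K) = Nat.card K :=
  Subgroup.card_map_of_injective (MulAut.conj g).injective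

theorem cj_zpowers (g u : G) : cj g (zpowers u) = zpowers (g * u * g⁻¹) := by
  rw [cj, MonoidHom.map_zpowers]
  rfl

theorem cj_eq_of_mem_normalizer {g : G} {K : Subgroup G} (h : g ∈ normalizer (K : Set G)) :
    cj g K = K := by
  ext u
  rw [mem_cj, mem_normalizer_iff.mp h (g⁻¹ * u * g)]
  simp [mul_assoc]

theorem mem_normalizer_of_cj {g : G} {K : Subgroup G} (h : cj g K = K) :
    g ∈ normalizer (K : Set G) := by
  rw [mem_normalizer_iff]
  intro u
  conv_rhs => rw [← h, mem_cj]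
  simp [mul_assoc]

theorem cj_eq_of_mem {g : G} {K : Subgroup G} (h : g ∈ K) : cj g K = K :=
  cj_eq_of_mem_normalizer (le_normalizer h)

theorem cj_eq_of_commute {g : G} {K : Subgroup G} (h : ∀ u ∈ K, g * u * g⁻¹ = u) : cj g K = K := by
  ext u
  rw [mem_cj]
  constructor
  · intro hu
    have := h _ hu
    rw [show g * (g⁻¹ * u * g) * g⁻¹ = u by group] at this
    rwa [this]
  · intro hu
    have := h u hu
    rw [show g⁻¹ * u * g = u by nth_rw 1 [← this]; group]
    exact hu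

theorem isPGroup_cj {p : ℕ} {g : G} {K : Subgroup G} (hK : IsPGroup p K) : IsPGroup p (cj g K) :=
  hK.map _

/-- Decomposition of an element into parts of odd and of 2-power order. -/
theorem mem_of_parts [Finite G] {M : Subgroup G} {g : G} (hodd : ∀ h ∈ zpowers g, Odd (orderOf h) → h ∈ M)
    (htwo : ∀ h ∈ zpowers g, (∃ k, h ^ 2 ^ k = 1) → h ∈ M) : g ∈ M := by
  obtain ⟨a, m, hm, ho⟩ := Nat.exists_eq_two_pow_mul_odd (orderOf_pos g).ne'
  have h1 : g ^ 2 ^ a ∈ M := by
    refine hodd _ (npow_mem_zpowers g _) ?_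
    rw [orderOf_pow' _ (pow_ne_zero a two_ne_zero), ho, Nat.gcd_mul_right_left,
      Nat.mul_div_cancel_left _ (pow_pos two_pos a)]
    exact hm
  have h2 : g ^ m ∈ M := htwo _ (npow_mem_zpowers g _)
    ⟨a, by rw [← pow_mul, mul_comm, ← ho, pow_orderOf_eq_one]⟩
  have hco : Nat.Coprime (2 ^ a) m := Nat.Coprime.pow_left a (Nat.coprime_two_left.mpr hm)
  have hb : (1 : ℤ) = (2 ^ a : ℕ) * Nat.gcdA (2 ^ a) m + m * Nat.gcdB (2 ^ a) m := by
    rw [← Nat.gcd_eq_gcd_ab, hco.gcd_eq_one]; rfl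
  have : g = (g ^ 2 ^ a) ^ Nat.gcdA (2 ^ a) m * (g ^ m) ^ Nat.gcdB (2 ^ a) m := by
    rw [← zpow_natCast, ← zpow_natCast g m, ← zpow_mul, ← zpow_mul, ← zpow_add, ← hb, zpow_one]
  rw [this]
  exact M.mul_mem (M.zpow_mem h1 _) (M.zpow_mem h2 _)

variable [Finite G]

/-- Sylow conjugation inside a subgroup. -/
theorem exists_conj_into {M P Q : Subgroup G} (hP : IsPGroup 2 P) (hPM : P ≤ M)
    (hodd : Odd (P.relIndex M)) (hQ : IsPGroup 2 Q) (hQM : Q ≤ M) :
    ∃ m ∈ M, cj m Q ≤ P := by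
  have hf : Fact (Nat.Prime 2) := ⟨Nat.prime_two⟩
  set P' : Sylow 2 M := (hP.of_injective (Subgroup.subgroupOfEquivOfLe hPM).toMonoidHom
    (Subgroup.subgroupOfEquivOfLe hPM).injective).toSylow (fun hd => by
      obtain ⟨c, hc⟩ := hodd
      have h2 : 2 ∣ P.relIndex M := hd
      omega) with hP'
  obtain ⟨R, hR⟩ := (hQ.of_injective (Subgroup.subgroupOfEquivOfLe hQM).toMonoidHom
    (Subgroup.subgroupOfEquivOfLe hQM).injective).exists_le_sylow
  obtain ⟨m, hm⟩ := MulAction.exists_smul_eq M R P'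
  refine ⟨m, m.2, ?_⟩
  rintro _ ⟨u, hu, rfl⟩
  have hmem : MulAut.conj m ⟨u, hQM hu⟩ ∈ ((m • R : Sylow 2 M) : Subgroup M) :=
    ⟨⟨u, hQM hu⟩, hR (show (⟨u, hQM hu⟩ : M) ∈ Q.subgroupOf M from hu), rfl⟩
  rw [hm] at hmem
  exact hmem

theorem sylow_relIndex_odd (S : Sylow 2 G) {M : Subgroup G} (hS : (S : Subgroup G) ≤ M) :
    Odd ((S : Subgroup G).relIndex M) := by
  have hf : Fact (Nat.Prime 2) := ⟨Nat.prime_two⟩
  rw [Nat.odd_iff]
  have h1 := S.not_dvd_index
  have h2 := Subgroup.relIndex_dvd_index_of_le hS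
  have : ¬ 2 ∣ (S : Subgroup G).relIndex M := fun h => h1 (h.trans h2)
  omega

/-- `X` is fully normalized when all its conjugates in `S` are conjugate under `S`. -/
theorem odd_relIndex_normalizer (S : Sylow 2 G) {X : Subgroup G} (hXS : X ≤ (S : Subgroup G))
    (hconj : ∀ g : G, cj g X ≤ (S : Subgroup G) → ∃ s ∈ (S : Subgroup G), cj s X = cj g X) :
    Odd (((S : Subgroup G) ⊓ normalizer (X : Set G)).relIndex (normalizer (X : Set G))) := by
  have hf : Fact (Nat.Prime 2) := ⟨Nat.prime_two⟩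
  set N := normalizer (X : Set G)
  set P := (S : Subgroup G) ⊓ N
  have hPp : IsPGroup 2 P := S.isPGroup'.to_le inf_le_left
  obtain ⟨R, hR⟩ := (hPp.of_injective (Subgroup.subgroupOfEquivOfLe (inf_le_right : P ≤ N)).toMonoidHom
    (Subgroup.subgroupOfEquivOfLe (inf_le_right : P ≤ N)).injective).exists_le_sylow
  set R' : Subgroup G := (R : Subgroup N).map N.subtype
  have hXN : X ≤ N := le_normalizer
  have hXR : X ≤ R' := by
    intro u hu
    exact ⟨⟨u, hXN hu⟩, hR (show (⟨u, hXN hu⟩ : N) ∈ P.subgroupOf N from ⟨hXS hu, hXN hu⟩), rfl⟩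
  have hR'p : IsPGroup 2 R' := R.isPGroup'.map _
  obtain ⟨T, hT⟩ := hR'p.exists_le_sylow
  obtain ⟨g, hg⟩ := MulAction.exists_smul_eq G T S
  have hcoe : cj g (T : Subgroup G) = (S : Subgroup G) := by rw [← hg]; rfl
  obtain ⟨s, hs, hsX⟩ := hconj g (hcoe ▸ cj_mono (hXR.trans hT))
  have hn : cj (s⁻¹ * g) X = X := by rw [← cj_cj, ← hsX, cj_inv_cj]
  have hle : cj (s⁻¹ * g) R' ≤ P := by
    refine le_inf ?_ ?_
    · rw [← cj_cj]
      calc cj s⁻¹ (cj g R') ≤ cj s⁻¹ (S : Subgroup G) := cj_mono (hcoe ▸ cj_mono hT)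
        _ = _ := cj_eq_of_mem ((S : Subgroup G).inv_mem hs)
    · calc cj (s⁻¹ * g) R' ≤ cj (s⁻¹ * g) N := cj_mono (Subgroup.map_subtype_le _)
        _ = N := cj_eq_of_mem (mem_normalizer_of_cj hn)
  have hcard : Nat.card (R : Subgroup N) ≤ Nat.card (P.subgroupOf N) := by
    rw [Nat.card_congr (Subgroup.subgroupOfEquivOfLe (inf_le_right : P ≤ N)).toEquiv,
      Nat.card_congr ((R : Subgroup N).equivMapOfInjective N.subtype N.subtype_injective).toEquiv]
    exact (card_cj (s⁻¹ * g) R').symm.le.trans (Subgroup.card_le_of_le hle)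
  have heq := Subgroup.eq_of_le_of_card_ge hR hcard
  have h1 := R.not_dvd_index
  rw [← heq] at h1
  rw [Nat.odd_iff]
  have h3 : ¬ 2 ∣ P.relIndex N := h1
  omega

/-- Elements of a normal subgroup of `N(X)` lie in `X C(X)` when those in `S` lie in `X` and those
of odd order centralise `X`. -/
theorem le_sup_centralizer (S : Sylow 2 G) {X : Subgroup G} (hXS : X ≤ (S : Subgroup G))
    (hconj : ∀ g : G, cj g X ≤ (S : Subgroup G) → ∃ s ∈ (S : Subgroup G), cj s X = cj g X)
    (K : Set G) (hKN : ∀ g ∈ K, g ∈ normalizer (X : Set G))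
    (hKpow : ∀ g ∈ K, ∀ h ∈ zpowers g, h ∈ K)
    (hKconj : ∀ n ∈ normalizer (X : Set G), ∀ g ∈ K, n * g * n⁻¹ ∈ K)
    (hKS : ∀ g ∈ K, g ∈ (S : Subgroup G) → g ∈ X)
    (hKodd : ∀ g ∈ K, Odd (orderOf g) → g ∈ centralizer (X : Set G)) :
    ∀ g ∈ K, g ∈ X ⊔ centralizer (X : Set G) := by
  have hf : Fact (Nat.Prime 2) := ⟨Nat.prime_two⟩
  intro g hg
  refine mem_of_parts (fun h hh ho => mem_sup_right (hKodd h (hKpow g hg h hh) ho))
    (fun h hh ⟨k, hk⟩ => mem_sup_left ?_)
  have hhK := hKpow g hg h hh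
  have hp : IsPGroup 2 (zpowers h) := by
    obtain ⟨j, -, hj⟩ := (Nat.dvd_prime_pow Nat.prime_two).mp (orderOf_dvd_of_pow_eq_one hk)
    exact IsPGroup.of_card (n := j) (by rw [Nat.card_zpowers, hj])
  obtain ⟨m, hm, hle⟩ := exists_conj_into (S.isPGroup'.to_le inf_le_left) inf_le_right
    (odd_relIndex_normalizer S hXS hconj) hp (zpowers_le.mpr (hKN h hhK))
  have h1 : m * h * m⁻¹ ∈ (S : Subgroup G) := (hle (conj_mem_cj (mem_zpowers h))).1
  exact (mem_normalizer_iff.mp hm h).mpr (hKS _ (hKconj m hm h hhK) h1)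

/-- A subgroup permuting three subgroups, with a given transposition. -/
theorem three_index (N L A B C : Subgroup G) (hAB : A ≠ B) (hAC : A ≠ C) (hBC : B ≠ C)
    (hperm : ∀ g ∈ N, ∀ K, (K = A ∨ K = B ∨ K = C) → (cj g K = A ∨ cj g K = B ∨ cj g K = C))
    (_hLN : L ≤ N) (hfix : ∀ g ∈ L, cj g A = A ∧ cj g B = B ∧ cj g C = C)
    (hker : ∀ g ∈ N, cj g A = A → cj g B = B → cj g C = C → g ∈ L)
    (hs : ∃ s ∈ N, cj s A = A ∧ cj s B = C) :
    (L.relIndex N = 2 ∧ ∀ g ∈ N, cj g A = A) ∨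
    (L.relIndex N = 6 ∧ ∃ g ∈ N, Odd (orderOf g) ∧ cj g A = B ∧ cj g B = C ∧ cj g C = A) := by
  classical
  let Ω := {K : Subgroup G // K = A ∨ K = B ∨ K = C}
  let ρ : N →* Equiv.Perm Ω :=
    { toFun := fun g =>
        { toFun := fun K => ⟨cj (g : G) K.1, hperm g g.2 K.1 K.2⟩
          invFun := fun K => ⟨cj ((g⁻¹ : N) : G) K.1, hperm _ (g⁻¹).2 K.1 K.2⟩
          left_inv := fun K => Subtype.ext (cj_inv_cj _ _)
          right_inv := fun K => Subtype.ext (cj_cj_inv _ _) }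
      map_one' := Equiv.ext fun K => Subtype.ext (cj_one _)
      map_mul' := fun g h => Equiv.ext fun K => Subtype.ext (cj_cj _ _ _).symm }
  let a : Ω := ⟨A, Or.inl rfl⟩
  let b : Ω := ⟨B, Or.inr (Or.inl rfl)⟩
  let c : Ω := ⟨C, Or.inr (Or.inr rfl)⟩
  have hab : a ≠ b := fun e => hAB (congrArg Subtype.val e)
  have hac : a ≠ c := fun e => hAC (congrArg Subtype.val e)
  have hbc : b ≠ c := fun e => hBC (congrArg Subtype.val e)
  have hall : ∀ K : Ω, K = a ∨ K = b ∨ K = c := by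
    rintro ⟨K, rfl | rfl | rfl⟩
    · exact Or.inl rfl
    · exact Or.inr (Or.inl rfl)
    · exact Or.inr (Or.inr rfl)
  have hcardΩ : Nat.card Ω = 3 := by
    show Nat.card {K : Subgroup G | K = A ∨ K = B ∨ K = C} = 3
    rw [Nat.card_coe_set_eq,
      show {K : Subgroup G | K = A ∨ K = B ∨ K = C} = {A, B, C} by ext; simp]
    exact Set.ncard_eq_three.mpr ⟨A, B, C, hAB, hAC, hBC, rfl⟩
  have hrel : L.relIndex N = Nat.card ρ.range := by
    rw [← Subgroup.index_ker, Subgroup.relIndex]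
    congr 1
    ext g
    rw [MonoidHom.mem_ker, Subgroup.mem_subgroupOf]
    constructor
    · intro hg
      refine Equiv.ext fun K => Subtype.ext ?_
      obtain ⟨h1, h2, h3⟩ := hfix _ hg
      show cj (g : G) K.1 = K.1
      rcases K.2 with e | e | e <;> rw [e] <;> assumption
    · intro hg
      exact hker g g.2 (congrArg Subtype.val (Equiv.congr_fun hg a))
        (congrArg Subtype.val (Equiv.congr_fun hg b)) (congrArg Subtype.val (Equiv.congr_fun hg c))
  have hperm6 : Nat.card (Equiv.Perm Ω) = 6 := by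
    rw [Nat.card_perm, hcardΩ]; rfl
  obtain ⟨s, hsN, hsA, hsB⟩ := hs
  set σ := ρ ⟨s, hsN⟩
  have hsa : σ a = a := Subtype.ext hsA
  have hsb : σ b = c := Subtype.ext hsB
  have hsc : σ c = b := by
    rcases hall (σ c) with e | e | e
    · exact absurd (σ.injective (e.trans hsa.symm)) hac.symm
    · exact e
    · exact absurd (σ.injective (e.trans hsb.symm)) hbc.symm
  have hs2 : orderOf σ = 2 := by
    refine orderOf_eq_prime (Equiv.ext fun K => ?_) fun e => hbc ?_
    · rcases hall K with rfl | rfl | rfl <;> simp [pow_two, hsa, hsb, hsc]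
    · rw [e] at hsb
      exact hsb
  have h2dvd : 2 ∣ Nat.card ρ.range := by
    rw [← hs2]
    exact Subgroup.orderOf_dvd_natCard _ ⟨_, rfl⟩
  have hdvd6 : Nat.card ρ.range ∣ 6 := hperm6 ▸ Subgroup.card_subgroup_dvd_card _
  have hcases : Nat.card ρ.range = 2 ∨ Nat.card ρ.range = 6 := by
    have hle := Nat.le_of_dvd (by norm_num) hdvd6
    obtain ⟨k, hk⟩ := h2dvd
    have hpos : 0 < Nat.card ρ.range := Nat.card_pos
    rcases (show k = 1 ∨ k = 2 ∨ k = 3 by omega) with rfl | rfl | rfl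
    · exact Or.inl hk
    · rw [hk] at hdvd6; norm_num at hdvd6
    · exact Or.inr hk
  rcases hcases with h2 | h6
  · refine Or.inl ⟨hrel.trans h2, fun g hg => ?_⟩
    have heq : zpowers σ = ρ.range := by
      refine Subgroup.eq_of_le_of_card_ge (zpowers_le.mpr ⟨_, rfl⟩) ?_
      rw [Nat.card_zpowers, hs2, h2]
    have hmem : ρ ⟨g, hg⟩ ∈ MulAction.stabilizer (Equiv.Perm Ω) a := by
      have : zpowers σ ≤ MulAction.stabilizer (Equiv.Perm Ω) a := zpowers_le.mpr hsa
      exact this (heq ▸ ⟨_, rfl⟩)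
    exact congrArg Subtype.val (MulAction.mem_stabilizer_iff.mp hmem : (ρ ⟨g, hg⟩) • a = a)
  · refine Or.inr ⟨hrel.trans h6, ?_⟩
    have htop : ρ.range = ⊤ := Subgroup.eq_top_of_card_eq _ (by rw [h6, hperm6])
    obtain ⟨⟨g, hg⟩, hgρ⟩ : Equiv.swap a c * Equiv.swap a b ∈ ρ.range := htop ▸ mem_top _
    set τ := Equiv.swap a c * Equiv.swap a b with hτ
    have hτa : τ a = b := by
      simp [hτ, Equiv.swap_apply_of_ne_of_ne hab.symm hbc]
    have hτb : τ b = c := by simp [hτ]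
    have hτc : τ c = a := by
      simp [hτ, Equiv.swap_apply_of_ne_of_ne hac.symm hbc.symm]
    have hτ3 : τ ^ 3 = 1 := by
      refine Equiv.ext fun K => ?_
      rcases hall K with rfl | rfl | rfl <;> simp [pow_succ, hτa, hτb, hτc]
    obtain ⟨j, m, hm, ho⟩ := Nat.exists_eq_two_pow_mul_odd (orderOf_pos (⟨g, hg⟩ : N)).ne'
    have hodd : Odd (orderOf ((⟨g, hg⟩ : N) ^ 2 ^ j)) := by
      rw [orderOf_pow' _ (pow_ne_zero j two_ne_zero), ho, Nat.gcd_mul_right_left,
        Nat.mul_div_cancel_left _ (pow_pos two_pos j)]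
      exact hm
    set g' := (⟨g, hg⟩ : N) ^ 2 ^ j
    have hg' : ρ g' = τ ^ 2 ^ j := by rw [map_pow, hgρ]
    have hfin : ∀ h : N, Odd (orderOf h) → ρ h = τ → ∃ g ∈ N, Odd (orderOf g) ∧
        cj g A = B ∧ cj g B = C ∧ cj g C = A := by
      intro h ho he
      refine ⟨h, h.2, by rwa [Subgroup.orderOf_coe], ?_, ?_, ?_⟩
      · exact congrArg Subtype.val ((Equiv.congr_fun he a).trans hτa)
      · exact congrArg Subtype.val ((Equiv.congr_fun he b).trans hτb)
      · exact congrArg Subtype.val ((Equiv.congr_fun he c).trans hτc)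
    have hmod : 2 ^ j % 3 = 1 ∨ 2 ^ j % 3 = 2 := by
      have h30 : ¬ 3 ∣ 2 ^ j := fun h => by
        have := Nat.Prime.dvd_of_dvd_pow (by norm_num : Nat.Prime 3) h
        omega
      omega
    rcases hmod with h1 | h1
    · refine hfin g' hodd ?_
      rw [hg', ← Nat.div_add_mod (2 ^ j) 3, pow_add, pow_mul, hτ3, one_pow, one_mul, h1, pow_one]
    · refine hfin (g' ^ 2) (Odd.of_dvd_nat hodd (orderOf_pow_dvd 2)) ?_
      rw [map_pow, hg', ← pow_mul, ← Nat.div_add_mod (2 ^ j * 2) 3, pow_add, pow_mul, hτ3, one_pow,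
        one_mul, Nat.mul_mod, h1, pow_one]

/-- A homomorphism of a Sylow 2-subgroup invariant under fusion extends. -/
theorem exists_normal_of_controlled (S : Sylow 2 G) {A : Type*} [CommGroup A] [Finite A]
    (χ : (S : Subgroup G) →* A) (hA : IsPGroup 2 A) (hsurj : Function.Surjective χ)
    (hinv : ∀ (s : (S : Subgroup G)) (g : G) (h : g * (s : G) * g⁻¹ ∈ (S : Subgroup G)),
      χ ⟨g * (s : G) * g⁻¹, h⟩ = χ s) :
    ∃ K : Subgroup G, K.Normal ∧ K.index = Nat.card A ∧
      (∀ s : (S : Subgroup G), (s : G) ∈ K ↔ χ s = 1) ∧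
      (∀ g : G, Odd (orderOf g) → g ∈ K) ∧
      (∀ P : Sylow 2 K, Nonempty ((P : Subgroup K) ≃* χ.ker)) := by
  classical
  have hf : Fact (Nat.Prime 2) := ⟨Nat.prime_two⟩
  obtain ⟨e, he⟩ := hA.exists_card_eq
  have hidx : Odd (S : Subgroup G).index := by
    rw [Nat.odd_iff]
    have := S.not_dvd_index
    omega
  have hcop : IsCoprime ((S : Subgroup G).index : ℤ) (2 ^ e : ℤ) := by
    refine IsCoprime.pow_right ?_
    obtain ⟨c, hc⟩ := hidx
    exact ⟨1, -c, by rw [hc]; push_cast; ring⟩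
  obtain ⟨u, v, huv⟩ := hcop
  let f : G →* A := (zpowGroupHom u).comp (MonoidHom.transfer χ)
  have hfs : ∀ s : (S : Subgroup G), f (s : G) = χ s := by
    intro s
    have hkey : MonoidHom.transfer χ (s : G) = χ s ^ (S : Subgroup G).index :=
      CfsgLib.TwoGroups.transfer_eq_pow_of_controlled χ (s : G) s.2 fun k a h => by
        have h' : a⁻¹ * ((s ^ k : (S : Subgroup G)) : G) * a⁻¹⁻¹ ∈ (S : Subgroup G) := by
          simpa using h
        rw [← map_pow, ← hinv (s ^ k) a⁻¹ h']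
        congr 2
        simp
    show (MonoidHom.transfer χ (s : G)) ^ u = χ s
    rw [hkey, ← zpow_natCast, ← zpow_mul, show ((S : Subgroup G).index : ℤ) * u =
      1 - v * (2 ^ e : ℤ) by linarith, zpow_sub, zpow_one, mul_comm v, zpow_mul,
      show (2 ^ e : ℤ) = ((2 ^ e : ℕ) : ℤ) by push_cast; rfl, zpow_natCast, ← he,
      pow_card_eq_one', one_zpow, inv_one, mul_one]
  have hfsurj : Function.Surjective f := fun w => by
    obtain ⟨s, hs⟩ := hsurj w
    exact ⟨s, (hfs s).trans hs⟩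
  have hmem : ∀ s : (S : Subgroup G), (s : G) ∈ f.ker ↔ χ s = 1 := fun s => by
    rw [MonoidHom.mem_ker, hfs s]
  have hindex : f.ker.index = Nat.card A := by
    rw [Subgroup.index_ker, MonoidHom.range_eq_top.mpr hfsurj, Subgroup.card_top]
  refine ⟨f.ker, inferInstance, hindex, hmem, ?_, ?_⟩
  · intro g hg
    rw [MonoidHom.mem_ker]
    obtain ⟨k, hk⟩ := hA (f g)
    refine orderOf_eq_one_iff.mp (Nat.dvd_one.mp ?_)
    have hd := Nat.dvd_gcd (orderOf_map_dvd f g) (orderOf_dvd_of_pow_eq_one hk)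
    have hco : (orderOf g).Coprime (2 ^ k) :=
      Nat.Coprime.pow_right k (by rw [Nat.coprime_two_right]; exact hg)
    rwa [hco.gcd_eq_one] at hd
  · intro P
    let j : χ.ker →* f.ker :=
      ((S : Subgroup G).subtype.comp χ.ker.subtype).codRestrict f.ker
        fun s => (hmem s.1).mpr s.2
    have hj : Function.Injective j := fun s t e => by
      exact Subtype.ext (Subtype.ext (congrArg (fun w : f.ker => (w : G)) e))
    have hp : IsPGroup 2 j.range :=
      ((S.isPGroup').to_subgroup χ.ker).of_surjective j.rangeRestrict j.rangeRestrict_surjective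
    have hind : ¬ 2 ∣ j.range.index := by
      have h1 := j.range.card_mul_index
      rw [← Nat.card_congr (MonoidHom.ofInjective hj).toEquiv] at h1
      have h2 : f.ker.index * Nat.card f.ker = Nat.card G := by
        rw [mul_comm, Subgroup.card_mul_index]
      have h3 : χ.ker.index * Nat.card χ.ker = Nat.card (S : Subgroup G) := by
        rw [mul_comm, Subgroup.card_mul_index]
      rw [Subgroup.index_ker, MonoidHom.range_eq_top.mpr hsurj, Subgroup.card_top] at h3
      have h4 := (S : Subgroup G).card_mul_index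
      rw [hindex] at h2
      rw [← h2, ← h3, mul_assoc] at h4
      have h5 := Nat.eq_of_mul_eq_mul_left Nat.card_pos h4
      rw [← h1] at h5
      have h6 := Nat.eq_of_mul_eq_mul_left Nat.card_pos h5
      rw [← h6]
      obtain ⟨c, hc⟩ := hidx
      omega
    let R : Sylow 2 f.ker := hp.toSylow hind
    obtain ⟨m, hm⟩ := MulAction.exists_smul_eq f.ker R P
    refine ⟨MulEquiv.trans ?_ (MonoidHom.ofInjective hj).symm⟩
    exact (R.equiv P).symm

end CfsgLib.TwoGroups.FT
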