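import Cfsg.Agent.Lib.TwoGroups.SemidihedralFusion

/-!
The four fusion patterns of a quasi-dihedral Sylow 2-subgroup.
-/

set_option autoImplicit false
set_option linter.unusedSectionVars false

namespace CfsgLib.TwoGroups.SDF

open Subgroup CfsgLib.TwoGroups.FT CfsgLib.TwoGroups.SD

section Abstract

variable {S : Type*} [Group S] [Finite S] {r : ℕ} {x y : S}

theorem y_mem_dih (x y : S) : y ∈ dih x y := subset_closure (by simp)

theorem dih_zpow (h : SD S r x y) (k : ℤ) : x ^ k ∈ dih x y ↔ Even k := by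
  rcases Int.even_or_odd k with he | ho
  · refine iff_of_true ?_ he
    obtain ⟨l, rfl⟩ := he
    rw [show l + l = 2 * l by ring, zpow_mul]
    exact Subgroup.zpow_mem _ (subset_closure (by simp)) l
  · refine iff_of_false ?_ (Int.not_even_iff_odd.mpr ho)
    rw [zpow_mem_of_index_two (index_dih h) x k ho]
    exact x_not_mem_dih h

theorem dih_xy (h : SD S r x y) (k : ℤ) : x ^ k * y ∈ dih x y ↔ Even k := by
  rw [Subgroup.mul_mem_cancel_right _ (y_mem_dih x y), dih_zpow h]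

theorem quat_zpow (h : SD S r x y) (k : ℤ) : x ^ k ∈ quat x y ↔ Even k := by
  rcases Int.even_or_odd k with he | ho
  · refine iff_of_true ?_ he
    obtain ⟨l, rfl⟩ := he
    rw [show l + l = 2 * l by ring, zpow_mul]
    exact Subgroup.zpow_mem _ (subset_closure (by simp)) l
  · refine iff_of_false ?_ (Int.not_even_iff_odd.mpr ho)
    rw [zpow_mem_of_index_two (index_quat h) x k ho]
    intro hx
    have hxy : x ^ (1 : ℤ) * y ∈ quat x y := subset_closure (by simp)
    rw [zpow_one, Subgroup.mul_mem_cancel_left _ hx] at hxy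
    have h1 : quat x y = ⊤ := by
      rw [eq_top_iff']
      intro g
      obtain ⟨j, rfl | rfl⟩ := h.gen g
      · exact Subgroup.zpow_mem _ hx j
      · exact Subgroup.mul_mem _ (Subgroup.zpow_mem _ hx j) hxy
    have := index_quat h
    rw [h1] at this
    simp at this

theorem quat_xy (h : SD S r x y) (k : ℤ) : x ^ k * y ∈ quat x y ↔ Odd k := by
  have hxy : x ^ (1 : ℤ) * y ∈ quat x y := subset_closure (by simp)
  rw [show x ^ k * y = x ^ (k - 1) * (x ^ (1 : ℤ) * y) by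
    rw [← mul_assoc, ← zpow_add, sub_add_cancel], Subgroup.mul_mem_cancel_right _ hxy, quat_zpow h]
  rw [Int.even_sub_one, Int.not_even_iff_odd]

theorem orderOf_zpow_odd (h : SD S r x y) {k : ℤ} (hk : Odd k) : orderOf (x ^ k) = 8 * r := by
  rw [← h.ordx]
  refine Nat.dvd_antisymm ?_ ?_
  · rw [← Int.natCast_dvd_natCast, orderOf_dvd_iff_zpow_eq_one, ← zpow_mul, mul_comm, zpow_mul,
      zpow_natCast, pow_orderOf_eq_one, one_zpow]
  · rw [← Nat.card_zpowers, ← Nat.card_zpowers (x ^ k)]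
    exact Subgroup.card_dvd_of_le (zpowers_le.mpr (zpowers_zpow_of_odd h hk))

theorem orderOf_zpow_even (h : SD S r x y) {k : ℤ} (hk : Even k) : orderOf (x ^ k) ≠ 8 * r := by
  obtain ⟨l, rfl⟩ := hk
  intro e
  have hr := r_pos h
  have h1 : orderOf (x ^ (l + l)) ∣ 4 * r := by
    rw [← Int.natCast_dvd_natCast, orderOf_dvd_iff_zpow_eq_one, ← zpow_mul, zpow_x_eq_one h]
    exact ⟨l, by push_cast; ring⟩
  rw [e] at h1
  have := Nat.le_of_dvd (by omega) h1
  omega

/-- The four-group through `x^a y`. -/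
theorem isKleinFour_cent (h : SD S r x y) {a : ℤ} (ha : Even a) :
    IsKleinFour (centralizer ({x ^ a * y} : Set S)) := by
  have hsq : ∀ u ∈ centralizer ({x ^ a * y} : Set S), u ^ 2 = 1 := by
    intro u hu
    rw [mem_centralizer_singleton_iff] at hu
    have hh : (x ^ (4 * r : ℤ)) ^ 2 = 1 := by
      rw [← zpow_natCast, ← zpow_mul, zpow_x_eq_one h]
      exact ⟨1, by push_cast; ring⟩
    have hw : (x ^ a * y) ^ 2 = 1 := by rw [← orderOf_xy_even h ha, pow_orderOf_eq_one]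
    obtain ⟨j, e | e⟩ := (centralizer_xy h u).mp hu <;> rcases central_pow h j with e' | e' <;>
      rw [e'] at e <;> subst e
    · exact one_pow 2
    · exact hh
    · rw [one_mul]; exact hw
    · have hc : Commute (x ^ (4 * r : ℤ)) (x ^ a * y) := (commute_pow_xy h).mpr dvd_rfl
      rw [hc.mul_pow, hh, hw, one_mul]
  have hc := card_centralizer_xy h a
  have : Nontrivial (centralizer ({x ^ a * y} : Set S)) :=
    Finite.one_lt_card_iff_nontrivial.mp (by omega)
  exact ⟨hc, (Monoid.exponent_eq_prime_iff Nat.prime_two).mpr fun u hu =>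
    orderOf_eq_prime (Subtype.ext (hsq u u.2)) hu⟩

theorem nonempty_q8 (h : SD S r x y) {a : ℤ} (ha : Odd a) :
    Nonempty (closure {x ^ (2 * r : ℤ), x ^ a * y} ≃* QuaternionGroup 2) := by
  have ho : orderOf (x ^ (2 * r : ℤ)) = 2 * 2 := (orderOf_zpow_eq_four h).mpr (Or.inl rfl)
  have hu : (x ^ (2 * r : ℤ)) ^ (2 * 2) = 1 := by rw [← ho, pow_orderOf_eq_one]
  have hv : (x ^ a * y) * (x ^ a * y) = (x ^ (2 * r : ℤ)) ^ 2 := by
    rw [← pow_two, xy_sq h, ← zpow_natCast, ← zpow_mul, zpow_x_eq h]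
    obtain ⟨c, rfl⟩ := ha
    exact ⟨-c, by push_cast; ring⟩
  have hvu : x ^ a * y * x ^ (2 * r : ℤ) * (x ^ a * y)⁻¹ = (x ^ (2 * r : ℤ))⁻¹ := by
    rw [show x ^ a * y * x ^ (2 * r : ℤ) * (x ^ a * y)⁻¹ =
      x ^ a * (y * x ^ (2 * r : ℤ) * y⁻¹) * (x ^ a)⁻¹ by group, conj_y_pow h,
      ((Commute.refl x).zpow_zpow a _).eq, mul_inv_cancel_right, ← zpow_neg, zpow_x_eq h]
    exact ⟨-(r : ℤ), by ring⟩
  have hnot : x ^ a * y ∉ zpowers (x ^ (2 * r : ℤ)) := by
    rintro ⟨k, hk⟩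
    exact not_mem_y h a (2 * r * k) (by rw [zpow_mul]; exact hk.symm)
  exact ⟨((MonoidHom.ofInjective (quaternionHom_injective _ _ hu hv hvu ho hnot)).trans
    (MulEquiv.subgroupCongr (range_quaternionHom _ _ hu hv hvu))).symm⟩

end Abstract

variable {G : Type*} [Group G] [Finite G] {S : Sylow 2 G} {r : ℕ} {x y : (S : Subgroup G)}

theorem orderOf_conj_coe {s : (S : Subgroup G)} {g : G} (hg : g * (s : G) * g⁻¹ ∈ (S : Subgroup G)) :
    orderOf (⟨g * (s : G) * g⁻¹, hg⟩ : (S : Subgroup G)) = orderOf s := by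
  rw [← Subgroup.orderOf_coe, ← Subgroup.orderOf_coe s]
  exact MulEquiv.orderOf_eq (MulAut.conj g) (s : G)

/-- Characterisation of `quat` when involutions are not fused. -/
theorem notMem_quat_iff (h : SD (S : Subgroup G) r x y)
    (hJ : ¬ IsConj ((x ^ (4 * r : ℤ) : (S : Subgroup G)) : G)
        ((x ^ (0 : ℤ) * y : (S : Subgroup G)) : G)) (s : (S : Subgroup G)) :
    s ∉ quat x y ↔ orderOf s = 8 * r ∨
      (orderOf s = 2 ∧ ¬ IsConj (s : G) ((x ^ (4 * r : ℤ) : (S : Subgroup G)) : G)) := by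
  have hr := r_pos h
  obtain ⟨k, rfl | rfl⟩ := h.gen s <;> rcases Int.even_or_odd k with hk | hk
  · refine iff_of_false (fun hh => hh ((quat_zpow h k).mpr hk)) ?_
    rintro (e | ⟨e, e'⟩)
    · exact orderOf_zpow_even h hk e
    · rw [(orderOf_zpow_eq_two h).mp e] at e'
      exact e' (IsConj.refl _)
  · exact iff_of_true (fun hh => (Int.not_even_iff_odd.mpr hk) ((quat_zpow h k).mp hh))
      (Or.inl (orderOf_zpow_odd h hk))
  · refine iff_of_true (fun hh => (Int.not_odd_iff_even.mpr hk) ((quat_xy h k).mp hh))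
      (Or.inr ⟨orderOf_xy_even h hk, fun hc => hJ (hc.symm.trans (isConj_coe (isConj_xy h ?_)))⟩)
    simpa using even_iff_two_dvd.mp hk
  · refine iff_of_false (fun hh => hh ((quat_xy h k).mpr hk)) ?_
    rw [orderOf_xy_odd h hk]
    rintro (e | ⟨e, -⟩) <;> omega

/-- Characterisation of `dih` when elements of order 4 are not fused. -/
theorem notMem_dih_iff (h : SD (S : Subgroup G) r x y)
    (hI : ¬ IsConj ((x ^ (2 * r : ℤ) : (S : Subgroup G)) : G)
        ((x ^ (1 : ℤ) * y : (S : Subgroup G)) : G)) (s : (S : Subgroup G)) :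
    s ∉ dih x y ↔ orderOf s = 8 * r ∨
      (orderOf s = 4 ∧ ¬ IsConj (s : G) ((x ^ (2 * r : ℤ) : (S : Subgroup G)) : G)) := by
  have hr := r_pos h
  obtain ⟨k, rfl | rfl⟩ := h.gen s <;> rcases Int.even_or_odd k with hk | hk
  · refine iff_of_false (fun hh => hh ((dih_zpow h k).mpr hk)) ?_
    rintro (e | ⟨e, e'⟩)
    · exact orderOf_zpow_even h hk e
    · apply e'
      rcases (orderOf_zpow_eq_four h).mp e with e2 | e2 <;> rw [e2]
      refine isConj_coe (isConj_iff.mpr ⟨y, ?_⟩)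
      rw [conj_y_pow h, zpow_x_eq h]
      exact ⟨(r : ℤ), by ring⟩
  · exact iff_of_true (fun hh => (Int.not_even_iff_odd.mpr hk) ((dih_zpow h k).mp hh))
      (Or.inl (orderOf_zpow_odd h hk))
  · refine iff_of_false (fun hh => hh ((dih_xy h k).mpr hk)) ?_
    rw [orderOf_xy_even h hk]
    rintro (e | ⟨e, -⟩) <;> omega
  · refine iff_of_true (fun hh => (Int.not_even_iff_odd.mpr hk) ((dih_xy h k).mp hh))
      (Or.inr ⟨orderOf_xy_odd h hk, fun hc => hI (hc.symm.trans (isConj_coe (isConj_xy h ?_)))⟩)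
    obtain ⟨c, rfl⟩ := hk
    exact ⟨-c, by ring⟩

theorem exists_normal_index_two {M : Subgroup (S : Subgroup G)} (hM : M.index = 2)
    (hinv : ∀ (s : (S : Subgroup G)) (g : G) (hg : g * (s : G) * g⁻¹ ∈ (S : Subgroup G)),
      (⟨g * (s : G) * g⁻¹, hg⟩ : (S : Subgroup G)) ∈ M ↔ s ∈ M) :
    ∃ K : Subgroup G, K.Normal ∧ K.index = 2 ∧
      (∀ s : (S : Subgroup G), (s : G) ∈ K ↔ s ∈ M) ∧
      (∀ g : G, Odd (orderOf g) → g ∈ K) ∧
      (∀ P : Sylow 2 K, Nonempty ((P : Subgroup K) ≃* M)) := by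
  obtain ⟨χ, hsurj, hχ⟩ := exists_index_two_hom hM
  have hc : Nat.card (Multiplicative (ZMod 2)) = 2 := by simp
  have hinv' : ∀ (s : (S : Subgroup G)) (g : G) (hg : g * (s : G) * g⁻¹ ∈ (S : Subgroup G)),
      χ ⟨g * (s : G) * g⁻¹, hg⟩ = χ s := by
    intro s g hg
    have key : ∀ u v : Multiplicative (ZMod 2), (u = 1 ↔ v = 1) → u = v := by decide
    exact key _ _ (by rw [hχ, hχ, hinv])
  obtain ⟨K, hK, hi, hmem, hodd, hP⟩ := exists_normal_of_controlled S χ
    (IsPGroup.of_card (n := 1) (by rw [hc, pow_one])) hsurj hinv'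
  have hker : χ.ker = M := by
    ext s
    rw [MonoidHom.mem_ker, hχ]
  exact ⟨K, hK, hi.trans hc, fun s => (hmem s).trans (hχ s), hodd,
    fun P => ⟨(hP P).some.trans (MulEquiv.subgroupCongr hker)⟩⟩

theorem exists_quat_normal (h : SD (S : Subgroup G) r x y)
    (hJ : ¬ IsConj ((x ^ (4 * r : ℤ) : (S : Subgroup G)) : G)
        ((x ^ (0 : ℤ) * y : (S : Subgroup G)) : G)) :
    ∃ K : Subgroup G, K.Normal ∧ K.index = 2 ∧
      (∀ s : (S : Subgroup G), (s : G) ∈ K ↔ s ∈ quat x y) ∧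
      (∀ g : G, Odd (orderOf g) → g ∈ K) ∧
      (∀ P : Sylow 2 K, Nonempty ((P : Subgroup K) ≃* quat x y)) := by
  refine exists_normal_index_two (index_quat h) fun s g hg => ?_
  rw [← not_iff_not, notMem_quat_iff h hJ, notMem_quat_iff h hJ, orderOf_conj_coe hg]
  have hc : IsConj (g * (s : G) * g⁻¹) (s : G) := (isConj_iff.mpr ⟨g, rfl⟩ : IsConj (s : G) _).symm
  exact or_congr Iff.rfl (and_congr Iff.rfl (not_congr ⟨hc.symm.trans, hc.trans⟩))

theorem exists_dih_normal (h : SD (S : Subgroup G) r x y)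
    (hI : ¬ IsConj ((x ^ (2 * r : ℤ) : (S : Subgroup G)) : G)
        ((x ^ (1 : ℤ) * y : (S : Subgroup G)) : G)) :
    ∃ K : Subgroup G, K.Normal ∧ K.index = 2 ∧
      (∀ s : (S : Subgroup G), (s : G) ∈ K ↔ s ∈ dih x y) ∧
      (∀ g : G, Odd (orderOf g) → g ∈ K) ∧
      (∀ P : Sylow 2 K, Nonempty ((P : Subgroup K) ≃* dih x y)) := by
  refine exists_normal_index_two (index_dih h) fun s g hg => ?_
  rw [← not_iff_not, notMem_dih_iff h hI, notMem_dih_iff h hI, orderOf_conj_coe hg]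
  have hc : IsConj (g * (s : G) * g⁻¹) (s : G) := (isConj_iff.mpr ⟨g, rfl⟩ : IsConj (s : G) _).symm
  exact or_congr Iff.rfl (and_congr Iff.rfl (not_congr ⟨hc.symm.trans, hc.trans⟩))

/-- With fused elements of order 4, index-2 subgroups contain all quaternion subgroups. -/
theorem quat_elems_mem (h : SD (S : Subgroup G) r x y)
    (hI : IsConj ((x ^ (2 * r : ℤ) : (S : Subgroup G)) : G)
        ((x ^ (1 : ℤ) * y : (S : Subgroup G)) : G))
    (K : Subgroup G) (hodd : ∀ g : G, Odd (orderOf g) → g ∈ K) (H : Subgroup K) (hH : H.index = 2)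
    {b : ℤ} (hb : Odd b) (hi : ((x ^ (2 * r : ℤ) : (S : Subgroup G)) : G) ∈ K)
    (hw : ((x ^ b * y : (S : Subgroup G)) : G) ∈ K) :
    (⟨_, hi⟩ : K) ∈ H ∧ (⟨_, hw⟩ : K) ∈ H := by
  obtain ⟨e⟩ := nonempty_q8 h hb
  set Q : Subgroup G := (closure {x ^ (2 * r : ℤ), x ^ b * y}).map (S : Subgroup G).subtype
  have eQ : Q ≃* QuaternionGroup 2 :=
    ((closure {x ^ (2 * r : ℤ), x ^ b * y}).equivMapOfInjective _
      (S : Subgroup G).subtype_injective).symm.trans e
  have hQS : Q ≤ (S : Subgroup G) := Subgroup.map_subtype_le _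
  have hwQ : ((x ^ b * y : (S : Subgroup G)) : G) ∈ Q := ⟨_, subset_closure (Or.inr rfl), rfl⟩
  rcases q8_index h hQS eQ hb hwQ with ⟨-, hn⟩ | ⟨-, -, g, hg, h1, h2⟩
  · exact absurd hI hn
  refine mem_of_cycle hH (g := ⟨g, hodd g hg⟩) ?_ ?_
  · rcases h1 with e1 | e1
    · exact Or.inl (Subtype.ext e1)
    · exact Or.inr (Subtype.ext e1)
  · rcases h2 with e2 | e2
    · exact Or.inl (Subtype.ext (by rw [Subgroup.coe_mul (S : Subgroup G)] at e2; exact e2))
    · exact Or.inr (Subtype.ext (by rw [Subgroup.coe_mul (S : Subgroup G)] at e2; exact e2))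

/-- With fused involutions, index-2 subgroups contain all involutions of `S`. -/
theorem klein_elems_mem (h : SD (S : Subgroup G) r x y)
    (hJ : IsConj ((x ^ (4 * r : ℤ) : (S : Subgroup G)) : G)
        ((x ^ (0 : ℤ) * y : (S : Subgroup G)) : G))
    (K : Subgroup G) (hodd : ∀ g : G, Odd (orderOf g) → g ∈ K) (H : Subgroup K) (hH : H.index = 2)
    {a : ℤ} (ha : Even a) (hj : ((x ^ (4 * r : ℤ) : (S : Subgroup G)) : G) ∈ K)
    (ht : ((x ^ a * y : (S : Subgroup G)) : G) ∈ K) :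
    (⟨_, ht⟩ : K) ∈ H := by
  set T : Subgroup G := (centralizer ({x ^ a * y} : Set (S : Subgroup G))).map (S : Subgroup G).subtype
  have hT : IsKleinFour T := by
    have hk := isKleinFour_cent h ha
    let e := (centralizer ({x ^ a * y} : Set (S : Subgroup G))).equivMapOfInjective _
      (S : Subgroup G).subtype_injective
    exact ⟨by rw [← Nat.card_congr e.toEquiv]; exact hk.card_four,
      by rw [← Monoid.exponent_eq_of_mulEquiv e]; exact hk.exponent_two⟩
  have haT : ((x ^ a * y : (S : Subgroup G)) : G) ∈ T :=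
    ⟨_, mem_centralizer_singleton_iff.mpr rfl, rfl⟩
  rcases klein_index h hT (Subgroup.map_subtype_le _) ha haT with ⟨-, hn⟩ | ⟨-, -, g, hg, h1, h2⟩
  · exact absurd hJ hn
  exact (mem_of_cycle (u := ⟨_, hj⟩) (v := ⟨_, ht⟩) hH (g := ⟨g, hodd g hg⟩)
    (Or.inl (Subtype.ext h1))
    (Or.inl (Subtype.ext (by rw [Subgroup.coe_mul (S : Subgroup G)] at h2; exact h2)))).2

/-- A subgroup containing a Sylow 2-subgroup of `K` does not have index 2 in `K`. -/
theorem false_of_sylow_le {K : Subgroup G} {M : Subgroup (S : Subgroup G)}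
    (hmem : ∀ s : (S : Subgroup G), (s : G) ∈ K ↔ s ∈ M)
    (hP : ∀ P : Sylow 2 K, Nonempty ((P : Subgroup K) ≃* M)) {H : Subgroup K} (hH : H.index = 2)
    (hle : ∀ s ∈ M, ∀ hs : (s : G) ∈ K, (⟨(s : G), hs⟩ : K) ∈ H) : False := by
  have hf : Fact (Nat.Prime 2) := ⟨Nat.prime_two⟩
  let j : M →* K := ((S : Subgroup G).subtype.comp M.subtype).codRestrict K
    fun s => (hmem s.1).mpr s.2
  have hj : Function.Injective j := fun s t e =>
    Subtype.ext (Subtype.ext (congrArg (fun w : K => (w : G)) e))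
  have hjH : j.range ≤ H := by
    rintro _ ⟨s, rfl⟩
    exact hle s.1 s.2 _
  obtain ⟨P⟩ := (inferInstance : Nonempty (Sylow 2 K))
  have hcard : Nat.card (P : Subgroup K) = Nat.card j.range := by
    rw [Nat.card_congr (hP P).some.toEquiv]
    exact Nat.card_congr (MonoidHom.ofInjective hj).toEquiv
  have h1 := (P : Subgroup K).card_mul_index
  have h2 := j.range.card_mul_index
  rw [← hcard, ← h1] at h2
  have h3 := Nat.eq_of_mul_eq_mul_left Nat.card_pos h2
  have h4 := Subgroup.index_dvd_of_le hjH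
  rw [hH, h3] at h4
  exact P.not_dvd_index h4

theorem quat_no_index_two (h : SD (S : Subgroup G) r x y)
    (hI : IsConj ((x ^ (2 * r : ℤ) : (S : Subgroup G)) : G)
        ((x ^ (1 : ℤ) * y : (S : Subgroup G)) : G))
    {K : Subgroup G} (hmem : ∀ s : (S : Subgroup G), (s : G) ∈ K ↔ s ∈ quat x y)
    (hodd : ∀ g : G, Odd (orderOf g) → g ∈ K)
    (hP : ∀ P : Sylow 2 K, Nonempty ((P : Subgroup K) ≃* quat x y)) (H : Subgroup K) :
    H.index ≠ 2 := by
  intro hH
  have hi : ((x ^ (2 * r : ℤ) : (S : Subgroup G)) : G) ∈ K :=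
    (hmem _).mpr ((quat_zpow h _).mpr ⟨(r : ℤ), by ring⟩)
  refine false_of_sylow_le hmem hP hH fun s hs hsK => ?_
  let j : quat x y →* K := ((S : Subgroup G).subtype.comp (quat x y).subtype).codRestrict K
    fun t => (hmem t.1).mpr t.2
  have hb : ∀ b : ℤ, ∀ hb : Odd b, (⟨x ^ b * y, (quat_xy h b).mpr hb⟩ : quat x y) ∈ H.comap j := by
    intro b hb
    exact (quat_elems_mem h hI K hodd H hH hb hi ((hmem _).mpr ((quat_xy h b).mpr hb))).2
  have hall : (H.comap j).map (quat x y).subtype = quat x y := by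
    refine le_antisymm (Subgroup.map_subtype_le _) ((closure_le _).mpr ?_)
    have h1 : x ^ (1 : ℤ) * y ∈ (H.comap j).map (quat x y).subtype := ⟨_, hb 1 odd_one, rfl⟩
    have h3 : x ^ (3 : ℤ) * y ∈ (H.comap j).map (quat x y).subtype := ⟨_, hb 3 ⟨1, rfl⟩, rfl⟩
    rintro w (rfl | rfl)
    · have h4 := Subgroup.mul_mem _ h3 (Subgroup.inv_mem _ h1)
      rwa [show x ^ (3 : ℤ) * y * (x ^ (1 : ℤ) * y)⁻¹ = x ^ (2 : ℤ) by group] at h4
    · exact h1
  rw [← hall] at hs
  obtain ⟨t, ht, e⟩ := hs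
  subst e
  exact ht

theorem dih_no_index_two (h : SD (S : Subgroup G) r x y)
    (hJ : IsConj ((x ^ (4 * r : ℤ) : (S : Subgroup G)) : G)
        ((x ^ (0 : ℤ) * y : (S : Subgroup G)) : G))
    {K : Subgroup G} (hmem : ∀ s : (S : Subgroup G), (s : G) ∈ K ↔ s ∈ dih x y)
    (hodd : ∀ g : G, Odd (orderOf g) → g ∈ K)
    (hP : ∀ P : Sylow 2 K, Nonempty ((P : Subgroup K) ≃* dih x y)) (H : Subgroup K) :
    H.index ≠ 2 := by
  intro hH
  have hj' : ((x ^ (4 * r : ℤ) : (S : Subgroup G)) : G) ∈ K :=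
    (hmem _).mpr ((dih_zpow h _).mpr ⟨2 * (r : ℤ), by ring⟩)
  refine false_of_sylow_le hmem hP hH fun s hs hsK => ?_
  let j : dih x y →* K := ((S : Subgroup G).subtype.comp (dih x y).subtype).codRestrict K
    fun t => (hmem t.1).mpr t.2
  have hb : ∀ b : ℤ, ∀ hb : Even b, (⟨x ^ b * y, (dih_xy h b).mpr hb⟩ : dih x y) ∈ H.comap j := by
    intro b hb
    exact klein_elems_mem h hJ K hodd H hH hb hj' ((hmem _).mpr ((dih_xy h b).mpr hb))
  have hall : (H.comap j).map (dih x y).subtype = dih x y := by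
    refine le_antisymm (Subgroup.map_subtype_le _) ((closure_le _).mpr ?_)
    have h0 : y ∈ (H.comap j).map (dih x y).subtype :=
      ⟨_, hb 0 ⟨0, rfl⟩, by simp⟩
    have h2 : x ^ (2 : ℤ) * y ∈ (H.comap j).map (dih x y).subtype := ⟨_, hb 2 ⟨1, rfl⟩, rfl⟩
    rintro w (rfl | rfl)
    · have h4 := Subgroup.mul_mem _ h2 (Subgroup.inv_mem _ h0)
      rwa [mul_inv_cancel_right] at h4
    · exact h0
  rw [← hall] at hs
  obtain ⟨t, ht, e⟩ := hs
  subst e
  exact ht

theorem no_index_two (h : SD (S : Subgroup G) r x y)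
    (hI : IsConj ((x ^ (2 * r : ℤ) : (S : Subgroup G)) : G)
        ((x ^ (1 : ℤ) * y : (S : Subgroup G)) : G))
    (hJ : IsConj ((x ^ (4 * r : ℤ) : (S : Subgroup G)) : G)
        ((x ^ (0 : ℤ) * y : (S : Subgroup G)) : G)) (H : Subgroup G) : H.index ≠ 2 := by
  intro hH
  have hH' : (H.comap (⊤ : Subgroup G).subtype).index = 2 := by
    rw [Subgroup.index_comap_of_surjective H (fun g => ⟨⟨g, mem_top g⟩, rfl⟩), hH]
  have hodd : ∀ g : G, Odd (orderOf g) → g ∈ (⊤ : Subgroup G) := fun g _ => mem_top g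
  have h1 : ((x ^ (1 : ℤ) * y : (S : Subgroup G)) : G) ∈ H :=
    (quat_elems_mem h hI ⊤ hodd _ hH' odd_one (mem_top _) (mem_top _)).2
  have h2 : ((x ^ (0 : ℤ) * y : (S : Subgroup G)) : G) ∈ H :=
    klein_elems_mem h hJ ⊤ hodd _ hH' (a := 0) ⟨0, rfl⟩ (mem_top _) (mem_top _)
  rw [zpow_zero, one_mul] at h2
  have hxH : (x : G) ∈ H := by
    have := H.mul_mem h1 h2
    rw [← Subgroup.coe_mul, mul_assoc, yy h, mul_one, zpow_one] at this
    exact this
  have hSH : (S : Subgroup G) ≤ H := by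
    intro g hg
    obtain ⟨k, e | e⟩ := h.gen ⟨g, hg⟩
    · rw [show g = ((x ^ k : (S : Subgroup G)) : G) from congrArg Subtype.val e, Subgroup.coe_zpow]
      exact H.zpow_mem hxH k
    · rw [show g = ((x ^ k * y : (S : Subgroup G)) : G) from congrArg Subtype.val e, Subgroup.coe_mul,
        Subgroup.coe_zpow]
      exact H.mul_mem (H.zpow_mem hxH k) h2
  have hf : Fact (Nat.Prime 2) := ⟨Nat.prime_two⟩
  have h3 := Subgroup.index_dvd_of_le hSH
  rw [hH] at h3
  exact S.not_dvd_index h3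

theorem normal_complement (h : SD (S : Subgroup G) r x y)
    (hI : ¬ IsConj ((x ^ (2 * r : ℤ) : (S : Subgroup G)) : G)
        ((x ^ (1 : ℤ) * y : (S : Subgroup G)) : G))
    (hJ : ¬ IsConj ((x ^ (4 * r : ℤ) : (S : Subgroup G)) : G)
        ((x ^ (0 : ℤ) * y : (S : Subgroup G)) : G)) : Cfsg.HasNormalPComplement 2 G := by
  have hf : Fact (Nat.Prime 2) := ⟨Nat.prime_two⟩
  obtain ⟨K1, hK1, -, hm1, ho1, -⟩ := exists_quat_normal h hJ
  obtain ⟨K2, hK2, -, hm2, ho2, -⟩ := exists_dih_normal h hI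
  set K := K1 ⊓ K2 with hKdef
  have hres : Cfsg.pResidual 2 G ≤ K :=
    CfsgLib.Transfer.pResidual_le_iff.mpr fun g hg =>
      ⟨ho1 g (Nat.coprime_two_right.mp hg), ho2 g (Nat.coprime_two_right.mp hg)⟩
  refine CfsgLib.Transfer.hasNormalPComplement_of_le K hres ?_
  have hSK : ∀ s : (S : Subgroup G), (s : G) ∈ K → s ∈ zpowers x := by
    rintro s ⟨h1, h2⟩
    obtain ⟨k, rfl | rfl⟩ := h.gen s
    · exact zpow_mem_zpowers x k
    · exact absurd ((dih_xy h k).mp ((hm2 _).mp h2))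
        (Int.not_even_iff_odd.mpr ((quat_xy h k).mp ((hm1 _).mp h1)))
  obtain ⟨P⟩ := (inferInstance : Nonempty (Sylow 2 K))
  have hPp : IsPGroup 2 ((P : Subgroup K).map K.subtype) := P.isPGroup'.map _
  obtain ⟨R, hR⟩ := hPp.exists_le_sylow
  obtain ⟨g, hg⟩ := MulAction.exists_smul_eq G R S
  have hK : K.Normal := Subgroup.normal_inf_normal K1 K2
  have hcoe : cj g (R : Subgroup G) = (S : Subgroup G) := by rw [← hg]; rfl
  have hmemS : ∀ p : (P : Subgroup K), g * ((p : K) : G) * g⁻¹ ∈ (S : Subgroup G) := fun p =>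
    hcoe ▸ conj_mem_cj (hR ⟨_, p.2, rfl⟩)
  let f : (P : Subgroup K) →* zpowers x :=
    { toFun := fun p => ⟨⟨g * ((p : K) : G) * g⁻¹, hmemS p⟩,
        hSK _ (hK.conj_mem _ (p : K).2 g)⟩
      map_one' := Subtype.ext (Subtype.ext (by simp))
      map_mul' := fun p q => Subtype.ext (Subtype.ext (by simp [mul_assoc])) }
  have hf' : Function.Injective f := fun p q e => by
    have e' := congrArg (fun w : zpowers x => ((w : (S : Subgroup G)) : G)) e
    exact Subtype.ext (Subtype.ext (mul_left_cancel (mul_right_cancel e')))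
  have hcyc : IsCyclic (P : Subgroup K) := isCyclic_of_injective f hf'
  have hxK : ((x ^ (4 * r : ℤ) : (S : Subgroup G)) : G) ∈ K :=
    ⟨(hm1 _).mpr ((quat_zpow h _).mpr ⟨2 * (r : ℤ), by ring⟩),
      (hm2 _).mpr ((dih_zpow h _).mpr ⟨2 * (r : ℤ), by ring⟩)⟩
  have hmin : (Nat.card K).minFac = 2 := by
    rw [Nat.minFac_eq_two_iff]
    have ho : orderOf (⟨_, hxK⟩ : K) = 2 := by
      rw [← Subgroup.orderOf_coe]
      show orderOf ((x ^ (4 * r : ℤ) : (S : Subgroup G)) : G) = 2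
      rw [Subgroup.orderOf_coe]
      exact (orderOf_zpow_eq_two h).mpr rfl
    rw [← ho]
    exact orderOf_dvd_natCard _
  exact CfsgLib.Transfer.hasNormalPComplement_of_normalizer_le P
    (hcyc.normalizer_le_centralizer hmin)

theorem center_weaklyClosed (h : SD (S : Subgroup G) r x y)
    (hJ : ¬ IsConj ((x ^ (4 * r : ℤ) : (S : Subgroup G)) : G)
        ((x ^ (0 : ℤ) * y : (S : Subgroup G)) : G)) :
    Cfsg.IsWeaklyClosed ((center (S : Subgroup G)).map (S : Subgroup G).subtype) (S : Subgroup G) := by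
  refine ⟨Subgroup.map_subtype_le _, fun g hg => ?_⟩
  set J : (S : Subgroup G) := x ^ (4 * r : ℤ) with hJdef
  have hZ : (center (S : Subgroup G)).map (S : Subgroup G).subtype = zpowers (J : G) := by
    rw [center_eq h, MonoidHom.map_zpowers]
    rfl
  rw [hZ] at hg ⊢
  rw [MonoidHom.map_zpowers] at hg ⊢
  change zpowers (g * (J : G) * g⁻¹) = _
  have hmem : g * (J : G) * g⁻¹ ∈ (S : Subgroup G) := hg (mem_zpowers _)
  have ho : orderOf (⟨_, hmem⟩ : (S : Subgroup G)) = 2 := by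
    rw [orderOf_conj_coe hmem]; exact (orderOf_zpow_eq_two h).mpr rfl
  rcases involution_cases h ho with e | ⟨a, ha, e⟩
  · rw [show g * (J : G) * g⁻¹ = (J : G) from congrArg Subtype.val e]
  · exfalso
    apply hJ
    refine (isConj_iff.mpr ⟨g, congrArg Subtype.val e⟩ : IsConj (J : G) _).trans
      (isConj_coe (isConj_xy h ?_))
    simpa using even_iff_two_dvd.mp ha

theorem orderOf_J (h : SD (S : Subgroup G) r x y) :
    orderOf ((x ^ (4 * r : ℤ) : (S : Subgroup G)) : G) = 2 := by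
  rw [Subgroup.orderOf_coe]; exact (orderOf_zpow_eq_two h).mpr rfl

theorem orderOf_Y (h : SD (S : Subgroup G) r x y) :
    orderOf ((x ^ (0 : ℤ) * y : (S : Subgroup G)) : G) = 2 := by
  rw [Subgroup.orderOf_coe]; exact orderOf_xy_even h ⟨0, rfl⟩

theorem orderOf_I (h : SD (S : Subgroup G) r x y) :
    orderOf ((x ^ (2 * r : ℤ) : (S : Subgroup G)) : G) = 4 := by
  rw [Subgroup.orderOf_coe]; exact (orderOf_zpow_eq_four h).mpr (Or.inl rfl)

theorem orderOf_W (h : SD (S : Subgroup G) r x y) :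
    orderOf ((x ^ (1 : ℤ) * y : (S : Subgroup G)) : G) = 4 := by
  rw [Subgroup.orderOf_coe]; exact orderOf_xy_odd h odd_one

/-- Everything the indices of the two normalizers determine. -/
theorem local_dichotomy (hS : Cfsg.IsQuasiDihedral (S : Subgroup G)) {T : Subgroup G}
    (hT : IsKleinFour T) (hTS : T ≤ (S : Subgroup G)) {Q : Subgroup G}
    (hQS : Q ≤ (S : Subgroup G)) (eQ : Q ≃* QuaternionGroup 2) :
    ∃ (r : ℕ) (x y : (S : Subgroup G)), SD (S : Subgroup G) r x y ∧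
      (((centralizer (T : Set G)).relIndex (normalizer (T : Set G)) = 2 ∧
          ¬ IsConj ((x ^ (4 * r : ℤ) : (S : Subgroup G)) : G)
            ((x ^ (0 : ℤ) * y : (S : Subgroup G)) : G)) ∨
        ((centralizer (T : Set G)).relIndex (normalizer (T : Set G)) = 6 ∧
          IsConj ((x ^ (4 * r : ℤ) : (S : Subgroup G)) : G)
            ((x ^ (0 : ℤ) * y : (S : Subgroup G)) : G))) ∧
      (((Q ⊔ centralizer (Q : Set G)).relIndex (normalizer (Q : Set G)) = 2 ∧
          ¬ IsConj ((x ^ (2 * r : ℤ) : (S : Subgroup G)) : G)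
            ((x ^ (1 : ℤ) * y : (S : Subgroup G)) : G)) ∨
        ((Q ⊔ centralizer (Q : Set G)).relIndex (normalizer (Q : Set G)) = 6 ∧
          IsConj ((x ^ (2 * r : ℤ) : (S : Subgroup G)) : G)
            ((x ^ (1 : ℤ) * y : (S : Subgroup G)) : G))) := by
  obtain ⟨r, x, y, h⟩ := exists_sd hS
  refine ⟨r, x, y, h, ?_, ?_⟩
  · have hTK : IsKleinFour (T.subgroupOf (S : Subgroup G)) :=
      ⟨by rw [Nat.card_congr (subgroupOfEquivOfLe hTS).toEquiv]; exact hT.card_four,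
        by rw [Monoid.exponent_eq_of_mulEquiv (subgroupOfEquivOfLe hTS)]; exact hT.exponent_two⟩
    obtain ⟨a, ha, haT, -⟩ := exists_xy_of_klein h hTK
    rcases klein_index h hT hTS ha haT with h2 | ⟨h6, hc, -⟩
    · exact Or.inl h2
    · exact Or.inr ⟨h6, hc⟩
  · obtain ⟨a, ha, haQ, -, -, -⟩ := q8_struct h ((subgroupOfEquivOfLe hQS).trans eQ)
    rcases q8_index h hQS eQ ha haQ with h2 | ⟨h6, hc, -⟩
    · exact Or.inl h2
    · exact Or.inr ⟨h6, hc⟩

end CfsgLib.TwoGroups.SDF
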