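import Cfsg.Agent.Lib.TwoGroups.WreathedSmallV
import Cfsg.Agent.Lib.TwoGroups.SemidihedralCases
import Cfsg.Agent.Lib.Involutions.Transfer
import Cfsg.Agent.Lib.Involutions.WeaklyClosedCentral
import Cfsg.Agent.Lib.Structure.MinimalNormal

/-!
Groups without subgroups of index 2 whose Sylow 2-subgroups are semidihedral or wreathed:
involution centralizers, and the simple normal subgroup of odd index.
-/

set_option autoImplicit false
set_option linter.unusedSectionVars false

namespace CfsgLib.TwoGroups.RankTwo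

open Subgroup CfsgLib.TwoGroups.FT CfsgLib.TwoGroups.WR CfsgLib.TwoGroups.WRF
  CfsgLib.TwoGroups.WRC

universe u

theorem wr_map {S T : Type*} [Group S] [Group T] {n : ℕ} {x y z : S} (h : WR S n x y z)
    (e : S ≃* T) : WR T n (e x) (e y) (e z) ∧
      ∀ a b : ℤ, el (e x) (e y) a b = e (el x y a b) := by
  have hel : ∀ a b : ℤ, el (e x) (e y) a b = e (el x y a b) := fun a b => by
    simp [el, map_zpow]
  refine ⟨⟨h.two_le, by rw [← map_mul, h.comm, map_mul], fun a b c d => ?_, ?_, ?_, ?_, fun g => ?_,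
    fun a b he => ?_⟩, hel⟩
  · rw [hel, hel, e.apply_eq_iff_eq]; exact h.eq_iff a b c d
  · rw [MulEquiv.orderOf_eq, h.ordz]
  · rw [← map_inv, ← map_mul, ← map_mul, h.rel]
  · rw [← Nat.card_congr e.toEquiv, h.card]
  · obtain ⟨a, b, hab⟩ := h.gen (e.symm g)
    refine ⟨a, b, hab.imp (fun hh => ?_) fun hh => ?_⟩
    · rw [hel, ← hh, MulEquiv.apply_symm_apply]
    · rw [hel, ← map_mul, ← hh, MulEquiv.apply_symm_apply]
  · rw [hel] at he
    exact h.ne a b (e.injective he)

theorem sd_map {S T : Type*} [Group S] [Group T] {r : ℕ} {x y : S} (h : SD.SD S r x y)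
    (e : S ≃* T) : SD.SD T r (e x) (e y) := by
  refine ⟨h.pow_two', ?_, ?_, ?_, ?_, fun g => ?_, fun hm => ?_⟩
  · rw [MulEquiv.orderOf_eq, h.ordx]
  · rw [MulEquiv.orderOf_eq, h.ordy]
  · rw [← map_inv, ← map_mul, ← map_mul, h.rel, map_zpow]
  · rw [← Nat.card_congr e.toEquiv, h.card]
  · obtain ⟨k, hk⟩ := h.gen (e.symm g)
    refine ⟨k, hk.imp (fun hh => ?_) fun hh => ?_⟩
    · rw [← map_zpow, ← hh, MulEquiv.apply_symm_apply]
    · rw [← map_zpow, ← map_mul, ← hh, MulEquiv.apply_symm_apply]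
  · obtain ⟨k, hk⟩ := hm
    exact h.notMem ⟨k, e.injective (by rw [map_zpow]; exact hk)⟩

theorem exists_index_two {G : Type*} [Group G] [Finite G] {K : Subgroup G} [K.Normal] {m : ℕ}
    (hm : 1 ≤ m) (hK : K.index = 2 ^ m) : ∃ H : Subgroup G, H.index = 2 := by
  have hf : Fact (Nat.Prime 2) := ⟨Nat.prime_two⟩
  have hc : Nat.card (G ⧸ K) = 2 ^ m := hK
  obtain ⟨M, hM⟩ := Sylow.exists_subgroup_card_pow_prime (G := G ⧸ K) 2 (n := m - 1)
    (by rw [hc]; exact pow_dvd_pow 2 (Nat.sub_le m 1))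
  refine ⟨M.comap (QuotientGroup.mk' K), ?_⟩
  rw [index_comap_of_surjective _ (QuotientGroup.mk'_surjective K)]
  have h1 := M.card_mul_index
  rw [hM, hc] at h1
  refine Nat.eq_of_mul_eq_mul_left (pow_pos two_pos (m - 1)) ?_
  rw [h1, ← pow_succ, Nat.sub_add_cancel hm]

section Sylow

variable {G : Type u} [Group G] [Finite G]

/-- The conclusion about an involution centralizer. -/
def GoodCentralizer (S : Sylow 2 G) (t : G) : Prop :=
  ∃ R : Sylow 2 ↥(centralizer ({t} : Set G)), Nat.card R = Nat.card S ∧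
    (∃ K : Subgroup ↥(centralizer ({t} : Set G)), K.Normal ∧ (∃ a : ℕ, K.index = 2 ^ a) ∧
      (∀ H : Subgroup ↥K, H.index ≠ 2) ∧
      (∀ P : Sylow 2 ↥K, ∃ m : ℕ, 1 ≤ m ∧
        Nonempty ((P : Subgroup ↥K) ≃* QuaternionGroup (2 ^ m)))) ∧
    (∀ W : Subgroup ↥(centralizer ({t} : Set G)),
      W ≤ ((center (R : Subgroup ↥(centralizer ({t} : Set G)))).map
        (R : Subgroup ↥(centralizer ({t} : Set G))).subtype) →
      Cfsg.IsWeaklyClosed W (R : Subgroup ↥(centralizer ({t} : Set G))))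

/-- Coordinates on a Sylow subgroup in which a conjugate of a given element takes a given place. -/
theorem exists_sylow_at (S : Sylow 2 G) {J : (S : Subgroup G)} {t : G} (ht : IsConj t (J : G)) :
    ∃ (S' : Sylow 2 G) (e : (S : Subgroup G) ≃* (S' : Subgroup G)),
      ((e J : (S' : Subgroup G)) : G) = t := by
  obtain ⟨g, hg⟩ := isConj_iff.mp ht
  have h1 : ∀ s : (S : Subgroup G), g⁻¹ * (s : G) * g⁻¹⁻¹ ∈ ((g⁻¹ • S : Sylow 2 G) : Subgroup G) :=
    fun s => ⟨(s : G), s.2, rfl⟩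
  refine ⟨g⁻¹ • S, ((S : Subgroup G).equivMapOfInjective _ (MulAut.conj g⁻¹).injective).trans
    (MulEquiv.subgroupCongr rfl), ?_⟩
  show g⁻¹ * (J : G) * g⁻¹⁻¹ = t
  rw [← hg]; group

theorem le_centralizer_of_central {S : Sylow 2 G} {J : (S : Subgroup G)}
    (hJ : J ∈ center (S : Subgroup G)) : (S : Subgroup G) ≤ centralizer ({(J : G)} : Set G) :=
  fun s hs => mem_centralizer_singleton_iff.mpr
    (congrArg Subtype.val (Subgroup.mem_center_iff.mp hJ ⟨s, hs⟩))

end Sylow

section Wreathed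

variable {G : Type u} [Group G] [Finite G] {S : Sylow 2 G} {n : ℕ} {x y z : (S : Subgroup G)}

theorem wr_indices (h : WR (S : Subgroup G) n x y z) (hG : ∀ H : Subgroup G, H.index ≠ 2) :
    (centralizer (uG h : Set G)).relIndex (normalizer (uG h : Set G)) = 6 ∧
      (vG h ⊔ centralizer (vG h : Set G)).relIndex (normalizer (vG h : Set G)) = 6 := by
  have hv : (vG h ⊔ centralizer (vG h : Set G)).relIndex (normalizer (vG h : Set G)) = 6 := by
    rcases v_index h with ⟨h2, -⟩ | ⟨h6, -⟩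
    · obtain ⟨K, -, hi, -⟩ := exists_base_normal h h2
      exact absurd hi (hG K)
    · exact h6
  refine ⟨?_, hv⟩
  rcases u_index h with ⟨h2, -⟩ | ⟨h6, -⟩
  · obtain ⟨⟨K, hK, hi, -⟩, -⟩ := quat_case h h2 hv
    obtain ⟨H, hH⟩ := exists_index_two (K := K) (npos h) hi
    exact absurd hH (hG H)
  · exact h6

theorem wr_isConj_jE (h : WR (S : Subgroup G) n x y z) (hG : ∀ H : Subgroup G, H.index ≠ 2) {t : G}
    (ht : orderOf t = 2) : IsConj t (jE h : G) := by
  obtain ⟨hu, hv⟩ := wr_indices h hG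
  have hJE := isConj_jE_eE h hu
  have hEz := isConj_eE_z h hv
  rcases involution_class h ht with e | e | e
  · exact e
  · exact e.trans hJE.symm
  · exact (e.trans hEz.symm).trans hJE.symm

theorem wr_centralizer (h : WR (S : Subgroup G) n x y z) (hG : ∀ H : Subgroup G, H.index ≠ 2) {t : G}
    (ht : orderOf t = 2) : GoodCentralizer S t := by
  obtain ⟨S', e, hJ⟩ := exists_sylow_at S (wr_isConj_jE h hG ht)
  obtain ⟨h', hel⟩ := wr_map h e
  have hJ' : (jE h' : G) = t := by rw [jE, hel]; exact hJ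
  have hle : (S' : Subgroup G) ≤ centralizer ({t} : Set G) :=
    hJ' ▸ le_centralizer_of_central (jE_central h')
  set C := centralizer ({t} : Set G)
  set R := S'.subtype hle with hR
  set e2 : (S' : Subgroup G) ≃* (R : Subgroup C) := (subgroupOfEquivOfLe hle).symm with he2
  have hcoe : ∀ v : (S' : Subgroup G), (((e2 v : (R : Subgroup C)) : C) : G) = (v : G) := fun v => rfl
  obtain ⟨h2, hel2⟩ := wr_map (T := (R : Subgroup C)) h' e2
  have hcent : ∀ c : C, Commute (c : G) t := fun c => mem_centralizer_singleton_iff.mp c.2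
  have hu2 : (centralizer (uG h2 : Set C)).relIndex (normalizer (uG h2 : Set C)) = 2 := by
    rcases u_index h2 with ⟨hh, -⟩ | ⟨-, hc, -⟩
    · exact hh
    · exfalso
      obtain ⟨c, hc⟩ := isConj_iff.mp hc
      have hc' := congrArg Subtype.val hc
      rw [Subgroup.coe_mul, Subgroup.coe_mul, Subgroup.coe_inv, hel2, hel2, hcoe, hcoe] at hc'
      have h3 : (el (e x) (e y) (2 ^ (n - 1)) (2 ^ (n - 1)) : (S' : Subgroup G)) = jE h' := rfl
      rw [h3, hJ', (hcent c).eq, mul_inv_cancel_right] at hc'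
      have h4 : eE h' = jE h' := Subtype.ext (hc'.symm.trans hJ'.symm)
      exact eE_not_central h' (by rw [h4]; exact jE_central h')
  have hv2 : (vG h2 ⊔ centralizer (vG h2 : Set C)).relIndex (normalizer (vG h2 : Set C)) = 6 := by
    rcases v_index h2 with ⟨hh, -⟩ | ⟨hh, -⟩
    · exfalso
      obtain ⟨-, hv'⟩ := wr_indices h' hG
      obtain ⟨g, -, -, hfix, ⟨a, ha⟩, -⟩ := v_data h' hv'
      have hgC : g ∈ C := by
        refine mem_centralizer_singleton_iff.mpr ?_
        have := hfix _ (jE_central h')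
        rw [hJ'] at this
        exact mul_inv_eq_iff_eq_mul.mp this
      refine separation h2 hh (s := el (e2 (e x)) (e2 (e y)) a (-a) * e2 (e z)) (t := eE h2)
        (elz_not_mem_base h2 _ _) (el_mem_base h2 _ _) ?_
      refine (isConj_iff.mpr ⟨⟨g, hgC⟩, ?_⟩ : IsConj ((eE h2 : (R : Subgroup C)) : C) _).symm
      apply Subtype.ext
      rw [Subgroup.coe_mul, Subgroup.coe_mul, Subgroup.coe_inv, eE, hel2, hel2, ← map_mul, hcoe, hcoe]
      exact ha
    · exact hh
  refine ⟨R, ?_, ?_, fun W hW => center_weaklyClosed h2 hu2 hv2 W hW⟩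
  · show Nat.card (R : Subgroup C) = Nat.card (S : Subgroup G)
    rw [← Nat.card_congr e2.toEquiv, ← Nat.card_congr e.toEquiv]
  · obtain ⟨⟨K, hK, hi, hP, hno⟩, -⟩ := quat_case h2 hu2 hv2
    exact ⟨K, hK, ⟨n, hi⟩, hno, hP⟩

end Wreathed

section Semidihedral

variable {G : Type u} [Group G] [Finite G] {S : Sylow 2 G} {r : ℕ} {x y : (S : Subgroup G)}

theorem sd_fusion (h : SD.SD (S : Subgroup G) r x y) (hG : ∀ H : Subgroup G, H.index ≠ 2) :
    IsConj ((x ^ (2 * r : ℤ) : (S : Subgroup G)) : G) ((x ^ (1 : ℤ) * y : (S : Subgroup G)) : G) ∧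
      IsConj ((x ^ (4 * r : ℤ) : (S : Subgroup G)) : G)
        ((x ^ (0 : ℤ) * y : (S : Subgroup G)) : G) := by
  constructor
  · by_contra hI
    obtain ⟨K, -, hi, -⟩ := SDF.exists_dih_normal h hI
    exact hG K hi
  · by_contra hJ
    obtain ⟨K, -, hi, -⟩ := SDF.exists_quat_normal h hJ
    exact hG K hi

theorem sd_isConj_J (h : SD.SD (S : Subgroup G) r x y) (hG : ∀ H : Subgroup G, H.index ≠ 2) {t : G}
    (ht : orderOf t = 2) : IsConj t ((x ^ (4 * r : ℤ) : (S : Subgroup G)) : G) := by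
  rcases SDF.cases_two h ht with e | e
  · exact e
  · exact e.trans (sd_fusion h hG).2.symm

theorem sd_centralizer (h : SD.SD (S : Subgroup G) r x y) (hG : ∀ H : Subgroup G, H.index ≠ 2)
    {t : G} (ht : orderOf t = 2) : GoodCentralizer S t := by
  obtain ⟨S', e, hJ⟩ := exists_sylow_at S (sd_isConj_J h hG ht)
  have h' := sd_map h e
  set x' := e x with hx'
  set y' := e y with hy'
  have hJ' : ((x' ^ (4 * r : ℤ) : (S' : Subgroup G)) : G) = t := by rw [hx', ← map_zpow]; exact hJ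
  have hJc : x' ^ (4 * r : ℤ) ∈ center (S' : Subgroup G) := by
    rw [SD.center_eq h']; exact mem_zpowers _
  have hle : (S' : Subgroup G) ≤ centralizer ({t} : Set G) :=
    hJ' ▸ le_centralizer_of_central hJc
  set C := centralizer ({t} : Set G)
  set R := S'.subtype hle with hR
  set e2 : (S' : Subgroup G) ≃* (R : Subgroup C) := (subgroupOfEquivOfLe hle).symm with he2
  have hcoe : ∀ v : (S' : Subgroup G), (((e2 v : (R : Subgroup C)) : C) : G) = (v : G) := fun v => rfl
  have h2 := sd_map (T := (R : Subgroup C)) h' e2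
  have hcent : ∀ c : C, Commute (c : G) t := fun c => mem_centralizer_singleton_iff.mp c.2
  have hJ2 : ¬ IsConj ((e2 x' ^ (4 * r : ℤ) : (R : Subgroup C)) : C)
      ((e2 x' ^ (0 : ℤ) * e2 y' : (R : Subgroup C)) : C) := by
    intro hc
    obtain ⟨c, hc⟩ := isConj_iff.mp hc
    have hc' := congrArg Subtype.val hc
    rw [Subgroup.coe_mul, Subgroup.coe_mul, Subgroup.coe_inv, ← map_zpow e2, hcoe, hJ', (hcent c).eq,
      mul_inv_cancel_right, ← map_zpow e2, ← map_mul e2, hcoe, ← hJ'] at hc'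
    exact SD.not_mem_y h' _ _ (Subtype.ext hc').symm
  have hI2 : IsConj ((e2 x' ^ (2 * r : ℤ) : (R : Subgroup C)) : C)
      ((e2 x' ^ (1 : ℤ) * e2 y' : (R : Subgroup C)) : C) := by
    obtain ⟨g, hg⟩ := isConj_iff.mp (sd_fusion h' hG).1
    have hI4 : (x' ^ (2 * r : ℤ)) ^ 2 = x' ^ (4 * r : ℤ) := by
      rw [← zpow_natCast, ← zpow_mul]; congr 1; push_cast; ring
    have hW4 : (x' ^ (1 : ℤ) * y') ^ 2 = x' ^ (4 * r : ℤ) := by
      rw [SD.xy_sq h', mul_one]
    have hgC : g ∈ C := by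
      refine mem_centralizer_singleton_iff.mpr (mul_inv_eq_iff_eq_mul.mp ?_)
      calc g * t * g⁻¹ = (g * ((x' ^ (2 * r : ℤ) : (S' : Subgroup G)) : G) * g⁻¹) ^ 2 := by
            rw [conj_pow, ← Subgroup.coe_pow, hI4, hJ']
        _ = t := by rw [hg, ← Subgroup.coe_pow, hW4, hJ']
    refine isConj_iff.mpr ⟨⟨g, hgC⟩, Subtype.ext ?_⟩
    rw [Subgroup.coe_mul, Subgroup.coe_mul, Subgroup.coe_inv, ← map_zpow e2, ← map_zpow e2,
      ← map_mul e2, hcoe, hcoe]
    exact hg
  refine ⟨R, ?_, ?_, fun W hW => ?_⟩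
  · show Nat.card (R : Subgroup C) = Nat.card (S : Subgroup G)
    rw [← Nat.card_congr e2.toEquiv, ← Nat.card_congr e.toEquiv]
  · obtain ⟨K, hK, hi, hmem, hodd, hP⟩ := SDF.exists_quat_normal h2 hJ2
    refine ⟨K, hK, ⟨1, by rw [hi, pow_one]⟩, SDF.quat_no_index_two h2 hI2 hmem hodd hP, fun P => ?_⟩
    obtain ⟨m, hm⟩ := h2.pow_two'
    obtain ⟨e'⟩ := SD.nonempty_quat_equiv h2
    rw [show 2 * r = 2 ^ (m + 1) by rw [hm, pow_succ']] at e'
    exact ⟨m + 1, by omega, ⟨(hP P).some.trans e'⟩⟩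
  · set Z := (center (R : Subgroup C)).map (R : Subgroup C).subtype
    have hZc : Nat.card Z = 2 := by
      rw [← Nat.card_congr ((center (R : Subgroup C)).equivMapOfInjective _
        (R : Subgroup C).subtype_injective).toEquiv, SD.card_center h2]
    have hd := card_dvd_of_le hW
    rw [hZc] at hd
    rcases (Nat.dvd_prime Nat.prime_two).mp hd with e1 | e2'
    · rw [card_eq_one.mp e1]
      exact ⟨bot_le, fun g _ => Subgroup.map_bot _⟩
    · rw [Subgroup.eq_of_le_of_card_ge hW (by rw [hZc, e2'])]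
      exact SDF.center_weaklyClosed h2 hJ2

end Semidihedral

section Simple

/-- Some involution `J` such that commuting involutions lie in `{J, w, J * w}`. -/
def RankTwoInvolutions (S : Type*) [Group S] : Prop :=
  ∃ J : S, orderOf J = 2 ∧ ∀ w v : S, orderOf w = 2 → orderOf v = 2 → w ≠ J → Commute v w →
    v = J ∨ v = w ∨ v = J * w

theorem rankTwo_sd {S : Type*} [Group S] {r : ℕ} {x y : S} (h : SD.SD S r x y) :
    RankTwoInvolutions S := by
  refine ⟨x ^ (4 * r : ℤ), (SD.orderOf_zpow_eq_two h).mpr rfl, fun w v hw hv hwJ hc => ?_⟩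
  obtain ⟨a, ha, rfl⟩ := (SD.involution_cases h hw).resolve_left hwJ
  rcases SD.involution_cases h hv with rfl | ⟨b, hb, rfl⟩
  · exact Or.inl rfl
  right
  obtain ⟨k, hk⟩ : ∃ k : ℤ, x ^ b * y * (x ^ a * y) = x ^ k := by
    obtain ⟨k, hk | hk⟩ := h.gen (x ^ b * y * (x ^ a * y))
    · exact ⟨k, hk⟩
    · rw [SD.xy_mul_xy h] at hk
      exact absurd hk.symm (SD.not_mem_y h _ _)
  have hsq : x ^ a * y * (x ^ a * y) = 1 := by
    have e := pow_orderOf_eq_one (x ^ a * y)
    rwa [hw, pow_two] at e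
  have hk' : x ^ b * y = x ^ k * (x ^ a * y) := by
    rw [← hk, mul_assoc (x ^ b * y), hsq, mul_one]
  have hck : Commute (x ^ k) (x ^ a * y) := by
    rw [← hk]; exact hc.mul_left (Commute.refl _)
  obtain ⟨c, rfl⟩ := (SD.commute_pow_xy h).mp hck
  rw [hk', zpow_mul]
  have hJ2 : (x ^ (4 * r : ℤ)) ^ (2 : ℤ) = 1 := by
    rw [← zpow_mul, SD.zpow_x_eq_one h]; exact ⟨1, by ring⟩
  rcases Int.even_or_odd c with ⟨d, rfl⟩ | ⟨d, rfl⟩
  · left
    rw [← two_mul, zpow_mul, hJ2, one_zpow, one_mul]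
  · right
    rw [zpow_add_one, zpow_mul, hJ2, one_zpow, one_mul]

theorem rankTwo_wr {S : Type*} [Group S] [Finite S] {n : ℕ} {x y z : S} (h : WR S n x y z) :
    RankTwoInvolutions S := by
  have hd : ¬ (2 : ℤ) ^ n ∣ 2 ^ (n - 1) := not_dvd_half h (npos h)
  have hJo : orderOf (el x y (2 ^ (n - 1)) (2 ^ (n - 1))) = 2 := by
    have h2 : (2 : ℤ) ^ n ∣ 2 * 2 ^ (n - 1) := by rw [two_pow_split h]
    exact orderOf_involution h _ _ h2 h2 fun hh => hd hh.1
  refine ⟨_, hJo, fun w v hw hv hwJ hc => ?_⟩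
  have hsw : w ^ 2 = 1 := orderOf_dvd_iff_pow_eq_one.mp (dvd_of_eq hw)
  have hsv : v ^ 2 = 1 := orderOf_dvd_iff_pow_eq_one.mp (dvd_of_eq hv)
  have hnw : w ≠ 1 := fun e => by simp [e] at hw
  have hnv : v ≠ 1 := fun e => by simp [e] at hv
  have hbase : ∀ {a b : ℤ}, v = el x y a b → v = el x y (2 ^ (n - 1)) 0 ∨
      v = el x y 0 (2 ^ (n - 1)) ∨ v = el x y (2 ^ (n - 1)) (2 ^ (n - 1)) := by
    intro a b hab
    rcases involution_cases h hsv hnv with e | e | e | ⟨i, e⟩
    · exact Or.inl e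
    · exact Or.inr (Or.inl e)
    · exact Or.inr (Or.inr e)
    · exact absurd (e.symm.trans hab) (el_z_ne h _ _ _ _)
  rcases involution_cases h hsw hnw with rfl | rfl | rfl | ⟨i, rfl⟩
  · obtain ⟨c, d, hv' | hv'⟩ := h.gen v
    · rcases hbase hv' with e | e | e
      · exact Or.inr (Or.inl e)
      · refine Or.inr (Or.inr ?_)
        rw [e, el_mul h, h.eq_iff]
        constructor
        · rw [zero_sub, dvd_neg, ← two_mul, ← two_pow_split h]
        · simp
      · exact Or.inl e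
    · exfalso
      rw [hv'] at hc
      exact hd (by simpa using (commute_el_elz h).mp hc.symm)
  · obtain ⟨c, d, hv' | hv'⟩ := h.gen v
    · rcases hbase hv' with e | e | e
      · refine Or.inr (Or.inr ?_)
        rw [e, el_mul h, h.eq_iff]
        constructor
        · simp
        · rw [zero_sub, dvd_neg, ← two_mul, ← two_pow_split h]
      · exact Or.inr (Or.inl e)
      · exact Or.inl e
    · exfalso
      rw [hv'] at hc
      exact hd (by simpa using (commute_el_elz h).mp hc.symm)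
  · exact absurd rfl hwJ
  · obtain ⟨c, rfl | rfl⟩ := (centralizer_elz h).mp hc
    · rcases involution_cases h hsv hnv with e | e | e | ⟨j, e⟩
      · exact absurd ((commute_el_elz h).mp (e ▸ hc)) (by simpa using hd)
      · exact absurd ((commute_el_elz h).mp (e ▸ hc)) (by simpa using hd)
      · exact Or.inl e
      · exact absurd e.symm (el_z_ne h _ _ _ _)
    · right
      rw [← mul_assoc, el_mul h, el_z_sq h, el_eq_one h] at hsv
      have h2 : (2 : ℤ) ^ n ∣ c * 2 := by
        rw [show c + i + (c + -i) = c * 2 by ring] at hsv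
        exact hsv.1
      rcases half_sq h h2 with h0 | h1
      · left
        rw [(el_eq_one h).mpr ⟨h0, h0⟩, one_mul]
      · right
        rw [(h.eq_iff c c (2 ^ (n - 1)) (2 ^ (n - 1))).mpr ⟨h1, h1⟩]

variable {G : Type u} [Group G] [Finite G]

theorem no_three (S : Sylow 2 G) (hS : RankTwoInvolutions (S : Subgroup G)) {p q w : G}
    (hp : orderOf p = 2) (hq : orderOf q = 2) (hw : orderOf w = 2) (hpq : Commute p q)
    (hpw : Commute p w) (hqw : Commute q w) (hne : p ≠ q) :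
    w = p ∨ w = q ∨ w = p * q := by
  have hf : Fact (Nat.Prime 2) := ⟨Nat.prime_two⟩
  set E := Subgroup.closure ({p, q, w} : Set G) with hE
  have hcomm : IsMulCommutative E := by
    refine Subgroup.isMulCommutative_closure ?_
    rintro a (rfl | rfl | rfl) b (rfl | rfl | rfl)
    exacts [rfl, hpq.eq, hpw.eq, hpq.eq.symm, rfl, hqw.eq, hpw.eq.symm, hqw.eq.symm, rfl]
  have hsq : ∀ e : E, e ^ 2 = 1 := by
    rintro ⟨e, he⟩
    apply Subtype.ext
    show e ^ 2 = 1
    induction he using Subgroup.closure_induction with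
    | mem a ha =>
      rcases ha with rfl | rfl | rfl
      exacts [orderOf_dvd_iff_pow_eq_one.mp (dvd_of_eq hp), orderOf_dvd_iff_pow_eq_one.mp (dvd_of_eq hq),
        orderOf_dvd_iff_pow_eq_one.mp (dvd_of_eq hw)]
    | one => exact one_pow 2
    | mul a b ha hb iha ihb =>
      have hab : Commute a b := congrArg Subtype.val (hcomm.1.comm ⟨a, ha⟩ ⟨b, hb⟩)
      rw [hab.mul_pow, iha, ihb, one_mul]
    | inv a _ iha => rw [inv_pow, iha, inv_one]
  obtain ⟨R, hR⟩ := (IsPGroup.exists_le_sylow (p := 2) (P := E) fun e => ⟨1, by rw [pow_one]; exact hsq e⟩)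
  obtain ⟨g, hg⟩ := MulAction.exists_smul_eq G R S
  have hmem : ∀ {a : G}, a ∈ E → g * a * g⁻¹ ∈ (S : Subgroup G) := fun ha => by
    rw [← hg]; exact ⟨_, hR ha, rfl⟩
  obtain ⟨J, hJ, hJw⟩ := hS
  set P : (S : Subgroup G) := ⟨_, hmem (subset_closure (Or.inl rfl) : p ∈ E)⟩ with hP
  set Q : (S : Subgroup G) := ⟨_, hmem (subset_closure (Or.inr (Or.inl rfl)) : q ∈ E)⟩ with hQ
  set W : (S : Subgroup G) := ⟨_, hmem (subset_closure (Or.inr (Or.inr rfl)) : w ∈ E)⟩ with hW
  have ho : ∀ (a : G) (ha : g * a * g⁻¹ ∈ (S : Subgroup G)), orderOf a = 2 →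
      orderOf (⟨_, ha⟩ : (S : Subgroup G)) = 2 := fun a ha h2 => by
    rw [← Subgroup.orderOf_coe]
    show orderOf (MulAut.conj g a) = 2
    rw [MulEquiv.orderOf_eq, h2]
  have hPo : orderOf P = 2 := ho p _ hp
  have hQo : orderOf Q = 2 := ho q _ hq
  have hWo : orderOf W = 2 := ho w _ hw
  have hPQ : Commute P Q := Subtype.ext (WRC.conj_commute g hpq).eq
  have hPW : Commute P W := Subtype.ext (WRC.conj_commute g hpw).eq
  have hQW : Commute Q W := Subtype.ext (WRC.conj_commute g hqw).eq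
  have hPne : P ≠ Q := fun e => hne (mul_left_cancel (mul_right_cancel (congrArg Subtype.val e)))
  have hJJ : J * J = 1 := by rw [← pow_two]; exact orderOf_dvd_iff_pow_eq_one.mp (dvd_of_eq hJ)
  have key : W = P ∨ W = Q ∨ W = P * Q := by
    by_cases hPJ : P = J
    · rcases hJw Q W hQo hWo (fun e => hPne (hPJ.trans e.symm)) hQW.symm with e | e | e
      · exact Or.inl (e.trans hPJ.symm)
      · exact Or.inr (Or.inl e)
      · exact Or.inr (Or.inr (by rw [hPJ]; exact e))
    · rcases hJw P Q hPo hQo hPJ hPQ.symm with e1 | e1 | e1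
      · rcases hJw P W hPo hWo hPJ hPW.symm with e | e | e
        · exact Or.inr (Or.inl (e.trans e1.symm))
        · exact Or.inl e
        · exact Or.inr (Or.inr (by rw [hPQ.eq, e1]; exact e))
      · exact absurd e1.symm hPne
      · rcases hJw P W hPo hWo hPJ hPW.symm with e | e | e
        · refine Or.inr (Or.inr ?_)
          have hP2 : P * P = 1 := by
            rw [← pow_two]; exact orderOf_dvd_iff_pow_eq_one.mp (dvd_of_eq hPo)
          rw [hPQ.eq, e1, e, mul_assoc, hP2, mul_one]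
        · exact Or.inl e
        · exact Or.inr (Or.inl (e.trans e1.symm))
  rcases key with e | e | e
  · exact Or.inl (mul_left_cancel (mul_right_cancel (congrArg Subtype.val e)))
  · exact Or.inr (Or.inl (mul_left_cancel (mul_right_cancel (congrArg Subtype.val e))))
  · refine Or.inr (Or.inr (mul_left_cancel (a := g) (mul_right_cancel (b := g⁻¹) ?_)))
    have e' := congrArg Subtype.val e
    rw [Subgroup.coe_mul] at e'
    show g * w * g⁻¹ = g * (p * q) * g⁻¹
    rw [show g * (p * q) * g⁻¹ = g * p * g⁻¹ * (g * q * g⁻¹) by group]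
    exact e'

/-- A nonabelian simple group of even order contains two commuting involutions. -/
theorem exists_four {T : Type u} [Group T] [Finite T] [IsSimpleGroup T] (hT : ¬ IsMulCommutative T)
    (heven : 2 ∣ Nat.card T) :
    ∃ a b : T, orderOf a = 2 ∧ orderOf b = 2 ∧ a ≠ b ∧ Commute a b := by
  have hf : Fact (Nat.Prime 2) := ⟨Nat.prime_two⟩
  obtain ⟨a, ha⟩ := exists_prime_orderOf_dvd_card' 2 heven
  by_contra hne
  have hiso : Cfsg.IsIsolatedInvolution a := by
    refine ⟨ha, fun g hg => ?_⟩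
    by_contra hne'
    exact hne ⟨a, g * a * g⁻¹, ha, (CfsgLib.Involutions.orderOf_conj_eq g a).trans ha,
      Ne.symm hne', hg⟩
  have hz := CfsgLib.Involutions.zstar T a hiso
  have hO : Cfsg.pPrimeCore 2 T = ⊥ := by
    refine (Subgroup.Normal.eq_bot_or_eq_top inferInstance).resolve_right fun htop => ?_
    have h1 := CfsgLib.PCore.not_dvd_card_pPrimeCore (p := 2) (G := T)
    rw [htop, Nat.card_congr topEquiv.toEquiv] at h1
    exact h1 heven
  have hac : a ∈ center T := Subgroup.mem_center_iff.mpr fun g => by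
    have := hz g
    rw [hO, mem_bot] at this
    exact mul_inv_eq_iff_eq_mul.mp (mul_inv_eq_one.mp this)
  have hct : center T = ⊤ := by
    refine (Subgroup.Normal.eq_bot_or_eq_top inferInstance).resolve_left fun hb => ?_
    rw [hb, mem_bot] at hac
    rw [hac, orderOf_one] at ha
    omega
  exact hT ⟨⟨fun u v => Subgroup.mem_center_iff.mp (hct ▸ mem_top v) u⟩⟩

theorem simple_core (S : Sylow 2 G) (hG : ∀ H : Subgroup G, H.index ≠ 2)
    (hO : Cfsg.pPrimeCore 2 G = ⊥)
    (hclass : ∀ t t' : G, orderOf t = 2 → orderOf t' = 2 → IsConj t t')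
    (hrank : RankTwoInvolutions (S : Subgroup G))
    (hnc : ∃ a ∈ (S : Subgroup G), ∃ b ∈ (S : Subgroup G), orderOf a = 2 ∧ orderOf b = 2 ∧
      ¬ Commute a b)
    (hgen : ∃ s : G, s ∈ (S : Subgroup G) ∧ ∃ w : G, orderOf w = 2 ∧
      (S : Subgroup G) ≤ Subgroup.closure {s, w}) :
    ∃ L : Subgroup G, L.Normal ∧ Odd L.index ∧ IsSimpleGroup L ∧ ¬ IsMulCommutative L := by
  have hf : Fact (Nat.Prime 2) := ⟨Nat.prime_two⟩
  obtain ⟨a, haS, b, hbS, ha, hb, hab⟩ := hnc
  have hnt : Nontrivial G := ⟨⟨a, 1, fun e => by simp [e] at ha⟩⟩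
  obtain ⟨N, hN⟩ := CfsgLib.Structure.exists_isMinNormal (G := G)
  have hNn : N.Normal := hN.normal
  have heven : 2 ∣ Nat.card N := by
    by_contra h2
    exact hN.ne_bot (le_bot_iff.mp (hO ▸ CfsgLib.PCore.le_pPrimeCore_of_not_dvd hNn h2))
  have hall : ∀ t : G, orderOf t = 2 → t ∈ N := by
    intro t ht
    obtain ⟨t0, ht0⟩ := exists_prime_orderOf_dvd_card' (G := N) 2 heven
    rw [← Subgroup.orderOf_coe] at ht0
    obtain ⟨c, rfl⟩ := isConj_iff.mp (hclass _ _ ht0 ht)
    exact hNn.conj_mem _ t0.2 c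
  have hna : ¬ IsMulCommutative N := fun hc =>
    hab (congrArg Subtype.val (hc.1.comm ⟨a, hall a ha⟩ ⟨b, hall b hb⟩))
  have hodd : Odd N.index := by
    obtain ⟨s, hs, w, hw, hle⟩ := hgen
    rw [← Nat.not_even_iff_odd]
    intro he
    set π := QuotientGroup.mk' N
    let T := S.mapSurjective (QuotientGroup.mk'_surjective N)
    have hT : IsCyclic (T : Subgroup (G ⧸ N)) := by
      have hTle : (T : Subgroup (G ⧸ N)) = zpowers (π s) := by
        refine le_antisymm ?_ (zpowers_le.mpr ⟨s, hs, rfl⟩)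
        refine (Subgroup.map_mono hle).trans ?_
        rw [MonoidHom.map_closure, closure_le]
        rintro _ ⟨v, rfl | rfl, rfl⟩
        · exact mem_zpowers _
        · rw [show QuotientGroup.mk' N v = 1 from (QuotientGroup.eq_one_iff v).mpr (hall v hw)]
          exact one_mem _
      rw [hTle]; infer_instance
    obtain ⟨H, hH⟩ := CfsgLib.Involutions.exists_index_two_of_cyclic_sylow
      (G := G ⧸ N) he T hT
    exact hG _ ((index_comap_of_surjective H (QuotientGroup.mk'_surjective N)).trans hH)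
  refine ⟨N, hNn, hodd, ?_, hna⟩
  have hNnt : Nontrivial N := (Subgroup.nontrivial_iff_ne_bot N).mpr hN.ne_bot
  obtain ⟨T, hT⟩ := CfsgLib.Structure.exists_isMinNormal (G := N)
  have hTs := hN.isSimpleGroup_minNormal hT
  by_cases hTtop : T = ⊤
  · subst hTtop
    exact (topEquiv (G := N)).symm.isSimpleGroup
  exfalso
  obtain ⟨T2, hT2, hne⟩ : ∃ T2 : Subgroup N, CfsgLib.Structure.IsMinNormal T2 ∧ T2 ≠ T := by
    by_contra hcon
    push Not at hcon
    apply hTtop
    rw [← top_le_iff, ← hN.socle_eq_top]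
    exact sSup_le fun A hA => (hcon A hA).le
  have hev : ∀ {A : Subgroup N}, CfsgLib.Structure.IsMinNormal A → 2 ∣ Nat.card A := by
    intro A hA
    by_contra h2
    have hle : (Cfsg.pPrimeCore 2 N).map N.subtype ≠ ⊥ := by
      intro hb
      rw [map_eq_bot_iff_of_injective _ N.subtype_injective] at hb
      exact hA.ne_bot (le_bot_iff.mp (hb ▸ CfsgLib.PCore.le_pPrimeCore_of_not_dvd hA.normal h2))
    rw [CfsgLib.PCore.map_pPrimeCore_subtype_of_normal, hO, inf_bot_eq] at hle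
    exact hle rfl
  have hfour : ∀ {A : Subgroup N}, CfsgLib.Structure.IsMinNormal A → ∃ p q : G,
      (∃ p' ∈ A, (p' : G) = p) ∧ (∃ q' ∈ A, (q' : G) = q) ∧
      orderOf p = 2 ∧ orderOf q = 2 ∧ p ≠ q ∧ Commute p q := by
    intro A hA
    have := hN.isSimpleGroup_minNormal hA
    obtain ⟨p, q, hp, hq, hpq, hc⟩ :=
      exists_four (T := A) (hN.not_isMulCommutative_minNormal hna hA) (hev hA)
    exact ⟨((p : N) : G), ((q : N) : G), ⟨p, p.2, rfl⟩, ⟨q, q.2, rfl⟩,
      by rw [Subgroup.orderOf_coe, Subgroup.orderOf_coe]; exact hp,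
      by rw [Subgroup.orderOf_coe, Subgroup.orderOf_coe]; exact hq,
      fun e => hpq (Subtype.ext (Subtype.ext e)),
      congrArg (fun v : A => ((v : N) : G)) hc.eq⟩
  obtain ⟨p, q, ⟨p', hp', rfl⟩, ⟨q', hq', rfl⟩, hp, hq, hpq, hc⟩ := hfour hT
  obtain ⟨w, -, ⟨w', hw', rfl⟩, -, hw, -⟩ := hfour hT2
  have hdis : ∀ v : N, v ∈ T → (v : G) = (w' : G) → False := by
    intro v hv e
    have hvw : v = w' := Subtype.ext e
    have hin : w' ∈ T2 ⊓ T := ⟨hw', hvw ▸ hv⟩
    rw [hT2.inf_eq_bot hT hne, mem_bot] at hin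
    rw [hin] at hw
    simp at hw
  rcases no_three S hrank hp hq hw hc
    (congrArg Subtype.val (hT.commute hT2 (Ne.symm hne) p' hp' w' hw').eq)
    (congrArg Subtype.val (hT.commute hT2 (Ne.symm hne) q' hq' w' hw').eq) hpq with e | e | e
  · exact hdis p' hp' e.symm
  · exact hdis q' hq' e.symm
  · exact hdis (p' * q') (T.mul_mem hp' hq') e.symm

theorem class_quotient (O : Subgroup G) [O.Normal] (hOodd : Odd (Nat.card O))
    (hclass : ∀ t t' : G, orderOf t = 2 → orderOf t' = 2 → IsConj t t') (t t' : G ⧸ O)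
    (ht : orderOf t = 2) (ht' : orderOf t' = 2) : IsConj t t' := by
  have lift : ∀ s : G ⧸ O, orderOf s = 2 → ∃ v : G, orderOf v = 2 ∧ (v : G ⧸ O) = s := by
    intro s hs
    obtain ⟨g, rfl⟩ := QuotientGroup.mk_surjective s
    have hd : orderOf g ∣ 2 * Nat.card O := by
      refine orderOf_dvd_of_pow_eq_one ?_
      rw [pow_mul]
      have : g ^ 2 ∈ O := by
        rw [← QuotientGroup.eq_one_iff, QuotientGroup.mk_pow]
        exact orderOf_dvd_iff_pow_eq_one.mp (dvd_of_eq hs)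
      exact congrArg Subtype.val (pow_card_eq_one' (x := (⟨g ^ 2, this⟩ : O)))
    refine ⟨g ^ Nat.card O, ?_, ?_⟩
    · refine orderOf_eq_prime ?_ fun e => ?_
      · rw [← pow_mul, mul_comm, ← orderOf_dvd_iff_pow_eq_one]; exact hd
      · have h1 : orderOf (g : G ⧸ O) ∣ Nat.card O :=
          orderOf_dvd_of_pow_eq_one (by rw [← QuotientGroup.mk_pow, e]; rfl)
        rw [hs] at h1
        exact (Nat.not_even_iff_odd.mpr hOodd) (even_iff_two_dvd.mpr h1)
    · rw [QuotientGroup.mk_pow]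
      obtain ⟨c, hc⟩ := hOodd
      rw [hc, pow_succ, pow_mul, orderOf_dvd_iff_pow_eq_one.mp (dvd_of_eq hs), one_pow, one_mul]
  obtain ⟨v, hv, rfl⟩ := lift t ht
  obtain ⟨v', hv', rfl⟩ := lift t' ht'
  exact (QuotientGroup.mk' O).map_isConj (hclass v v' hv hv')

theorem quotient_sylow (S : Sylow 2 G) :
    Nonempty ((S : Subgroup G) ≃*
      ((S.mapSurjective (QuotientGroup.mk'_surjective (Cfsg.pPrimeCore 2 G))) :
        Subgroup (G ⧸ Cfsg.pPrimeCore 2 G))) := by
  have hf : Fact (Nat.Prime 2) := ⟨Nat.prime_two⟩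
  have hinj : Function.Injective
      ((QuotientGroup.mk' (Cfsg.pPrimeCore 2 G)).comp (S : Subgroup G).subtype) := by
    rw [injective_iff_map_eq_one]
    intro s hs
    have hmem : (s : G) ∈ (S : Subgroup G) ⊓ Cfsg.pPrimeCore 2 G :=
      ⟨s.2, (QuotientGroup.eq_one_iff _).mp hs⟩
    rw [CfsgLib.PCore.inf_eq_bot_of_isPGroup_coprime S.isPGroup' CfsgLib.PCore.pPrimeCore_coprime,
      mem_bot] at hmem
    exact Subtype.ext hmem
  refine ⟨(MonoidHom.ofInjective hinj).trans (MulEquiv.subgroupCongr ?_)⟩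
  rw [MonoidHom.range_comp, range_subtype, Sylow.coe_mapSurjective]

theorem simple_quotient (S : Sylow 2 G)
    (hS : Cfsg.IsQuasiDihedral (S : Subgroup G) ∨ Cfsg.IsWreathed (S : Subgroup G))
    (hG : ∀ H : Subgroup G, H.index ≠ 2) :
    ∃ L : Subgroup (G ⧸ Cfsg.pPrimeCore 2 G),
      L.Normal ∧ Odd L.index ∧ IsSimpleGroup L ∧ ¬ IsMulCommutative L := by
  have hf : Fact (Nat.Prime 2) := ⟨Nat.prime_two⟩
  set O := Cfsg.pPrimeCore 2 G with hOdef
  set S' := S.mapSurjective (QuotientGroup.mk'_surjective O) with hS'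
  obtain ⟨e⟩ := quotient_sylow S
  have hG' : ∀ H : Subgroup (G ⧸ O), H.index ≠ 2 := fun H hH =>
    hG _ ((index_comap_of_surjective H (QuotientGroup.mk'_surjective O)).trans hH)
  have hO' : Cfsg.pPrimeCore 2 (G ⧸ O) = ⊥ := CfsgLib.PCore.pPrimeCore_quotient_pPrimeCore
  have hOodd : Odd (Nat.card O) :=
    Nat.coprime_two_right.mp CfsgLib.PCore.pPrimeCore_coprime
  rcases hS with hS | hS
  · obtain ⟨r, x, y, h⟩ := SD.exists_sd hS
    have h' := sd_map h e
    refine simple_core S' hG' hO' (class_quotient O hOodd fun t t' ht ht' =>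
      (sd_isConj_J h hG ht).trans (sd_isConj_J h hG ht').symm) (rankTwo_sd h') ?_ ?_
    · refine ⟨_, (e y).2, _, (e x ^ (2 : ℤ) * e y).2, ?_, ?_, fun hc => ?_⟩
      · rw [Subgroup.orderOf_coe]; exact h'.ordy
      · rw [Subgroup.orderOf_coe]; exact SD.orderOf_xy_even h' even_two
      · have hc' : Commute (e y) (e x ^ (2 : ℤ) * e y) := Subtype.ext hc.eq
        have h1 : Commute (e x ^ (2 : ℤ)) (e y) := by
          have := hc'.symm.mul_left (Commute.refl (e y)).inv_left
          rwa [mul_inv_cancel_right] at this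
        obtain ⟨c, hc⟩ := (SD.commute_pow_y h').mp h1
        have := SD.r_pos h'
        rcases le_or_gt c 0 with hc0 | hc0
        · nlinarith
        · nlinarith
    · refine ⟨_, (e x).2, ((e y : (S' : Subgroup (G ⧸ O))) : G ⧸ O),
        by rw [Subgroup.orderOf_coe]; exact h'.ordy, fun s hs => ?_⟩
      obtain ⟨k, hk | hk⟩ := h'.gen ⟨s, hs⟩
      · rw [show s = _ from congrArg Subtype.val hk, Subgroup.coe_zpow]
        exact zpow_mem (subset_closure (by simp)) k
      · rw [show s = _ from congrArg Subtype.val hk, Subgroup.coe_mul, Subgroup.coe_zpow]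
        exact mul_mem (zpow_mem (subset_closure (by simp)) k) (subset_closure (by simp))
  · obtain ⟨n, x, y, z, h⟩ := exists_wr hS
    obtain ⟨h', -⟩ := wr_map h e
    refine simple_core S' hG' hO' (class_quotient O hOodd fun t t' ht ht' =>
      (wr_isConj_jE h hG ht).trans (wr_isConj_jE h hG ht').symm) (rankTwo_wr h') ?_ ?_
    · refine ⟨_, (e z).2, _, (eE h').2, orderOf_z h', orderOf_eE h', fun hc => ?_⟩
      have hc' : Commute (eE h') (el (e x) (e y) 0 0 * e z) := by
        rw [el_zero, one_mul]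
        exact Subtype.ext hc.eq.symm
      exact not_dvd_half h' (npos h') (by simpa using (commute_el_elz h').mp hc')
    · refine ⟨_, (e x).2, ((e z : (S' : Subgroup (G ⧸ O))) : G ⧸ O), orderOf_z h', fun s hs => ?_⟩
      set P := Subgroup.closure ({((e x : (S' : Subgroup (G ⧸ O))) : G ⧸ O),
        ((e z : (S' : Subgroup (G ⧸ O))) : G ⧸ O)} : Set (G ⧸ O))
      have hxP : ((e x : (S' : Subgroup (G ⧸ O))) : G ⧸ O) ∈ P := subset_closure (by simp)
      have hzP : ((e z : (S' : Subgroup (G ⧸ O))) : G ⧸ O) ∈ P := subset_closure (by simp)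
      have hyP : ((e y : (S' : Subgroup (G ⧸ O))) : G ⧸ O) ∈ P := by
        rw [← h'.rel, Subgroup.coe_mul, Subgroup.coe_mul, Subgroup.coe_inv]
        exact mul_mem (mul_mem hzP hxP) (inv_mem hzP)
      obtain ⟨a, b, hk | hk⟩ := h'.gen ⟨s, hs⟩
      · rw [show s = _ from congrArg Subtype.val hk, el, Subgroup.coe_mul, Subgroup.coe_zpow,
          Subgroup.coe_zpow]
        exact mul_mem (zpow_mem hxP a) (zpow_mem hyP b)
      · rw [show s = _ from congrArg Subtype.val hk, el, Subgroup.coe_mul, Subgroup.coe_mul,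
          Subgroup.coe_zpow, Subgroup.coe_zpow]
        exact mul_mem (mul_mem (zpow_mem hxP a) (zpow_mem hyP b)) hzP

end Simple

end CfsgLib.TwoGroups.RankTwo
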