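import Cfsg.Agent.Lib.TwoGroups.WreathedSubgroups

/-!
Automorphisms of odd order of 2-groups, and of self-centralizing subgroups of wreathed groups.
-/

set_option autoImplicit false
set_option linter.unusedSectionVars false

namespace CfsgLib.TwoGroups.OddAut

variable {X : Type*} [Group X] [Finite X]

/-- An automorphism of odd order of a 2-group fixes `g` as soon as it fixes `φ g * g⁻¹`. -/
theorem fixed_of_quot (hX : IsPGroup 2 X) {φ : MulAut X} (hφ : Odd (orderOf φ)) {g : X}
    (h : φ (φ g * g⁻¹) = φ g * g⁻¹) : φ g = g := by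
  set c := φ g * g⁻¹ with hc
  have key : ∀ j : ℕ, (φ ^ j) g = c ^ j * g := by
    intro j
    induction j with
    | zero => simp
    | succ j ih =>
      rw [pow_succ', MulAut.mul_apply, ih, map_mul, map_pow, h, pow_succ, mul_assoc]
      congr 1
      rw [hc, inv_mul_cancel_right]
  have h1 : c ^ orderOf φ = 1 := by
    have := key (orderOf φ)
    rw [pow_orderOf_eq_one, MulAut.one_apply] at this
    exact mul_eq_right.mp this.symm
  have : c = 1 := by
    obtain ⟨k, hk⟩ := hX c
    refine orderOf_eq_one_iff.mp (Nat.dvd_one.mp ?_)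
    have hd := Nat.dvd_gcd (orderOf_dvd_of_pow_eq_one h1) (orderOf_dvd_of_pow_eq_one hk)
    have hco : (orderOf φ).Coprime (2 ^ k) :=
      Nat.Coprime.pow_right k (by rw [Nat.coprime_two_right]; exact hφ)
    rwa [hco.gcd_eq_one] at hd
  rw [hc] at this
  exact mul_inv_eq_one.mp this

/-- An automorphism of odd order fixes every invariant cyclic 2-subgroup pointwise. -/
theorem fixed_cyclic (hX : IsPGroup 2 X) {φ : MulAut X} (hφ : Odd (orderOf φ)) (k : X)
    (hk : φ k ∈ Subgroup.zpowers k) : φ k = k := by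
  induction hn : orderOf k using Nat.strong_induction_on generalizing k with
  | _ n ih =>
    by_cases h1 : k = 1
    · rw [h1, map_one]
    obtain ⟨i, hi⟩ := Subgroup.mem_zpowers_iff.mp hk
    have hlt : orderOf (k ^ 2) < n := by
      obtain ⟨a, ha⟩ := hX k
      obtain ⟨b, -, hb⟩ := (Nat.dvd_prime_pow Nat.prime_two).mp (orderOf_dvd_of_pow_eq_one ha)
      rcases b with _ | b
      · exact absurd (orderOf_eq_one_iff.mp (by simpa using hb)) h1
      · have h2 : (k ^ 2) ^ (2 ^ b) = 1 := by
          rw [← pow_mul, ← pow_succ', ← hb, pow_orderOf_eq_one]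
        have h3 := Nat.le_of_dvd (by positivity) (orderOf_dvd_of_pow_eq_one h2)
        rw [← hn, hb, pow_succ 2 b]
        have : 0 < 2 ^ b := by positivity
        omega
    have hsq : φ (k ^ 2) = k ^ 2 := ih _ hlt (k ^ 2) (by
      rw [map_pow, ← hi]
      exact ⟨i, show (k ^ 2) ^ i = (k ^ i) ^ 2 by
        rw [← zpow_natCast k, ← zpow_natCast (k ^ i), ← zpow_mul, ← zpow_mul, mul_comm]⟩) rfl
    refine fixed_of_quot hX hφ ?_
    set c := φ k * k⁻¹
    have hc : c = k ^ (i - 1) := by rw [zpow_sub, zpow_one]; show φ k * k⁻¹ = _; rw [hi]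
    have hc2 : c ^ 2 = 1 := by
      have hcom : Commute (φ k) k⁻¹ := by
        rw [← hi]; exact ((Commute.refl k).zpow_left i).inv_right
      show (φ k * k⁻¹) ^ 2 = 1
      rw [hcom.mul_pow, ← map_pow, hsq, inv_pow, mul_inv_cancel]
    rcases Int.even_or_odd (i - 1) with ⟨l, hl⟩ | hodd
    · have : c = (k ^ 2) ^ l := by rw [hc, hl, ← zpow_natCast, ← zpow_mul]; congr 1; push_cast; ring
      rw [this, map_zpow, hsq]
    · exfalso
      -- `i` is even, so `φ k` would be a power of `k ^ 2`, fixed by `φ`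
      obtain ⟨l, hl⟩ := hodd
      have he : φ k = (k ^ 2) ^ (l + 1) := by
        rw [← hi, ← zpow_natCast, ← zpow_mul]; congr 1; push_cast; omega
      have he2 : φ (φ k) = φ k := by rw [he, map_zpow, hsq]
      have he3 : φ k = k := φ.injective he2
      rw [he3] at he
      have h4 : k ∈ Subgroup.zpowers (k ^ 2) := ⟨l + 1, he.symm⟩
      have h5 := Subgroup.card_le_of_le (Subgroup.zpowers_le.mpr h4)
      rw [Nat.card_zpowers, Nat.card_zpowers, hn] at h5
      omega

theorem fixed_subgroup (hX : IsPGroup 2 X) {φ : MulAut X} (hφ : Odd (orderOf φ)) (K : Subgroup X)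
    [hK : IsCyclic K] (hinv : ∀ u ∈ K, φ u ∈ K) : ∀ u ∈ K, φ u = u := by
  obtain ⟨⟨w, hw⟩, hgen⟩ := hK.exists_generator
  have hall : ∀ u ∈ K, u ∈ Subgroup.zpowers w := fun u hu => by
    obtain ⟨j, hj⟩ := hgen ⟨u, hu⟩
    exact ⟨j, congrArg Subtype.val hj⟩
  have hfix := fixed_cyclic hX hφ w (hall _ (hinv w hw))
  intro u hu
  obtain ⟨j, rfl⟩ := hall u hu
  rw [map_zpow, hfix]

theorem isPGroup_mulAut (h : ∀ φ : MulAut X, Odd (orderOf φ) → φ = 1) :
    IsPGroup 2 (MulAut X) := by
  intro φ
  have : Finite (MulAut X) := Finite.of_injective (fun φ : MulAut X => (φ : X → X))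
    DFunLike.coe_injective
  obtain ⟨a, m, hm, ho⟩ := Nat.exists_eq_two_pow_mul_odd (orderOf_pos φ).ne'
  refine ⟨a, h _ ?_⟩
  rw [orderOf_pow' _ (pow_ne_zero a two_ne_zero), ho, Nat.gcd_mul_right_left,
    Nat.mul_div_cancel_left _ (pow_pos two_pos a)]
  exact hm

end CfsgLib.TwoGroups.OddAut

namespace CfsgLib.TwoGroups.WR

open CfsgLib.TwoGroups.OddAut

variable {S : Type*} [Group S] [Finite S] {n : ℕ} {x y z : S}

theorem isPGroup_wr (h : WR S n x y z) : IsPGroup 2 S := IsPGroup.of_card h.card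

theorem sq_one_base (h : WR S n x y z) {w : S} (hw : w ∈ base h) (hw2 : w ^ 2 = 1) :
    w ∈ Subgroup.center S ∨ w = el x y (2 ^ (n - 1)) 0 ∨ w = el x y 0 (2 ^ (n - 1)) := by
  by_cases h1 : w = 1
  · exact Or.inl (h1 ▸ one_mem _)
  rcases involution_cases h hw2 h1 with e | e | e | ⟨a, e⟩
  · exact Or.inr (Or.inl e)
  · exact Or.inr (Or.inr e)
  · exact Or.inl (e ▸ (mem_center_iff h).mpr ⟨_, rfl⟩)
  · exact absurd (e ▸ hw) (elz_not_mem_base h a (-a))

/-- Quotient of two involutions of the base outside the centre is central. -/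
theorem quot_central (h : WR S n x y z) {v w : S} (hv : v ∈ base h) (hw : w ∈ base h)
    (hv2 : v ^ 2 = 1) (hw2 : w ^ 2 = 1) (hvc : v ∉ Subgroup.center S)
    (hwc : w ∉ Subgroup.center S) : v * w⁻¹ ∈ Subgroup.center S := by
  obtain ⟨-, hd⟩ := half_facts h
  rcases (sq_one_base h hv hv2).resolve_left hvc with rfl | rfl <;>
    rcases (sq_one_base h hw hw2).resolve_left hwc with rfl | rfl
  · simp
  · rw [el_inv h, el_mul h]
    refine (mem_center_iff h).mpr ⟨2 ^ (n - 1), (h.eq_iff _ _ _ _).mpr ⟨by simp, ?_⟩⟩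
    rw [show (0 : ℤ) + -2 ^ (n - 1) - 2 ^ (n - 1) = -(2 * 2 ^ (n - 1)) by ring, dvd_neg]
    exact hd
  · rw [el_inv h, el_mul h]
    refine (mem_center_iff h).mpr ⟨2 ^ (n - 1), (h.eq_iff _ _ _ _).mpr ⟨?_, by simp⟩⟩
    rw [show (0 : ℤ) + -2 ^ (n - 1) - 2 ^ (n - 1) = -(2 * 2 ^ (n - 1)) by ring, dvd_neg]
    exact hd
  · simp

/-- The standard subgroup `Q ⊔ Z(S)`. -/
def qz (n : ℕ) (x y z : S) : Subgroup S :=
  Subgroup.closure {el x y (2 ^ (n - 2)) (-2 ^ (n - 2)), el x y (2 ^ (n - 1)) 0 * z} ⊔
    Subgroup.center S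

theorem quarter (h : WR S n x y z) :
    (2 : ℤ) ^ (n - 1) = 2 * 2 ^ (n - 2) ∧ (2 : ℤ) ^ n = 4 * 2 ^ (n - 2) := by
  obtain ⟨k, rfl⟩ : ∃ k, n = k + 2 := ⟨n - 2, by have := h.two_le; omega⟩
  simp only [show k + 2 - 1 = k + 1 by omega, Nat.add_sub_cancel, pow_succ]
  constructor <;> ring

/-- Classification of self-centralizing subgroups with nontrivial automorphisms of odd order. -/
theorem selfcentralizing_cases (h : WR S n x y z) {X : Subgroup S}
    (hC : Subgroup.centralizer (X : Set S) ≤ X) {φ : MulAut X} (hφ : Odd (orderOf φ))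
    (hne : φ ≠ 1) :
    X = base h ∨ ((∀ a b : ℤ, el x y a b ∈ X ↔ (2 : ℤ) ^ (n - 1) ∣ a - b) ∧
      ∃ c d : ℤ, (2 : ℤ) ^ n ∣ c + d - 2 ^ (n - 1) ∧ el x y c d * z ∈ X) := by
  have hX : IsPGroup 2 X := (isPGroup_wr h).to_subgroup X
  have hZX : Subgroup.center S ≤ X := (Subgroup.center_le_centralizer _).trans hC
  by_cases hXb : X ≤ base h
  · left
    refine le_antisymm hXb (fun u hu => hC (Subgroup.mem_centralizer_iff.mpr fun v hv => ?_))
    have e := (base_comm h).is_comm.comm ⟨v, hXb hv⟩ ⟨u, hu⟩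
    exact (congrArg Subtype.val e :)
  right
  obtain ⟨g, hgX, hgb⟩ := SetLike.not_le_iff_exists.mp hXb
  obtain ⟨c, d, rfl | rfl⟩ := h.gen g
  · exact absurd (el_mem_base h c d) hgb
  -- the final extension step
  have hlast : (∀ u : X, (u : S) ∈ base h → φ u = u) →
      (∀ u : X, (u : S) ∈ base h ↔ ((φ u : X) : S) ∈ base h) → False := by
    intro hfix hinv
    apply hne
    ext u : 1
    rw [MulAut.one_apply]
    by_cases hu : (u : S) ∈ base h
    · exact hfix u hu
    · refine fixed_of_quot hX hφ (hfix _ ?_)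
      rw [Subgroup.coe_mul, Subgroup.coe_inv,
        Subgroup.mul_mem_iff_of_index_two (index_base h), inv_mem_iff]
      exact iff_of_false ((hinv u).not.mp hu) hu
  by_cases hab : IsMulCommutative X
  · exfalso
    -- `X` is abelian
    have hsqc : ∀ u : X, ((u : S)) ^ 2 ∈ Subgroup.center S := by
      intro u
      obtain ⟨a, b, e | e⟩ := h.gen (u : S)
      · have hc' : Commute (el x y a b) (el x y c d * z) := by
          have e' := hab.is_comm.comm u ⟨_, hgX⟩
          have := (congrArg Subtype.val e' :)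
          rw [Subgroup.coe_mul, Subgroup.coe_mul, e] at this
          exact this
        refine (mem_center_iff h).mpr ⟨a * 2, ?_⟩
        rw [e, el_pow h, h.eq_iff]
        push_cast
        refine ⟨by simp, ?_⟩
        rw [show b * 2 - a * 2 = -((a - b) * 2) by ring, dvd_neg]
        exact ((commute_el_elz h).mp hc').mul_right 2
      · exact (mem_center_iff h).mpr ⟨a + b, by rw [e, el_z_sq h]⟩
    set K : Subgroup X := Subgroup.closure {w | ∃ u : X, w = u ^ 2}
    have hKle : K ≤ (Subgroup.center S).subgroupOf X := by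
      rw [Subgroup.closure_le]
      rintro _ ⟨u, rfl⟩
      exact hsqc u
    have : IsCyclic (Subgroup.center S) := by rw [center_eq h]; infer_instance
    have : IsCyclic ((Subgroup.center S).subgroupOf X) :=
      isCyclic_of_injective (Subgroup.subgroupOfEquivOfLe hZX).toMonoidHom
        (Subgroup.subgroupOfEquivOfLe hZX).injective
    have hKcyc : IsCyclic K :=
      isCyclic_of_injective (Subgroup.inclusion hKle) (Subgroup.inclusion_injective hKle)
    have hKinv : ∀ u ∈ K, φ u ∈ K := by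
      intro u hu
      have hle : K ≤ K.comap φ.toMonoidHom := by
        rw [Subgroup.closure_le]
        rintro _ ⟨w, rfl⟩
        exact Subgroup.subset_closure ⟨φ w, by simp⟩
      exact hle hu
    have hKfix := fixed_subgroup hX hφ K hKinv
    -- involutions
    have hjfix : ∀ u : X, (u : S) ∈ Subgroup.center S → u ^ 2 = 1 → φ u = u := by
      intro u hu hu2
      refine hKfix u ?_
      obtain ⟨a, ha⟩ := (mem_center_iff h).mp hu
      have h2 : (2 : ℤ) ^ n ∣ a * 2 := by
        have := congrArg Subtype.val hu2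
        rw [Subgroup.coe_pow, Subgroup.coe_one, ha, el_pow h, el_eq_one h] at this
        exact_mod_cast this.1
      obtain ⟨q1, q2⟩ := quarter h
      obtain ⟨t, ht⟩ := h2
      have ha2 : a = 2 * (2 ^ (n - 2) * t) := by rw [q2] at ht; linarith
      refine Subgroup.subset_closure ⟨⟨el x y (2 ^ (n - 2) * t) (2 ^ (n - 2) * t),
        hZX ((mem_center_iff h).mpr ⟨_, rfl⟩)⟩, Subtype.ext ?_⟩
      rw [Subgroup.coe_pow, ha, el_pow h]
      push_cast
      congr 1 <;> rw [ha2] <;> ring
    apply hne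
    ext u : 1
    rw [MulAut.one_apply]
    refine fixed_of_quot hX hφ ?_
    set w := φ u * u⁻¹
    have hw2 : w ^ 2 = 1 := by
      show (φ u * u⁻¹) ^ 2 = 1
      have hcom : Commute (φ u) u⁻¹ := hab.is_comm.comm _ _
      rw [hcom.mul_pow, ← map_pow, hKfix _ (Subgroup.subset_closure ⟨u, rfl⟩), inv_pow,
        mul_inv_cancel]
    have hbase : ∀ v : X, (v : S) ∈ base h → v ^ 2 = 1 → φ v = v := by
      intro v hv hv2
      refine hjfix v ?_ hv2
      obtain ⟨a, b, e⟩ := hv
      have hc' : Commute (el x y a b) (el x y c d * z) := by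
        have e' := hab.is_comm.comm v ⟨_, hgX⟩
        have := (congrArg Subtype.val e' :)
        rw [Subgroup.coe_mul, Subgroup.coe_mul, e] at this
        exact this
      refine (mem_center_iff h).mpr ⟨a, e.trans ((h.eq_iff _ _ _ _).mpr ⟨by simp, ?_⟩)⟩
      rw [dvd_sub_comm]
      exact (commute_el_elz h).mp hc'
    by_cases hwb : (w : S) ∈ base h
    · exact hbase w hwb hw2
    · have hwb' : ((φ w : X) : S) ∉ base h := by
        intro hh
        have h2 : φ (φ w) = φ w := hbase _ hh (by rw [← map_pow, hw2, map_one])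
        exact hwb (φ.injective h2 ▸ hh)
      refine fixed_of_quot hX hφ (hbase _ ?_ ?_)
      · rw [Subgroup.coe_mul, Subgroup.coe_inv,
          Subgroup.mul_mem_iff_of_index_two (index_base h), inv_mem_iff]
        exact iff_of_false hwb' hwb
      · have hcom : Commute (φ w) w⁻¹ := hab.is_comm.comm _ _
        rw [hcom.mul_pow, ← map_pow, hw2, map_one, inv_pow, hw2, inv_one, one_mul]
  -- `X` is nonabelian
  have hZmap : ∀ u : X, u ∈ Subgroup.center X ↔ (u : S) ∈ Subgroup.center S := by
    intro u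
    refine ⟨fun hu => center_le_of_nonabelian h X hab ⟨u, hu, rfl⟩, fun hu => ?_⟩
    exact Subgroup.mem_center_iff.mpr fun v => Subtype.ext (Subgroup.mem_center_iff.mp hu v)
  have hZfix : ∀ u : X, (u : S) ∈ Subgroup.center S → φ u = u := by
    have : IsCyclic (Subgroup.center S) := by rw [center_eq h]; infer_instance
    have : IsCyclic (Subgroup.center X) := by
      refine isCyclic_of_injective (G := Subgroup.center X) (G' := Subgroup.center S)
        (((X.subtype.comp (Subgroup.center X).subtype).codRestrict (Subgroup.center S)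
          fun u => (hZmap u).mp u.2)) ?_
      intro u v e
      exact Subtype.ext (Subtype.ext (congrArg (fun t : Subgroup.center S => (t : S)) e))
    intro u hu
    exact fixed_subgroup hX hφ (Subgroup.center X)
      (fun v hv => Subgroup.mem_center_iff.mpr fun t => by
        have := congrArg φ (Subgroup.mem_center_iff.mp hv (φ.symm t))
        simpa using this) u ((hZmap u).mpr hu)
  have hsqfix : (∀ u : X, (u : S) ∈ base h ↔ ((φ u : X) : S) ∈ base h) →
      ∀ w : X, (w : S) ∈ base h → w ^ 2 = 1 → φ w = w := by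
    intro hinv w hwb hw2
    by_cases hwc : (w : S) ∈ Subgroup.center S
    · exact hZfix w hwc
    · refine fixed_of_quot hX hφ (hZfix _ ?_)
      rw [Subgroup.coe_mul, Subgroup.coe_inv]
      refine quot_central h ((hinv w).mp hwb) hwb ?_ (congrArg Subtype.val hw2) ?_ hwc
      · exact congrArg Subtype.val (show φ w ^ 2 = 1 by rw [← map_pow, hw2, map_one])
      · intro hh
        exact hwc (φ.injective (hZfix _ hh) ▸ hh)
  by_cases hsmall : ∀ a b : ℤ, el x y a b ∈ X → (2 : ℤ) ^ (n - 1) ∣ a - b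
  swap
  · exfalso
    push Not at hsmall
    obtain ⟨a, b, habX, habd⟩ := hsmall
    have : IsCyclic (commutator S) := by rw [commutator_eq h]; infer_instance
    have hKle : commutator X ≤ (commutator S).comap X.subtype := by
      rw [commutator_def, Subgroup.commutator_le]
      intro u _ v _
      rw [Subgroup.mem_comap, map_commutatorElement, commutator_def]
      exact Subgroup.commutator_mem_commutator (Subgroup.mem_top _) (Subgroup.mem_top _)
    have : IsCyclic (commutator X) := by
      refine isCyclic_of_injective (G := commutator X) (G' := commutator S)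
        (((X.subtype.comp (commutator X).subtype).codRestrict (commutator S)
          fun u => hKle u.2)) ?_
      intro u v e
      exact Subtype.ext (Subtype.ext (congrArg (fun t : commutator S => (t : S)) e))
    have hDinv : ∀ v ∈ commutator X, φ v ∈ commutator X := by
      intro v hv
      have hle : commutator X ≤ (commutator X).comap φ.toMonoidHom := by
        conv_lhs => rw [commutator_def]
        rw [Subgroup.commutator_le]
        intro p _ q _
        rw [Subgroup.mem_comap, map_commutatorElement, commutator_def]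
        exact Subgroup.commutator_mem_commutator (Subgroup.mem_top _) (Subgroup.mem_top _)
      exact hle hv
    have hDfix := fixed_subgroup hX hφ (commutator X) hDinv
    have hcomm : ∀ p q : ℤ, el x y p q ∈ X →
        ∃ w ∈ commutator X, (w : S) = el x y (p - q) (q - p) := by
      intro p q hpq
      refine ⟨_, commutator_def X ▸ Subgroup.commutator_mem_commutator
        (Subgroup.mem_top (⟨_, hpq⟩ : X)) (Subgroup.mem_top (⟨_, hgX⟩ : X)), ?_⟩
      rw [commutatorElement_def, Subgroup.coe_mul, Subgroup.coe_mul, Subgroup.coe_mul,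
        Subgroup.coe_inv, Subgroup.coe_inv]
      show el x y p q * (el x y c d * z) * (el x y p q)⁻¹ * (el x y c d * z)⁻¹ = _
      rw [conj_el_elz h, el_z_inv h, el_z_mul_el_z h]
      congr 1 <;> ring
    have hchar : ∀ u : X, (u : S) ∈ base h ↔ ∀ v ∈ commutator X, u * v = v * u := by
      intro u
      constructor
      · intro hu v hv
        obtain ⟨p, q, hpq⟩ := hu
        have hv' : (v : S) ∈ commutator S := hKle hv
        rw [commutator_eq h] at hv'
        obtain ⟨t, ht⟩ := hv'
        apply Subtype.ext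
        rw [Subgroup.coe_mul, Subgroup.coe_mul, hpq, ← ht]
        simp only
        rw [el_zpow h]
        exact (commute_el h _ _ _ _).eq
      · intro hu
        obtain ⟨w, hw, hwe⟩ := hcomm a b habX
        obtain ⟨p, q, e | e⟩ := h.gen (u : S)
        · exact e ▸ el_mem_base h p q
        · exfalso
          have := congrArg Subtype.val (hu w hw)
          rw [Subgroup.coe_mul, Subgroup.coe_mul, e, hwe] at this
          have h2 := (commute_el_elz h).mp (Commute.symm (this : Commute _ _))
          apply habd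
          rw [two_pow_split h, show a - b - (b - a) = 2 * (a - b) by ring] at h2
          exact Int.dvd_of_mul_dvd_mul_left two_ne_zero h2
    have hinv : ∀ u : X, (u : S) ∈ base h ↔ ((φ u : X) : S) ∈ base h := by
      intro u
      rw [hchar, hchar]
      constructor
      · intro hu v hv
        have := congrArg φ (hu v hv)
        rwa [map_mul, map_mul, hDfix v hv] at this
      · intro hu v hv
        refine φ.injective ?_
        rw [map_mul, map_mul, hDfix v hv]
        exact hu v hv
    refine hlast (fun u hu => ?_) hinv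
    obtain ⟨p, q, hpq⟩ := hu
    obtain ⟨w, hw, hwe⟩ := hcomm p q (hpq ▸ u.2)
    have hsq : u ^ 2 = ⟨el x y (p + q) (p + q), hZX ((mem_center_iff h).mpr ⟨_, rfl⟩)⟩ * w := by
      apply Subtype.ext
      rw [Subgroup.coe_pow, Subgroup.coe_mul, hpq, hwe, el_pow h, el_mul h]
      push_cast
      congr 1 <;> ring
    have hfix2 : φ (u ^ 2) = u ^ 2 := by
      rw [hsq, map_mul, hDfix w hw]
      congr 1
      exact hZfix _ ((mem_center_iff h).mpr ⟨_, rfl⟩)
    have hub : (u : S) ∈ base h := hpq ▸ el_mem_base h p q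
    obtain ⟨p', q', hpq'⟩ := (hinv u).mp hub
    refine fixed_of_quot hX hφ (hsqfix hinv _ ?_ ?_)
    · rw [Subgroup.coe_mul, Subgroup.coe_inv]
      exact (base h).mul_mem ((hinv u).mp hub) ((base h).inv_mem hub)
    · have hcom : Commute (φ u) u⁻¹ := by
        refine Commute.inv_right (show φ u * u = u * φ u from Subtype.ext ?_)
        rw [Subgroup.coe_mul, Subgroup.coe_mul, hpq', hpq]
        exact (commute_el h _ _ _ _).eq
      rw [hcom.mul_pow, ← map_pow, hfix2, inv_pow, mul_inv_cancel]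
  -- here every element of `X ⊓ base` is nearly central
  obtain ⟨q1, q2⟩ := quarter h
  have hhalf : el x y (2 ^ (n - 1)) 0 ∈ X := by
    by_contra hno
    apply hab
    have hall : ∀ u : X, (u : S) ∈ base h → (u : S) ∈ Subgroup.center S := by
      rintro u ⟨a, b, e⟩
      by_contra hu
      apply hno
      have hb : ¬ (2 : ℤ) ^ n ∣ a - b := fun hd => hu ((mem_center_iff h).mpr ⟨b,
        e.trans ((h.eq_iff _ _ _ _).mpr ⟨hd, by simp⟩)⟩)
      obtain ⟨t, ht⟩ := hsmall a b (e ▸ u.2)
      rcases Int.even_or_odd t with ⟨l, hl⟩ | ⟨l, hl⟩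
      · exact absurd ⟨l, by rw [ht, hl, two_pow_split h]; ring⟩ hb
      have hm := X.mul_mem (e ▸ u.2) (X.inv_mem (hZX ((mem_center_iff h).mpr ⟨b, rfl⟩)))
      rw [el_inv h, el_mul h] at hm
      rwa [show el x y (a + -b) (b + -b) = el x y (2 ^ (n - 1)) 0 from (h.eq_iff _ _ _ _).mpr
        ⟨⟨l, by rw [two_pow_split h]; subst hl; linarith⟩, by simp⟩] at hm
    refine ⟨⟨fun u v => Subtype.ext ?_⟩⟩
    have hcc : ∀ w : X, Commute (w : S) (el x y c d * z) := by
      intro w
      by_cases hw : (w : S) ∈ base h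
      · exact (Subgroup.mem_center_iff.mp (hall w hw) _).symm
      · have hm : (w : S) * (el x y c d * z)⁻¹ ∈ base h := by
          rw [Subgroup.mul_mem_iff_of_index_two (index_base h), inv_mem_iff]
          exact iff_of_false hw hgb
        have hcen : Commute ((w : S) * (el x y c d * z)⁻¹) (el x y c d * z) :=
          (Subgroup.mem_center_iff.mp
            (hall ⟨_, X.mul_mem w.2 (X.inv_mem hgX)⟩ hm) _).symm
        have := hcen.mul_left (Commute.refl (el x y c d * z))
        rwa [inv_mul_cancel_right] at this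
    exact comm_of_commute_elz h hgb (hcc u) (hcc v)
  have hiff : ∀ a b : ℤ, el x y a b ∈ X ↔ (2 : ℤ) ^ (n - 1) ∣ a - b := by
    refine fun a b => ⟨hsmall a b, fun ⟨t, ht⟩ => ?_⟩
    have := X.mul_mem (hZX ((mem_center_iff h).mpr ⟨b, rfl⟩)) (X.zpow_mem hhalf t)
    rw [el_zpow h, el_mul h] at this
    convert this using 2 <;> linarith
  refine ⟨hiff, ?_⟩
  rcases Int.even_or_odd (c + d) with ⟨s, hs⟩ | hodd
  · refine ⟨(2 ^ (n - 2) - s) + c, (2 ^ (n - 2) - s) + d, ⟨0, by linarith⟩, ?_⟩
    have := X.mul_mem (hZX ((mem_center_iff h).mpr ⟨2 ^ (n - 2) - s, rfl⟩)) hgX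
    rwa [← mul_assoc, el_mul h] at this
  exfalso
  have hchar : ∀ u : X, (u : S) ∈ base h ↔ u ^ (2 ^ n) = 1 := by
    intro u
    constructor
    · rintro ⟨p, q, e⟩
      apply Subtype.ext
      rw [Subgroup.coe_pow, e, el_pow h, Subgroup.coe_one, el_eq_one h]
      push_cast
      exact ⟨dvd_mul_left _ _, dvd_mul_left _ _⟩
    · intro hu
      obtain ⟨p, q, e | e⟩ := h.gen (u : S)
      · exact e ▸ el_mem_base h p q
      exfalso
      have hm := X.mul_mem (e ▸ u.2) (X.inv_mem hgX)
      rw [el_z_inv h, el_z_mul_el_z h] at hm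
      obtain ⟨t, ht⟩ := hsmall _ _ hm
      obtain ⟨l, hl⟩ : Odd (p + q) := by
        obtain ⟨l, hl⟩ := hodd
        exact ⟨2 ^ (n - 2) * t + l + q - d, by rw [q1] at ht; linarith⟩
      have := congrArg Subtype.val hu
      rw [Subgroup.coe_pow, e, Subgroup.coe_one,
        show 2 ^ n = 2 * 2 ^ (n - 1) by rw [← pow_succ', Nat.sub_add_cancel (npos h)],
        pow_mul, el_z_sq h, el_pow h, el_eq_one h] at this
      obtain ⟨t', ht'⟩ := this.1
      push_cast at ht'
      rw [hl, two_pow_split h] at ht'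
      have h3 := mul_left_cancel₀ (show (2 : ℤ) ^ (n - 1) ≠ 0 by positivity)
        (show (2 : ℤ) ^ (n - 1) * (2 * l + 1) = 2 ^ (n - 1) * (2 * t') by linarith)
      omega
  have hinv : ∀ u : X, (u : S) ∈ base h ↔ ((φ u : X) : S) ∈ base h := by
    intro u
    rw [hchar, hchar, ← map_pow]
    exact ⟨fun e => by rw [e, map_one], fun e => φ.injective (by rw [e, map_one])⟩
  refine hlast (fun u hu => ?_) hinv
  obtain ⟨p, q, e⟩ := hu
  obtain ⟨t, ht⟩ := hsmall p q (e ▸ u.2)
  have hdec : u = ⟨el x y q q, hZX ((mem_center_iff h).mpr ⟨q, rfl⟩)⟩ *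
      (⟨el x y (2 ^ (n - 1)) 0, hhalf⟩ : X) ^ t := by
    apply Subtype.ext
    rw [Subgroup.coe_mul, Subgroup.coe_zpow, e, el_zpow h, el_mul h]
    congr 1 <;> linarith
  rw [hdec, map_mul, map_zpow, hZfix _ ((mem_center_iff h).mpr ⟨q, rfl⟩),
    hsqfix hinv _ (el_mem_base h _ _)]
  apply Subtype.ext
  rw [Subgroup.coe_pow, el_pow h, Subgroup.coe_one, el_eq_one h]
  push_cast
  exact ⟨by rw [two_pow_split h, mul_comm], by simp⟩

/-- The shape of the second kind of self-centralizing subgroup. -/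
theorem qz_shape (h : WR S n x y z) {X : Subgroup S}
    (hiff : ∀ a b : ℤ, el x y a b ∈ X ↔ (2 : ℤ) ^ (n - 1) ∣ a - b) {c d : ℤ}
    (hcd : (2 : ℤ) ^ n ∣ c + d - 2 ^ (n - 1)) (hg : el x y c d * z ∈ X) :
    ¬ IsMulCommutative X ∧ X.relIndex (Subgroup.normalizer (X : Set S)) = 2 ∧
    (∃ Q : Subgroup S, Nonempty (Q ≃* QuaternionGroup 2) ∧ X = Q ⊔ Subgroup.center S) ∧
    ∃ s : S, X.map (MulAut.conj s).toMonoidHom = qz n x y z := by
  obtain ⟨q1, q2⟩ := quarter h
  set q : ℤ := 2 ^ (n - 2) with hq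
  have hgb := elz_not_mem_base h c d
  have hk : el x y q (-q) ∈ X := (hiff _ _).mpr ⟨1, by rw [q1]; ring⟩
  set Q := Subgroup.closure {el x y q (-q), el x y c d * z}
  have hQX : Q ≤ X := (Subgroup.closure_le _).mpr (by rintro w (rfl | rfl) <;> assumption)
  have hk4 : el x y q (-q) ^ (2 * 2) = 1 := by
    rw [el_pow h, el_eq_one h]; push_cast
    exact ⟨⟨1, by rw [q2]; ring⟩, ⟨-1, by rw [q2]; ring⟩⟩
  have hk2 : el x y q (-q) ^ 2 ≠ 1 := by
    rw [ne_eq, el_pow h, el_eq_one h]
    push_cast
    rintro ⟨hd, -⟩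
    exact (half_facts h).1 (by rw [q1]; rwa [mul_comm] at hd)
  have hvv : (el x y c d * z) * (el x y c d * z) = el x y q (-q) ^ 2 := by
    rw [el_z_mul_el_z h, el_pow h, h.eq_iff]
    push_cast
    obtain ⟨t, ht⟩ := hcd
    exact ⟨⟨t, by rw [q1] at ht; linarith⟩, ⟨t + 1, by rw [q1] at ht; rw [q2] at *; linarith⟩⟩
  have hvu : el x y c d * z * el x y q (-q) * (el x y c d * z)⁻¹ = (el x y q (-q))⁻¹ := by
    rw [conj_elz_el h, el_inv h, neg_neg]
  have hord : orderOf (el x y q (-q)) = 2 * 2 := by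
    simpa using orderOf_eq_prime_pow (p := 2) (n := 1) (by simpa using hk2) hk4
  have hnot : el x y c d * z ∉ Subgroup.zpowers (el x y q (-q)) := fun hm =>
    hgb ((Subgroup.zpowers_le.mpr (el_mem_base h _ _)) hm)
  have hQ : Nonempty (Q ≃* QuaternionGroup 2) :=
    ⟨((MonoidHom.ofInjective (CfsgLib.TwoGroups.SD.quaternionHom_injective _ _ hk4 hvv hvu hord
      hnot)).trans (MulEquiv.subgroupCongr
        (CfsgLib.TwoGroups.SD.range_quaternionHom _ _ hk4 hvv hvu))).symm⟩
  have hZX : Subgroup.center S ≤ X := by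
    intro u hu
    obtain ⟨a, rfl⟩ := (mem_center_iff h).mp hu
    exact (hiff a a).mpr (by simp)
  have hbaseQ : ∀ a b : ℤ, (2 : ℤ) ^ (n - 1) ∣ a - b → el x y a b ∈ Q ⊔ Subgroup.center S := by
    rintro a b ⟨t, ht⟩
    rw [show el x y a b = el x y q (-q) ^ t * el x y (b + q * t) (b + q * t) by
      rw [el_zpow h, el_mul h]; congr 1 <;> [(rw [q1] at ht; linarith); ring]]
    exact Subgroup.mul_mem _
      (Subgroup.mem_sup_left (Subgroup.zpow_mem _ (Subgroup.subset_closure (by simp)) _))
      (Subgroup.mem_sup_right ((mem_center_iff h).mpr ⟨_, rfl⟩))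
  have hXQ : X = Q ⊔ Subgroup.center S := by
    refine le_antisymm ?_ (sup_le hQX hZX)
    intro u hu
    by_cases hub : u ∈ base h
    · obtain ⟨a, b, rfl⟩ := hub
      exact hbaseQ a b ((hiff a b).mp hu)
    · have hm : u * (el x y c d * z)⁻¹ ∈ base h := by
        rw [Subgroup.mul_mem_iff_of_index_two (index_base h), inv_mem_iff]
        exact iff_of_false hub hgb
      obtain ⟨a, b, e⟩ := hm
      have h1 := hbaseQ a b ((hiff a b).mp (e ▸ X.mul_mem hu (X.inv_mem hg)))
      rw [← e] at h1
      have h2 := Subgroup.mul_mem _ h1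
        (Subgroup.mem_sup_left (Subgroup.subset_closure (by simp) : el x y c d * z ∈ Q))
      rwa [inv_mul_cancel_right] at h2
  refine ⟨?_, ?_, ⟨Q, hQ, hXQ⟩, ?_⟩
  · intro hab
    have hc : Commute (el x y q (-q)) (el x y c d * z) := by
      have e := hab.is_comm.comm (⟨_, hk⟩ : X) ⟨_, hg⟩
      exact (congrArg Subtype.val e :)
    have h1 := (commute_el_elz h).mp hc
    exact (half_facts h).1 (by rw [q1]; rwa [show q - -q = 2 * q by ring] at h1)
  · have hnorm : ∀ e f : ℤ, el x y e f ∈ Subgroup.normalizer (X : Set S) → q ∣ e - f := by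
      intro e f hef
      have h1 := X.mul_mem ((Subgroup.mem_normalizer_iff.mp hef _).mp hg) (X.inv_mem hg)
      rw [conj_el_elz h, el_z_inv h, el_z_mul_el_z h, hiff, q1] at h1
      obtain ⟨t, ht⟩ := h1
      exact ⟨t, by linarith⟩
    have hwit : el x y q 0 ∈ Subgroup.normalizer (X : Set S) := by
      have hfwd : ∀ u ∈ X, el x y q 0 * u * (el x y q 0)⁻¹ ∈ X := by
        intro u hu
        obtain ⟨a, b, rfl | rfl⟩ := h.gen u
        · rwa [conj_el_el h]
        · rw [conj_el_elz h, show el x y (a + q - 0) (b + 0 - q) * z =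
            el x y q (-q) * (el x y a b * z) by rw [← mul_assoc, el_mul h]; congr 2 <;> ring]
          exact X.mul_mem hk hu
      have himg : X.map (MulAut.conj (el x y q 0)).toMonoidHom = X := by
        refine Subgroup.eq_of_le_of_card_ge ?_ ?_
        · rintro _ ⟨u, hu, rfl⟩
          exact hfwd u hu
        · rw [Subgroup.card_map_of_injective (MulAut.conj (el x y q 0)).injective]
      rw [Subgroup.mem_normalizer_iff]
      intro u
      refine ⟨hfwd u, fun hu => ?_⟩
      rw [← himg] at hu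
      obtain ⟨v, hv, hvu⟩ := hu
      simp only [MulEquiv.coe_toMonoidHom, MulAut.conj_apply] at hvu
      exact (mul_left_cancel (mul_right_cancel hvu)) ▸ hv
    have par : ∀ e f e' f' : ℤ, q ∣ e - f → (e' - f' = e - f + q ∨ e' - f' = e - f - q) →
        Xor (el x y e' f' ∈ X) (el x y e f ∈ X) := by
      rintro e f e' f' ⟨t, ht⟩ hcase
      have hq0 : q ≠ 0 := by positivity
      simp only [hiff, q1, ht, mul_comm 2 q]
      rcases hcase with e1 | e1 <;> rw [e1, ht]
      · rw [show q * t + q = q * (t + 1) by ring]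
        simp only [mul_dvd_mul_iff_left hq0]
        rcases Int.even_or_odd t with ⟨l, rfl⟩ | ⟨l, rfl⟩
        · exact Or.inr ⟨⟨l, by ring⟩, by omega⟩
        · exact Or.inl ⟨⟨l + 1, by ring⟩, by omega⟩
      · rw [show q * t - q = q * (t - 1) by ring]
        simp only [mul_dvd_mul_iff_left hq0]
        rcases Int.even_or_odd t with ⟨l, rfl⟩ | ⟨l, rfl⟩
        · exact Or.inr ⟨⟨l, by ring⟩, by omega⟩
        · exact Or.inl ⟨⟨l, by ring⟩, by omega⟩
    rw [Subgroup.relIndex, Subgroup.index_eq_two_iff]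
    refine ⟨⟨_, hwit⟩, fun b => ?_⟩
    simp only [Subgroup.mem_subgroupOf, Subgroup.coe_mul]
    obtain ⟨e, f, hb | hb⟩ := h.gen (b : S)
    · rw [hb, el_mul h]
      exact par e f _ _ (hnorm e f (hb ▸ b.2)) (Or.inl (by ring))
    · rw [hb, el_z_mul_el h]
      have hm : el x y (e - c) (f - d) ∈ Subgroup.normalizer (X : Set S) := by
        have := Subgroup.mul_mem _ b.2 (Subgroup.inv_mem _ (Subgroup.le_normalizer (H := X) hg))
        rw [hb, el_z_inv h, el_z_mul_el_z h] at this
        simpa [sub_eq_add_neg] using this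
      have e1 : ∀ a b : ℤ, el x y a b * z = el x y (a - c) (b - d) * (el x y c d * z) := by
        intro a b
        rw [← mul_assoc, el_mul h, sub_add_cancel, sub_add_cancel]
      rw [e1 e f, e1, X.mul_mem_cancel_right hg, X.mul_mem_cancel_right hg]
      exact par _ _ _ _ (hnorm _ _ hm) (Or.inr (by ring))
  · refine ⟨el x y (2 ^ (n - 1) - c) 0, ?_⟩
    have hz : (Subgroup.center S).map (MulAut.conj (el x y (2 ^ (n - 1) - c) 0)).toMonoidHom =
        Subgroup.center S := by
      refine Subgroup.eq_of_le_of_card_ge ?_ ?_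
      · rintro _ ⟨u, hu, rfl⟩
        exact (inferInstance : (Subgroup.center S).Normal).conj_mem u hu _
      · rw [Subgroup.card_map_of_injective (MulAut.conj _).injective]
    have he : el x y (2 ^ (n - 1) - c) 0 * (el x y c d * z) * (el x y (2 ^ (n - 1) - c) 0)⁻¹ =
        el x y (2 ^ (n - 1)) 0 * z := by
      rw [conj_el_elz h, el_z_eq h]
      exact ⟨by simp, by rwa [show d + 0 - (2 ^ (n - 1) - c) - 0 = c + d - 2 ^ (n - 1) by ring]⟩
    rw [hXQ, Subgroup.map_sup, hz, MonoidHom.map_closure, Set.image_pair]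
    simp only [MulEquiv.coe_toMonoidHom, MulAut.conj_apply, conj_el_el h, he]
    rfl

theorem selfcentralizing_main (h : WR S n x y z) (X : Subgroup S)
    (hC : Subgroup.centralizer (X : Set S) ≤ X) (hA : ¬ IsPGroup 2 (MulAut X)) :
    X.relIndex (Subgroup.normalizer (X : Set S)) = 2 ∧
      ((IsMulCommutative X ∧ Nat.card X = 2 ^ (2 * n)) ∨
        ∃ Q : Subgroup S, Nonempty (Q ≃* QuaternionGroup 2) ∧ X = Q ⊔ Subgroup.center S) ∧
      (¬ IsMulCommutative X → ∃ s : S, X.map (MulAut.conj s).toMonoidHom = qz n x y z) := by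
  obtain ⟨φ, hφ, hne⟩ : ∃ φ : MulAut X, Odd (orderOf φ) ∧ φ ≠ 1 := by
    by_contra hcon
    push Not at hcon
    exact hA (isPGroup_mulAut hcon)
  rcases selfcentralizing_cases h hC hφ hne with rfl | ⟨hiff, c, d, hcd, hg⟩
  · refine ⟨?_, Or.inl ⟨base_comm h, card_base h⟩, fun hn => absurd (base_comm h) hn⟩
    have := base_normal h
    rw [Subgroup.normalizer_eq_top (base h), Subgroup.relIndex_top_right, index_base h]
  · obtain ⟨-, h2, h3, h4⟩ := qz_shape h hiff hcd hg
    exact ⟨h2, Or.inr h3, fun _ => h4⟩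

end CfsgLib.TwoGroups.WR
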