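import Mathlib

/-!
Four-groups in dihedral groups.
-/

set_option autoImplicit false

namespace CfsgLib.TwoGroups.Dihedral

open DihedralGroup

/-- `ZMod m` has at most two solutions of `2 a = 0`. -/
theorem card_two_torsion_le (m : ℕ) [NeZero m] :
    Nat.card {a : ZMod m // a + a = 0} ≤ 2 := by
  have key : ∀ a : ZMod m, a + a = 0 → a.val = 0 ∨ 2 * a.val = m := by
    intro a ha
    have h1 : ((a.val + a.val : ℕ) : ZMod m) = 0 := by
      rw [Nat.cast_add, ZMod.natCast_zmod_val, ha]
    rw [ZMod.natCast_eq_zero_iff] at h1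
    obtain ⟨k, hk⟩ := h1
    have hlt := ZMod.val_lt a
    have hk2 : k < 2 := by
      by_contra hcon
      push Not at hcon
      have h2 : m * 2 ≤ m * k := Nat.mul_le_mul_left m hcon
      omega
    rcases k with _ | _ | k
    · left; omega
    · right; omega
    · omega
  let f : {a : ZMod m // a + a = 0} → Bool := fun a => decide (a.1.val = 0)
  have hf : Function.Injective f := by
    intro a b e
    apply Subtype.ext
    apply ZMod.val_injective
    have e' : (a.1.val = 0) ↔ (b.1.val = 0) := decide_eq_decide.1 e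
    rcases key a.1 a.2 with ha | ha <;> rcases key b.1 b.2 with hb | hb <;> omega
  simpa using Nat.card_le_card_of_injective f hf

/-- The centralizer of a reflection has at most four elements. -/
theorem card_centralizer_sr_le (m : ℕ) [NeZero m] (i : ZMod m) :
    Nat.card (Subgroup.centralizer ({sr i} : Set (DihedralGroup m))) ≤ 4 := by
  classical
  have hmem : ∀ g ∈ Subgroup.centralizer ({sr i} : Set (DihedralGroup m)),
      (∃ a : ZMod m, a + a = 0 ∧ g = r a) ∨ (∃ a : ZMod m, a + a = 0 ∧ g = sr (i + a)) := by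
    intro g hg
    rw [Subgroup.mem_centralizer_singleton_iff] at hg
    rcases g with a | j
    · left
      refine ⟨a, ?_, rfl⟩
      rw [r_mul_sr, sr_mul_r, sr.injEq] at hg
      have h1 : i - a + a = i + a + a := congrArg (· + a) hg
      have h2 : i + (a + a) = i + 0 := by rw [add_zero, ← add_assoc, ← h1, sub_add_cancel]
      exact add_left_cancel h2
    · right
      refine ⟨j - i, ?_, by rw [add_sub_cancel]⟩
      rw [sr_mul_sr, sr_mul_sr, r.injEq] at hg
      have h1 : (j - i) + (j - i) = (j - i) - (i - j) := by abel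
      rw [h1, hg, sub_self]
  let S := {a : ZMod m // a + a = 0}
  let f : Bool × S → DihedralGroup m := fun p => if p.1 then r p.2.1 else sr (i + p.2.1)
  let g : Subgroup.centralizer ({sr i} : Set (DihedralGroup m)) → Bool × S := fun x =>
    if h : ∃ a : ZMod m, a + a = 0 ∧ x.1 = r a then (true, ⟨h.choose, h.choose_spec.1⟩)
    else (false, ⟨((hmem x.1 x.2).resolve_left h).choose, ((hmem x.1 x.2).resolve_left h).choose_spec.1⟩)
  have hfg : ∀ x, f (g x) = x.1 := by
    intro x
    by_cases h : ∃ a : ZMod m, a + a = 0 ∧ x.1 = r a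
    · simp only [g, dif_pos h, f, if_true]
      exact h.choose_spec.2.symm
    · simp only [g, dif_neg h, f]
      exact ((hmem x.1 x.2).resolve_left h).choose_spec.2.symm
  have hg : Function.Injective g := fun x y e => Subtype.ext (by rw [← hfg x, e, hfg])
  calc Nat.card (Subgroup.centralizer ({sr i} : Set (DihedralGroup m)))
      ≤ Nat.card (Bool × S) := Nat.card_le_card_of_injective g hg
    _ = 2 * Nat.card S := by rw [Nat.card_prod, Nat.card_eq_fintype_card (α := Bool), Fintype.card_bool]
    _ ≤ 4 := by have : Nat.card S ≤ 2 := card_two_torsion_le m; omega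

/-- A subgroup of order 4 and exponent 2 of a finite dihedral group contains a reflection. -/
theorem exists_sr_mem (m : ℕ) [NeZero m] {V : Subgroup (DihedralGroup m)}
    (h4 : 4 ≤ Nat.card V) (hsq : ∀ x ∈ V, x ^ 2 = 1) : ∃ i : ZMod m, sr i ∈ V := by
  by_contra hcon
  have hr : ∀ x : V, ∃ a : ZMod m, a + a = 0 ∧ x.1 = r a := by
    intro x
    rcases hx : x.1 with a | i
    · refine ⟨a, ?_, rfl⟩
      have h1 := hsq x.1 x.2
      rw [hx, pow_two, r_mul_r, one_def, r.injEq] at h1
      exact h1
    · exact absurd ⟨i, hx ▸ x.2⟩ hcon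
  let f : V → {a : ZMod m // a + a = 0} := fun x => ⟨(hr x).choose, (hr x).choose_spec.1⟩
  have hf : Function.Injective f := fun x y e => Subtype.ext (by
    rw [(hr x).choose_spec.2, (hr y).choose_spec.2, show (hr x).choose = (hr y).choose from
      congrArg Subtype.val e])
  have := Nat.card_le_card_of_injective f hf
  have := card_two_torsion_le m
  omega

/-- Four-groups of a finite dihedral group are self-centralizing. -/
theorem centralizer_eq_self (m : ℕ) [NeZero m] {V : Subgroup (DihedralGroup m)}
    (hcomm : ∀ x ∈ V, ∀ y ∈ V, x * y = y * x) (h4 : 4 ≤ Nat.card V) (hsq : ∀ x ∈ V, x ^ 2 = 1) :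
    Subgroup.centralizer (V : Set (DihedralGroup m)) = V := by
  obtain ⟨i, hi⟩ := exists_sr_mem m h4 hsq
  refine le_antisymm (fun g hg => ?_) (fun g hg => Subgroup.mem_centralizer_iff.2 fun v hv => hcomm v hv g hg)
  have hle : V ≤ Subgroup.centralizer ({sr i} : Set (DihedralGroup m)) := fun v hv =>
    Subgroup.mem_centralizer_singleton_iff.2 (hcomm v hv _ hi)
  rw [Subgroup.eq_of_le_of_card_ge hle ((card_centralizer_sr_le m i).trans h4)]
  exact Subgroup.mem_centralizer_singleton_iff.2 (Subgroup.mem_centralizer_iff.1 hg _ hi).symm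

end CfsgLib.TwoGroups.Dihedral
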