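import Mathlib
import Cfsg.Prelude.Def_TwoFusion
import Cfsg.Agent.S0514
import Cfsg.Agent.Lib.Involutions.Basic
import Cfsg.Agent.Lib.Involutions.StronglyEmbedded
import Cfsg.Agent.Lib.Involutions.Fusion
import Cfsg.Agent.Lib.Transfer.Basic
import Cfsg.Agent.Lib.Transfer.NormalComplement
import Cfsg.Agent.Lib.TwoGroups.Dihedral

/-!
Fusion in finite groups with dihedral Sylow 2-subgroups of order at least 8.
-/

set_option autoImplicit false

namespace CfsgLib.TwoGroups.DihedralFusion

open DihedralGroup CfsgLib.Involutions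

/-! ### Facts inside the dihedral group -/

section Model

variable {m j : ℕ} [NeZero m]

theorem cast_two_mul (hj : m = 2 * j) : ((j : ZMod m)) + j = 0 := by
  rw [← Nat.cast_add, ← two_mul, ← hj, ZMod.natCast_self]

theorem two_torsion (hj : m = 2 * j) {a : ZMod m} (ha : a + a = 0) : a = 0 ∨ a = j := by
  have h1 : ((a.val + a.val : ℕ) : ZMod m) = 0 := by
    rw [Nat.cast_add, ZMod.natCast_zmod_val, ha]
  rw [ZMod.natCast_eq_zero_iff] at h1
  obtain ⟨k, hk⟩ := h1
  have hlt := ZMod.val_lt a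
  have hk2 : k < 2 := by
    by_contra hcon
    push Not at hcon
    have := Nat.mul_le_mul_left m hcon
    omega
  rcases k with _ | _ | k
  · left
    rw [← ZMod.natCast_zmod_val a, show a.val = 0 by omega, Nat.cast_zero]
  · right
    rw [← ZMod.natCast_zmod_val a, show a.val = j by omega]
  · omega

theorem j_ne_zero (hj : m = 2 * j) : (j : ZMod m) ≠ 0 := by
  intro h
  rw [ZMod.natCast_eq_zero_iff] at h
  have hm : 0 < m := NeZero.pos m
  have := Nat.le_of_dvd (by omega) h
  omega

theorem commute_sr_cases (hj : m = 2 * j) {i : ZMod m} {g : DihedralGroup m}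
    (hg : g * sr i = sr i * g) : g = 1 ∨ g = r (j : ZMod m) ∨ g = sr i ∨ g = sr (i + (j : ZMod m)) := by
  rcases g with a | b
  · rw [r_mul_sr, sr_mul_r, sr.injEq] at hg
    have h1 : a + a = 0 := by
      rw [← sub_eq_zero] at hg
      rw [← neg_eq_zero, ← hg]; abel
    rcases two_torsion hj h1 with rfl | rfl
    · exact Or.inl rfl
    · exact Or.inr (Or.inl rfl)
  · rw [sr_mul_sr, sr_mul_sr, r.injEq] at hg
    have h1 : (b - i) + (b - i) = 0 := by
      rw [show (b - i) + (b - i) = (b - i) - (i - b) by abel, hg, sub_self]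
    rcases two_torsion hj h1 with e | e
    · exact Or.inr (Or.inr (Or.inl (by rw [sub_eq_zero.1 e])))
    · exact Or.inr (Or.inr (Or.inr (by rw [← e, add_sub_cancel])))

theorem rj_commute (hj : m = 2 * j) (g : DihedralGroup m) :
    r (j : ZMod m) * g = g * r (j : ZMod m) := by
  rcases g with a | b
  · rw [r_mul_r, r_mul_r, add_comm]
  · rw [r_mul_sr, sr_mul_r, sr.injEq]
    have := cast_two_mul (j := j) hj
    rw [sub_eq_iff_eq_add, add_assoc, this, add_zero]

theorem involution_cases (hj : m = 2 * j) {g : DihedralGroup m} (hg : g * g = 1) (hg1 : g ≠ 1) :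
    g = r (j : ZMod m) ∨ ∃ i, g = sr i := by
  rcases g with a | b
  · left
    rw [r_mul_r, one_def, r.injEq] at hg
    rcases two_torsion hj hg with rfl | rfl
    · exact absurd rfl hg1
    · rfl
  · exact Or.inr ⟨b, rfl⟩

/-- The parity of an index. -/
noncomputable def parity (hj : m = 2 * j) : ZMod m →+* ZMod 2 :=
  ZMod.castHom (show 2 ∣ m from ⟨j, hj⟩) (ZMod 2)

theorem zmod2_cases : ∀ u : ZMod 2, u = 0 ∨ u = 1 := by decide

theorem zmod2_xor : ∀ u : ZMod 2, Xor (u + 1 = 0) (u = 0) := by decide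

theorem parity_double (hj : m = 2 * j) (a : ZMod m) : parity hj (a + a) = 0 := by
  rw [map_add]; exact CharTwo.add_self_eq_zero _

theorem exists_double (hj : m = 2 * j) {t : ZMod m} (ht : parity hj t = 0) :
    ∃ a, a + a = t := by
  rw [← ZMod.natCast_zmod_val t, map_natCast, ZMod.natCast_eq_zero_iff] at ht
  obtain ⟨c, hc⟩ := ht
  exact ⟨(c : ZMod m), by rw [← Nat.cast_add, ← two_mul, ← hc, ZMod.natCast_zmod_val]⟩

theorem sr_conj (hj : m = 2 * j) {i k : ZMod m} (h : parity hj i = parity hj k) :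
    ∃ g : DihedralGroup m, g * sr i * g⁻¹ = sr k := by
  obtain ⟨a, ha⟩ := exists_double hj (t := i - k) (by rw [map_sub, h, sub_self])
  refine ⟨r a, ?_⟩
  rw [inv_r, r_mul_sr, sr_mul_r, sr.injEq, show i - a + -a = i - (a + a) by abel, ha]
  abel

theorem parity_conj (hj : m = 2 * j) {i k : ZMod m} {g : DihedralGroup m}
    (h : g * sr i * g⁻¹ = sr k) : parity hj i = parity hj k := by
  rcases g with a | b
  · rw [inv_r, r_mul_sr, sr_mul_r, sr.injEq] at h
    rw [← h, show i - a + -a = i - (a + a) by abel, map_sub, parity_double, sub_zero]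
  · rw [inv_sr, sr_mul_sr, r_mul_sr, sr.injEq] at h
    rw [← h, show b - (i - b) = (b + b) - i by abel, map_sub, parity_double, zero_sub]
    exact (CharTwo.neg_eq _).symm

end Model

/-! ### The ambient group -/

universe u

variable {X : Type u} [Group X] [Finite X]

/-- The data: a dihedral Sylow 2-subgroup of order `2 m = 4 j` with `j` even. -/
structure Data (X : Type u) [Group X] (m : ℕ) where
  S : Sylow 2 X
  eS : (S : Subgroup X) ≃* DihedralGroup m
  j : ℕ
  hj : m = 2 * j
  heven : Even j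
  hpos : 0 < j

variable {m : ℕ} (d : Data X m)

/-- The embedding of the model. -/
noncomputable def Data.emb : DihedralGroup m →* X :=
  (d.S : Subgroup X).subtype.comp d.eS.symm.toMonoidHom

/-- The central involution. -/
noncomputable def Data.z : X := d.emb (r (d.j : ZMod m))

/-- The reflection with index `i`. -/
noncomputable def Data.w (i : ZMod m) : X := d.emb (sr i)

/-- The four-group of the reflection with index `i`. -/
noncomputable def Data.V (i : ZMod m) : Subgroup X :=
  (Subgroup.centralizer ({sr i} : Set (DihedralGroup m))).map d.emb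

variable {d}

theorem Data.neZero (d : Data X m) : NeZero m :=
  ⟨by have h1 := d.hj; have h2 := d.hpos; omega⟩

omit [Finite X] in
theorem emb_inj : Function.Injective d.emb :=
  (d.S : Subgroup X).subtype_injective.comp d.eS.symm.injective

omit [Finite X] in
theorem emb_mem (g : DihedralGroup m) : d.emb g ∈ (d.S : Subgroup X) := (d.eS.symm g).2

omit [Finite X] in
theorem exists_emb {x : X} (hx : x ∈ (d.S : Subgroup X)) : ∃ g, d.emb g = x :=
  ⟨d.eS ⟨x, hx⟩, by simp [Data.emb]⟩

theorem z_ne_one : d.z ≠ 1 := by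
  have := d.neZero
  intro h
  have h2 : r (d.j : ZMod m) = r (0 : ZMod m) := emb_inj (h.trans d.emb.map_one.symm)
  rw [r.injEq] at h2
  exact j_ne_zero d.hj h2

theorem z_mul_self : d.z * d.z = 1 := by
  have := d.neZero
  show d.emb _ * d.emb _ = 1
  rw [← map_mul, r_mul_r, cast_two_mul d.hj, ← one_def, map_one]

theorem orderOf_z : orderOf d.z = 2 :=
  orderOf_eq_prime (by rw [pow_two, z_mul_self]) z_ne_one

omit [Finite X] in
theorem w_ne_one (i : ZMod m) : d.w i ≠ 1 := by
  intro h
  have h2 : sr i = r (0 : ZMod m) := emb_inj (h.trans d.emb.map_one.symm)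
  cases h2

omit [Finite X] in
theorem w_mul_self (i : ZMod m) : d.w i * d.w i = 1 := by
  show d.emb _ * d.emb _ = 1
  rw [← map_mul, sr_mul_self, map_one]

omit [Finite X] in
theorem orderOf_w (i : ZMod m) : orderOf (d.w i) = 2 :=
  orderOf_eq_prime (by rw [pow_two, w_mul_self]) (w_ne_one i)

theorem z_commute {x : X} (hx : x ∈ (d.S : Subgroup X)) : d.z * x = x * d.z := by
  have := d.neZero
  obtain ⟨g, rfl⟩ := exists_emb hx
  show d.emb _ * d.emb g = d.emb g * d.emb _
  rw [← map_mul, ← map_mul, rj_commute d.hj]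

theorem S_le_centralizer_z : (d.S : Subgroup X) ≤ Subgroup.centralizer ({d.z} : Set X) :=
  fun _ hx => Subgroup.mem_centralizer_singleton_iff.2 (z_commute hx).symm

theorem z_mul_w (i : ZMod m) : d.z * d.w i = d.w (i + d.j) := by
  have := d.neZero
  show d.emb _ * d.emb _ = d.emb _
  rw [← map_mul, r_mul_sr]
  congr 2
  rw [sub_eq_iff_eq_add, add_assoc, cast_two_mul d.hj, add_zero]

theorem involution_mem_cases {x : X} (hx : x ∈ (d.S : Subgroup X)) (h2 : orderOf x = 2) :
    x = d.z ∨ ∃ i, x = d.w i := by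
  have := d.neZero
  obtain ⟨g, rfl⟩ := exists_emb hx
  rcases involution_cases (j := d.j) d.hj (g := g)
    (emb_inj (d := d) (by rw [map_mul, mul_self_eq_one h2, map_one]))
    (fun e => ne_one_of_involution h2 (by rw [e, map_one])) with rfl | ⟨i, rfl⟩
  · exact Or.inl rfl
  · exact Or.inr ⟨i, rfl⟩

theorem parity_add_j (i : ZMod m) [NeZero m] : parity d.hj (i + d.j) = parity d.hj i := by
  have h0 : ((d.j : ℕ) : ZMod 2) = 0 := (ZMod.natCast_eq_zero_iff _ _).2 d.heven.two_dvd
  rw [map_add, map_natCast, h0, add_zero]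

theorem w_conj {i k : ZMod m} [NeZero m] (h : parity d.hj i = parity d.hj k) :
    ∃ s ∈ (d.S : Subgroup X), s * d.w i * s⁻¹ = d.w k := by
  obtain ⟨g, hg⟩ := sr_conj d.hj h
  exact ⟨d.emb g, emb_mem g, by
    show _ * d.emb _ * _ = d.emb _
    rw [← map_inv, ← map_mul, ← map_mul, hg]⟩

theorem parity_of_S_conj {i k : ZMod m} [NeZero m] {s : X} (hs : s ∈ (d.S : Subgroup X))
    (h : s * d.w i * s⁻¹ = d.w k) : parity d.hj i = parity d.hj k := by
  obtain ⟨g, rfl⟩ := exists_emb hs
  refine parity_conj d.hj (g := g) (emb_inj (d := d) ?_)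
  rw [map_mul, map_mul, map_inv]
  exact h

/-- An element of `S` swapping `w i` and `z * w i`. -/
theorem exists_swap (i : ZMod m) :
    ∃ s ∈ (d.S : Subgroup X), s * d.w i * s⁻¹ = d.w (i + d.j) ∧
      s * d.w (i + d.j) * s⁻¹ = d.w i := by
  have := d.neZero
  obtain ⟨c, hc⟩ := d.heven
  have hcc : (c : ZMod m) + c = d.j := by rw [← Nat.cast_add, ← hc]
  refine ⟨d.emb (r (c : ZMod m)), emb_mem _, ?_, ?_⟩
  all_goals
    show _ * d.emb _ * _ = d.emb _
    rw [← map_inv, ← map_mul, ← map_mul, inv_r, r_mul_sr, sr_mul_r]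
    congr 2
  · rw [show i - (c : ZMod m) + -(c : ZMod m) = i - ((c : ZMod m) + c) by abel, hcc, sub_eq_iff_eq_add,
      add_assoc, cast_two_mul d.hj, add_zero]
  · rw [show i + (d.j : ZMod m) - (c : ZMod m) + -(c : ZMod m) = i + d.j - ((c : ZMod m) + c) by abel,
      hcc, add_sub_cancel_right]

theorem mem_V_iff {i : ZMod m} {x : X} :
    x ∈ d.V i ↔ x = 1 ∨ x = d.z ∨ x = d.w i ∨ x = d.w (i + d.j) := by
  have := d.neZero
  constructor
  · rintro ⟨g, hg, rfl⟩
    rcases commute_sr_cases d.hj (Subgroup.mem_centralizer_singleton_iff.1 hg) with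
      rfl | rfl | rfl | rfl
    · exact Or.inl (map_one _)
    · exact Or.inr (Or.inl rfl)
    · exact Or.inr (Or.inr (Or.inl rfl))
    · exact Or.inr (Or.inr (Or.inr rfl))
  · rintro (rfl | rfl | rfl | rfl)
    · exact one_mem _
    · exact ⟨_, Subgroup.mem_centralizer_singleton_iff.2 (rj_commute d.hj _), rfl⟩
    · exact ⟨_, Subgroup.mem_centralizer_singleton_iff.2 rfl, rfl⟩
    · refine ⟨_, Subgroup.mem_centralizer_singleton_iff.2 ?_, rfl⟩
      rw [sr_mul_sr, sr_mul_sr, r.injEq, sub_eq_sub_iff_add_eq_add, add_assoc i (d.j : ZMod m),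
        ← add_assoc (d.j : ZMod m), add_comm (d.j : ZMod m) i, add_assoc i (d.j : ZMod m),
        cast_two_mul d.hj, add_zero]

theorem V_le (i : ZMod m) : d.V i ≤ (d.S : Subgroup X) := by
  rintro _ ⟨g, -, rfl⟩
  exact emb_mem g

theorem V_comm {i : ZMod m} {x y : X} (hx : x ∈ d.V i) (hy : y ∈ d.V i) : x * y = y * x := by
  have := d.neZero
  have hw : ∀ v ∈ d.V i, d.w i * v = v * d.w i := by
    rintro _ ⟨g, hg, rfl⟩
    show d.emb _ * d.emb g = d.emb g * d.emb _
    rw [← map_mul, ← map_mul, Subgroup.mem_centralizer_singleton_iff.1 hg]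
  rcases mem_V_iff.1 hx with rfl | rfl | rfl | rfl
  · simp
  · exact z_commute (V_le i hy)
  · exact hw y hy
  · rw [← z_mul_w i, mul_assoc, hw y hy, ← mul_assoc, z_commute (V_le i hy), mul_assoc]

theorem card_V (i : ZMod m) : Nat.card (d.V i) = 4 := by
  classical
  have := d.neZero
  have h1 : Nat.card (d.V i) ≤ 4 := by
    rw [Data.V, Subgroup.card_map_of_injective emb_inj]
    exact Dihedral.card_centralizer_sr_le m i
  refine le_antisymm h1 (le_of_eq (Eq.symm ?_))
  have n1 : d.z ≠ d.w i := fun e => by cases emb_inj e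
  have n2 : d.z ≠ d.w (i + d.j) := fun e => by cases emb_inj e
  have n3 : d.w i ≠ d.w (i + d.j) := fun e => by
    have e' := emb_inj e
    rw [sr.injEq] at e'
    exact j_ne_zero d.hj (left_eq_add.1 e')
  have hset : (d.V i : Set X) = ↑({1, d.z, d.w i, d.w (i + d.j)} : Finset X) := by
    ext x
    simp [mem_V_iff]
  have h4 : ({1, d.z, d.w i, d.w (i + d.j)} : Finset X).card = 4 := by
    rw [Finset.card_insert_of_notMem, Finset.card_insert_of_notMem,
      Finset.card_insert_of_notMem, Finset.card_singleton]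
    · simpa using n3
    · simpa using ⟨n1, n2⟩
    · simpa using ⟨z_ne_one.symm, (w_ne_one i).symm, (w_ne_one _).symm⟩
  rw [← SetLike.coe_sort_coe, hset, Nat.card_coe_set_eq, Set.ncard_coe_finset, h4]

theorem V_klein (i : ZMod m) : IsKleinFour (d.V i) := by
  have := d.neZero
  have : Nontrivial (d.V i) := Finite.one_lt_card_iff_nontrivial.1 (by rw [card_V]; norm_num)
  refine ⟨card_V i, ?_⟩
  rcases (Nat.dvd_prime Nat.prime_two).1 (Monoid.exponent_dvd_of_forall_pow_eq_one (G := d.V i)
      (n := 2) (fun v => Subtype.ext (by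
        show (v : X) ^ 2 = 1
        rcases mem_V_iff.1 v.2 with e | e | e | e <;> rw [e, pow_two]
        · exact one_mul 1
        · exact z_mul_self
        · exact w_mul_self i
        · exact w_mul_self _))) with h | h
  · exact absurd (Monoid.exp_eq_one_iff.1 h) (not_subsingleton _)
  · exact h

/-- Four-groups of `S` are the groups `V i`. -/
theorem klein_le_eq {U : Subgroup X} (hU : U ≤ (d.S : Subgroup X)) (hK : IsKleinFour U) :
    ∃ i, U = d.V i := by
  have := d.neZero
  have hsq : ∀ x ∈ U, x * x = 1 := fun x hx => by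
    have := Monoid.pow_exponent_eq_one (⟨x, hx⟩ : U)
    rw [hK.exponent_two, pow_two] at this
    exact congrArg Subtype.val this
  have hrange : U ≤ d.emb.range := fun x hx => exists_emb (hU hx)
  have hcard : Nat.card (U.comap d.emb) = 4 := by
    rw [← Subgroup.card_map_of_injective (emb_inj (d := d)) (K := U.comap d.emb),
      Subgroup.map_comap_eq_self hrange, hK.card_four]
  obtain ⟨i, hi⟩ := Dihedral.exists_sr_mem m (V := U.comap d.emb) hcard.ge
    (fun g hg => emb_inj (d := d) (by rw [map_pow, pow_two, hsq _ hg, map_one]))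
  refine ⟨i, Subgroup.eq_of_le_of_card_ge ?_ (by rw [card_V, hK.card_four])⟩
  intro x hx
  obtain ⟨g, rfl⟩ := exists_emb (hU hx)
  refine ⟨g, Subgroup.mem_centralizer_singleton_iff.2 (emb_inj (d := d) ?_), rfl⟩
  have h1 := hsq _ (mul_mem hx hi)
  have h2 : d.emb g * d.emb (sr i) = (d.emb g * d.emb (sr i))⁻¹ := eq_inv_of_mul_eq_one_left h1
  rw [mul_inv_rev, ← eq_inv_of_mul_eq_one_left (hsq _ hx),
    ← eq_inv_of_mul_eq_one_left (hsq _ hi)] at h2
  rw [map_mul, map_mul]
  exact h2

/-- A normal 2-complement in a subgroup containing a Sylow 2-subgroup controls fusion. -/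
theorem control_of_two_complement {G : Type*} [Group G] [Finite G] (S : Sylow 2 G) {C : Subgroup G}
    (hSC : (S : Subgroup G) ≤ C) {N : Subgroup C} (hN : N.Normal) (hNodd : Odd (Nat.card N)) {k : ℕ}
    (hk : N.index = 2 ^ k) {c : G} (hcC : c ∈ C) :
    ∃ s ∈ (S : Subgroup G), ∀ x ∈ (S : Subgroup G), c * x * c⁻¹ ∈ (S : Subgroup G) →
      c * x * c⁻¹ = s * x * s⁻¹ := by
  have : Fact (Nat.Prime 2) := ⟨Nat.prime_two⟩
  let S' : Sylow 2 C := S.subtype hSC
  have htop : N ⊔ (S' : Subgroup C) = ⊤ := by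
    have h1 : (N ⊔ (S' : Subgroup C)).index ∣ 2 ^ k := by
      rw [← hk]; exact Subgroup.index_dvd_of_le le_sup_left
    have h2 : (N ⊔ (S' : Subgroup C)).index ∣ (S' : Subgroup C).index :=
      Subgroup.index_dvd_of_le le_sup_right
    have h3 : Nat.Coprime (2 ^ k) (S' : Subgroup C).index :=
      (Nat.prime_two.coprime_iff_not_dvd.2 (Sylow.not_dvd_index S')).pow_left k
    exact Subgroup.index_eq_one.1 (Nat.eq_one_of_dvd_coprimes h3 h1 h2)
  have hmem : (⟨c, hcC⟩ : C) ∈ N ⊔ (S' : Subgroup C) := by rw [htop]; exact Subgroup.mem_top _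
  obtain ⟨n, hn, s, hs, hns⟩ := Subgroup.mem_sup_of_normal_left.1 hmem
  have hsS : ((s : C) : G) ∈ (S : Subgroup G) := hs
  refine ⟨s, hsS, fun x hx hcx => ?_⟩
  have hxC : x ∈ C := hSC hx
  set x' : C := ⟨x, hxC⟩
  have h1 : (⟨c, hcC⟩ : C) * x' * (⟨c, hcC⟩ : C)⁻¹ * (s * x' * s⁻¹)⁻¹ ∈ N := by
    rw [← hns, show n * s * x' * (n * s)⁻¹ * (s * x' * s⁻¹)⁻¹ =
      n * (s * x' * s⁻¹ * n⁻¹ * (s * x' * s⁻¹)⁻¹) by group]
    exact mul_mem hn (hN.conj_mem _ (inv_mem hn) _)
  set t := (⟨c, hcC⟩ : C) * x' * (⟨c, hcC⟩ : C)⁻¹ * (s * x' * s⁻¹)⁻¹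
  have h2 : t ∈ (S' : Subgroup C) :=
    mul_mem (show c * x * c⁻¹ ∈ (S : Subgroup G) from hcx)
      (inv_mem (show (s : G) * x * (s : G)⁻¹ ∈ (S : Subgroup G) from
        mul_mem (mul_mem hsS hx) (inv_mem hsS)))
  have h3 : orderOf t ∣ Nat.card N := Subgroup.orderOf_dvd_natCard N h1
  obtain ⟨e, he⟩ := IsPGroup.iff_orderOf.1 S'.isPGroup' ⟨t, h2⟩
  rw [Subgroup.orderOf_mk] at he
  have h4 : orderOf t = 1 := Nat.eq_one_of_dvd_coprimes
    ((Nat.coprime_two_left.2 hNodd).pow_left e) he.dvd h3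
  rw [orderOf_eq_one_iff] at h4
  exact congrArg Subtype.val (mul_inv_eq_one.1 h4)

/-- Fusion inside the centralizer of `z` is controlled by `S`. -/
theorem centralizer_z_control {c : X} (hc : c * d.z = d.z * c) :
    ∃ s ∈ (d.S : Subgroup X), ∀ x ∈ (d.S : Subgroup X), c * x * c⁻¹ ∈ (d.S : Subgroup X) →
      c * x * c⁻¹ = s * x * s⁻¹ := by
  have hm : 2 ≤ m := by have h1 := d.hj; have h2 := d.hpos; omega
  obtain ⟨N, hN, hNodd, k, hk⟩ := Cfsg.Agent.S0514.result d.S m hm ⟨d.eS⟩ d.z orderOf_z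
  exact control_of_two_complement d.S S_le_centralizer_z hN hNodd hk
    (Subgroup.mem_centralizer_singleton_iff.2 hc)

/-- A 2-element commuting with the four-group `V i` lies in it. -/
theorem selfcentral {i : ZMod m} {y : X} (hy : ∃ e, orderOf y = 2 ^ e)
    (hc : ∀ v ∈ d.V i, y * v = v * y) : y ∈ d.V i := by
  have := d.neZero
  have : Fact (Nat.Prime 2) := ⟨Nat.prime_two⟩
  set C := Subgroup.centralizer ({d.z} : Set X)
  have hyC : y ∈ C := Subgroup.mem_centralizer_singleton_iff.2 (hc _ (mem_V_iff.2 (Or.inr (Or.inl rfl))))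
  obtain ⟨e, he⟩ := hy
  have hW : IsPGroup 2 (d.V i ⊔ Subgroup.zpowers y : Subgroup X) := by
    refine ((d.S.isPGroup'.to_le (V_le i)).to_sup_of_normal_left'
      (IsPGroup.of_card (n := e) (by rw [Nat.card_zpowers, he])) ?_)
    rw [Subgroup.zpowers_le, Subgroup.mem_set_normalizer_iff]
    intro v
    constructor
    · intro hv; rwa [SetLike.mem_coe, hc v hv, mul_inv_cancel_right]
    · intro hv
      have h1 := hc _ hv
      rw [inv_mul_cancel_right] at h1
      rw [mul_left_cancel h1] at hv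
      exact hv
  have hWC : d.V i ⊔ Subgroup.zpowers y ≤ C :=
    sup_le ((V_le i).trans S_le_centralizer_z) (Subgroup.zpowers_le.2 hyC)
  obtain ⟨c, hc'⟩ := exists_conj_le_sylow (hW.comap_subtype (K := C))
    (d.S.subtype S_le_centralizer_z)
  have hinS : ∀ v ∈ d.V i ⊔ Subgroup.zpowers y, (c : X) * v * (c : X)⁻¹ ∈ (d.S : Subgroup X) :=
    fun v hv => hc' ⟨v, hWC hv⟩ hv
  obtain ⟨k, hk⟩ := klein_le_eq (U := (d.V i).map (MulAut.conj (c : X)).toMonoidHom)
    (by rintro _ ⟨v, hv, rfl⟩; exact hinS v (Subgroup.mem_sup_left hv))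
    (by
      refine ⟨by rw [Subgroup.card_map_of_injective (MulAut.conj (c : X)).injective, card_V], ?_⟩
      have h2 := (V_klein (d := d) i).exponent_two
      rw [← h2]
      exact (Monoid.exponent_eq_of_mulEquiv
        ((d.V i).equivMapOfInjective _ (MulAut.conj (c : X)).injective)).symm)
  have h3 : (c : X) * y * (c : X)⁻¹ ∈ d.V k := by
    obtain ⟨g, hg⟩ := exists_emb (hinS y (Subgroup.mem_sup_right (Subgroup.mem_zpowers y)))
    rw [← hg]
    refine ⟨g, Subgroup.mem_centralizer_singleton_iff.2 (emb_inj (d := d) ?_), rfl⟩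
    rw [map_mul, map_mul, hg]
    have hmem : d.emb (sr k) ∈ (d.V i).map (MulAut.conj (c : X)).toMonoidHom :=
      hk ▸ mem_V_iff.2 (Or.inr (Or.inr (Or.inl rfl)))
    obtain ⟨v, hv, hve⟩ := hmem
    rw [← hve]
    show (c : X) * y * (c : X)⁻¹ * ((c : X) * v * (c : X)⁻¹) =
      (c : X) * v * (c : X)⁻¹ * ((c : X) * y * (c : X)⁻¹)
    calc (c : X) * y * (c : X)⁻¹ * ((c : X) * v * (c : X)⁻¹) = (c : X) * (y * v) * (c : X)⁻¹ := by group
      _ = _ := by rw [hc v hv]; group
  rw [← hk] at h3
  obtain ⟨v, hv, hve⟩ := h3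
  have : v = y := mul_left_cancel (mul_right_cancel hve)
  exact this ▸ hv

/-- If the four-group `V i` is not a Sylow 2-subgroup of the centralizer of `w i`, its normalizer
conjugates `z` to `w i`. -/
theorem grow {i : ZMod m} {R : Subgroup X} (hR : IsPGroup 2 R) (hlt : d.V i < R)
    (hRc : ∀ x ∈ R, x * d.w i = d.w i * x) :
    ∃ n ∈ Subgroup.normalizer (d.V i : Set X), n * d.z * n⁻¹ = d.w i := by
  have := d.neZero
  have : Fact (Nat.Prime 2) := ⟨Nat.prime_two⟩
  obtain ⟨y, hyR, hyV, hyN⟩ := exists_mem_normalizer_notMem hR hlt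
  obtain ⟨s, hsS, hs1, hs2⟩ := exists_swap (d := d) i
  have hyw : y * d.w i * y⁻¹ = d.w i := by rw [hRc y hyR, mul_inv_cancel_right]
  have hz2 : y * d.z * y⁻¹ = d.w (i + d.j) := by
    rcases mem_V_iff.1 ((Subgroup.mem_set_normalizer_iff.1 hyN d.z).1
      (mem_V_iff.2 (Or.inr (Or.inl rfl)))) with h | h | h | h
    · exact absurd (conj_eq_one_iff.1 h) z_ne_one
    · exfalso
      refine hyV (selfcentral ?_ ?_)
      · obtain ⟨e, he⟩ := IsPGroup.iff_orderOf.1 hR ⟨y, hyR⟩
        exact ⟨e, by rwa [Subgroup.orderOf_mk] at he⟩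
      · have hz' : y * d.z = d.z * y := mul_inv_eq_iff_eq_mul.1 h
        have hw' := hRc y hyR
        intro v hv
        rcases mem_V_iff.1 hv with rfl | rfl | rfl | rfl
        · simp
        · exact hz'
        · exact hw'
        · rw [← z_mul_w, ← mul_assoc, hz', mul_assoc, hw', mul_assoc]
    · exfalso
      have e : d.z = d.w i := mul_left_cancel (mul_right_cancel (h.trans hyw.symm))
      exact absurd (emb_inj e) (by simp)
    · exact h
  refine ⟨s * y, Subgroup.mul_mem _ ?_ hyN, ?_⟩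
  · refine Subgroup.mem_normalizer_fintype (fun v hv => ?_)
    rw [SetLike.mem_coe] at hv ⊢
    rcases mem_V_iff.1 hv with rfl | rfl | rfl | rfl
    · simp
    · rw [← z_commute hsS, mul_inv_cancel_right]; exact hv
    · rw [hs1]; exact mem_V_iff.2 (Or.inr (Or.inr (Or.inr rfl)))
    · rw [hs2]; exact mem_V_iff.2 (Or.inr (Or.inr (Or.inl rfl)))
  · rw [show s * y * d.z * (s * y)⁻¹ = s * (y * d.z * y⁻¹) * s⁻¹ by group, hz2, hs2]

theorem exists_normalizer_move {i : ZMod m} (h : IsConj d.z (d.w i)) :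
    ∃ n ∈ Subgroup.normalizer (d.V i : Set X), n * d.z * n⁻¹ = d.w i := by
  have := d.neZero
  have : Fact (Nat.Prime 2) := ⟨Nat.prime_two⟩
  obtain ⟨g, hg⟩ := isConj_iff.1 h
  set C := Subgroup.centralizer ({d.w i} : Set X)
  let P := (d.S : Subgroup X).map (MulAut.conj g).toMonoidHom
  have hPC : P ≤ C := by
    rintro _ ⟨x, hx, rfl⟩
    rw [Subgroup.mem_centralizer_singleton_iff, ← hg]
    show g * x * g⁻¹ * (g * d.z * g⁻¹) = g * d.z * g⁻¹ * (g * x * g⁻¹)
    calc g * x * g⁻¹ * (g * d.z * g⁻¹) = g * (x * d.z) * g⁻¹ := by group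
      _ = _ := by rw [← z_commute hx]; group
  have hVC : d.V i ≤ C := fun v hv => Subgroup.mem_centralizer_singleton_iff.2
    (V_comm hv (mem_V_iff.2 (Or.inr (Or.inr (Or.inl rfl)))))
  obtain ⟨R, hR⟩ :=
    ((d.S.isPGroup'.to_le (V_le i)).comap_subtype (K := C)).exists_le_sylow
  obtain ⟨Q, hQ⟩ :=
    ((d.S.isPGroup'.map (MulAut.conj g).toMonoidHom).comap_subtype (K := C)).exists_le_sylow
  have hcard : 8 ≤ Nat.card (R : Subgroup C) := by
    have e : Nat.card (R : Subgroup C) = Nat.card (Q : Subgroup C) :=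
      Nat.card_congr (Sylow.equiv R Q).toEquiv
    have h1 := Subgroup.card_le_of_le hQ
    have h2 : Nat.card (P.subgroupOf C) = Nat.card (d.S : Subgroup X) := by
      rw [Nat.card_congr (Subgroup.subgroupOfEquivOfLe hPC).toEquiv,
        Subgroup.card_map_of_injective (MulAut.conj g).injective]
    have h3 : Nat.card (d.S : Subgroup X) = 2 * m := by
      rw [Nat.card_congr d.eS.toEquiv, DihedralGroup.nat_card]
    obtain ⟨c, hc⟩ := d.heven
    have h4 := d.hj
    have h5 := d.hpos
    calc 8 ≤ 2 * m := by omega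
      _ = Nat.card (P.subgroupOf C) := by rw [h2, h3]
      _ ≤ Nat.card (Q : Subgroup C) := h1
      _ = _ := e.symm
  refine grow (R.isPGroup'.map C.subtype) ?_ ?_
  · refine lt_of_le_of_ne (fun v hv => ⟨⟨v, hVC hv⟩, hR hv, rfl⟩) (fun e => ?_)
    have h1 : Nat.card (d.V i) = Nat.card ((R : Subgroup C).map C.subtype) := by rw [e]
    rw [card_V, Subgroup.card_map_of_injective C.subtype_injective] at h1
    omega
  · rintro _ ⟨x, -, rfl⟩
    exact Subgroup.mem_centralizer_singleton_iff.1 x.2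

theorem V_eq_V_add_j (i : ZMod m) : d.V (i + d.j) = d.V i := by
  have := d.neZero
  ext x
  rw [mem_V_iff, mem_V_iff, add_assoc, cast_two_mul d.hj, add_zero]
  tauto

/-- Four-groups of `S` conjugate in `X` have the same parity. -/
theorem parity_eq_of_conj [NeZero m] {i k : ZMod m} {g : X}
    (hg : (d.V i).map (MulAut.conj g).toMonoidHom = d.V k) :
    parity d.hj i = parity d.hj k := by
  have : Fact (Nat.Prime 2) := ⟨Nat.prime_two⟩
  obtain ⟨g', hg', hz⟩ : ∃ g', (d.V i).map (MulAut.conj g').toMonoidHom = d.V k ∧ g' * d.z * g'⁻¹ = d.z := by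
    have hmem : g * d.z * g⁻¹ ∈ d.V k :=
      hg ▸ ⟨d.z, mem_V_iff.2 (Or.inr (Or.inl rfl)), rfl⟩
    have fix : ∀ n ∈ Subgroup.normalizer (d.V k : Set X), g * d.z * g⁻¹ = n * d.z * n⁻¹ →
        (d.V i).map (MulAut.conj (n⁻¹ * g)).toMonoidHom = d.V k ∧
          n⁻¹ * g * d.z * (n⁻¹ * g)⁻¹ = d.z := by
      intro n hn he
      refine ⟨?_, ?_⟩
      · ext x
        constructor
        · rintro ⟨v, hv, rfl⟩
          have h1 : g * v * g⁻¹ ∈ d.V k := hg ▸ ⟨v, hv, rfl⟩
          have h2 := (Subgroup.mem_set_normalizer_iff''.1 hn _).1 h1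
          simpa [mul_assoc] using h2
        · intro hx
          have h1 : n * x * n⁻¹ ∈ d.V k := (Subgroup.mem_set_normalizer_iff.1 hn x).1 hx
          rw [← hg] at h1
          obtain ⟨v, hv, hve⟩ := h1
          refine ⟨v, hv, ?_⟩
          show n⁻¹ * g * v * (n⁻¹ * g)⁻¹ = x
          have hve' : g * v * g⁻¹ = n * x * n⁻¹ := hve
          calc n⁻¹ * g * v * (n⁻¹ * g)⁻¹ = n⁻¹ * (g * v * g⁻¹) * n := by group
            _ = x := by rw [hve']; group
      · calc n⁻¹ * g * d.z * (n⁻¹ * g)⁻¹ = n⁻¹ * (g * d.z * g⁻¹) * n := by group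
          _ = d.z := by rw [he]; group
    rcases mem_V_iff.1 hmem with h | h | h | h
    · exact absurd (conj_eq_one_iff.1 h) z_ne_one
    · exact ⟨g, hg, h⟩
    · obtain ⟨n, hn, hne⟩ := exists_normalizer_move (isConj_iff.2 ⟨g, h⟩)
      exact ⟨_, fix n hn (h.trans hne.symm)⟩
    · obtain ⟨n, hn, hne⟩ := exists_normalizer_move (isConj_iff.2 ⟨g, h⟩)
      rw [V_eq_V_add_j] at hn
      exact ⟨_, fix n hn (h.trans hne.symm)⟩
  obtain ⟨s, hs, hctrl⟩ := centralizer_z_control (mul_inv_eq_iff_eq_mul.1 hz)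
  have h1 : g' * d.w i * g'⁻¹ ∈ d.V k :=
    hg' ▸ ⟨d.w i, mem_V_iff.2 (Or.inr (Or.inr (Or.inl rfl))), rfl⟩
  have h2 := hctrl _ (emb_mem _) (V_le k h1)
  rcases mem_V_iff.1 h1 with h | h | h | h
  · exact absurd (conj_eq_one_iff.1 h) (w_ne_one i)
  · exfalso
    have e : d.w i = d.z := mul_left_cancel (mul_right_cancel (h.trans hz.symm))
    exact absurd (emb_inj e) (by simp)
  · exact parity_of_S_conj hs (h2.symm.trans h)
  · rw [parity_of_S_conj hs (h2.symm.trans h), parity_add_j]

/-- Reflections which are conjugate in `X` but not conjugate to `z` have the same parity. -/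
theorem parity_eq_of_w_conj [NeZero m] {i k : ZMod m} (h : IsConj (d.w i) (d.w k))
    (hk : ¬ IsConj d.z (d.w k)) : parity d.hj i = parity d.hj k := by
  have : Fact (Nat.Prime 2) := ⟨Nat.prime_two⟩
  obtain ⟨g, hg⟩ := isConj_iff.1 h
  set C := Subgroup.centralizer ({d.w k} : Set X)
  set U := (d.V i).map (MulAut.conj g).toMonoidHom with hU
  have hVC : d.V k ≤ C := fun v hv => Subgroup.mem_centralizer_singleton_iff.2
    (V_comm hv (mem_V_iff.2 (Or.inr (Or.inr (Or.inl rfl)))))
  have hUC : U ≤ C := by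
    rintro _ ⟨v, hv, rfl⟩
    rw [Subgroup.mem_centralizer_singleton_iff, ← hg]
    show g * v * g⁻¹ * (g * d.w i * g⁻¹) = g * d.w i * g⁻¹ * (g * v * g⁻¹)
    calc g * v * g⁻¹ * (g * d.w i * g⁻¹) = g * (v * d.w i) * g⁻¹ := by group
      _ = _ := by rw [V_comm hv (mem_V_iff.2 (Or.inr (Or.inr (Or.inl rfl))))]; group
  obtain ⟨R, hR⟩ :=
    ((d.S.isPGroup'.to_le (V_le k)).comap_subtype (K := C)).exists_le_sylow
  have hReq : (R : Subgroup C).map C.subtype = d.V k := by
    by_contra hne
    obtain ⟨n, -, hn⟩ := grow (i := k) (R.isPGroup'.map C.subtype)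
      (lt_of_le_of_ne (fun v hv => ⟨⟨v, hVC hv⟩, hR hv, rfl⟩) (Ne.symm hne))
      (by rintro _ ⟨x, -, rfl⟩; exact Subgroup.mem_centralizer_singleton_iff.1 x.2)
    exact hk (isConj_iff.2 ⟨n, hn⟩)
  have hUp : IsPGroup 2 U := (d.S.isPGroup'.to_le (V_le i)).map _
  obtain ⟨c, hc⟩ := exists_conj_le_sylow (hUp.comap_subtype (K := C)) R
  refine parity_eq_of_conj (g := (c : X) * g) (Subgroup.eq_of_le_of_card_ge ?_ ?_)
  · rintro _ ⟨v, hv, rfl⟩
    rw [← hReq]
    refine ⟨_, hc ⟨g * v * g⁻¹, hUC ⟨v, hv, rfl⟩⟩ ⟨v, hv, rfl⟩, ?_⟩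
    show (c : X) * (g * v * g⁻¹) * (c : X)⁻¹ = (c : X) * g * v * ((c : X) * g)⁻¹
    group
  · rw [Subgroup.card_map_of_injective (MulAut.conj ((c : X) * g)).injective, card_V, card_V]

/-- Every involution is conjugate to one in `S`. -/
theorem exists_conj_mem_S {x : X} (hx : orderOf x = 2) :
    ∃ g : X, g * x * g⁻¹ ∈ (d.S : Subgroup X) := by
  have : Fact (Nat.Prime 2) := ⟨Nat.prime_two⟩
  obtain ⟨g, hg⟩ := exists_conj_le_sylow (isPGroup_two_zpowers hx) d.S
  exact ⟨g, hg x (Subgroup.mem_zpowers x)⟩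

/-- If some reflection of each parity is conjugate to `z`, all involutions are conjugate. -/
theorem all_conj [NeZero m] (h : ∀ i, IsConj d.z (d.w i)) {a b : X} (ha : orderOf a = 2)
    (hb : orderOf b = 2) : IsConj a b := by
  have key : ∀ x : X, orderOf x = 2 → IsConj d.z x := by
    intro x hx
    obtain ⟨g, hg⟩ := exists_conj_mem_S (d := d) hx
    have h1 : IsConj x (g * x * g⁻¹) := isConj_iff.2 ⟨g, rfl⟩
    rcases involution_mem_cases hg (by rw [orderOf_conj_eq, hx]) with e | ⟨i, e⟩
    · rw [e] at h1; exact h1.symm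
    · rw [e] at h1; exact (h i).trans h1.symm
  exact (key a ha).symm.trans (key b hb)

/-- If every reflection is conjugate to `z`, there is no subgroup of index two and no isolated
involution. -/
theorem fusion_simple_of_all_conj (d : Data X m) (hall : ∀ a b : X, orderOf a = 2 → orderOf b = 2 → IsConj a b) :
    (∀ H : Subgroup X, H.index ≠ 2) ∧ ∀ t : X, ¬ Cfsg.IsIsolatedInvolution t := by
  have := d.neZero
  have : Fact (Nat.Prime 2) := ⟨Nat.prime_two⟩
  refine ⟨fun H hH => ?_, fun t ht => ?_⟩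
  · have hn : H.Normal := Subgroup.normal_of_index_eq_two hH
    have hz : ∀ x : X, orderOf x = 2 → (x ∈ H ↔ d.z ∈ H) := by
      intro x hx
      obtain ⟨c, hc⟩ := isConj_iff.1 (hall d.z x orderOf_z hx)
      constructor
      · intro hxH
        have h2 := hn.conj_mem x hxH c⁻¹
        rw [← hc] at h2
        simpa [mul_assoc] using h2
      · intro hzH
        rw [← hc]
        exact hn.conj_mem _ hzH c
    have hprod : ∀ a b : ZMod m, d.emb (r (b - a)) ∈ H := by
      intro a b
      have e : d.emb (r (b - a)) = d.w a * d.w b := by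
        show _ = d.emb _ * d.emb _
        rw [← map_mul, sr_mul_sr]
      rw [e, Subgroup.mul_mem_iff_of_index_two hH, hz _ (orderOf_w a), hz _ (orderOf_w b)]
    have hzH : d.z ∈ H := by
      have := hprod 0 (d.j : ZMod m)
      rwa [sub_zero] at this
    have hS : (d.S : Subgroup X) ≤ H := by
      intro x hx
      obtain ⟨g, rfl⟩ := exists_emb hx
      rcases g with a | i
      · have := hprod 0 a
        rwa [sub_zero] at this
      · exact (hz _ (orderOf_w i)).2 hzH
    have := Subgroup.index_dvd_of_le hS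
    rw [hH] at this
    exact Sylow.not_dvd_index d.S this
  · obtain ⟨c, hc⟩ := isConj_iff.1 (hall d.z t orderOf_z ht.1)
    have h1 := isConj_iff.1 (hall t (c * d.w 0 * c⁻¹) ht.1 (by rw [orderOf_conj_eq, orderOf_w]))
    obtain ⟨g, hg⟩ := h1
    have h2 := ht.2 g (by
      rw [hg, ← hc]
      show c * d.z * c⁻¹ * (c * d.w 0 * c⁻¹) = c * d.w 0 * c⁻¹ * (c * d.z * c⁻¹)
      calc c * d.z * c⁻¹ * (c * d.w 0 * c⁻¹) = c * (d.z * d.w 0) * c⁻¹ := by group
        _ = _ := by rw [z_commute (x := d.w 0) (emb_mem _)]; group)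
    rw [hg, ← hc] at h2
    have e : d.w 0 = d.z := mul_left_cancel (mul_right_cancel h2)
    exact absurd (emb_inj e) (by simp)

/-- Fusion simplicity forces every reflection to be conjugate to `z`. -/
theorem conj_z_of_fusion_simple [NeZero m] (hidx : ∀ H : Subgroup X, H.index ≠ 2)
    (hiso : ∀ t : X, ¬ Cfsg.IsIsolatedInvolution t) (i : ZMod m) : IsConj d.z (d.w i) := by
  classical
  have : Fact (Nat.Prime 2) := ⟨Nat.prime_two⟩
  by_contra hi
  -- reflections of the other parity are conjugate to `z`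
  obtain ⟨k, hk⟩ : ∃ k, IsConj d.z (d.w k) := by
    by_contra hcon
    push Not at hcon
    refine hiso d.z (isIsolated_of_sylow d.S orderOf_z fun g hg => ?_)
    rcases involution_mem_cases hg (by rw [orderOf_conj_eq, orderOf_z]) with h | ⟨l, h⟩
    · exact h
    · exact absurd (isConj_iff.2 ⟨g, h⟩) (hcon l)
  have hpar : parity d.hj i ≠ parity d.hj k := by
    intro he
    obtain ⟨s, -, hs⟩ := w_conj (d := d) he.symm
    exact hi (hk.trans (isConj_iff.2 ⟨s, hs⟩))
  -- the index two subgroup missing the parity of `i`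
  let χ : DihedralGroup m → ZMod 2 := fun g =>
    match g with
    | r a => parity d.hj a
    | sr a => parity d.hj a - parity d.hj k
  have hχ : ∀ g h, χ (g * h) = χ g + χ h := by
    rintro (a | a) (b | b)
    · show parity d.hj (a + b) = _
      exact map_add _ _ _
    · show parity d.hj (b - a) - parity d.hj k = parity d.hj a + (parity d.hj b - parity d.hj k)
      rw [map_sub, CharTwo.sub_eq_add (parity d.hj b) (parity d.hj a)]
      abel
    · show parity d.hj (a + b) - parity d.hj k = parity d.hj a - parity d.hj k + parity d.hj b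
      rw [map_add]; abel
    · show parity d.hj (b - a) = parity d.hj a - parity d.hj k + (parity d.hj b - parity d.hj k)
      rw [map_sub, CharTwo.sub_eq_add, CharTwo.sub_eq_add, CharTwo.sub_eq_add,
        show parity d.hj a + parity d.hj k + (parity d.hj b + parity d.hj k) =
          parity d.hj b + parity d.hj a + (parity d.hj k + parity d.hj k) by abel,
        CharTwo.add_self_eq_zero, add_zero]
  let Q₀ : Subgroup (DihedralGroup m) :=
    { carrier := {g | χ g = 0}
      one_mem' := by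
        show χ (r 0) = 0
        exact map_zero _
      mul_mem' := fun {a b} ha hb => by
        show χ (a * b) = 0
        rw [hχ, show χ a = 0 from ha, show χ b = 0 from hb, add_zero]
      inv_mem' := fun {a} ha => by
        show χ a⁻¹ = 0
        have h1 := hχ a⁻¹ a
        rw [inv_mul_cancel, show χ a = 0 from ha, add_zero] at h1
        rw [← h1]
        exact map_zero _ }
  have hQ0 : Q₀.index = 2 := by
    rw [Subgroup.index_eq_two_iff]
    refine ⟨r 1, fun b => ?_⟩
    show Xor (χ (b * r 1) = 0) (χ b = 0)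
    rw [hχ, show χ (r 1) = 1 from map_one _]
    exact zmod2_xor _
  let Q := Q₀.map d.emb
  have hSr : (d.S : Subgroup X) = d.emb.range := by
    ext x
    exact ⟨fun hx => exists_emb hx, fun ⟨g, hg⟩ => hg ▸ emb_mem g⟩
  have hQrel : Q.relIndex (d.S : Subgroup X) = 2 := by
    rw [hSr, MonoidHom.range_eq_map, Subgroup.relIndex_map_map_of_injective _ _ emb_inj,
      Subgroup.relIndex_top_right, hQ0]
  obtain ⟨M, -, hM, -⟩ := CfsgLib.Transfer.thompson_transfer d.S Q hQrel (d.w i)
    (by rw [pow_two, w_mul_self]) (fun g hg hQ => by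
      rcases involution_mem_cases hg (by rw [orderOf_conj_eq, orderOf_w]) with e | ⟨l, e⟩
      · exact hi (isConj_iff.2 ⟨g, e⟩).symm
      · rw [e] at hQ
        obtain ⟨q, hq, hqe⟩ := hQ
        rw [emb_inj hqe] at hq
        have hzero : parity d.hj l - parity d.hj k = 0 := hq
        have hil : IsConj (d.w i) (d.w l) := isConj_iff.2 ⟨g, e⟩
        exact hpar ((parity_eq_of_w_conj hil fun hc => hi (hc.trans hil.symm)).trans
          (sub_eq_zero.1 hzero)))
  exact hidx M hM

/-- If the normalizer of each four-group fixes `z`, conjugation in `S` is controlled by `S`. -/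
theorem controls_of_fix [NeZero m]
    (hfix : ∀ i, ∀ n ∈ Subgroup.normalizer (d.V i : Set X), n * d.z = d.z * n) {x g : X}
    (hx : x ∈ (d.S : Subgroup X)) (hgx : g * x * g⁻¹ ∈ (d.S : Subgroup X)) :
    ∃ s ∈ (d.S : Subgroup X), s * x * s⁻¹ = g * x * g⁻¹ := by
  have hnot : ∀ i, ¬ IsConj d.z (d.w i) := by
    intro i hc
    obtain ⟨n, hn, hne⟩ := exists_normalizer_move hc
    rw [hfix i n hn, mul_inv_cancel_right] at hne
    exact absurd (emb_inj hne) (by simp)
  obtain ⟨a, rfl⟩ := exists_emb hx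
  obtain ⟨b, hb⟩ := exists_emb hgx
  by_cases h1 : a * a = 1
  · by_cases ha1 : a = 1
    · exact ⟨1, one_mem _, by subst ha1; simp⟩
    have ho : orderOf (d.emb a) = 2 := by
      rw [orderOf_injective d.emb emb_inj]
      exact orderOf_eq_prime (by rw [pow_two, h1]) ha1
    rcases involution_mem_cases hgx (by rw [orderOf_conj_eq, ho]) with e | ⟨k, e⟩
    · rcases involution_mem_cases hx ho with e' | ⟨i, e'⟩
      · exact ⟨1, one_mem _, by rw [e, e']; simp⟩
      · rw [e'] at e
        exact absurd (isConj_iff.2 ⟨g, e⟩).symm (hnot i)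
    · rcases involution_mem_cases hx ho with e' | ⟨i, e'⟩
      · rw [e'] at e
        exact absurd (isConj_iff.2 ⟨g, e⟩) (hnot k)
      · rw [e'] at e ⊢
        obtain ⟨s, hs, hse⟩ := w_conj (d := d)
          (parity_eq_of_w_conj (isConj_iff.2 ⟨g, e⟩) (hnot k))
        exact ⟨s, hs, hse.trans e.symm⟩
  · have hne1 : g * d.emb a * g⁻¹ * (g * d.emb a * g⁻¹) ≠ 1 := by
      intro h
      apply h1
      apply emb_inj (d := d)
      rw [map_mul, map_one]
      have h' : g * (d.emb a * d.emb a) * g⁻¹ = 1 := by rw [← h]; group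
      exact conj_eq_one_iff.1 h'
    rcases a with a | i
    swap
    · exact absurd (sr_mul_self i) h1
    rcases b with b | i
    swap
    · exact absurd (by rw [← hb]; exact w_mul_self i) hne1
    have hpow : ∀ c : ZMod m, r c * r c ≠ 1 →
        r c ^ (orderOf (r c) / 2) = r (d.j : ZMod m) := by
      intro c hc
      have hne : r c ≠ 1 := fun h => hc (by rw [h, one_mul])
      obtain ⟨k, hk⟩ := IsPGroup.iff_orderOf.1 d.S.isPGroup' ⟨d.emb (r c), emb_mem _⟩
      rw [Subgroup.orderOf_mk, orderOf_injective d.emb emb_inj] at hk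
      have heven : Even (orderOf (r c)) := by
        rcases k with _ | k
        · rw [pow_zero, orderOf_eq_one_iff] at hk
          exact absurd hk hne
        · rw [hk]; exact (Nat.even_pow).2 ⟨even_two, k.succ_ne_zero⟩
      have h2 := orderOf_pow_half heven
      rcases involution_cases d.hj (mul_self_eq_one h2) (ne_one_of_involution h2) with e | ⟨i, e⟩
      · exact e
      · exfalso
        have : ∀ n : ℕ, r c ^ n = r (n • c) := by
          intro n
          induction n with
          | zero => simp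
          | succ n ih => rw [pow_succ, ih, r_mul_r, succ_nsmul]
        rw [this] at e
        simp at e
    have hb2 : r b * r b ≠ 1 := by
      intro h
      apply hne1
      rw [← hb, ← map_mul, h, map_one]
    have hord : orderOf (r a : DihedralGroup m) = orderOf (r b : DihedralGroup m) := by
      rw [← orderOf_injective d.emb emb_inj (r a), ← orderOf_injective d.emb emb_inj (r b), hb,
        orderOf_conj_eq]
    have hgz : g * d.z * g⁻¹ = d.z := by
      have e1 := congrArg d.emb (hpow a h1)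
      have e2 := congrArg d.emb (hpow b hb2)
      rw [map_pow] at e1 e2
      show g * d.emb _ * g⁻¹ = d.emb _
      rw [← e1, ← conj_pow, ← hb, hord, e2, ← hord, e1]
    obtain ⟨s, hs, hctrl⟩ := centralizer_z_control (mul_inv_eq_iff_eq_mul.1 hgz)
    exact ⟨s, hs, (hctrl _ hx hgx).symm⟩

/-- If all of the normalizer of a four-group fixes `z`, its index over the centralizer is at most
two. -/
theorem relIndex_le_two {i : ZMod m}
    (hfix : ∀ n ∈ Subgroup.normalizer (d.V i : Set X), n * d.z = d.z * n) :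
    (Subgroup.centralizer (d.V i : Set X)).relIndex (Subgroup.normalizer (d.V i : Set X)) ≤ 2 := by
  classical
  have := d.neZero
  set N := Subgroup.normalizer (d.V i : Set X)
  set C := Subgroup.centralizer (d.V i : Set X)
  have hwV : d.w i ∈ d.V i := mem_V_iff.2 (Or.inr (Or.inr (Or.inl rfl)))
  have hcent : ∀ n : X, n * d.z = d.z * n → n * d.w i = d.w i * n → n ∈ C := by
    intro n h1 h2
    rw [Subgroup.mem_centralizer_iff]
    intro v hv
    rcases mem_V_iff.1 hv with rfl | rfl | rfl | rfl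
    · simp
    · exact h1.symm
    · exact h2.symm
    · rw [← z_mul_w, mul_assoc, ← h2, ← mul_assoc, ← h1, mul_assoc]
  have himg : ∀ n ∈ N, n * d.w i * n⁻¹ = d.w i ∨ n * d.w i * n⁻¹ = d.w (i + d.j) := by
    intro n hn
    rcases mem_V_iff.1 ((Subgroup.mem_set_normalizer_iff.1 hn _).1 hwV) with h | h | h | h
    · exact absurd (conj_eq_one_iff.1 h) (w_ne_one i)
    · exfalso
      have hz : n * d.z * n⁻¹ = d.z := by rw [hfix n hn, mul_inv_cancel_right]
      have e : d.w i = d.z := mul_left_cancel (mul_right_cancel (h.trans hz.symm))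
      exact absurd (emb_inj e) (by simp)
    · exact Or.inl h
    · exact Or.inr h
  have hwd : ∀ a b : N, QuotientGroup.leftRel (C.subgroupOf N) a b →
      decide ((a : X) * d.w i * (a : X)⁻¹ = d.w i) = decide ((b : X) * d.w i * (b : X)⁻¹ = d.w i) := by
    intro a b hab
    rw [QuotientGroup.leftRel_apply, Subgroup.mem_subgroupOf] at hab
    have h1 := Subgroup.mem_centralizer_iff.1 hab _ hwV
    simp only [Subgroup.coe_mul, InvMemClass.coe_inv] at h1
    have h2 : (b : X) * d.w i * (b : X)⁻¹ = (a : X) * d.w i * (a : X)⁻¹ := by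
      calc (b : X) * d.w i * (b : X)⁻¹
          = (a : X) * ((a : X)⁻¹ * b * d.w i) * ((a : X)⁻¹ * b)⁻¹ * (a : X)⁻¹ := by group
        _ = _ := by rw [← h1]; group
    rw [h2]
  let f : N ⧸ C.subgroupOf N → Bool :=
    Quotient.lift (fun n : N => decide ((n : X) * d.w i * (n : X)⁻¹ = d.w i)) hwd
  have hf : Function.Injective f := by
    intro p q
    induction p using QuotientGroup.induction_on with
    | H a =>
      induction q using QuotientGroup.induction_on with
      | H b =>
        intro hpq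
        have hiff : ((a : X) * d.w i * (a : X)⁻¹ = d.w i) ↔
            ((b : X) * d.w i * (b : X)⁻¹ = d.w i) := decide_eq_decide.1 hpq
        have heq : (a : X) * d.w i * (a : X)⁻¹ = (b : X) * d.w i * (b : X)⁻¹ := by
          rcases himg a a.2 with e1 | e1 <;> rcases himg b b.2 with e2 | e2 <;> rw [e1, e2]
          · rw [← e2]; exact (hiff.1 e1).symm
          · rw [← e1]; exact hiff.2 e2
        rw [QuotientGroup.eq, Subgroup.mem_subgroupOf]
        simp only [Subgroup.coe_mul, InvMemClass.coe_inv]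
        refine hcent _ (hfix _ (mul_mem (inv_mem a.2) b.2)) ?_
        calc (a : X)⁻¹ * b * d.w i = (a : X)⁻¹ * ((b : X) * d.w i * (b : X)⁻¹) * b := by group
          _ = d.w i * ((a : X)⁻¹ * b) := by rw [← heq]; group
  have := Nat.card_le_card_of_injective f hf
  rw [Subgroup.relIndex, Subgroup.index]
  simpa using this

/-- The data exist when `m` is a power of two at least 4. -/
theorem exists_data (S : Sylow 2 X) (eS : (S : Subgroup X) ≃* DihedralGroup m) (hm : 2 < m) :
    ∃ d : Data X m, d.S = S := by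
  have : Fact (Nat.Prime 2) := ⟨Nat.prime_two⟩
  obtain ⟨k, hk⟩ := S.isPGroup'.exists_card_eq
  rw [Nat.card_congr eS.toEquiv, DihedralGroup.nat_card] at hk
  rcases k with _ | _ | _ | k
  · omega
  · omega
  · omega
  · refine ⟨⟨S, eS, 2 ^ (k + 1), ?_, ?_, pow_pos two_pos _⟩, rfl⟩
    · rw [pow_succ' 2 (k + 1 + 1), pow_succ' 2 (k + 1)] at hk
      omega
    · exact Nat.even_pow.2 ⟨even_two, k.succ_ne_zero⟩

end CfsgLib.TwoGroups.DihedralFusion
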