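import Mathlib
import Cfsg.Prelude.Def_CaseTheorems

/-!
Normal form of wreathed 2-groups: `WR S n x y z` with `x, y` of order `2^n`, `z` swapping them.
`el x y a b = x^a y^b`.
-/

set_option autoImplicit false
set_option linter.dupNamespace false
set_option linter.unusedSectionVars false

namespace CfsgLib.TwoGroups.WR

/-- `x^a y^b`. -/
def el {S : Type*} [Group S] (x y : S) (a b : ℤ) : S := x ^ a * y ^ b

/-- The defining data of a wreathed group `Z_{2^n} ≀ Z_2`. -/
structure WR (S : Type*) [Group S] (n : ℕ) (x y z : S) : Prop where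
  two_le : 2 ≤ n
  comm : x * y = y * x
  eq_iff : ∀ a b c d : ℤ, el x y a b = el x y c d ↔ (2 : ℤ) ^ n ∣ a - c ∧ (2 : ℤ) ^ n ∣ b - d
  ordz : orderOf z = 2
  rel : z * x * z⁻¹ = y
  card : Nat.card S = 2 ^ (2 * n + 1)
  gen : ∀ g : S, ∃ a b : ℤ, g = el x y a b ∨ g = el x y a b * z
  ne : ∀ a b : ℤ, z ≠ el x y a b

variable {S : Type*} [Group S] {n : ℕ} {x y z : S}

theorem el_mul_of_comm (h : x * y = y * x) (a b c d : ℤ) :
    el x y a b * el x y c d = el x y (a + c) (b + d) := by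
  have hc : Commute (y ^ b) (x ^ c) := ((Commute.symm h).zpow_zpow b c)
  rw [el, el, el, show x ^ a * y ^ b * (x ^ c * y ^ d) = x ^ a * (y ^ b * x ^ c) * y ^ d by group,
    hc.eq, zpow_add, zpow_add]
  group

theorem exists_wr [Finite S] (hS : Cfsg.IsWreathed S) :
    ∃ (n : ℕ) (x y z : S), WR S n x y z := by
  obtain ⟨n, hn, hcard, x, y, z, hx, hxy, hdisj, hz, hrel⟩ := hS
  have hy : orderOf y = 2 ^ n := by
    rw [← hrel, show z * x * z⁻¹ = MulAut.conj z x from rfl, MulEquiv.orderOf_eq, hx]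
  have hiff : ∀ a b c d : ℤ, el x y a b = el x y c d ↔
      (2 : ℤ) ^ n ∣ a - c ∧ (2 : ℤ) ^ n ∣ b - d := by
    intro a b c d
    have e1 : el x y a b = el x y c d ↔ x ^ (a - c) = y ^ (d - b) := by
      rw [zpow_sub, zpow_sub, el, el, eq_mul_inv_iff_mul_eq]
      have hcy : Commute (x ^ c) (y ^ d) := (Commute.zpow_zpow hxy c d)
      have hby : Commute (x ^ c) (y ^ b) := (Commute.zpow_zpow hxy c b)
      constructor <;> intro e
      · calc x ^ a * (x ^ c)⁻¹ * y ^ b = x ^ a * ((x ^ c)⁻¹ * y ^ b) := by group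
          _ = (x ^ a * y ^ b) * (x ^ c)⁻¹ := by rw [hby.inv_left.eq]; group
          _ = y ^ d := by rw [e, hcy.eq]; group
      · calc x ^ a * y ^ b = x ^ a * (x ^ c)⁻¹ * (x ^ c * y ^ b) := by group
          _ = x ^ a * (x ^ c)⁻¹ * y ^ b * x ^ c := by rw [hby.eq]; group
          _ = x ^ c * y ^ d := by rw [e, hcy.eq]
    rw [e1]
    constructor
    · intro e
      have hm : x ^ (a - c) ∈ Subgroup.zpowers x ⊓ Subgroup.zpowers y :=
        ⟨Subgroup.zpow_mem_zpowers _ _, by rw [e]; exact Subgroup.zpow_mem_zpowers _ _⟩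
      rw [hdisj, Subgroup.mem_bot] at hm
      rw [hm] at e
      constructor
      · have := orderOf_dvd_iff_zpow_eq_one.mpr hm
        rw [hx] at this
        exact_mod_cast this
      · have := orderOf_dvd_iff_zpow_eq_one.mpr e.symm
        rw [hy] at this
        rw [dvd_sub_comm]
        exact_mod_cast this
    · rintro ⟨h1, h2⟩
      rw [orderOf_dvd_iff_zpow_eq_one.mp (by rw [hx]; exact_mod_cast h1),
        orderOf_dvd_iff_zpow_eq_one.mp (by rw [hy]; exact_mod_cast dvd_sub_comm.mp h2)]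
  have hne : ∀ a b : ℤ, z ≠ el x y a b := by
    intro a b e
    have hc : Commute z x := by
      rw [e, el]
      exact ((Commute.refl x).zpow_left a).mul_left ((Commute.symm hxy).zpow_left b)
    have hxy' : y = x := by rw [← hrel, hc.eq, mul_inv_cancel_right]
    rw [hxy', inf_idem, Subgroup.zpowers_eq_bot] at hdisj
    rw [hdisj, orderOf_one] at hx
    have : 1 < 2 ^ n := Nat.one_lt_two_pow (by omega)
    omega
  -- the subgroup of elements `x^a y^b`
  let U : Subgroup S :=
    { carrier := {g | ∃ a b : ℤ, g = el x y a b}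
      one_mem' := ⟨0, 0, by simp [el]⟩
      mul_mem' := by
        rintro _ _ ⟨a, b, rfl⟩ ⟨c, d, rfl⟩
        exact ⟨a + c, b + d, el_mul_of_comm hxy a b c d⟩
      inv_mem' := by
        rintro _ ⟨a, b, rfl⟩
        refine ⟨-a, -b, inv_eq_of_mul_eq_one_right ?_⟩
        rw [el_mul_of_comm hxy, add_neg_cancel, add_neg_cancel]
        simp [el] }
  have hUcard : 2 ^ (2 * n) ≤ Nat.card U := by
    have hinj : Function.Injective (fun p : Fin (2 ^ n) × Fin (2 ^ n) =>
        (⟨el x y p.1.1 p.2.1, _, _, rfl⟩ : U)) := by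
      rintro ⟨a, b⟩ ⟨c, d⟩ e
      have := (hiff _ _ _ _).mp (congrArg Subtype.val e)
      have key : ∀ i j : Fin (2 ^ n), (2 : ℤ) ^ n ∣ ((i : ℕ) : ℤ) - ((j : ℕ) : ℤ) → i = j := by
        intro i j hij
        apply Fin.ext
        have hj := i.2
        have hi := j.2
        have h0 := Int.eq_zero_of_abs_lt_dvd hij (by
          rw [abs_lt]
          constructor <;> [push_cast [← Nat.cast_lt (α := ℤ)] at hi; push_cast [← Nat.cast_lt (α := ℤ)] at hj] <;> omega)
        omega
      exact Prod.ext (key _ _ this.1) (key _ _ this.2)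
    have := Nat.card_le_card_of_injective _ hinj
    rw [Nat.card_prod, Nat.card_fin, ← pow_add, ← two_mul] at this
    exact this
  have hzU : z ∉ U := fun ⟨a, b, e⟩ => hne a b e
  have hidx : U.index = 2 := by
    have h1 := U.card_mul_index
    rw [hcard, pow_succ] at h1
    have h2 : U.index ≠ 1 := fun e => hzU ((Subgroup.index_eq_one.mp e) ▸ Subgroup.mem_top z)
    have h3 : U.index ≠ 0 := Subgroup.index_ne_zero_of_finite
    have h4 : 2 ^ (2 * n) * U.index ≤ 2 ^ (2 * n) * 2 := by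
      rw [← h1]; exact Nat.mul_le_mul_right _ hUcard
    have := Nat.le_of_mul_le_mul_left h4 (pow_pos two_pos _)
    omega
  refine ⟨n, x, y, z, hn, hxy, hiff, hz, hrel, hcard, ?_, hne⟩
  intro g
  by_cases hg : g ∈ U
  · obtain ⟨a, b, rfl⟩ := hg
    exact ⟨a, b, Or.inl rfl⟩
  · obtain ⟨a, b, e⟩ := (Subgroup.mul_mem_iff_of_index_two hidx (a := g) (b := z)).mpr
      (iff_of_false hg hzU)
    refine ⟨a, b, Or.inr ?_⟩
    have hzz : z * z = 1 := by rw [← pow_two, ← hz, pow_orderOf_eq_one]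
    rw [← e, mul_assoc, hzz, mul_one]

theorem el_mul (h : WR S n x y z) (a b c d : ℤ) :
    el x y a b * el x y c d = el x y (a + c) (b + d) := el_mul_of_comm h.comm a b c d

theorem el_zero : el x y 0 0 = (1 : S) := by simp [el]

theorem el_x : el x y 1 0 = x := by simp [el]

theorem el_y : el x y 0 1 = y := by simp [el]

theorem el_inv (h : WR S n x y z) (a b : ℤ) : (el x y a b)⁻¹ = el x y (-a) (-b) := by
  refine inv_eq_of_mul_eq_one_right ?_
  rw [el_mul h, add_neg_cancel, add_neg_cancel, el_zero]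

theorem el_zpow (h : WR S n x y z) (a b k : ℤ) : el x y a b ^ k = el x y (a * k) (b * k) := by
  have hc : Commute (x ^ a) (y ^ b) := Commute.zpow_zpow h.comm a b
  rw [el, hc.mul_zpow, ← zpow_mul, ← zpow_mul, el]

theorem el_pow (h : WR S n x y z) (a b : ℤ) (k : ℕ) :
    el x y a b ^ k = el x y (a * k) (b * k) := by
  rw [← zpow_natCast, el_zpow h]

theorem el_eq_one (h : WR S n x y z) {a b : ℤ} :
    el x y a b = 1 ↔ (2 : ℤ) ^ n ∣ a ∧ (2 : ℤ) ^ n ∣ b := by
  rw [← el_zero (x := x) (y := y), h.eq_iff, sub_zero, sub_zero]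

theorem zz (h : WR S n x y z) : z * z = 1 := by
  rw [← pow_two, ← h.ordz, pow_orderOf_eq_one]

theorem z_inv (h : WR S n x y z) : z⁻¹ = z := inv_eq_of_mul_eq_one_right (zz h)

theorem z_mul (h : WR S n x y z) (a b : ℤ) : z * el x y a b = el x y b a * z := by
  have hy : z * y * z⁻¹ = x := by
    calc z * y * z⁻¹ = z * (z * x * z⁻¹) * z⁻¹ := by rw [h.rel]
      _ = (z * z) * x * (z * z)⁻¹ := by group
      _ = x := by rw [zz h]; group
  rw [← mul_inv_eq_iff_eq_mul, el, el, ← conj_mul, ← conj_zpow, ← conj_zpow, h.rel, hy]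
  exact ((Commute.zpow_zpow h.comm b a).eq).symm

theorem el_z_mul_el (h : WR S n x y z) (a b c d : ℤ) :
    el x y a b * z * el x y c d = el x y (a + d) (b + c) * z := by
  rw [mul_assoc, z_mul h, ← mul_assoc, el_mul h]

theorem el_z_mul_el_z (h : WR S n x y z) (a b c d : ℤ) :
    el x y a b * z * (el x y c d * z) = el x y (a + d) (b + c) := by
  rw [← mul_assoc, el_z_mul_el h, mul_assoc, zz h, mul_one]

theorem el_z_eq (h : WR S n x y z) {a b c d : ℤ} :
    el x y a b * z = el x y c d * z ↔ (2 : ℤ) ^ n ∣ a - c ∧ (2 : ℤ) ^ n ∣ b - d := by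
  rw [mul_left_inj, h.eq_iff]

theorem el_z_ne (h : WR S n x y z) (a b c d : ℤ) : el x y a b * z ≠ el x y c d := by
  intro e
  refine h.ne (-a + c) (-b + d) ?_
  rw [← el_mul h, ← e, ← el_inv h, inv_mul_cancel_left]

theorem el_z_inv (h : WR S n x y z) (a b : ℤ) : (el x y a b * z)⁻¹ = el x y (-b) (-a) * z := by
  rw [mul_inv_rev, el_inv h, z_inv h, z_mul h]

theorem el_z_sq (h : WR S n x y z) (a b : ℤ) :
    (el x y a b * z) ^ 2 = el x y (a + b) (a + b) := by
  rw [pow_two, el_z_mul_el_z h, add_comm b a]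

theorem conj_el_el (h : WR S n x y z) (c d a b : ℤ) :
    el x y c d * el x y a b * (el x y c d)⁻¹ = el x y a b := by
  rw [el_inv h, el_mul h, el_mul h]
  congr 1 <;> ring

theorem conj_elz_el (h : WR S n x y z) (c d a b : ℤ) :
    el x y c d * z * el x y a b * (el x y c d * z)⁻¹ = el x y b a := by
  rw [el_z_mul_el h, el_z_inv h, el_z_mul_el_z h]
  congr 1 <;> ring

theorem conj_el_elz (h : WR S n x y z) (c d a b : ℤ) :
    el x y c d * (el x y a b * z) * (el x y c d)⁻¹ = el x y (a + c - d) (b + d - c) * z := by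
  rw [← mul_assoc, el_mul h, el_inv h, el_z_mul_el h]
  congr 2 <;> ring

theorem conj_el_cases (h : WR S n x y z) (g : S) (a b : ℤ) :
    g * el x y a b * g⁻¹ = el x y a b ∨ g * el x y a b * g⁻¹ = el x y b a := by
  obtain ⟨c, d, rfl | rfl⟩ := h.gen g
  · exact Or.inl (conj_el_el h c d a b)
  · exact Or.inr (conj_elz_el h c d a b)

theorem two_pow_split (h : WR S n x y z) : (2 : ℤ) ^ n = 2 * 2 ^ (n - 1) := by
  rw [← pow_succ', Nat.sub_add_cancel (by have := h.two_le; omega)]

theorem four_dvd (h : WR S n x y z) : (4 : ℤ) ∣ 2 ^ n := by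
  obtain ⟨k, hk⟩ : ∃ k, n = k + 2 := ⟨n - 2, by have := h.two_le; omega⟩
  exact ⟨2 ^ k, by rw [hk, pow_add]; ring⟩

theorem not_dvd_one (h : WR S n x y z) : ¬ (2 : ℤ) ^ n ∣ 1 := fun hd => by
  have := Int.le_of_dvd one_pos ((four_dvd h).trans hd)
  omega

theorem not_dvd_half (_h : WR S n x y z) (hn : 0 < n) : ¬ (2 : ℤ) ^ n ∣ 2 ^ (n - 1) := fun hd => by
  have h1 := Int.le_of_dvd (pow_pos two_pos _) hd
  have h2 : (2 : ℤ) ^ n = 2 * 2 ^ (n - 1) := by rw [← pow_succ', Nat.sub_add_cancel hn]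
  have h3 : (0 : ℤ) < 2 ^ (n - 1) := pow_pos two_pos _
  omega

theorem npos (h : WR S n x y z) : 0 < n := by have := h.two_le; omega

theorem x_ne_y (h : WR S n x y z) : x ≠ y := by
  intro e
  have := (h.eq_iff 1 0 0 1).mp (by rw [el_x, el_y, e])
  exact not_dvd_one h (by simpa using this.1)

/-! ### The abelian maximal subgroup and homomorphisms -/

/-- The base group `⟨x, y⟩`. -/
def base (h : WR S n x y z) : Subgroup S where
  carrier := {g | ∃ a b : ℤ, g = el x y a b}
  one_mem' := ⟨0, 0, el_zero.symm⟩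
  mul_mem' := by
    rintro _ _ ⟨a, b, rfl⟩ ⟨c, d, rfl⟩
    exact ⟨a + c, b + d, el_mul h a b c d⟩
  inv_mem' := by
    rintro _ ⟨a, b, rfl⟩
    exact ⟨-a, -b, el_inv h a b⟩

theorem el_mem_base (h : WR S n x y z) (a b : ℤ) : el x y a b ∈ base h := ⟨a, b, rfl⟩

theorem elz_not_mem_base (h : WR S n x y z) (a b : ℤ) : el x y a b * z ∉ base h :=
  fun ⟨c, d, e⟩ => el_z_ne h a b c d e

theorem z_not_mem_base (h : WR S n x y z) : z ∉ base h := fun ⟨a, b, e⟩ => h.ne a b e

theorem index_base (h : WR S n x y z) : (base h).index = 2 := by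
  rw [Subgroup.index_eq_two_iff]
  refine ⟨z, fun g => ?_⟩
  obtain ⟨a, b, rfl | rfl⟩ := h.gen g
  · exact Or.inr ⟨el_mem_base h a b, elz_not_mem_base h a b⟩
  · refine Or.inl ⟨?_, elz_not_mem_base h a b⟩
    rw [mul_assoc, zz h, mul_one]
    exact el_mem_base h a b

theorem card_base [Finite S] (h : WR S n x y z) : Nat.card (base h) = 2 ^ (2 * n) := by
  have h1 := (base h).card_mul_index
  rw [index_base h, h.card, pow_succ] at h1
  omega

theorem base_comm (h : WR S n x y z) : IsMulCommutative (base h) := by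
  refine ⟨⟨?_⟩⟩
  rintro ⟨_, a, b, rfl⟩ ⟨_, c, d, rfl⟩
  exact Subtype.ext (show el x y a b * el x y c d = el x y c d * el x y a b by
    rw [el_mul h, el_mul h, add_comm a, add_comm b])

theorem base_normal (h : WR S n x y z) : (base h).Normal :=
  Subgroup.normal_of_index_eq_two (index_base h)

theorem exists_sum_hom (h : WR S n x y z) :
    ∃ σ : S →* Multiplicative (ZMod (2 ^ n)), ∀ a b : ℤ,
      σ (el x y a b) = Multiplicative.ofAdd (((a + b : ℤ)) : ZMod (2 ^ n)) ∧
      σ (el x y a b * z) = Multiplicative.ofAdd (((a + b : ℤ)) : ZMod (2 ^ n)) := by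
  choose A B hAB using h.gen
  set f : S → Multiplicative (ZMod (2 ^ n)) :=
    fun g => Multiplicative.ofAdd (((A g + B g : ℤ)) : ZMod (2 ^ n)) with hfdef
  have hf : ∀ a b : ℤ, f (el x y a b) = Multiplicative.ofAdd (((a + b : ℤ)) : ZMod (2 ^ n)) ∧
      f (el x y a b * z) = Multiplicative.ofAdd (((a + b : ℤ)) : ZMod (2 ^ n)) := by
    intro a b
    have key : ∀ c d : ℤ, (2 : ℤ) ^ n ∣ a - c ∧ (2 : ℤ) ^ n ∣ b - d →
        Multiplicative.ofAdd (((c + d : ℤ)) : ZMod (2 ^ n)) =
          Multiplicative.ofAdd (((a + b : ℤ)) : ZMod (2 ^ n)) := by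
      rintro c d ⟨h1, h2⟩
      congr 1
      rw [ZMod.intCast_eq_intCast_iff_dvd_sub]
      push_cast
      have := h1.add h2
      rwa [show a - c + (b - d) = a + b - (c + d) by ring] at this
    constructor
    · rcases hAB (el x y a b) with e | e
      · exact key _ _ ((h.eq_iff _ _ _ _).mp e)
      · exact absurd e.symm (el_z_ne h _ _ _ _)
    · rcases hAB (el x y a b * z) with e | e
      · exact absurd e (el_z_ne h _ _ _ _)
      · exact key _ _ ((el_z_eq h).mp e)
  refine ⟨MonoidHom.mk' f fun g k => ?_, hf⟩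
  obtain ⟨a, b, rfl | rfl⟩ := h.gen g <;> obtain ⟨c, d, rfl | rfl⟩ := h.gen k
  · rw [el_mul h, (hf _ _).1, (hf _ _).1, (hf _ _).1, ← ofAdd_add]; push_cast; congr 1; ring
  · rw [← mul_assoc, el_mul h, (hf _ _).2, (hf _ _).1, (hf _ _).2, ← ofAdd_add]
    push_cast; congr 1; ring
  · rw [el_z_mul_el h, (hf _ _).2, (hf _ _).2, (hf _ _).1, ← ofAdd_add]; push_cast; congr 1; ring
  · rw [el_z_mul_el_z h, (hf _ _).1, (hf _ _).2, (hf _ _).2, ← ofAdd_add]; push_cast; congr 1; ring

/-! ### Centre and centralizers -/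

theorem commute_el_elz (h : WR S n x y z) {a b c d : ℤ} :
    Commute (el x y a b) (el x y c d * z) ↔ (2 : ℤ) ^ n ∣ a - b := by
  unfold Commute SemiconjBy
  rw [← mul_assoc, el_mul h, el_z_mul_el h, el_z_eq h]
  constructor
  · rintro ⟨h1, -⟩
    rwa [show a + c - (c + b) = a - b by ring] at h1
  · intro h1
    exact ⟨by rwa [show a + c - (c + b) = a - b by ring],
      by rwa [show b + d - (d + a) = -(a - b) by ring, dvd_neg]⟩

theorem commute_el (h : WR S n x y z) (a b c d : ℤ) : Commute (el x y a b) (el x y c d) := by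
  unfold Commute SemiconjBy
  rw [el_mul h, el_mul h, add_comm a, add_comm b]

theorem mem_center_iff (h : WR S n x y z) {g : S} :
    g ∈ Subgroup.center S ↔ ∃ a : ℤ, g = el x y a a := by
  constructor
  · intro hg
    rw [Subgroup.mem_center_iff] at hg
    obtain ⟨a, b, rfl | rfl⟩ := h.gen g
    · refine ⟨a, (h.eq_iff _ _ _ _).mpr ⟨by simp, ?_⟩⟩
      have hc : Commute (el x y a b) (el x y 0 0 * z) := (hg _).symm
      rw [dvd_sub_comm]
      exact (commute_el_elz h).mp hc
    · exfalso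
      have hc : Commute (el x y 1 0) (el x y a b * z) := hg _
      exact not_dvd_one h (by simpa using (commute_el_elz h).mp hc)
  · rintro ⟨a, rfl⟩
    rw [Subgroup.mem_center_iff]
    intro k
    obtain ⟨c, d, rfl | rfl⟩ := h.gen k
    · exact (commute_el h c d a a).eq
    · exact ((commute_el_elz h).mpr (by simp)).symm.eq

theorem center_eq (h : WR S n x y z) :
    Subgroup.center S = Subgroup.zpowers (el x y 1 1) := by
  ext g
  rw [mem_center_iff h, Subgroup.mem_zpowers_iff]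
  simp only [el_zpow h, one_mul, eq_comm]

theorem orderOf_el_one (h : WR S n x y z) (b : ℤ) : orderOf (el x y 1 b) = 2 ^ n := by
  apply Nat.dvd_antisymm
  · rw [← Int.natCast_dvd_natCast, orderOf_dvd_iff_zpow_eq_one, el_zpow h, el_eq_one h]
    push_cast
    exact ⟨dvd_mul_left _ _, dvd_mul_left _ _⟩
  · have h1 := pow_orderOf_eq_one (el x y 1 b)
    rw [el_pow h, el_eq_one h, one_mul] at h1
    exact_mod_cast h1.1

theorem card_center (h : WR S n x y z) : Nat.card (Subgroup.center S) = 2 ^ n := by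
  rw [center_eq h, Nat.card_zpowers, orderOf_el_one h]

/-- The centralizer of an element outside the base is its product with the centre. -/
theorem centralizer_elz (h : WR S n x y z) {c d : ℤ} {g : S} :
    Commute g (el x y c d * z) ↔ ∃ a : ℤ, g = el x y a a ∨ g = el x y a a * (el x y c d * z) := by
  constructor
  · intro hg
    obtain ⟨a, b, rfl | rfl⟩ := h.gen g
    · refine ⟨a, Or.inl ((h.eq_iff _ _ _ _).mpr ⟨by simp, ?_⟩)⟩
      rw [dvd_sub_comm]
      exact (commute_el_elz h).mp hg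
    · have hg' : Commute (el x y (a - c) (b - d)) (el x y c d * z) := by
        have := hg.mul_left (Commute.refl (el x y c d * z)).inv_left
        rw [el_z_inv h, el_z_mul_el_z h] at this
        simpa [sub_eq_add_neg] using this
      refine ⟨a - c, Or.inr ?_⟩
      rw [← mul_assoc, el_mul h, el_z_eq h]
      exact ⟨by simp, by
        rw [show b - (a - c + d) = -((a - c) - (b - d)) by ring, dvd_neg]
        exact (commute_el_elz h).mp hg'⟩
  · rintro ⟨a, rfl | rfl⟩
    · exact (commute_el_elz h).mpr (by simp)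
    · exact ((commute_el_elz h).mpr (by simp)).mul_left (Commute.refl _)

theorem comm_of_commute_elz (h : WR S n x y z) {g u v : S} (hg : g ∉ base h)
    (hu : Commute u g) (hv : Commute v g) : u * v = v * u := by
  obtain ⟨c, d, rfl | rfl⟩ := h.gen g
  · exact absurd (el_mem_base h c d) hg
  · have hz : ∀ a : ℤ, ∀ k, Commute (el x y a a) k := fun a k =>
      (Subgroup.mem_center_iff.mp ((mem_center_iff h).mpr ⟨a, rfl⟩) k).symm
    obtain ⟨a, rfl | rfl⟩ := (centralizer_elz h).mp hu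
    · exact (hz a v).eq
    obtain ⟨b, rfl | rfl⟩ := (centralizer_elz h).mp hv
    · exact (hz b _).symm.eq
    · exact ((hz a _).mul_left ((hz b _).symm.mul_right (Commute.refl _))).eq

theorem center_le_of_nonabelian (h : WR S n x y z) (X : Subgroup S) (hX : ¬ IsMulCommutative X) :
    (Subgroup.center X).map X.subtype ≤ Subgroup.center S := by
  rintro _ ⟨g, hg, rfl⟩
  have hgc : ∀ k ∈ X, Commute k (g : S) := fun k hk =>
    congrArg Subtype.val (Subgroup.mem_center_iff.mp hg ⟨k, hk⟩)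
  by_cases hgb : (g : S) ∈ base h
  · obtain ⟨w, hw, hwb⟩ : ∃ w ∈ X, w ∉ base h := by
      by_contra hcon
      push Not at hcon
      apply hX
      refine ⟨⟨fun u v => Subtype.ext ?_⟩⟩
      have e := (base_comm h).is_comm.comm ⟨u.1, hcon _ u.2⟩ ⟨v.1, hcon _ v.2⟩
      exact (congrArg Subtype.val e :)
    obtain ⟨a, b, hab⟩ := hgb
    obtain ⟨c, d, rfl | rfl⟩ := h.gen w
    · exact absurd (el_mem_base h c d) hwb
    · have hab' : (g : S) = el x y a a := by
        rw [hab, h.eq_iff]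
        refine ⟨by simp, ?_⟩
        rw [dvd_sub_comm]
        exact (commute_el_elz h).mp (hab ▸ (hgc _ hw).symm)
      exact (mem_center_iff h).mpr ⟨a, hab'⟩
  · exact absurd ⟨⟨fun u v => Subtype.ext
      (comm_of_commute_elz h hgb (hgc _ u.2) (hgc _ v.2))⟩⟩ hX

theorem commutator_eq (h : WR S n x y z) :
    commutator S = Subgroup.zpowers (el x y 1 (-1)) := by
  obtain ⟨σ, hσ⟩ := exists_sum_hom h
  refine le_antisymm ?_ (Subgroup.zpowers_le.mpr ?_)
  · intro g hg
    have h1 : g ∈ base h := by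
      refine (?_ : commutator S ≤ base h) hg
      rw [commutator_def, Subgroup.commutator_le]
      intro u _ v _
      have hi := index_base h
      rw [commutatorElement_def, Subgroup.mul_mem_iff_of_index_two hi,
        Subgroup.mul_mem_iff_of_index_two hi, Subgroup.mul_mem_iff_of_index_two hi,
        inv_mem_iff, inv_mem_iff]
      tauto
    obtain ⟨a, b, rfl⟩ := h1
    have h2 : σ (el x y a b) = 1 := Abelianization.commutator_subset_ker σ hg
    rw [(hσ a b).1, ofAdd_eq_one, ZMod.intCast_zmod_eq_zero_iff_dvd] at h2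
    push_cast at h2
    refine ⟨a, ?_⟩
    show el x y 1 (-1) ^ a = el x y a b
    rw [el_zpow h, h.eq_iff]
    exact ⟨by simp, by rwa [show -1 * a - b = -(a + b) by ring, dvd_neg]⟩
  · have hm := Subgroup.commutator_mem_commutator (Subgroup.mem_top (el x y 1 0))
      (Subgroup.mem_top (el x y 0 0 * z))
    rw [← commutator_def, commutatorElement_def] at hm
    rwa [show el x y 1 0 * (el x y 0 0 * z) * (el x y 1 0)⁻¹ = el x y 1 (-1) * z by
        rw [conj_el_elz h]; norm_num,
      el_z_inv h, el_z_mul_el_z h, neg_zero, add_zero, add_zero] at hm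

/-! ### Involutions, quaternion subgroups -/

theorem half_sq (h : WR S n x y z) {a : ℤ} (ha : (2 : ℤ) ^ n ∣ a * 2) :
    (2 : ℤ) ^ n ∣ a ∨ (2 : ℤ) ^ n ∣ a - 2 ^ (n - 1) := by
  rw [two_pow_split h] at ha ⊢
  obtain ⟨c, hc⟩ := ha
  rcases Int.even_or_odd c with ⟨m, rfl⟩ | ⟨m, rfl⟩
  · exact Or.inl ⟨m, by linarith⟩
  · exact Or.inr ⟨m, by linarith⟩

theorem involution_cases (h : WR S n x y z) {g : S} (hg : g ^ 2 = 1) (hne : g ≠ 1) :
    g = el x y (2 ^ (n - 1)) 0 ∨ g = el x y 0 (2 ^ (n - 1)) ∨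
      g = el x y (2 ^ (n - 1)) (2 ^ (n - 1)) ∨ ∃ a : ℤ, g = el x y a (-a) * z := by
  obtain ⟨a, b, rfl | rfl⟩ := h.gen g
  · rw [el_pow h, el_eq_one h] at hg
    rcases half_sq h (by simpa using hg.1) with ha | ha <;>
      rcases half_sq h (by simpa using hg.2) with hb | hb
    · exact absurd ((el_eq_one h).mpr ⟨ha, hb⟩) hne
    · exact Or.inr (Or.inl ((h.eq_iff _ _ _ _).mpr ⟨by simpa using ha, hb⟩))
    · exact Or.inl ((h.eq_iff _ _ _ _).mpr ⟨ha, by simpa using hb⟩)
    · exact Or.inr (Or.inr (Or.inl ((h.eq_iff _ _ _ _).mpr ⟨ha, hb⟩)))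
  · rw [el_z_sq h, el_eq_one h] at hg
    refine Or.inr (Or.inr (Or.inr ⟨a, ?_⟩))
    rw [el_z_eq h]
    exact ⟨by simp, by simpa [add_comm] using hg.1⟩

theorem isConj_elz (h : WR S n x y z) {a b c d : ℤ} (hs : (2 : ℤ) ^ n ∣ a + b - (c + d)) :
    IsConj (el x y a b * z) (el x y c d * z) := by
  refine isConj_iff.mpr ⟨el x y (c - a) 0, ?_⟩
  rw [conj_el_elz h, el_z_eq h]
  exact ⟨by simp, by rwa [show b + 0 - (c - a) - d = a + b - (c + d) by ring]⟩

theorem orderOf_involution (h : WR S n x y z) (a b : ℤ)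
    (ha : (2 : ℤ) ^ n ∣ 2 * a) (hb : (2 : ℤ) ^ n ∣ 2 * b)
    (hne : ¬ ((2 : ℤ) ^ n ∣ a ∧ (2 : ℤ) ^ n ∣ b)) : orderOf (el x y a b) = 2 := by
  refine orderOf_eq_prime ?_ (mt (el_eq_one h).mp hne)
  rw [el_pow h, el_eq_one h]
  push_cast
  exact ⟨by rwa [mul_comm], by rwa [mul_comm]⟩

theorem orderOf_elz_involution (h : WR S n x y z) (a : ℤ) :
    orderOf (el x y a (-a) * z) = 2 := by
  refine orderOf_eq_prime ?_ fun e => el_z_ne h a (-a) 0 0 (by rw [e, el_zero])
  rw [el_z_sq h, add_neg_cancel, el_zero]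

/-- A pair `k, g` generating a quaternion subgroup, with `k` in the base. -/
theorem quaternion_pair (h : WR S n x y z) {k g : S} {m : ℕ} (hk : k ∈ base h)
    (hgk : g * k * g⁻¹ = k⁻¹) (hk2 : k ^ 2 ≠ 1) (hg : g ^ 2 = k ^ m) :
    ∃ a c d : ℤ, k = el x y a (-a) ∧ g = el x y c d * z ∧ (2 : ℤ) ^ n ∣ c + d - a * m := by
  obtain ⟨a, b, rfl⟩ := hk
  rw [el_pow h, ne_eq, el_eq_one h] at hk2
  obtain ⟨c, d, rfl | rfl⟩ := h.gen g
  · exfalso
    rw [conj_el_el h, el_inv h, h.eq_iff] at hgk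
    apply hk2
    push_cast
    constructor
    · rw [show a * 2 = a - -a by ring]; exact hgk.1
    · rw [show b * 2 = b - -b by ring]; exact hgk.2
  · rw [conj_elz_el h, el_inv h, h.eq_iff, sub_neg_eq_add, sub_neg_eq_add] at hgk
    have hb : el x y a b = el x y a (-a) := (h.eq_iff _ _ _ _).mpr
      ⟨by simp, by rw [sub_neg_eq_add]; exact hgk.1⟩
    refine ⟨a, c, d, hb, rfl, ?_⟩
    rw [hb, el_z_sq h, el_pow h, h.eq_iff] at hg
    exact hg.1

end CfsgLib.TwoGroups.WR
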