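import Mathlib
import Cfsg.Agent.Lib.TwoGroups.OneInvolution

/-!
Two-groups without a noncyclic abelian subgroup of order eight: first facts.
-/

set_option autoImplicit false
set_option linter.style.haveILetI false
open Subgroup
open scoped commutatorElement

namespace CfsgLib.TwoGroups.SmallEight

variable {G : Type*} [Group G] [Finite G]

/-- `Y` has no noncyclic abelian subgroup of order eight. -/
def Small (Y : Subgroup G) : Prop :=
  ¬ ∃ A : Subgroup G, A ≤ Y ∧ IsMulCommutative A ∧ ¬ IsCyclic A ∧ Nat.card A = 8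

omit [Finite G] in
theorem Small.mono {Y Y' : Subgroup G} (h : Small Y) (hle : Y' ≤ Y) : Small Y' :=
  fun ⟨A, hA, hr⟩ => h ⟨A, hA.trans hle, hr⟩

omit [Finite G] in
/-- Squaring eventually lands in a subgroup. -/
theorem exists_sq_mem {P : Subgroup G} (hP : IsPGroup 2 P) {L : Subgroup G} {u : G} (hu : u ∈ P)
    (huL : u ∉ L) : ∃ k : ℕ, u ^ 2 ^ k ∉ L ∧ u ^ 2 ^ k * u ^ 2 ^ k ∈ L := by
  classical
  obtain ⟨n, hn⟩ := hP ⟨u, hu⟩
  have hn' : u ^ 2 ^ n ∈ L := by
    rw [show u ^ 2 ^ n = 1 from congrArg Subtype.val hn]; exact one_mem L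
  have hex : ∃ k, u ^ 2 ^ k ∈ L := ⟨n, hn'⟩
  obtain ⟨k, hk⟩ : ∃ k, Nat.find hex = k + 1 := by
    refine Nat.exists_eq_succ_of_ne_zero fun h0 => huL ?_
    have := Nat.find_spec hex
    rwa [h0, pow_zero, pow_one] at this
  refine ⟨k, Nat.find_min hex (by omega), ?_⟩
  rw [← pow_add, ← Nat.two_mul, ← pow_succ', ← hk]
  exact Nat.find_spec hex

/-- Adjoining a commuting square root doubles a commutative subgroup. -/
theorem extend {L : Subgroup G} (hL : ∀ x ∈ L, ∀ y ∈ L, x * y = y * x) {u : G}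
    (hcu : ∀ x ∈ L, x * u = u * x) (hu : u ∉ L) (hu2 : u * u ∈ L) :
    ∃ A : Subgroup G, L ≤ A ∧ u ∈ A ∧ IsMulCommutative A ∧ Nat.card A = 2 * Nat.card L ∧
      ∀ Y : Subgroup G, L ≤ Y → u ∈ Y → A ≤ Y := by
  let A : Subgroup G :=
    { carrier := {g | g ∈ L ∨ g * u⁻¹ ∈ L}
      one_mem' := Or.inl (one_mem L)
      mul_mem' := fun {g h} hg hh => by
        rcases hg with hg | hg <;> rcases hh with hh | hh
        · exact Or.inl (mul_mem hg hh)
        · exact Or.inr (by rw [mul_assoc]; exact mul_mem hg hh)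
        · refine Or.inr ?_
          rw [show g * h * u⁻¹ = (g * u⁻¹) * (u * h * u⁻¹) by group, ← hcu h hh, mul_inv_cancel_right]
          exact mul_mem hg hh
        · refine Or.inl ?_
          have e : g * h = (g * u⁻¹) * (u * (h * u⁻¹) * u⁻¹) * (u * u) := by group
          rw [e, ← hcu _ hh, mul_inv_cancel_right]
          exact mul_mem (mul_mem hg hh) hu2
      inv_mem' := fun {g} hg => by
        rcases hg with hg | hg
        · exact Or.inl (inv_mem hg)
        · refine Or.inr ?_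
          have e : g⁻¹ * u⁻¹ = (u⁻¹ * (g * u⁻¹)⁻¹ * u) * (u * u)⁻¹ := by group
          rw [e, mul_assoc u⁻¹, hcu _ (inv_mem hg), inv_mul_cancel_left]
          exact mul_mem (inv_mem hg) (inv_mem hu2) }
  have huA : u ∈ A := Or.inr (by rw [mul_inv_cancel]; exact one_mem L)
  have hLA : L ≤ A := fun x hx => Or.inl hx
  have hdec : ∀ g ∈ A, g ∈ L ∨ ∃ x ∈ L, g = x * u := fun g hg =>
    hg.imp id fun h => ⟨_, h, by rw [inv_mul_cancel_right]⟩
  refine ⟨A, hLA, huA, ⟨⟨fun g h => Subtype.ext ?_⟩⟩, ?_, ?_⟩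
  · rcases hdec _ g.2 with hg | ⟨x, hx, hg⟩ <;> rcases hdec _ h.2 with hh | ⟨y, hy, hh⟩
    · exact hL _ hg _ hh
    · show (g : G) * h = h * g
      rw [hh]
      exact (Commute.mul_right (hL _ hg y hy) (hcu _ hg)).eq
    · show (g : G) * h = h * g
      rw [hg]
      exact (Commute.mul_left (hL x hx _ hh) (hcu _ hh).symm).eq
    · show (g : G) * h = h * g
      rw [hg, hh]
      exact ((Commute.mul_right (hL x hx y hy) (hcu x hx)).mul_left
        (Commute.mul_right (hcu y hy).symm (Commute.refl u))).eq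
  · have hidx : (L.subgroupOf A).index = 2 := by
      rw [index_eq_two_iff]
      refine ⟨⟨u, huA⟩, fun g => ?_⟩
      simp only [mem_subgroupOf, Subgroup.coe_mul]
      rcases hdec _ g.2 with hg | ⟨x, hx, hg⟩
      · exact Or.inr ⟨hg, fun h => hu (by simpa using mul_mem (inv_mem hg) h)⟩
      · refine Or.inl ⟨?_, fun h => hu ?_⟩
        · rw [hg, mul_assoc]; exact mul_mem hx hu2
        · rw [hg] at h; simpa using mul_mem (inv_mem hx) h
    rw [← (L.subgroupOf A).card_mul_index, hidx, Nat.card_congr (subgroupOfEquivOfLe hLA).toEquiv,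
      mul_comm]
  · intro Y hLY huY g hg
    rcases hdec g hg with h | ⟨x, hx, rfl⟩
    · exact hLY h
    · exact mul_mem (hLY hx) huY

omit [Finite G] in
theorem not_cyclic_of_two {A : Subgroup G} [Finite A] {a b : G} (ha : a ∈ A) (hb : b ∈ A)
    (ha2 : a * a = 1) (hb2 : b * b = 1) (ha1 : a ≠ 1) (hb1 : b ≠ 1) (hab : a ≠ b) : ¬ IsCyclic A := by
  classical
  intro hc
  letI := Fintype.ofFinite A
  have h := IsCyclic.card_pow_eq_one_le (α := A) (n := 2) two_pos
  have hsub : ({1, ⟨a, ha⟩, ⟨b, hb⟩} : Finset A) ⊆ Finset.univ.filter fun x : A => x ^ 2 = 1 := by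
    intro x hx
    simp only [Finset.mem_insert, Finset.mem_singleton] at hx
    rw [Finset.mem_filter]
    refine ⟨Finset.mem_univ _, ?_⟩
    rcases hx with rfl | rfl | rfl
    · exact one_pow 2
    · exact Subtype.ext (by rw [Subgroup.coe_pow, pow_two]; exact ha2)
    · exact Subtype.ext (by rw [Subgroup.coe_pow, pow_two]; exact hb2)
  have h3 : ({1, ⟨a, ha⟩, ⟨b, hb⟩} : Finset A).card = 3 := by
    rw [Finset.card_eq_three]
    exact ⟨_, _, _, fun e => ha1 (congrArg Subtype.val e).symm,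
      fun e => hb1 (congrArg Subtype.val e).symm, fun e => hab (congrArg Subtype.val e), rfl⟩
  have := (Finset.card_le_card hsub).trans h
  omega

/-- A commutative subgroup of a small group is cyclic or a four-group. -/
theorem cyclic_or_four {Y : Subgroup G} (hY : Small Y) (hP : IsPGroup 2 Y) {A : Subgroup G}
    (hAY : A ≤ Y) (hA : IsMulCommutative A) :
    IsCyclic A ∨ (Nat.card A = 4 ∧ ∀ x ∈ A, x * x = 1) := by
  classical
  by_cases hc : IsCyclic A
  · exact Or.inl hc
  right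
  have hAP : IsPGroup 2 A := hP.to_le hAY
  have hcomm : ∀ x ∈ A, ∀ y ∈ A, x * y = y * x := fun x hx y hy =>
    congrArg Subtype.val (hA.1.1 ⟨x, hx⟩ ⟨y, hy⟩)
  obtain ⟨a, b, ha, hb, hab⟩ : ∃ a b : A, orderOf a = 2 ∧ orderOf b = 2 ∧ a ≠ b := by
    by_contra hcon
    push Not at hcon
    obtain ⟨x, -, hx⟩ := CfsgLib.TwoGroups.OneInvolution.exists_generator hAP hcon ⊤
      ⟨⟨fun u v => Subtype.ext (hA.1.1 (u : A) v)⟩⟩
    exact hc ⟨⟨x, fun g => mem_zpowers_iff.1 (hx ▸ mem_top g)⟩⟩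
  have haa : (a : G) * a = 1 := by
    rw [← pow_two, ← Subgroup.coe_pow, ← ha, pow_orderOf_eq_one, Subgroup.coe_one]
  have hbb : (b : G) * b = 1 := by
    rw [← pow_two, ← Subgroup.coe_pow, ← hb, pow_orderOf_eq_one, Subgroup.coe_one]
  have ha1 : (a : G) ≠ 1 := fun h => by
    rw [show a = 1 from Subtype.ext h, orderOf_one] at ha; omega
  have hb1 : (b : G) ≠ 1 := fun h => by
    rw [show b = 1 from Subtype.ext h, orderOf_one] at hb; omega
  have hab' : (a : G) ≠ b := fun h => hab (Subtype.ext h)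
  obtain ⟨V1, -, haV1, -, hV1card, hV1le⟩ := extend (L := (⊥ : Subgroup G))
    (fun x hx y hy => by rw [mem_bot.1 hx, mem_bot.1 hy]) (u := (a : G))
    (fun x hx => by rw [mem_bot.1 hx, one_mul, mul_one]) (fun h => ha1 (mem_bot.1 h))
    (mem_bot.2 haa)
  rw [Subgroup.card_bot] at hV1card
  have hV1A : V1 ≤ A := hV1le A bot_le a.2
  have hbV1 : (b : G) ∉ V1 := by
    intro h
    obtain ⟨x, y, hxy, hu⟩ := Nat.card_eq_two_iff.1 hV1card
    have h3 : ∀ w : V1, w = x ∨ w = y := fun w => by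
      have hw : w ∈ ({x, y} : Set V1) := by rw [hu]; exact Set.mem_univ w
      exact hw
    rcases h3 ⟨1, one_mem _⟩ with e1 | e1 <;> rcases h3 ⟨_, haV1⟩ with e2 | e2 <;>
      rcases h3 ⟨_, h⟩ with e3 | e3 <;>
      first
        | exact ha1 (congrArg Subtype.val (e2.trans e1.symm))
        | exact hb1 (congrArg Subtype.val (e3.trans e1.symm))
        | exact hab' (congrArg Subtype.val (e2.trans e3.symm) :)
  obtain ⟨V, hV1V, hbV, -, hVcard, hVle⟩ := extend
    (fun x hx y hy => hcomm x (hV1A hx) y (hV1A hy)) (u := (b : G))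
    (fun x hx => hcomm x (hV1A hx) b b.2) hbV1 (by rw [hbb]; exact one_mem _)
  rw [hV1card] at hVcard
  have hVA : V ≤ A := hVle A hV1A b.2
  have hAV : A ≤ V := by
    intro u hu
    by_contra huV
    obtain ⟨k, hk, hk2⟩ := exists_sq_mem hAP hu huV
    obtain ⟨B, hVB, -, hBc, hBcard, hBle⟩ := extend (fun x hx y hy => hcomm x (hVA hx) y (hVA hy))
      (u := u ^ 2 ^ k) (fun x hx => hcomm x (hVA hx) _ (pow_mem hu _)) hk hk2
    exact hY ⟨B, (hBle A hVA (pow_mem hu _)).trans hAY, hBc,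
      not_cyclic_of_two (hVB (hV1V haV1)) (hVB hbV) haa hbb ha1 hb1 hab', by rw [hBcard, hVcard]⟩
  have h4 : Nat.card A = 4 := by rw [← le_antisymm hVA hAV, hVcard]
  refine ⟨h4, fun x hx => ?_⟩
  have h := congrArg Subtype.val (pow_card_eq_one' (x := (⟨x, hx⟩ : A)))
  rw [h4] at h
  by_contra hx2
  have ho : orderOf (⟨x, hx⟩ : A) = 2 ^ (1 + 1) := orderOf_eq_prime_pow (hp := ⟨Nat.prime_two⟩)
    (fun e => hx2 (by rw [← pow_two]; exact congrArg Subtype.val e)) (Subtype.ext h)
  exact hc (isCyclic_of_orderOf_eq_card _ (by rw [ho, h4]; norm_num))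

/-- An element of odd order whose conjugation fixes two points of a set of size four fixes all of it. -/
theorem fix_four {Z : Subgroup G} (hZ : Nat.card Z ≤ 4) {h z : G}
    (hh : ∀ x ∈ Z, h * x * h⁻¹ ∈ Z) (hodd : (orderOf h).Coprime 2) (hz : z ∈ Z) (hz1 : z ≠ 1)
    (hzf : h * z * h⁻¹ = z) : ∀ w ∈ Z, h * w = w * h := by
  classical
  letI := Fintype.ofFinite Z
  intro w hw
  have hsq : h * h * w * (h * h)⁻¹ = w := by
    by_contra hne
    set w' := h * w * h⁻¹ with hw'
    set w'' := h * w' * h⁻¹ with hw''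
    have hinj : ∀ x y : G, h * x * h⁻¹ = h * y * h⁻¹ → x = y := fun x y e =>
      mul_left_cancel (mul_right_cancel e)
    have e2 : h * h * w * (h * h)⁻¹ = w'' := by rw [hw'', hw']; group
    rw [e2] at hne
    have n1 : w ≠ 1 := fun e => hne (by simp [hw'', hw', e])
    have nz : w ≠ z := fun e => hne (by rw [hw'', hw', e, hzf, hzf])
    have n1' : w' ≠ 1 := fun e => n1 (hinj _ _ (by rw [← hw', e]; group))
    have nz' : w' ≠ z := fun e => nz (hinj _ _ (by rw [← hw', e, hzf]))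
    have n1'' : w'' ≠ 1 := fun e => n1' (hinj _ _ (by rw [← hw'', e]; group))
    have nz'' : w'' ≠ z := fun e => nz' (hinj _ _ (by rw [← hw'', e, hzf]))
    have nw : w' ≠ w := fun e => hne (by rw [hw'', e, ← hw', e])
    have nw' : w'' ≠ w' := fun e => nw (hinj _ _ (by rw [← hw'', e, hw']))
    have hw'Z : w' ∈ Z := hh w hw
    have hw''Z : w'' ∈ Z := hh w' hw'Z
    have hcard : ({(1 : Z), ⟨z, hz⟩, ⟨w, hw⟩, ⟨w', hw'Z⟩, ⟨w'', hw''Z⟩} : Finset Z).card = 5 := by
      rw [Finset.card_insert_of_notMem, Finset.card_insert_of_notMem, Finset.card_insert_of_notMem,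
        Finset.card_insert_of_notMem, Finset.card_singleton] <;>
        simp [Subtype.ext_iff, hz1.symm, n1.symm, n1'.symm, n1''.symm, nz.symm, nz'.symm, nz''.symm,
          nw.symm, Ne.symm hne, nw'.symm]
    have := Finset.card_le_univ ({(1 : Z), ⟨z, hz⟩, ⟨w, hw⟩, ⟨w', hw'Z⟩, ⟨w'', hw''Z⟩} : Finset Z)
    rw [hcard, ← Nat.card_eq_fintype_card] at this
    omega
  obtain ⟨m, hm⟩ : Odd (orderOf h) := Nat.coprime_two_right.1 hodd
  have hc : Commute (h * h) w := by
    rw [Commute, SemiconjBy]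
    calc h * h * w = h * h * w * (h * h)⁻¹ * (h * h) := by group
      _ = w * (h * h) := by rw [hsq]
  have e : h = ((h * h) ^ m)⁻¹ := by
    rw [eq_inv_iff_mul_eq_one, ← pow_two, ← pow_mul, ← pow_succ', ← hm, pow_orderOf_eq_one]
  rw [e]
  exact ((hc.pow_left m).inv_left).eq

/-- Odd order elements centralize the cyclic 2-groups they normalize. -/
theorem fix_cyclic {C H : Subgroup G} (hC : IsPGroup 2 C) (hcy : IsCyclic C)
    (hH : H ≤ Subgroup.normalizer (C : Set G)) (hodd : (Nat.card H).Coprime 2) :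
    H ≤ centralizer (C : Set G) := by
  obtain ⟨n, hn⟩ := hC.exists_card_eq
  let φ : H →* MulAut C := C.normalizerMonoidHom.comp (Subgroup.inclusion hH)
  intro h hh
  have hone : φ ⟨h, hh⟩ = 1 := by
    have haut : Nat.card (MulAut C) ∣ 2 ^ n := by
      rw [hcy.card_mulAut, hn]
      rcases Nat.eq_zero_or_pos n with rfl | hpos
      · rw [pow_zero, Nat.totient_one]
      · rw [Nat.totient_prime_pow Nat.prime_two hpos, show 2 - 1 = 1 from rfl, mul_one]
        exact pow_dvd_pow 2 (Nat.sub_le n 1)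
    rw [← orderOf_eq_one_iff]
    exact Nat.eq_one_of_dvd_coprimes (hodd.pow_right n)
      ((orderOf_map_dvd φ _).trans (_root_.orderOf_dvd_natCard _))
      ((_root_.orderOf_dvd_natCard _).trans haut)
  rw [mem_centralizer_iff]
  intro x hx
  have e : h * x * h⁻¹ = x := by
    have := congrArg Subtype.val (DFunLike.congr_fun hone ⟨x, hx⟩)
    simpa [φ] using this
  conv_lhs => rw [← e, inv_mul_cancel_right]

end CfsgLib.TwoGroups.SmallEight
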