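import Mathlib
import Cfsg.Prelude.Def_Transfer
import Cfsg.Agent.Lib.TwoGroups.SmallEightBasic
import Cfsg.Agent.Lib.Coprime.Commutator
import Cfsg.Agent.Lib.PGroup.Frattini

/-!
A two-group equal to its commutator with a group of odd order, all of whose proper invariant
subgroups are small.
-/

set_option autoImplicit false
set_option linter.style.haveILetI false
open Subgroup
open scoped commutatorElement

namespace CfsgLib.TwoGroups.SmallEight

variable {G : Type*} [Group G] [Finite G]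

omit [Finite G] in
/-- A normalizing element carries the image of a characteristic subgroup to itself. -/
theorem normalizer_le_map_char (X : Subgroup G) (K : Subgroup X) [hK : K.Characteristic] :
    normalizer (X : Set G) ≤ normalizer ((K.map X.subtype : Subgroup G) : Set G) := by
  intro g hg
  have key : ∀ g ∈ normalizer (X : Set G), ∀ x ∈ K.map X.subtype,
      g * x * g⁻¹ ∈ K.map X.subtype := by
    rintro g hg _ ⟨x, hx, rfl⟩
    refine ⟨X.normalizerMonoidHom ⟨g, hg⟩ x, ?_, by simp⟩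
    have := characteristic_iff_map_eq.1 hK (X.normalizerMonoidHom ⟨g, hg⟩)
    rw [← this]
    exact ⟨x, hx, rfl⟩
  rw [mem_normalizer_iff]
  intro x
  refine ⟨key g hg x, fun hx => ?_⟩
  have := key g⁻¹ (inv_mem hg) _ hx
  rwa [show g⁻¹ * (g * x * g⁻¹) * g⁻¹⁻¹ = x by group] at this

omit [Finite G] in
theorem normalizer_le_inf_centralizer (X Y : Subgroup G) :
    normalizer (X : Set G) ⊓ normalizer (Y : Set G) ≤
      normalizer ((X ⊓ centralizer (Y : Set G) : Subgroup G) : Set G) := by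
  intro g hg
  have key : ∀ g ∈ normalizer (X : Set G) ⊓ normalizer (Y : Set G),
      ∀ x ∈ X ⊓ centralizer (Y : Set G), g * x * g⁻¹ ∈ X ⊓ centralizer (Y : Set G) := by
    intro g hg x hx
    refine Subgroup.mem_inf.2 ⟨(mem_normalizer_iff.1 hg.1 x).1 hx.1, mem_centralizer_iff.2 fun y hy => ?_⟩
    have hy' : g⁻¹ * y * g ∈ Y := by
      have := (mem_normalizer_iff.1 (inv_mem hg.2) y).1 hy
      rwa [inv_inv] at this
    have e := mem_centralizer_iff.1 hx.2 _ hy'
    calc y * (g * x * g⁻¹) = g * (g⁻¹ * y * g * x) * g⁻¹ := by group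
      _ = g * (x * (g⁻¹ * y * g)) * g⁻¹ := by rw [e]
      _ = g * x * g⁻¹ * y := by group
  rw [mem_normalizer_iff]
  intro x
  refine ⟨key g hg x, fun hx => ?_⟩
  have := key g⁻¹ (inv_mem hg) _ hx
  rwa [show g⁻¹ * (g * x * g⁻¹) * g⁻¹⁻¹ = x by group] at this

omit [Finite G] in
/-- A subgroup fixed by `H` and normalized by `X = [X,H]` is central in `X`. -/
theorem central_of_fixed {X H N : Subgroup G} (hXH : ⁅X, H⁆ = X)
    (hXN : X ≤ normalizer (N : Set G)) (hHN : H ≤ centralizer (N : Set G)) :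
    X ≤ centralizer (N : Set G) := by
  have h1 : ⁅⁅H, N⁆, X⁆ = ⊥ := by
    rw [commutator_eq_bot_iff_le_centralizer.2 hHN, commutator_bot_left]
  have hNX : ⁅N, X⁆ ≤ N := CfsgLib.Coprime.commutator_le_of_normalizes hXN
  have h2 : ⁅⁅N, X⁆, H⁆ = ⊥ := by
    rw [commutator_eq_bot_iff_le_centralizer]
    exact hNX.trans (le_centralizer_iff.1 hHN)
  have := commutator_commutator_eq_bot_of_rotate h1 h2
  rw [hXH] at this
  exact commutator_eq_bot_iff_le_centralizer.1 this

/-- A nontrivial subgroup of a two-group `X` normalized by it meets the centralizer of `X`. -/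
theorem exists_central {X : Subgroup G} (hX : IsPGroup 2 X) : ∀ D : Subgroup G, D ≤ X →
    X ≤ normalizer (D : Set G) → D ≠ ⊥ → ∃ z ∈ D, z ≠ 1 ∧ ∀ x ∈ X, x * z = z * x := by
  haveI : Fact (Nat.Prime 2) := ⟨Nat.prime_two⟩
  intro D
  induction D using WellFoundedLT.induction with
  | ind D ih =>
    intro hDX hXD hD
    by_cases h : ⁅D, X⁆ = ⊥
    · obtain ⟨⟨z, hz⟩, hz1⟩ := D.ne_bot_iff_exists_ne_one.1 hD
      exact ⟨z, hz, fun e => hz1 (Subtype.ext e), fun x hx =>
        mem_centralizer_iff.1 (commutator_eq_bot_iff_le_centralizer.1 h hz) x hx⟩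
    have hlt : ⁅D, X⁆ < D := CfsgLib.Coprime.commutator_lt_of_isPGroup (hX.to_le hDX) hX hXD hD
    obtain ⟨z, hz, hr⟩ := ih _ hlt (hlt.le.trans hDX)
      (CfsgLib.Coprime.le_normalizer_commutator_right D X) h
    exact ⟨z, hlt.le hz, hr⟩

omit [Finite G] in
theorem conj_sq_comm {X : Subgroup G} {a x : G}
    (hc : ∀ y ∈ X, y * ⁅a, x⁆ = ⁅a, x⁆ * y) (ha : a ∈ X) (hx : x ∈ X)
    (haa : a * a * x = x * (a * a)) : ⁅a, x⁆ * ⁅a, x⁆ = 1 ∧ a * (x * x) = x * x * a := by
  set c := ⁅a, x⁆ with hcdef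
  have e : a * x = c * x * a := by rw [hcdef, commutatorElement_def]; group
  have h1 : c * c = 1 := by
    have h : a * a * x = c * c * (x * (a * a)) := by
      calc a * a * x = a * (a * x) := mul_assoc _ _ _
        _ = a * c * x * a := by rw [e]; group
        _ = c * (a * x) * a := by rw [hc a ha]; group
        _ = c * c * (x * (a * a)) := by rw [e]; group
    rw [haa] at h
    exact mul_eq_right.1 h.symm
  refine ⟨h1, ?_⟩
  calc a * (x * x) = a * x * x := (mul_assoc _ _ _).symm
    _ = c * x * a * x := by rw [e]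
    _ = c * x * (a * x) := mul_assoc _ _ _
    _ = c * (x * c) * x * a := by rw [e]; group
    _ = c * c * (x * x * a) := by rw [hc x hx]; group
    _ = x * x * a := by rw [h1, one_mul]

omit [Finite G] in
/-- The Frattini subgroup of a two-group is generated by squares. -/
theorem frattini_le_of_squares {P : Type*} [Group P] [Finite P] (hP : IsPGroup 2 P) (N : Subgroup P)
    (h : ∀ x : P, x * x ∈ N) : frattini P ≤ N := by
  haveI : Fact (Nat.Prime 2) := ⟨Nat.prime_two⟩
  refine CfsgLib.PGroup.frattini_le_of (p := 2) N ?_ fun x => by rw [pow_two]; exact h x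
  rw [_root_.commutator_def, commutator_le]
  intro x _ y _
  rw [commutatorElement_def,
    show x * y * x⁻¹ * y⁻¹ = x * x * ((x⁻¹ * y) * (x⁻¹ * y)) * (y * y)⁻¹ by group]
  exact mul_mem (mul_mem (h x) (h _)) (inv_mem (h y))

/-- Under coprime action `X = [X,H]` leaves no fixed points outside a subgroup with abelian quotient. -/
theorem fixed_le {X H N : Subgroup G} (hXH : ⁅X, H⁆ = X) (hHX : H ≤ normalizer (X : Set G))
    (hcop : (Nat.card H).Coprime (Nat.card X)) (hNX : N ≤ X) (hXN : X ≤ normalizer (N : Set G))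
    (hHN : H ≤ normalizer (N : Set G)) (habel : ⁅X, X⁆ ≤ N) {c : G} (hc : c ∈ X)
    (hcH : ∀ h ∈ H, h * c = c * h) : c ∈ N := by
  set Y := X ⊔ H with hY
  set i := Y.subtype with hi
  have hmX : (X.subgroupOf Y).map i = X := map_subgroupOf_eq_of_le le_sup_left
  have hmH : (H.subgroupOf Y).map i = H := map_subgroupOf_eq_of_le le_sup_right
  haveI : (N.subgroupOf Y).Normal :=
    (normal_subgroupOf_iff_le_normalizer (hNX.trans le_sup_left)).2 (sup_le hXN hHN)
  set π := QuotientGroup.mk' (N.subgroupOf Y) with hπ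
  set V := (X.subgroupOf Y).map π with hV
  set A := (H.subgroupOf Y).map π with hA
  have hVA : ⁅V, A⁆ = V := by
    rw [hV, hA, ← map_commutator]
    congr 1
    apply Subgroup.map_injective Y.subtype_injective
    rw [← hi, map_commutator, hmX, hmH, hXH]
  haveI : IsMulCommutative V := by
    refine ⟨⟨?_⟩⟩
    rintro ⟨_, x, hx, rfl⟩ ⟨_, y, hy, rfl⟩
    refine Subtype.ext ?_
    show π x * π y = π y * π x
    rw [← commutatorElement_eq_one_iff_mul_comm, ← map_commutatorElement]
    exact (QuotientGroup.eq_one_iff _).2 (show ((⁅x, y⁆ : Y) : G) ∈ N from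
      habel (commutator_mem_commutator hx hy))
  have hAV : A ≤ normalizer (V : Set (Y ⧸ N.subgroupOf Y)) := by
    haveI : (X.subgroupOf Y).Normal :=
      (normal_subgroupOf_iff_le_normalizer le_sup_left).2 (sup_le le_normalizer hHX)
    haveI : V.Normal := Subgroup.Normal.map inferInstance π (QuotientGroup.mk'_surjective _)
    rw [normalizer_eq_top]; exact le_top
  have hcop' : (Nat.card A).Coprime (Nat.card V) :=
    (hcop.coprime_dvd_left ((card_map_dvd _ _).trans
      (Nat.card_congr (subgroupOfEquivOfLe (le_sup_right : H ≤ Y)).toEquiv).dvd)).coprime_dvd_right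
      ((card_map_dvd _ _).trans (Nat.card_congr (subgroupOfEquivOfLe (le_sup_left : X ≤ Y)).toEquiv).dvd)
  have hbot := CfsgLib.Coprime.commutator_inf_centralizer_eq_bot A V hAV hcop'
  rw [hVA] at hbot
  have hmem : π ⟨c, mem_sup_left hc⟩ ∈ V ⊓ centralizer (A : Set (Y ⧸ N.subgroupOf Y)) := by
    refine Subgroup.mem_inf.2 ⟨⟨_, hc, rfl⟩, mem_centralizer_iff.2 ?_⟩
    rintro _ ⟨h, hh, rfl⟩
    rw [← map_mul, ← map_mul]
    exact congrArg π (Subtype.ext (hcH h hh))
  rw [hbot, mem_bot] at hmem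
  exact ((QuotientGroup.eq_one_iff (N := N.subgroupOf Y) _).1 hmem :)

/-- The structure of `X = [X,H]` when all proper `H`-invariant subgroups are small. -/
theorem core {X H : Subgroup G} (hX : IsPGroup 2 X) (hne : X ≠ ⊥)
    (hHX : H ≤ normalizer (X : Set G)) (hodd : (Nat.card H).Coprime 2) (hXH : ⁅X, H⁆ = X)
    (hmin : ∀ Y : Subgroup G, Y < X → H ≤ normalizer (Y : Set G) → Small Y) :
    IsMulCommutative X ∨
      (Cfsg.IsExtraspecial 2 X ∧ ∀ c ∈ X, (∀ h ∈ H, h * c = c * h) → ∀ x ∈ X, x * c = c * x) ∨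
      (Cfsg.IsSpecial 2 X ∧ Nat.card (center X) = 4 ∧ ¬ Small X) := by
  classical
  haveI : Fact (Nat.Prime 2) := ⟨Nat.prime_two⟩
  haveI : Nontrivial X := (nontrivial_iff_ne_bot X).2 hne
  have hcop : (Nat.card H).Coprime (Nat.card X) := by
    obtain ⟨n, hn⟩ := hX.exists_card_eq
    rw [hn]; exact hodd.pow_right n
  have hordH : ∀ h ∈ H, (orderOf h).Coprime 2 := fun h hh =>
    hodd.coprime_dvd_left (by rw [← Subgroup.orderOf_mk h hh]; exact _root_.orderOf_dvd_natCard _)
  set Φ := (frattini X).map X.subtype with hΦ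
  have hΦX : Φ ≤ X := map_subtype_le _
  have hΦlt : Φ < X := by
    refine lt_of_le_of_ne hΦX fun e => CfsgLib.PGroup.frattini_ne_top (P := X) ?_
    apply Subgroup.map_injective X.subtype_injective
    rw [← MonoidHom.range_eq_map, range_subtype]
    exact e
  have hΦN : normalizer (X : Set G) ≤ normalizer (Φ : Set G) := normalizer_le_map_char X _
  have hXΦ : X ≤ normalizer (Φ : Set G) := le_normalizer.trans hΦN
  have hHΦ : H ≤ normalizer (Φ : Set G) := hHX.trans hΦN
  have hsq : ∀ x ∈ X, x * x ∈ Φ := fun x hx =>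
    ⟨⟨x, hx⟩ * ⟨x, hx⟩, by rw [← pow_two]; exact CfsgLib.PGroup.pow_mem_frattini hX _, rfl⟩
  have hder : ⁅X, X⁆ ≤ Φ := by
    rw [← map_subtype_commutator X]
    exact map_mono (CfsgLib.PGroup.commutator_le_frattini hX)
  have hΦle : ∀ N : Subgroup G, (∀ x ∈ X, x * x ∈ N) → Φ ≤ N := by
    intro N hN
    rintro _ ⟨x, hx, rfl⟩
    exact frattini_le_of_squares hX (N.subgroupOf X) (fun x => hN x x.2) hx
  have hΦs : Small Φ := hmin Φ hΦlt hHΦ
  -- the Frattini subgroup is central
  set Zf := Φ ⊓ centralizer (Φ : Set G) with hZf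
  have hZfN : normalizer (Φ : Set G) ≤ normalizer (Zf : Set G) :=
    (le_inf le_rfl le_rfl).trans (normalizer_le_inf_centralizer Φ Φ)
  have hZfc : IsMulCommutative Zf := ⟨⟨fun u v => Subtype.ext
    ((mem_centralizer_iff.1 (Subgroup.mem_inf.1 u.2).2 v (Subgroup.mem_inf.1 v.2).1).symm)⟩⟩
  have hΦc : Φ ≤ centralizer (X : Set G) := by
    rcases cyclic_or_four hΦs (hX.to_le hΦX) inf_le_left hZfc with hcy | ⟨h4, hexp⟩
    · have hXZ : X ≤ centralizer (Zf : Set G) := central_of_fixed hXH (hXΦ.trans hZfN)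
        (fix_cyclic (hX.to_le (inf_le_left.trans hΦX)) hcy (hHΦ.trans hZfN) hodd)
      suffices hle : Φ ≤ Zf from hle.trans (le_centralizer_iff.1 hXZ)
      suffices h : ∀ D : Subgroup G, D ≤ Φ → X ≤ normalizer (D : Set G) → D ≤ Zf from h Φ le_rfl hXΦ
      intro D
      induction D using WellFoundedLT.induction with
      | ind D ih =>
        intro hDΦ hXD
        by_cases hD : D = ⊥
        · rw [hD]; exact bot_le
        have hlt : ⁅D, X⁆ < D := CfsgLib.Coprime.commutator_lt_of_isPGroup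
          (hX.to_le (hDΦ.trans hΦX)) hX hXD hD
        have hDX : ⁅D, X⁆ ≤ Zf := ih _ hlt (hlt.le.trans hDΦ)
          (CfsgLib.Coprime.le_normalizer_commutator_right D X)
        intro a ha
        by_contra haZ
        obtain ⟨k, hk, hk2⟩ := exists_sq_mem (hX.to_le (hDΦ.trans hΦX)) ha haZ
        set a' := a ^ 2 ^ k
        have ha'D : a' ∈ D := pow_mem ha _
        refine hk (Subgroup.mem_inf.2 ⟨hDΦ ha'D, ?_⟩)
        have hle : Φ ≤ centralizer {a'} := hΦle _ fun x hx => by
          rw [mem_centralizer_singleton_iff]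
          refine ((conj_sq_comm (X := X) ?_ (hΦX (hDΦ ha'D)) hx ?_).2).symm
          · intro y hy
            exact (mem_centralizer_iff.1 (hXZ hy) _ (hDX (commutator_mem_commutator ha'D hx))).symm
          · exact mem_centralizer_iff.1 (hXZ hx) _ hk2
        rw [mem_centralizer_iff]
        exact fun y hy => mem_centralizer_singleton_iff.1 (hle hy)
    · have hle : Φ ≤ Zf := by
        intro a ha
        by_contra haZ
        obtain ⟨k, hk, hk2⟩ := exists_sq_mem (hX.to_le hΦX) ha haZ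
        obtain ⟨B, hZB, -, hBc, hBcard, hBle⟩ := extend
          (fun x hx y hy => congrArg Subtype.val (hZfc.1.1 ⟨x, hx⟩ ⟨y, hy⟩)) (u := a ^ 2 ^ k)
          (fun x hx => (mem_centralizer_iff.1 (Subgroup.mem_inf.1 hx).2 _ (pow_mem ha _)).symm) hk hk2
        refine hΦs ⟨B, hBle Φ inf_le_left (pow_mem ha _), hBc, fun hcy => ?_, by rw [hBcard, h4]⟩
        haveI := hcy
        have hcy4 : IsCyclic Zf := isCyclic_of_injective (Subgroup.inclusion hZB) (inclusion_injective hZB)
        obtain ⟨g, hg⟩ := hcy4.exists_ofOrder_eq_natCard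
        have hg2 : g ^ 2 = 1 := Subtype.ext (by rw [Subgroup.coe_pow, pow_two]; exact hexp g g.2)
        have := orderOf_dvd_of_pow_eq_one hg2
        rw [hg, h4] at this
        norm_num at this
      have hΦ4 : Nat.card Φ = 4 := by rw [le_antisymm hle inf_le_left, h4]
      by_contra hnc
      set K := Φ ⊓ centralizer (X : Set G) with hK
      have hKne : K ≠ Φ := fun e => hnc (inf_eq_left.1 e)
      have hΦne : Φ ≠ ⊥ := fun e => by rw [e, Subgroup.card_bot] at hΦ4; omega
      obtain ⟨z, hz, hz1, hzX⟩ := exists_central hX Φ hΦX hXΦ hΦne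
      have hzK : z ∈ K := Subgroup.mem_inf.2 ⟨hz, mem_centralizer_iff.2 fun x hx => hzX x hx⟩
      have hK2 : Nat.card K = 2 := by
        have hdvd : Nat.card K ∣ 4 := hΦ4 ▸ card_dvd_of_le inf_le_left
        have h1 : Nat.card K ≠ 1 := fun e => hz1 (by
          rw [Subgroup.card_eq_one.1 e, mem_bot] at hzK; exact hzK)
        have h4' : Nat.card K ≠ 4 := fun e =>
          hKne (Subgroup.eq_of_le_of_card_ge inf_le_left (by omega))
        have := Nat.le_of_dvd (by norm_num) hdvd
        interval_cases Nat.card K <;> omega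
      have hHK : H ≤ centralizer (K : Set G) := fix_cyclic (hX.to_le (inf_le_left.trans hΦX))
        (isCyclic_of_prime_card (p := 2) hK2)
        ((le_inf hHΦ hHX).trans (normalizer_le_inf_centralizer Φ X)) hodd
      have hHc : H ≤ centralizer (Φ : Set G) := fun h hh => mem_centralizer_iff.2 fun w hw =>
        (fix_four (Z := Φ) hΦ4.le (fun x hx => (mem_normalizer_iff.1 (hHΦ hh) x).1 hx)
          (hordH h hh) hz hz1 (by
            rw [← mem_centralizer_iff.1 (hHK hh) z hzK, mul_inv_cancel_right]) w hw).symm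
      exact hnc (le_centralizer_iff.1 (central_of_fixed hXH hXΦ hHc))
  by_cases hab : IsMulCommutative X
  · exact Or.inl hab
  right
  set Zx := X ⊓ centralizer (X : Set G) with hZx
  have hcenmap : (center X).map X.subtype = Zx := by
    ext g
    constructor
    · rintro ⟨z, hz, rfl⟩
      exact Subgroup.mem_inf.2 ⟨z.2, mem_centralizer_iff.2 fun x hx =>
        congrArg Subtype.val (mem_center_iff.1 hz ⟨x, hx⟩)⟩
    · intro hg
      exact ⟨⟨g, hg.1⟩, mem_center_iff.2 fun x =>
        Subtype.ext (mem_centralizer_iff.1 hg.2 x x.2), rfl⟩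
  have hZlt : Zx < X := by
    refine lt_of_le_of_ne inf_le_left fun e => hab ⟨⟨fun u v => Subtype.ext ?_⟩⟩
    exact (mem_centralizer_iff.1 (inf_eq_left.1 e u.2) v v.2).symm
  have hHZ : H ≤ normalizer (Zx : Set G) :=
    (le_inf hHX hHX).trans (normalizer_le_inf_centralizer X X)
  have hΦZ : Φ ≤ Zx := le_inf hΦX hΦc
  have hZc : IsMulCommutative Zx := ⟨⟨fun u v => Subtype.ext
    ((mem_centralizer_iff.1 (Subgroup.mem_inf.1 u.2).2 v (Subgroup.mem_inf.1 v.2).1).symm)⟩⟩
  have hcent : ∀ c ∈ X, (∀ h ∈ H, h * c = c * h) → c ∈ Φ := fun c hc hcH =>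
    fixed_le hXH hHX hcop hΦX hXΦ hHΦ hder hc hcH
  have hcc : ∀ x ∈ X, ∀ y ∈ X, ∀ w ∈ X, w * ⁅x, y⁆ = ⁅x, y⁆ * w := fun x hx y hy w hw =>
    (mem_centralizer_iff.1 (hΦc (hder (commutator_mem_commutator hx hy))) w hw)
  have hd2 : ∀ c ∈ ⁅X, X⁆, c * c = 1 := by
    intro c hc
    let N : Subgroup G :=
      { carrier := {c | c ∈ Φ ∧ c * c = 1}
        mul_mem' := fun {u v} hu hv => ⟨mul_mem hu.1 hv.1, by
          have e : v * u = u * v := (mem_centralizer_iff.1 (hΦc hu.1) v (hΦX hv.1))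
          rw [mul_assoc, ← mul_assoc v u v, e, mul_assoc u v v, hv.2, mul_one, hu.2]⟩
        one_mem' := ⟨one_mem _, one_mul 1⟩
        inv_mem' := fun {u} hu => ⟨inv_mem hu.1, by rw [← mul_inv_rev, hu.2, inv_one]⟩ }
    refine ((commutator_le.2 fun x hx y hy => ?_ : ⁅X, X⁆ ≤ N) hc).2
    refine ⟨hder (commutator_mem_commutator hx hy), (conj_sq_comm (hcc x hx y hy) hx hy ?_).1⟩
    exact (mem_centralizer_iff.1 (hΦc (hsq x hx)) y hy).symm
  have hsqd : H ≤ centralizer (Φ : Set G) → Φ ≤ ⁅X, X⁆ := by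
    intro hH
    refine hΦle _ fun x hx => ?_
    let N : Subgroup G :=
      { carrier := {g | g ∈ X ∧ g * g ∈ ⁅X, X⁆}
        one_mem' := ⟨one_mem _, by rw [one_mul]; exact one_mem _⟩
        mul_mem' := fun {u v} hu hv => ⟨mul_mem hu.1 hv.1, by
          have e : u * v * (u * v) = ⁅v, u⁆ * (u * u) * (v * v) := by
            calc u * v * (u * v) = u * (v * u) * v := by group
              _ = u * ⁅v, u⁆ * (u * v) * v := by rw [commutatorElement_def]; group
              _ = ⁅v, u⁆ * (u * u) * (v * v) := by rw [hcc v hv.1 u hu.1 u hu.1]; group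
          rw [e]
          exact mul_mem (mul_mem (commutator_mem_commutator hv.1 hu.1) hu.2) hv.2⟩
        inv_mem' := fun {u} hu => ⟨inv_mem hu.1, by rw [← mul_inv_rev]; exact inv_mem hu.2⟩ }
    have hle : ⁅X, H⁆ ≤ N := by
      rw [commutator_le]
      intro y hy h hh
      have hy2 : h * y⁻¹ * h⁻¹ ∈ X := (mem_normalizer_iff.1 (hHX hh) _).1 (inv_mem hy)
      have e : ⁅y, h⁆ = y * (h * y⁻¹ * h⁻¹) := by rw [commutatorElement_def]; group
      rw [e]
      refine ⟨mul_mem hy hy2, ?_⟩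
      set v := h * y⁻¹ * h⁻¹ with hv
      have hvv : v * v = (y * y)⁻¹ := by
        have hc := mem_centralizer_iff.1 (hH hh) _ (inv_mem (hsq y hy))
        calc v * v = h * (y * y)⁻¹ * h⁻¹ := by rw [hv]; group
          _ = (y * y)⁻¹ := by rw [← hc, mul_inv_cancel_right]
      have e2 : y * v * (y * v) = ⁅v, y⁆ * (y * y) * (v * v) := by
        calc y * v * (y * v) = y * (v * y) * v := by group
          _ = y * ⁅v, y⁆ * (y * v) * v := by rw [commutatorElement_def]; group
          _ = ⁅v, y⁆ * (y * y) * (v * v) := by rw [hcc v hy2 y hy y hy]; group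
      rw [e2, hvv, mul_assoc, mul_inv_cancel, mul_one]
      exact commutator_mem_commutator hy2 hy
    rw [hXH] at hle
    exact (hle hx).2
  have hderne : ⁅X, X⁆ ≠ ⊥ := fun e => hab ⟨⟨fun u v => Subtype.ext
    ((mem_centralizer_iff.1 (commutator_eq_bot_iff_le_centralizer.1 e u.2) v v.2).symm)⟩⟩
  have hspecial : Φ = Zx → Zx ≤ ⁅X, X⁆ → Cfsg.IsSpecial 2 X := by
    intro e1 e2
    refine ⟨hX, ?_, ?_⟩
    · apply Subgroup.map_injective X.subtype_injective
      rw [hcenmap]; exact e1
    · apply Subgroup.map_injective X.subtype_injective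
      rw [hcenmap, map_subtype_commutator]
      exact le_antisymm (hder.trans hΦZ) e2
  have hcenc : Nat.card (center X) = Nat.card Zx := by
    rw [← hcenmap]; exact (Nat.card_congr ((center X).equivMapOfInjective _ X.subtype_injective).toEquiv)
  rcases cyclic_or_four hΦs (hX.to_le hΦX) (le_refl Φ) ⟨⟨fun u v => Subtype.ext
      ((mem_centralizer_iff.1 (hΦc u.2) v (hΦX v.2)).symm)⟩⟩ with hcy | ⟨h4, hexp⟩
  · left
    have hHc : H ≤ centralizer (Φ : Set G) := fix_cyclic (hX.to_le hΦX) hcy hHΦ hodd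
    have hΦd := hsqd hHc
    have hΦ2 : Nat.card Φ = 2 := by
      obtain ⟨g, hg⟩ := hcy.exists_ofOrder_eq_natCard
      have hg2 : g ^ 2 = 1 := Subtype.ext (by
        rw [Subgroup.coe_pow, pow_two]; exact hd2 g (hΦd g.2))
      have h := orderOf_dvd_of_pow_eq_one hg2
      rw [hg] at h
      rcases (Nat.dvd_prime Nat.prime_two).1 h with h1 | h1
      · exact absurd (le_bot_iff.1 (hder.trans (Subgroup.card_eq_one.1 h1).le)) hderne
      · exact h1
    have hZΦ : Zx ≤ Φ := by
      intro w hw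
      refine hcent w hw.1 fun h hh => ?_
      rcases cyclic_or_four (hmin Zx hZlt hHZ) (hX.to_le inf_le_left) le_rfl hZc with hzc | ⟨hz4, -⟩
      · exact (mem_centralizer_iff.1 (fix_cyclic (hX.to_le inf_le_left) hzc hHZ hodd hh) w hw).symm
      · obtain ⟨⟨z, hz⟩, hz1⟩ := Φ.ne_bot_iff_exists_ne_one.1 fun e => by
          rw [e, Subgroup.card_bot] at hΦ2; omega
        exact fix_four hz4.le (fun x hx => (mem_normalizer_iff.1 (hHZ hh) x).1 hx) (hordH h hh)
          (hΦZ hz) (fun e => hz1 (Subtype.ext e))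
          (by rw [← mem_centralizer_iff.1 (hHc hh) z hz, mul_inv_cancel_right]) w hw
    refine ⟨⟨hspecial (le_antisymm hΦZ hZΦ) (hZΦ.trans hΦd), ?_⟩, fun c hc hcH x hx =>
      mem_centralizer_iff.1 (hΦc (hcent c hc hcH)) x hx⟩
    rw [hcenc, ← le_antisymm hΦZ hZΦ, hΦ2]
  · right
    have hZ4 : Zx = Φ := by
      rcases cyclic_or_four (hmin Zx hZlt hHZ) (hX.to_le inf_le_left) le_rfl hZc with hzc | ⟨hz4, -⟩
      · exfalso
        haveI := hzc
        obtain ⟨g, hg⟩ := (isCyclic_of_injective (Subgroup.inclusion hΦZ)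
          (inclusion_injective hΦZ)).exists_ofOrder_eq_natCard
        have hg2 : g ^ 2 = 1 := Subtype.ext (by rw [Subgroup.coe_pow, pow_two]; exact hexp g g.2)
        have := orderOf_dvd_of_pow_eq_one hg2
        rw [hg, h4] at this
        norm_num at this
      · exact (Subgroup.eq_of_le_of_card_ge hΦZ (by omega)).symm
    have hdeq : Φ ≤ ⁅X, X⁆ := by
      by_contra hnle
      have hdvd : Nat.card (⁅X, X⁆ : Subgroup G) ∣ 4 := h4 ▸ card_dvd_of_le hder
      have hne1 : Nat.card (⁅X, X⁆ : Subgroup G) ≠ 1 := fun e => hderne (Subgroup.card_eq_one.1 e)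
      have hne4 : Nat.card (⁅X, X⁆ : Subgroup G) ≠ 4 := fun e =>
        hnle (Subgroup.eq_of_le_of_card_ge hder (by omega)).ge
      have h2 : Nat.card (⁅X, X⁆ : Subgroup G) = 2 := by
        have := Nat.le_of_dvd (by norm_num) hdvd
        interval_cases Nat.card (⁅X, X⁆ : Subgroup G) <;> omega
      have hHd : H ≤ normalizer ((⁅X, X⁆ : Subgroup G) : Set G) := by
        rw [← map_subtype_commutator X]
        exact hHX.trans (normalizer_le_map_char X _)
      have hHc := fix_cyclic (hX.to_le (hder.trans hΦX)) (isCyclic_of_prime_card (p := 2) h2) hHd hodd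
      obtain ⟨⟨z, hz⟩, hz1⟩ := (⁅X, X⁆ : Subgroup G).ne_bot_iff_exists_ne_one.1 hderne
      refine hnle (hsqd fun h hh => mem_centralizer_iff.2 fun w hw => ?_)
      exact (fix_four h4.le (fun x hx => (mem_normalizer_iff.1 (hHΦ hh) x).1 hx) (hordH h hh)
          (hder hz) (fun e => hz1 (Subtype.ext e))
          (by rw [← mem_centralizer_iff.1 (hHc hh) z hz, mul_inv_cancel_right]) w hw).symm
    refine ⟨hspecial hZ4.symm (hZ4.le.trans hdeq), by rw [hcenc, hZ4, h4], ?_⟩
    obtain ⟨u, hu, huZ⟩ := SetLike.exists_of_lt hZlt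
    obtain ⟨B, hZB, -, hBc, hBcard, hBle⟩ := extend
      (fun x hx y hy => congrArg Subtype.val (hZc.1.1 ⟨x, hx⟩ ⟨y, hy⟩)) (u := u)
      (fun x hx => (mem_centralizer_iff.1 (Subgroup.mem_inf.1 hx).2 u hu).symm) huZ
      (hΦZ (hsq u hu))
    refine fun hs => hs ⟨B, hBle X inf_le_left hu, hBc, fun hcy => ?_, by rw [hBcard, hZ4, h4]⟩
    haveI := hcy
    obtain ⟨g, hg⟩ := (isCyclic_of_injective (Subgroup.inclusion (hΦZ.trans hZB))
      (inclusion_injective _)).exists_ofOrder_eq_natCard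
    have hg2 : g ^ 2 = 1 := Subtype.ext (by rw [Subgroup.coe_pow, pow_two]; exact hexp g g.2)
    have := orderOf_dvd_of_pow_eq_one hg2
    rw [hg, h4] at this
    norm_num at this

end CfsgLib.TwoGroups.SmallEight
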