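import Mathlib
import Cfsg.Prelude.Def_Transfer
import Cfsg.Agent.Lib.TwoGroups.SmallEightCore
import Cfsg.Agent.Lib.TwoGroups.OneInvolution
import Cfsg.Agent.Lib.PGroup.Extraspecial

/-!
Two-groups with a nontrivial action of a group of odd order whose proper invariant subgroups have
no noncyclic abelian subgroup of order eight.
-/

set_option autoImplicit false
set_option linter.style.haveILetI false
open Subgroup
open scoped commutatorElement

namespace CfsgLib.TwoGroups.SmallEight

variable {G : Type*} [Group G] [Finite G]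

/-- The quaternion group of order eight, as a subgroup. -/
structure IsQuatEight (W : Subgroup G) : Prop where
  card : Nat.card W = 8
  iso : Nonempty (W ≃* QuaternionGroup 2)
  inv_unique : ∀ u ∈ W, ∀ v ∈ W, u * u = 1 → v * v = 1 → u ≠ 1 → v ≠ 1 → u = v

/-- A small extraspecial group moved by an odd order group is quaternion of order eight. -/
theorem quat_of_extraspecial {X H : Subgroup G} (hX : IsPGroup 2 X)
    (hHX : H ≤ normalizer (X : Set G)) (hodd : (Nat.card H).Coprime 2)
    (hE : Cfsg.IsExtraspecial 2 X) (hs : Small X)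
    (hfix : ∀ c ∈ X, (∀ h ∈ H, h * c = c * h) → ∀ x ∈ X, x * c = c * x) : IsQuatEight X := by
  classical
  haveI : Fact (Nat.Prime 2) := ⟨Nat.prime_two⟩
  set Z := (center X).map X.subtype with hZ
  have hZX : Z ≤ X := map_subtype_le _
  have hZ2 : Nat.card Z = 2 := by
    rw [hZ, ← Nat.card_congr ((center X).equivMapOfInjective _ X.subtype_injective).toEquiv, hE.2]
  have hZc : ∀ z ∈ Z, ∀ x ∈ X, x * z = z * x := by
    rintro _ ⟨z, hz, rfl⟩ x hx
    exact congrArg Subtype.val (mem_center_iff.1 hz ⟨x, hx⟩)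
  have hZmem : ∀ c ∈ X, (∀ x ∈ X, x * c = c * x) → c ∈ Z := fun c hc h =>
    ⟨⟨c, hc⟩, mem_center_iff.2 fun x => Subtype.ext (h x x.2), rfl⟩
  have hsqZ : ∀ x ∈ X, x * x ∈ Z := fun x hx => by
    refine ⟨⟨x, hx⟩ * ⟨x, hx⟩, ?_, rfl⟩
    rw [← pow_two]
    exact CfsgLib.PGroup.extraspecial_pow_mem_center hE _
  have hZexp : ∀ z ∈ Z, z * z = 1 := fun z hz => by
    have h := congrArg Subtype.val (pow_card_eq_one' (x := (⟨z, hz⟩ : Z)))
    rw [hZ2] at h
    rw [← pow_two]; exact h
  obtain ⟨⟨z, hz⟩, hz1'⟩ := Z.ne_bot_iff_exists_ne_one.1 fun e => by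
    rw [e, Subgroup.card_bot] at hZ2; omega
  have hz1 : z ≠ 1 := fun e => hz1' (Subtype.ext e)
  have hZeq : ∀ w ∈ Z, w = 1 ∨ w = z := by
    intro w hw
    obtain ⟨x, y, hxy, hu⟩ := Nat.card_eq_two_iff.1 hZ2
    have h2 : ∀ v : Z, v = x ∨ v = y := fun v => by
      have hv : v ∈ ({x, y} : Set Z) := by rw [hu]; exact Set.mem_univ v
      exact hv
    rcases h2 1 with e1 | e1 <;> rcases h2 ⟨z, hz⟩ with e2 | e2 <;> rcases h2 ⟨w, hw⟩ with e3 | e3 <;>
      first
        | exact absurd (congrArg Subtype.val (e2.trans e1.symm)) hz1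
        | exact Or.inl (congrArg Subtype.val (e3.trans e1.symm))
        | exact Or.inr (congrArg Subtype.val (e3.trans e2.symm))
  have hncomm : ¬ IsMulCommutative X := CfsgLib.PGroup.extraspecial_not_isMulCommutative hE
  -- a commuting partner
  have hCL : ∀ u ∈ X, u ∉ Z → ∀ y ∈ X, u * y = y * u → y ∈ Z ∨ y * u⁻¹ ∈ Z := by
    intro u hu huZ y hy hyu
    obtain ⟨L, hZL, huL, hLc, hLcard, hLle⟩ := extend
      (fun a ha c hc => (hZc c hc a (hZX ha))) (u := u) (fun a ha => (hZc a ha u hu).symm) huZ (hsqZ u hu)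
    by_contra hcon
    push Not at hcon
    let L' : Subgroup G :=
      { carrier := {g | g ∈ Z ∨ g * u⁻¹ ∈ Z}
        one_mem' := Or.inl (one_mem Z)
        mul_mem' := fun {g h} hg hh => by
          rcases hg with hg | hg <;> rcases hh with hh | hh
          · exact Or.inl (mul_mem hg hh)
          · exact Or.inr (by rw [mul_assoc]; exact mul_mem hg hh)
          · refine Or.inr ?_
            rw [show g * h * u⁻¹ = (g * u⁻¹) * (u * h * u⁻¹) by group, hZc h hh u hu,
              mul_inv_cancel_right]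
            exact mul_mem hg hh
          · refine Or.inl ?_
            rw [show g * h = (g * u⁻¹) * (u * (h * u⁻¹) * u⁻¹) * (u * u) by group, hZc _ hh u hu,
              mul_inv_cancel_right]
            exact mul_mem (mul_mem hg hh) (hsqZ u hu)
        inv_mem' := fun {g} hg => by
          rcases hg with hg | hg
          · exact Or.inl (inv_mem hg)
          · refine Or.inr ?_
            rw [show g⁻¹ * u⁻¹ = (u⁻¹ * (g * u⁻¹)⁻¹ * u) * (u * u)⁻¹ by group, mul_assoc u⁻¹,
              ← hZc _ (inv_mem hg) u hu, inv_mul_cancel_left]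
            exact mul_mem (inv_mem hg) (inv_mem (hsqZ u hu)) }
    have hyL : y ∉ L := fun h => by
      rcases hLle L' (fun a ha => Or.inl ha) (Or.inr (by rw [mul_inv_cancel]; exact one_mem Z)) h
        with h' | h'
      · exact hcon.1 h'
      · exact hcon.2 h'
    have hcy : ∀ a ∈ L, a * y = y * a := by
      intro a ha
      rcases hLle L' (fun a ha => Or.inl ha) (Or.inr (by rw [mul_inv_cancel]; exact one_mem Z)) ha
        with h' | h'
      · exact (hZc a h' y hy).symm
      · rw [show a = (a * u⁻¹) * u by group]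
        exact (Commute.mul_left (hZc _ h' y hy).symm hyu).eq
    obtain ⟨A, hLA, hyA, hAc, hAcard, hAle⟩ := extend
      (fun a ha c hc => congrArg Subtype.val (hLc.1.1 ⟨a, ha⟩ ⟨c, hc⟩)) (u := y) hcy hyL
      (hZL (hsqZ y hy))
    rw [hLcard, hZ2] at hAcard
    have hAX : A ≤ X := hAle X (hLle X hZX hu) hy
    refine hs ⟨A, hAX, hAc, fun hcyc => ?_, hAcard⟩
    obtain ⟨g, hg⟩ := hcyc.exists_ofOrder_eq_natCard
    have hg4 : g ^ 4 = 1 := Subtype.ext (by
      rw [Subgroup.coe_pow, show (4 : ℕ) = 2 + 2 from rfl, pow_add, pow_two]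
      exact hZexp _ (hsqZ _ (hAX g.2)))
    have := orderOf_dvd_of_pow_eq_one hg4
    rw [hg, hAcard] at this
    norm_num at this
  -- order eight
  have h8 : Nat.card X = 8 := by
    obtain ⟨n, hn, hcard⟩ := CfsgLib.PGroup.extraspecial_card hE
    rcases Nat.lt_or_ge n 2 with h | h
    · rw [hcard, show n = 1 by omega]; norm_num
    exfalso
    have hbig : 32 ≤ Nat.card X := by
      rw [hcard]
      calc (32 : ℕ) = 2 ^ (1 + 2 * 2) := by norm_num
        _ ≤ 2 ^ (1 + 2 * n) := Nat.pow_le_pow_right two_pos (by omega)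
    obtain ⟨⟨u, hu⟩, huc⟩ : ∃ u : X, u ∉ center X := by
      by_contra hcon
      push Not at hcon
      exact hncomm ⟨⟨fun a c => mem_center_iff.1 (hcon c) a⟩⟩
    have huZ : u ∉ Z := fun ⟨v, hv, e⟩ => huc (by rwa [show (⟨u, hu⟩ : X) = v from Subtype.ext e.symm])
    let φ : X →* center X :=
      { toFun := fun x => ⟨⁅x, ⟨u, hu⟩⁆, CfsgLib.PGroup.extraspecial_comm_mem_center hE _ _⟩
        map_one' := Subtype.ext (commutatorElement_one_left _)
        map_mul' := fun x y => Subtype.ext (by
          show ⁅x * y, (⟨u, hu⟩ : X)⁆ = ⁅x, ⟨u, hu⟩⁆ * ⁅y, ⟨u, hu⟩⁆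
          have hc := mem_center_iff.1 (CfsgLib.PGroup.extraspecial_comm_mem_center hE y ⟨u, hu⟩)
          rw [commutatorElement_mul_left_eq_conj_mul, hc x, mul_inv_cancel_right,
            ← hc ⁅x, (⟨u, hu⟩ : X)⁆]) }
    have hker : Nat.card φ.ker * 2 ≥ Nat.card X := by
      have h1 := φ.ker.card_mul_index
      rw [Subgroup.index_ker] at h1
      have h2 : Nat.card φ.range ≤ 2 := (Subgroup.card_le_card_group _).trans_eq hE.2
      rw [← h1]
      exact Nat.mul_le_mul_left _ h2
    have hsub : (φ.ker : Subgroup X).map X.subtype ≤ Z ⊔ zpowers u := by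
      rintro _ ⟨x, hx, rfl⟩
      have he : ⁅x, (⟨u, hu⟩ : X)⁆ = 1 := congrArg Subtype.val (MonoidHom.mem_ker.1 hx)
      have hxu : (x : G) * u = u * x :=
        congrArg Subtype.val (commutatorElement_eq_one_iff_mul_comm.1 he)
      rcases hCL u hu huZ x x.2 hxu.symm with h | h
      · exact mem_sup_left h
      · rw [show (X.subtype x : G) = (x * u⁻¹) * u by simp]
        exact mul_mem (mem_sup_left h) (mem_sup_right (mem_zpowers u))
    obtain ⟨L, hZL, huL, -, hLcard, hLle⟩ := extend
      (fun a ha c hc => (hZc c hc a (hZX ha))) (u := u) (fun a ha => (hZc a ha u hu).symm) huZ (hsqZ u hu)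
    have hle2 := card_dvd_of_le (hsub.trans (sup_le hZL (zpowers_le.2 huL)))
    rw [hLcard, hZ2, ← Nat.card_congr (φ.ker.equivMapOfInjective _ X.subtype_injective).toEquiv] at hle2
    have := Nat.le_of_dvd (by norm_num) hle2
    omega
  -- only one involution
  have hordH : ∀ h ∈ H, (orderOf h).Coprime 2 := fun h hh =>
    hodd.coprime_dvd_left (by rw [← Subgroup.orderOf_mk h hh]; exact _root_.orderOf_dvd_natCard _)
  obtain ⟨v, hv, hv2⟩ : ∃ v ∈ X, v * v ≠ 1 := by
    by_contra hcon
    push Not at hcon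
    refine hncomm ⟨⟨fun a c => Subtype.ext ?_⟩⟩
    have ha := hcon a a.2
    have hc := hcon c c.2
    have hac := hcon _ (mul_mem a.2 c.2)
    show (a : G) * (c : G) = (c : G) * (a : G)
    calc (a : G) * (c : G) = ((a : G) * (c : G))⁻¹ := (inv_eq_of_mul_eq_one_right hac).symm
      _ = (c : G)⁻¹ * (a : G)⁻¹ := mul_inv_rev _ _
      _ = (c : G) * (a : G) := by
          rw [inv_eq_of_mul_eq_one_right ha, inv_eq_of_mul_eq_one_right hc]
  have hvz : v * v = z := (hZeq _ (hsqZ v hv)).resolve_left hv2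
  have hvZ : v ∉ Z := fun h => hv2 (hZexp v h)
  obtain ⟨h, hh, hhv⟩ : ∃ h ∈ H, h * v * h⁻¹ * v ≠ v * (h * v * h⁻¹) := by
    by_contra hcon
    push Not at hcon
    apply hvZ
    refine hZmem v hv (hfix v hv fun h hh => ?_)
    obtain ⟨L, hZL, hvL, hLc, hLcard, hLle⟩ := extend
      (fun a ha c hc => (hZc c hc a (hZX ha))) (u := v) (fun a ha => (hZc a ha v hv).symm) hvZ (hsqZ v hv)
    rw [hZ2] at hLcard
    have hLX : L ≤ X := hLle X hZX hv
    have hinv : ∀ g ∈ H, ∀ x ∈ L, g * x * g⁻¹ ∈ L := by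
      intro g hg x hx
      have hvim : g * v * g⁻¹ ∈ L := by
        rcases hCL v hv hvZ _ ((mem_normalizer_iff.1 (hHX hg) v).1 hv) (hcon g hg).symm with h' | h'
        · exact hZL h'
        · rw [show g * v * g⁻¹ = g * v * g⁻¹ * v⁻¹ * v by group]
          exact mul_mem (hZL h') hvL
      have hZim : ∀ a ∈ Z, g * a * g⁻¹ ∈ L := by
        intro a ha
        rcases hZeq a ha with rfl | rfl
        · rw [mul_one, mul_inv_cancel]; exact one_mem L
        · rw [← hvz, show g * (v * v) * g⁻¹ = (g * v * g⁻¹) * (g * v * g⁻¹) by group]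
          exact mul_mem hvim hvim
      have hle : L ≤ L.comap (MulAut.conj g).toMonoidHom := hLle _ hZim hvim
      exact hle hx
    have hvord : IsCyclic L := by
      refine isCyclic_of_orderOf_eq_card (⟨v, hvL⟩ : L) ?_
      rw [Subgroup.orderOf_mk, hLcard]
      exact orderOf_eq_prime_pow (p := 2) (n := 1) (by rw [pow_one, pow_two]; exact hv2)
        (by rw [show 2 ^ (1 + 1) = 2 + 2 from rfl, pow_add, pow_two]; exact hZexp _ (hsqZ v hv))
    have hHL : H ≤ normalizer (L : Set G) := by
      intro g hg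
      rw [mem_normalizer_iff]
      refine fun x => ⟨hinv g hg x, fun hx => ?_⟩
      have := hinv g⁻¹ (inv_mem hg) _ hx
      rwa [show g⁻¹ * (g * x * g⁻¹) * g⁻¹⁻¹ = x by group] at this
    exact (mem_centralizer_iff.1 (fix_cyclic (hX.to_le hLX) hvord hHL hodd hh) v hvL).symm
  set v' := h * v * h⁻¹ with hv'
  have hv'X : v' ∈ X := (mem_normalizer_iff.1 (hHX hh) v).1 hv
  have hv'Z : v' ∉ Z := fun e => hhv (hZc v' e v hv).symm
  have hv'2 : v' * v' = z := by
    rcases hZeq _ (hsqZ v' hv'X) with e | e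
    · refine absurd ?_ hv2
      rw [show v * v = h⁻¹ * (v' * v') * h by rw [hv']; group, e, mul_one, inv_mul_cancel]
    · exact e
  have hcomm : ∀ a ∈ X, ∀ c ∈ X, a * c ≠ c * a → a * c = z * (c * a) := by
    intro a ha c hc hne
    have hmem : ⁅a, c⁆ ∈ Z :=
      ⟨⁅⟨a, ha⟩, ⟨c, hc⟩⁆, CfsgLib.PGroup.extraspecial_comm_mem_center hE _ _, rfl⟩
    rcases hZeq _ hmem with e | e
    · exact absurd (commutatorElement_eq_one_iff_mul_comm.1 e) hne
    · rw [← e, commutatorElement_def]; group
  have huniq : ∀ u ∈ X, u * u = 1 → u ∈ Z := by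
    intro u hu huu
    by_contra huZ
    have hkey : ∀ w ∈ X, w ∉ Z → w * w = z → u * w ≠ w * u := by
      intro w hw hwZ hw2 hcw
      rcases hCL w hw hwZ u hu hcw.symm with h' | h'
      · exact huZ h'
      · refine hz1 ?_
        have hc : (u * w⁻¹) * (u * w⁻¹) = 1 := hZexp _ h'
        calc z = w * w := hw2.symm
          _ = ((u * w⁻¹) * (u * w⁻¹)) * (w * w) := by rw [hc, one_mul]
          _ = (u * w⁻¹) * ((u * w⁻¹) * w * w) := by group
          _ = (u * w⁻¹) * (w * ((u * w⁻¹) * w)) := by rw [← mul_assoc w (u * w⁻¹) w, hZc _ h' w hw]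
          _ = u * u := by group
          _ = 1 := huu
    have h1 := hcomm u hu v hv (hkey v hv hvZ hvz)
    have h2 := hcomm u hu v' hv'X (hkey v' hv'X hv'Z hv'2)
    have hvv' : v * v' ∈ X := mul_mem hv hv'X
    have hne' : v' * v = z * (v * v') := hcomm v' hv'X v hv hhv
    have hsq : v * v' * (v * v') = z := by
      calc v * v' * (v * v') = v * (v' * v) * v' := by group
        _ = v * z * (v * v') * v' := by rw [hne']; group
        _ = z * ((v * v) * (v' * v')) := by rw [hZc z hz v hv]; group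
        _ = z := by rw [hvz, hv'2, hZexp z hz, mul_one]
    have hnZ : v * v' ∉ Z := fun e => hz1 (by rw [← hsq]; exact hZexp _ e)
    refine hkey _ hvv' hnZ hsq ?_
    calc u * (v * v') = (u * v) * v' := by group
      _ = z * v * (u * v') := by rw [h1]; group
      _ = z * (v * z) * v' * u := by rw [h2]; group
      _ = (z * z) * (v * v' * u) := by rw [hZc z hz v hv]; group
      _ = v * v' * u := by rw [hZexp z hz, one_mul]
  have hiu : ∀ a ∈ X, ∀ c ∈ X, a * a = 1 → c * c = 1 → a ≠ 1 → c ≠ 1 → a = c := by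
    intro a ha c hc ha2 hc2 ha1 hc1
    rw [(hZeq a (huniq a ha ha2)).resolve_left ha1, (hZeq c (huniq c hc hc2)).resolve_left hc1]
  refine ⟨h8, ?_, hiu⟩
  rcases CfsgLib.TwoGroups.OneInvolution.isCyclic_or_quaternion hX (fun a c ha hc => Subtype.ext
      (hiu a a.2 c c.2 (by rw [← pow_two, ← Subgroup.coe_pow, ← ha, pow_orderOf_eq_one, Subgroup.coe_one])
        (by rw [← pow_two, ← Subgroup.coe_pow, ← hc, pow_orderOf_eq_one, Subgroup.coe_one])
        (fun e => by rw [show a = 1 from Subtype.ext e, orderOf_one] at ha; omega)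
        (fun e => by rw [show c = 1 from Subtype.ext e, orderOf_one] at hc; omega))) with hcy | ⟨n, hn, ⟨e⟩⟩
  · haveI := hcy
    exact absurd ⟨⟨fun a c => by
      obtain ⟨g, hg⟩ := IsCyclic.exists_generator (α := X)
      obtain ⟨i, rfl⟩ := mem_zpowers_iff.1 (hg a)
      obtain ⟨j, rfl⟩ := mem_zpowers_iff.1 (hg c)
      rw [← zpow_add, ← zpow_add, add_comm]⟩⟩ hncomm
  · have hc := Nat.card_congr e.toEquiv
    haveI : NeZero (2 ^ n) := ⟨by positivity⟩
    rw [h8, Nat.card_eq_fintype_card, QuaternionGroup.card] at hc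
    have hn1 : n = 1 := by
      have : 2 ^ n = 2 ^ 1 := by omega
      exact Nat.pow_right_injective (le_refl 2) this
    subst hn1
    exact ⟨e⟩

/-- The classification of the invariant kernel. -/
theorem kernel_cases {W H : Subgroup G} (hW : IsPGroup 2 W) (hne : W ≠ ⊥)
    (hHW : H ≤ normalizer (W : Set G)) (hodd : (Nat.card H).Coprime 2) (hWH : ⁅W, H⁆ = W)
    (hs : Small W) :
    (IsMulCommutative W ∧ Nat.card W = 4 ∧ ∀ x ∈ W, x * x = 1) ∨ IsQuatEight W := by
  rcases core hW hne hHW hodd hWH (fun Y hY _ => hs.mono hY.le) with h | ⟨h, hfix⟩ | ⟨-, -, h⟩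
  · rcases cyclic_or_four hs hW le_rfl h with hc | hc
    · exact absurd (hWH ▸ commutator_eq_bot_iff_le_centralizer.2
        (le_centralizer_iff.1 (fix_cyclic hW hc hHW hodd))) hne
    · exact Or.inl ⟨h, hc⟩
  · exact Or.inr (quat_of_extraspecial hW hHW hodd h hs hfix)
  · exact absurd hs h

omit [Finite G] in
theorem mem_sup_of_normalizes {W V : Subgroup G} (h : V ≤ normalizer (W : Set G))
    {g : G} (hg : g ∈ W ⊔ V) : ∃ w ∈ W, ∃ v ∈ V, w * v = g := by
  have h' : g ∈ ((W ⊔ V : Subgroup G) : Set G) := hg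
  rw [coe_mul_of_right_le_normalizer_left W V h] at h'
  obtain ⟨w, hw, v, hv, e⟩ := Set.mem_mul.1 h'
  exact ⟨w, hw, v, hv, e⟩

/-- The structure of a two-group with nontrivial odd action and small proper invariant subgroups. -/
theorem structure_of_min {X H : Subgroup G} (hX : IsPGroup 2 X) (hHX : H ≤ normalizer (X : Set G))
    (hodd : (Nat.card H).Coprime 2) (hact : ¬ H ≤ centralizer (X : Set G))
    (hmin : ∀ Y : Subgroup G, Y < X → H ≤ normalizer (Y : Set G) → Small Y) :
    IsMulCommutative X ∨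
      (Cfsg.IsExtraspecial 2 X ∧ ∀ c ∈ X, (∀ h ∈ H, h * c = c * h) → ∀ x ∈ X, x * c = c * x) ∨
      (∃ W : Subgroup G, W ≤ X ∧ IsQuatEight W ∧ W.relIndex X = 2 ∧
        W ⊔ (X ⊓ centralizer (W : Set G)) = X ∧ ¬ Small X) ∨
      (Cfsg.IsSpecial 2 X ∧ Nat.card (center X) = 4 ∧ ¬ Small X) := by
  classical
  haveI : Fact (Nat.Prime 2) := ⟨Nat.prime_two⟩
  have hne : X ≠ ⊥ := fun e => hact (by
    intro h _
    rw [mem_centralizer_iff]
    intro x hx
    rw [e, SetLike.mem_coe, mem_bot] at hx
    rw [hx, one_mul, mul_one])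
  have hcop : (Nat.card H).Coprime (Nat.card X) := by
    obtain ⟨n, hn⟩ := hX.exists_card_eq
    rw [hn]; exact hodd.pow_right n
  haveI : Group.IsNilpotent X := hX.isNilpotent
  have hsolv : Group.IsSolvable H ∨ Group.IsSolvable X := Or.inr inferInstance
  set W := ⁅X, H⁆ with hWdef
  have hWX : W ≤ X := CfsgLib.Coprime.commutator_le_of_normalizes hHX
  by_cases hWeq : W = X
  · rcases core hX hne hHX hodd hWeq hmin with h | h | h
    · exact Or.inl h
    · exact Or.inr (Or.inl h)
    · exact Or.inr (Or.inr (Or.inr h))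
  have hWlt : W < X := lt_of_le_of_ne hWX hWeq
  have hHW : H ≤ normalizer (W : Set G) := CfsgLib.Coprime.le_normalizer_commutator_right X H
  have hXW : X ≤ normalizer (W : Set G) := CfsgLib.Coprime.le_normalizer_commutator_left X H
  have hWne : W ≠ ⊥ := fun e => hact (le_centralizer_iff.1 (commutator_eq_bot_iff_le_centralizer.1 e))
  have hWW : ⁅W, H⁆ = W := CfsgLib.Coprime.commutator_commutator_eq H X hHX hcop hsolv
  have hWs : Small W := hmin W hWlt hHW
  have hW2 : IsPGroup 2 W := hX.to_le hWX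
  set C := X ⊓ centralizer (H : Set G) with hC
  have hXWC : W ⊔ C = X := CfsgLib.Coprime.commutator_sup_centralizer H X hHX hcop hsolv
  have hcases := kernel_cases hW2 hWne hHW hodd hWW hWs
  -- proper invariant subgroups of `W` are centralized by `H`
  have hprop : ∀ D : Subgroup G, D < W → H ≤ normalizer (D : Set G) → H ≤ centralizer (D : Set G) := by
    intro D hD hHD
    refine fix_cyclic (hW2.to_le hD.le) ?_ hHD hodd
    have hdvd := card_dvd_of_le hD.le
    have hlt : Nat.card D < Nat.card W := by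
      refine lt_of_le_of_ne (Nat.le_of_dvd Nat.card_pos hdvd) fun e =>
        hD.ne (Subgroup.eq_of_le_of_card_ge hD.le e.ge)
    have hDP : IsPGroup 2 D := hW2.to_le hD.le
    obtain ⟨n, hn⟩ := hDP.exists_card_eq
    rcases hcases with ⟨-, h4, -⟩ | hQ
    · have hn1 : n ≤ 1 := by
        by_contra hcon
        have : 2 ^ 2 ≤ 2 ^ n := Nat.pow_le_pow_right two_pos (by omega)
        omega
      interval_cases n
      · rw [Subgroup.card_eq_one.1 hn]; exact isCyclic_of_subsingleton
      · exact isCyclic_of_prime_card (p := 2) hn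
    · have hn2 : n ≤ 2 := by
        by_contra hcon
        have : 2 ^ 3 ≤ 2 ^ n := Nat.pow_le_pow_right two_pos (by omega)
        have := hQ.card
        omega
      interval_cases n
      · rw [Subgroup.card_eq_one.1 hn]; exact isCyclic_of_subsingleton
      · exact isCyclic_of_prime_card (p := 2) hn
      · have hDc : IsMulCommutative D := ⟨⟨IsPGroup.commutative_of_card_eq_prime_sq (p := 2) hn⟩⟩
        obtain ⟨x, -, hx⟩ := CfsgLib.TwoGroups.OneInvolution.exists_generator hDP
          (fun a c ha hc => Subtype.ext (hQ.inv_unique a (hD.le a.2) c (hD.le c.2)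
            (by rw [← pow_two, ← Subgroup.coe_pow, ← ha, pow_orderOf_eq_one, Subgroup.coe_one])
            (by rw [← pow_two, ← Subgroup.coe_pow, ← hc, pow_orderOf_eq_one, Subgroup.coe_one])
            (fun e => by rw [show a = 1 from Subtype.ext e, orderOf_one] at ha; omega)
            (fun e => by rw [show c = 1 from Subtype.ext e, orderOf_one] at hc; omega)))
          ⊤ ⟨⟨fun u v => Subtype.ext (hDc.1.1 (u : D) v)⟩⟩
        exact ⟨⟨x, fun g => mem_zpowers_iff.1 (hx ▸ mem_top g)⟩⟩
  -- `C` centralizes `W`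
  have hCW : C ≤ centralizer (W : Set G) := by
    have hlt : ⁅W, X⁆ < W := CfsgLib.Coprime.commutator_lt_of_isPGroup hW2 hX hXW hWne
    have hHn : H ≤ normalizer ((⁅W, X⁆ : Subgroup G) : Set G) := by
      intro g hg
      rw [mem_normalizer_iff_map_conj_eq, map_commutator, mem_normalizer_iff_map_conj_eq.1 (hHW hg),
        mem_normalizer_iff_map_conj_eq.1 (hHX hg)]
    have hHc := hprop _ hlt hHn
    have hCWle : ⁅C, W⁆ ≤ ⁅W, X⁆ := by
      rw [commutator_comm]; exact commutator_mono le_rfl inf_le_left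
    have h1 : ⁅⁅H, C⁆, W⁆ = ⊥ := by
      rw [commutator_eq_bot_iff_le_centralizer.2 (le_centralizer_iff.1 inf_le_right), commutator_bot_left]
    have h2 : ⁅⁅C, W⁆, H⁆ = ⊥ := by
      rw [commutator_eq_bot_iff_le_centralizer]
      exact hCWle.trans (le_centralizer_iff.1 hHc)
    have := commutator_commutator_eq_bot_of_rotate h1 h2
    rw [hWW] at this
    exact le_centralizer_iff.1 (commutator_eq_bot_iff_le_centralizer.1 this)
  obtain ⟨u0, hu0, hu0W⟩ : ∃ u0 ∈ C, u0 ∉ W := by
    by_contra hcon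
    push Not at hcon
    exact hWeq (le_antisymm hWX (hXWC ▸ sup_le le_rfl hcon))
  obtain ⟨k, huW, hu2⟩ := exists_sq_mem (hX.to_le inf_le_left) hu0 hu0W
  set u := u0 ^ 2 ^ k with hu
  have huC : u ∈ C := pow_mem hu0 _
  have huc : ∀ x ∈ W, x * u = u * x := fun x hx => mem_centralizer_iff.1 (hCW huC) x hx
  have huN : u ∈ normalizer (W : Set G) := centralizer_le_normalizer _ (hCW huC)
  have huH : H ≤ normalizer ((zpowers u : Subgroup G) : Set G) :=
    (le_centralizer_iff.1 (zpowers_le.2 (Subgroup.mem_inf.1 huC).2)).trans (centralizer_le_normalizer _)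
  set M := W ⊔ zpowers u with hM
  have hMX : M ≤ X := sup_le hWX (zpowers_le.2 (Subgroup.mem_inf.1 huC).1)
  have hHM : H ≤ normalizer (M : Set G) := by
    intro g hg
    rw [mem_normalizer_iff_map_conj_eq, hM, Subgroup.map_sup,
      mem_normalizer_iff_map_conj_eq.1 (hHW hg), mem_normalizer_iff_map_conj_eq.1 (huH hg)]
  have hMns : ¬ Small M → M = X := fun h => by
    by_contra hne'
    exact h (hmin M (lt_of_le_of_ne hMX hne') hHM)
  rcases hcases with ⟨hWc, hW4, hexp⟩ | hQ
  · left
    obtain ⟨A, hWA, huA, hAc, hAcard, hAle⟩ := extend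
      (fun x hx y hy => congrArg Subtype.val (hWc.1.1 ⟨x, hx⟩ ⟨y, hy⟩)) huc huW hu2
    have hAM : A ≤ M := hAle M le_sup_left (mem_sup_right (mem_zpowers u))
    have hMA : M ≤ A := sup_le hWA (zpowers_le.2 huA)
    have hns : ¬ Small M := by
      obtain ⟨⟨a, ha⟩, ha1⟩ := W.ne_bot_iff_exists_ne_one.1 hWne
      have ha1' : a ≠ 1 := fun e => ha1 (Subtype.ext e)
      obtain ⟨c, hc, hc1, hca⟩ : ∃ c ∈ W, c ≠ 1 ∧ c ≠ a := by
        by_contra hcon
        push Not at hcon
        letI := Fintype.ofFinite W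
        have hu' : (Finset.univ : Finset W) ⊆ {1, ⟨a, ha⟩} := by
          intro x _
          rw [Finset.mem_insert, Finset.mem_singleton]
          by_cases hx : (x : G) = 1
          · exact Or.inl (Subtype.ext hx)
          · exact Or.inr (Subtype.ext (hcon x x.2 hx))
        have := Finset.card_le_card hu'
        rw [Finset.card_univ, ← Nat.card_eq_fintype_card, hW4] at this
        exact absurd (this.trans Finset.card_le_two) (by norm_num)
      exact fun h => h ⟨A, hAM, hAc,
        not_cyclic_of_two (hWA ha) (hWA hc) (hexp a ha) (hexp c hc) ha1' hc1 hca.symm,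
        by rw [hAcard, hW4]⟩
    rw [← hMns hns, le_antisymm hMA hAM]
    exact hAc
  · right; right; left
    obtain ⟨e⟩ := hQ.iso
    obtain ⟨⟨z, hz⟩, hz1'⟩ := W.ne_bot_iff_exists_ne_one.1 hWne
    set i : G := ((e.symm (QuaternionGroup.a 1) : W) : G) with hi
    have hiW : i ∈ W := (e.symm _).2
    have hio : orderOf i = 4 := by
      rw [hi, Subgroup.orderOf_coe, MulEquiv.orderOf_eq, QuaternionGroup.orderOf_a_one]
    have hI : zpowers i ≤ W := zpowers_le.2 hiW
    have hiu : ∀ x ∈ zpowers i, x * u = u * x := fun x hx => huc x (hI hx)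
    have hu2c : ∀ w ∈ W, w * (u * u) = u * u * w := fun w hw => by
      rw [← mul_assoc, huc w hw, mul_assoc, huc w hw, mul_assoc]
    have hi2 : i * i ≠ 1 := fun e' => by
      have := orderOf_dvd_of_pow_eq_one (show i ^ 2 = 1 by rw [pow_two]; exact e')
      rw [hio] at this
      norm_num at this
    have hi4 : (i * i) * (i * i) = 1 := by
      rw [← pow_two, ← pow_two, ← pow_mul]
      exact orderOf_dvd_iff_pow_eq_one.1 (by rw [hio])
    have hq2 : ∀ q : QuaternionGroup 2, (∀ w, w * q = q * w) → q * q = 1 := by decide +kernel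
    have hqa : ∀ q : QuaternionGroup 2, q * q = 1 → q = 1 ∨ q = QuaternionGroup.a 1 * QuaternionGroup.a 1 := by
      decide +kernel
    have hu2' : u * u = 1 ∨ u * u = i * i := by
      have hc : (e ⟨u * u, hu2⟩) * (e ⟨u * u, hu2⟩) = 1 := hq2 _ fun w => by
        obtain ⟨w, rfl⟩ := e.surjective w
        rw [← map_mul, ← map_mul]
        exact congrArg e (Subtype.ext (hu2c w w.2))
      rcases hqa _ hc with h | h
      · left
        rw [← map_one e] at h
        exact congrArg Subtype.val (e.injective h)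
      · right
        have h' := congrArg (fun q => ((e.symm q : W) : G)) h
        simp only [MulEquiv.symm_apply_apply, map_mul, Subgroup.coe_mul] at h'
        exact h'
    have hu2I : u * u ∈ zpowers i := by
      rcases hu2' with h | h <;> rw [h]
      · exact one_mem _
      · exact mul_mem (mem_zpowers i) (mem_zpowers i)
    obtain ⟨A, hIA, huA, hAc, hAcard, hAle⟩ := extend
      (fun x hx y hy => by
        obtain ⟨m, rfl⟩ := mem_zpowers_iff.1 hx
        obtain ⟨n, rfl⟩ := mem_zpowers_iff.1 hy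
        rw [← zpow_add, ← zpow_add, add_comm]) hiu (fun h => huW (hI h)) hu2I
    rw [Nat.card_zpowers, hio] at hAcard
    have hAM : A ≤ M := hAle M (hI.trans le_sup_left) (mem_sup_right (mem_zpowers u))
    have hns : ¬ Small M := by
      refine fun h => h ⟨A, hAM, hAc, ?_, hAcard⟩
      have hii : i * i ∈ A := hIA (mul_mem (mem_zpowers i) (mem_zpowers i))
      rcases hu2' with h' | h'
      · exact not_cyclic_of_two huA hii h' hi4 (fun e' => huW (e' ▸ one_mem W)) hi2
          (fun e' => huW (e' ▸ hI (mul_mem (mem_zpowers i) (mem_zpowers i))))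
      · refine not_cyclic_of_two (mul_mem (hIA (mem_zpowers i)) huA) hii ?_ hi4
          (fun e' => huW ?_) hi2 (fun e' => huW ?_)
        · calc i * u * (i * u) = i * (u * i) * u := by group
            _ = i * i * (u * u) := by rw [← huc i hiW]; group
            _ = 1 := by rw [h', hi4]
        · rw [eq_inv_of_mul_eq_one_right e']; exact inv_mem hiW
        · rw [show u = i⁻¹ * (i * u) by group, e']
          exact mul_mem (inv_mem hiW) (mul_mem hiW hiW)
    have hMeq := hMns hns
    refine ⟨W, hWX, hQ, ?_, ?_, fun h => hns (h.mono hMX)⟩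
    · rw [← hMeq]
      change (W.subgroupOf M).index = 2
      rw [index_eq_two_iff]
      refine ⟨⟨u, mem_sup_right (mem_zpowers u)⟩, fun g => ?_⟩
      simp only [mem_subgroupOf, Subgroup.coe_mul]
      obtain ⟨w, hw, v, hv, hwv⟩ :=
        (mem_sup_of_normalizes (zpowers_le.2 huN) g.2 : ∃ w ∈ W, ∃ v ∈ zpowers u, w * v = (g : G))
      obtain ⟨j, rfl⟩ := mem_zpowers_iff.1 hv
      have hj : ∀ m : ℤ, u ^ (2 * m) ∈ W := fun m => by
        rw [zpow_mul, zpow_two]; exact zpow_mem hu2 m
      rcases Int.even_or_odd' j with ⟨m, rfl | rfl⟩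
      · refine Or.inr ⟨hwv ▸ mul_mem hw (hj m), fun h => huW ?_⟩
        have hgW : (g : G) ∈ W := hwv ▸ mul_mem hw (hj m)
        simpa using mul_mem (inv_mem hgW) h
      · refine Or.inl ⟨?_, fun h => huW ?_⟩
        · rw [← hwv, mul_assoc, ← zpow_add_one, show 2 * m + 1 + 1 = 2 * (m + 1) by ring]
          exact mul_mem hw (hj _)
        · rw [← hwv, zpow_add_one, ← mul_assoc] at h
          have h' := mul_mem (inv_mem (mul_mem hw (hj m))) h
          rwa [inv_mul_cancel_left] at h'
    · refine le_antisymm (sup_le hWX inf_le_left) ?_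
      calc X = M := hMeq.symm
        _ ≤ _ := sup_le le_sup_left (zpowers_le.2 (mem_sup_right
          (Subgroup.mem_inf.2 ⟨(Subgroup.mem_inf.1 huC).1, hCW huC⟩)))

end CfsgLib.TwoGroups.SmallEight
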