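import Mathlib
import Cfsg.Prelude.Def_Transfer
import Cfsg.Agent.Lib.TwoGroups.SmallEightStructure
import Cfsg.Agent.Lib.InvChar.Q8Action
import Cfsg.Agent.Lib.PCore.PSolvable
import Cfsg.Agent.Lib.H82.AutFrattini
import Cfsg.Agent.Lib.Hall.Pi

/-!
Solvable groups minimal with respect to containing a noncyclic abelian subgroup of order eight.
-/

set_option autoImplicit false
set_option linter.style.haveILetI false
open Subgroup
open scoped commutatorElement

namespace CfsgLib.TwoGroups.SmallEight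

variable {S : Type*} [Group S] [Finite S]

open CfsgLib.InvChar.Q8Action in
theorem card_aut_q8 : Nat.card (MulAut (QuaternionGroup 2)) = 24 := by
  classical
  rw [← card_genPairs, ← Nat.card_eq_finsetCard]
  have hgen : ∀ α : MulAut Q8, GenPair (α qa) (α qx) := by
    intro α
    have h0 : qa * qa ≠ (1 : Q8) ∧ qx * qx ≠ (1 : Q8) ∧ qx ≠ qa ∧ qx ≠ qa⁻¹ := by decide
    refine ⟨fun h => h0.1 (α.injective ?_), fun h => h0.2.1 (α.injective ?_),
      fun h => h0.2.2.1 (α.injective h), fun h => h0.2.2.2 (α.injective ?_)⟩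
    · rw [map_mul, h, map_one]
    · rw [map_mul, h, map_one]
    · rw [map_inv, h]
  refine Nat.card_eq_of_bijective (fun α => (⟨(α qa, α qx), Finset.mem_filter.2
    ⟨Finset.mem_univ _, hgen α⟩⟩ : (Finset.univ.filter fun p : Q8 × Q8 => GenPair p.1 p.2))) ⟨?_, ?_⟩
  · intro α β h
    have h' := congrArg Subtype.val h
    simp only [Prod.mk.injEq] at h'
    exact MulEquiv.ext fun u => DFunLike.congr_fun (hom_ext α.toMonoidHom β.toMonoidHom h'.1 h'.2) u
  · rintro ⟨⟨p, q⟩, hpq⟩
    have hpq' := (Finset.mem_filter.1 hpq).2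
    refine ⟨MulEquiv.ofBijective (MonoidHom.mk' (genFun p q) (genFun_hom p q hpq'))
      (Finite.surjective_iff_bijective.1 (genFun_bijective p q hpq')), ?_⟩
    exact Subtype.ext (Prod.ext (genFun_gens p q).1 (genFun_gens p q).2)

theorem q8_words : ∀ i j : QuaternionGroup 2, i * i ≠ 1 → i * j ≠ j * i →
    i * j * i⁻¹ = i * i * j ∧ ∀ r, ∃ k : Fin 4, r = i ^ (k : ℕ) ∨ r = i ^ (k : ℕ) * j := by
  decide +kernel

theorem q8_center : Fintype.card {q : QuaternionGroup 2 // ∀ w, w * q = q * w} = 2 := by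
  decide +kernel

/-- The conjugation action bounds the order. -/
theorem card_dvd_of_self_centralizing {T : Subgroup S} [T.Normal] (m : ℕ)
    (h : Nat.card (MulAut T) ∣ m) : Nat.card S ∣ Nat.card (centralizer (T : Set S)) * m := by
  have hker : (MulAut.conjNormal (H := T)).ker = centralizer (T : Set S) := by
    ext g
    rw [MonoidHom.mem_ker, mem_centralizer_iff]
    constructor
    · intro hg x hx
      have e := congrArg Subtype.val (DFunLike.congr_fun hg ⟨x, hx⟩)
      change g * x * g⁻¹ = x at e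
      conv_lhs => rw [← e, inv_mul_cancel_right]
    · intro hg
      refine MulEquiv.ext fun x => Subtype.ext ?_
      change g * (x : S) * g⁻¹ = x
      rw [← hg x x.2, mul_inv_cancel_right]
  rw [← (MulAut.conjNormal (H := T)).ker.card_mul_index, Subgroup.index_ker, hker]
  exact mul_dvd_mul_left _ ((card_subgroup_dvd_card _).trans h)

/-- A small two-core moved by an odd order group is impossible next to an abelian group of order eight. -/
theorem two_core_not_small [Group.IsSolvable S] (hO : Cfsg.pPrimeCore 2 S = ⊥)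
    (h8 : ∃ A : Subgroup S, IsMulCommutative A ∧ ¬ IsCyclic A ∧ Nat.card A = 8)
    {H : Subgroup S} (hodd : (Nat.card H).Coprime 2)
    (hact : ¬ H ≤ centralizer (Cfsg.pCore 2 S : Set S)) : ¬ Small (Cfsg.pCore 2 S) := by
  classical
  intro hT
  haveI : Fact (Nat.Prime 2) := ⟨Nat.prime_two⟩
  haveI : (Cfsg.pCore 2 S).Normal := sSup_normal _ fun _ h => h.1
  set T := Cfsg.pCore 2 S with hTdef
  have hT2 : IsPGroup 2 T := CfsgLib.PCore.pCore_isPGroup
  have hHT : H ≤ normalizer (T : Set S) := by rw [normalizer_eq_top]; exact le_top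
  have hCT : centralizer (T : Set S) ≤ T :=
    CfsgLib.PCore.centralizer_pCore_le (CfsgLib.PCore.isPSolvable_of_isSolvable (p := 2)) hO
  obtain ⟨A, hAc, hAn, hA8⟩ := h8
  obtain ⟨Y, hAY⟩ := (IsPGroup.of_card (p := 2) (n := 3) hA8 : IsPGroup 2 A).exists_le_sylow
  have hTY : T ≤ (Y : Subgroup S) := CfsgLib.PCore.pCore_le_sylow Y
  obtain ⟨e, he⟩ := Y.isPGroup'.exists_card_eq
  have hYdvd : ∀ a b : ℕ, Nat.Coprime b 2 → Nat.card S ∣ 2 ^ a * b → Nat.card (Y : Subgroup S) ∣ 2 ^ a :=
    fun a b hb h => by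
    have h' := (card_subgroup_dvd_card (Y : Subgroup S)).trans h
    rw [he] at h' ⊢
    exact (Nat.Coprime.pow_left e hb.symm).dvd_of_dvd_mul_right h'
  rcases structure_of_min hT2 hHT hodd hact (fun Z hZ _ => hT.mono hZ.le) with
    h | ⟨h, hfix⟩ | ⟨-, -, -, -, -, h⟩ | ⟨-, -, h⟩
  · rcases cyclic_or_four hT hT2 le_rfl h with hc | ⟨h4, hexp⟩
    · exact hact (fix_cyclic hT2 hc hHT hodd)
    have hfr : (frattini T).index = 2 ^ 2 := by
      have : frattini T = ⊥ := le_bot_iff.1 (frattini_le_of_squares hT2 ⊥ fun x =>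
        mem_bot.2 (Subtype.ext (hexp x x.2)))
      rw [this, index_bot, h4]; norm_num
    have haut := CfsgLib.AutFrattini82.card_aut_dvd (n := 2) (by rw [h4]; norm_num) hfr
    have hS := card_dvd_of_self_centralizing (T := T) 6 (haut.trans (by decide))
    have hC : centralizer (T : Set S) = T := by
      refine le_antisymm hCT fun x hx => mem_centralizer_iff.2 fun y hy => ?_
      exact congrArg Subtype.val (h.1.1 ⟨y, hy⟩ ⟨x, hx⟩)
    rw [hC, h4] at hS
    have hY := Nat.le_of_dvd (by norm_num) (hYdvd 3 3 (by norm_num) (by simpa using hS))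
    have hAY' : (A : Subgroup S) = Y := Subgroup.eq_of_le_of_card_ge hAY (by omega)
    have hAT : A ≤ T := fun a ha => hCT (mem_centralizer_iff.2 fun t ht =>
      congrArg Subtype.val (hAc.1.1 ⟨t, hAY' ▸ hTY ht⟩ ⟨a, ha⟩))
    have := Nat.le_of_dvd Nat.card_pos (card_dvd_of_le hAT)
    omega
  · have hQ := quat_of_extraspecial hT2 hHT hodd h hT hfix
    obtain ⟨eq⟩ := hQ.iso
    have hcen : Nat.card (centralizer (T : Set S)) = 2 := by
      rw [← q8_center, ← Nat.card_eq_fintype_card]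
      refine Nat.card_eq_of_bijective (fun c => ⟨eq ⟨c, hCT c.2⟩, fun w => by
        obtain ⟨w, rfl⟩ := eq.surjective w
        rw [← map_mul, ← map_mul]
        exact congrArg eq (Subtype.ext (mem_centralizer_iff.1 c.2 w w.2))⟩) ⟨?_, ?_⟩
      · intro c d hcd
        exact Subtype.ext (congrArg Subtype.val (eq.injective (congrArg Subtype.val hcd)) :)
      · rintro ⟨q, hq⟩
        refine ⟨⟨(eq.symm q : T), mem_centralizer_iff.2 fun t ht => ?_⟩, Subtype.ext (by simp)⟩
        have := congrArg eq.symm (hq (eq ⟨t, ht⟩))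
        rw [map_mul, map_mul, MulEquiv.symm_apply_apply] at this
        exact congrArg Subtype.val this
    have haut : Nat.card (MulAut T) ∣ 24 := by
      rw [Nat.card_congr (MulAut.congr eq).toEquiv, card_aut_q8]
    have hS := card_dvd_of_self_centralizing (T := T) 24 haut
    rw [hcen] at hS
    have hY : Nat.card (Y : Subgroup S) ∣ 2 ^ 4 := hYdvd 4 3 (by norm_num) (by simpa using hS)
    -- the intersection
    set I := A ⊓ T with hI
    have hIA : I ≤ A := inf_le_left
    have hrel : T.relIndex A ∣ 2 := by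
      have h1 : T.relIndex (A ⊔ T) = T.relIndex A := relIndex_sup_right A T
      have h2 : Nat.card T * T.relIndex (A ⊔ T) = Nat.card (A ⊔ T : Subgroup S) := by
        rw [← Nat.card_congr (subgroupOfEquivOfLe (le_sup_right : T ≤ A ⊔ T)).toEquiv]
        exact card_mul_index _
      have h3 := (card_dvd_of_le (sup_le hAY hTY)).trans hY
      rw [← h2, h1, hQ.card] at h3
      exact Nat.dvd_of_mul_dvd_mul_left (by norm_num : 0 < 8) h3
    have hcardI : Nat.card I * T.relIndex A = 8 := by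
      rw [← hA8, ← Subgroup.card_mul_index (T.subgroupOf A),
        ← Nat.card_congr (subgroupOfEquivOfLe hIA).toEquiv, hI, inf_comm, inf_subgroupOf_right]
      rfl
    have hncomm : ¬ IsMulCommutative T := fun hc =>
      CfsgLib.PGroup.extraspecial_not_isMulCommutative h hc
    have hI4 : Nat.card I = 4 ∧ T.relIndex A = 2 := by
      rcases (Nat.dvd_prime Nat.prime_two).1 hrel with h1 | h1
      · exfalso
        rw [h1, mul_one] at hcardI
        have hIT : I = T := Subgroup.eq_of_le_of_card_ge inf_le_right (by rw [hcardI, hQ.card])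
        refine hncomm ⟨⟨fun x y => Subtype.ext ?_⟩⟩
        exact (congrArg Subtype.val (hAc.1.1 ⟨x, hIA (hIT.ge x.2)⟩ ⟨y, hIA (hIT.ge y.2)⟩) :)
      · exact ⟨by rw [h1] at hcardI; omega, h1⟩
    have hIc : IsMulCommutative I := ⟨⟨fun x y => Subtype.ext
      (congrArg Subtype.val (hAc.1.1 ⟨x, hIA x.2⟩ ⟨y, hIA y.2⟩) :)⟩⟩
    have hIP : IsPGroup 2 I := hT2.to_le inf_le_right
    obtain ⟨g, -, hg⟩ := CfsgLib.TwoGroups.OneInvolution.exists_generator hIP
      (fun a c ha hc => Subtype.ext (hQ.inv_unique a (Subgroup.mem_inf.1 a.2).2 c (Subgroup.mem_inf.1 c.2).2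
        (by rw [← pow_two, ← Subgroup.coe_pow, ← ha, pow_orderOf_eq_one, Subgroup.coe_one])
        (by rw [← pow_two, ← Subgroup.coe_pow, ← hc, pow_orderOf_eq_one, Subgroup.coe_one])
        (fun e' => by rw [show a = 1 from Subtype.ext e', orderOf_one] at ha; omega)
        (fun e' => by rw [show c = 1 from Subtype.ext e', orderOf_one] at hc; omega)))
      ⊤ ⟨⟨fun u v => Subtype.ext (hIc.1.1 (u : I) v)⟩⟩
    set i : S := (g : S) with hidef
    have hiA : i ∈ A := hIA g.2
    have hiT : i ∈ T := (Subgroup.mem_inf.1 g.2).2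
    have hio : orderOf i = 4 := by
      rw [hidef, Subgroup.orderOf_coe, ← Nat.card_zpowers, ← hg, Subgroup.card_top, hI4.1]
    have hgen : ∀ x ∈ I, ∃ n : ℤ, x = i ^ n := fun x hx => by
      obtain ⟨n, hn⟩ := mem_zpowers_iff.1 (hg ▸ mem_top (⟨x, hx⟩ : I))
      exact ⟨n, by rw [hidef, ← Subgroup.coe_zpow, hn]⟩
    have hi2 : i * i ≠ 1 := fun e' => by
      have := orderOf_dvd_of_pow_eq_one (show i ^ 2 = 1 by rw [pow_two]; exact e')
      rw [hio] at this
      norm_num at this
    have hi4 : i ^ 4 = 1 := by rw [← hio]; exact pow_orderOf_eq_one i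
    obtain ⟨a0, ha0, ha0T⟩ : ∃ a0 ∈ A, a0 ∉ T := by
      by_contra hcon
      push Not at hcon
      have : A ⊓ T = A := inf_eq_left.2 hcon
      rw [hI, this, hA8] at hI4
      omega
    have ha00 : a0 * a0 ∈ I := by
      refine Subgroup.mem_inf.2 ⟨mul_mem ha0 ha0, ?_⟩
      exact Subgroup.mul_self_mem_of_index_two (H := T.subgroupOf A) hI4.2 (⟨a0, ha0⟩ : A)
    obtain ⟨a, haA, haT, haa⟩ : ∃ a ∈ A, a ∉ T ∧ a * a = 1 := by
      obtain ⟨n, hn⟩ := hgen _ ha00
      have hc : Commute a0 i := congrArg Subtype.val (hAc.1.1 ⟨a0, ha0⟩ ⟨i, hiA⟩)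
      rcases Int.even_or_odd' n with ⟨m, rfl | rfl⟩
      · refine ⟨a0 * i ^ (-m), mul_mem ha0 (zpow_mem hiA _), fun h' => ha0T ?_, ?_⟩
        · have := mul_mem h' (zpow_mem hiT m)
          rwa [mul_assoc, ← zpow_add, neg_add_cancel, zpow_zero, mul_one] at this
        · rw [← pow_two, (hc.zpow_right _).mul_pow, pow_two, hn, ← zpow_natCast (i ^ (-m)), ← zpow_mul,
            ← zpow_add, show 2 * m + -m * ((2 : ℕ) : ℤ) = 0 by push_cast; ring, zpow_zero]
      · exfalso
        refine hAn (isCyclic_of_orderOf_eq_card (⟨a0, ha0⟩ : A) ?_)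
        rw [Subgroup.orderOf_mk, hA8]
        refine orderOf_eq_prime_pow (p := 2) (n := 2) ?_ ?_
        · intro h'
          rw [show (2 : ℕ) ^ 2 = 2 * 2 from rfl, pow_mul, pow_two a0, hn, ← zpow_natCast, ← zpow_mul,
            ← orderOf_dvd_iff_zpow_eq_one, hio] at h'
          omega
        · rw [show (2 : ℕ) ^ (2 + 1) = 2 * 4 from rfl, pow_mul, pow_two a0, hn, ← zpow_natCast, ← zpow_mul,
            mul_comm, zpow_mul, zpow_natCast, hi4, one_zpow]
    obtain ⟨j, hj, hij⟩ : ∃ j ∈ T, i * j ≠ j * i := by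
      by_contra hcon
      push Not at hcon
      have hiC : (⟨i, hiT⟩ : T) ∈ center T :=
        mem_center_iff.2 fun t => Subtype.ext (hcon t t.2).symm
      have h4 : (⟨i, hiT⟩ : T) ^ 2 = 1 := by
        have := pow_card_eq_one' (x := (⟨_, hiC⟩ : center T))
        rw [h.2] at this
        exact congrArg Subtype.val this
      exact hi2 (by rw [← pow_two]; exact congrArg Subtype.val h4)
    obtain ⟨hiji, hwords⟩ : i * j * i⁻¹ = i * i * j ∧
        ∀ r ∈ T, ∃ k : ℕ, k < 4 ∧ (r = i ^ k ∨ r = i ^ k * j) := by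
      obtain ⟨h1, h2⟩ := q8_words (eq ⟨i, hiT⟩) (eq ⟨j, hj⟩)
        (fun h' => hi2 (congrArg Subtype.val (eq.injective ((map_mul eq _ _).trans (h'.trans (map_one eq).symm)))))
        (fun h' => hij (congrArg Subtype.val (eq.injective ((map_mul eq _ _).trans (h'.trans (map_mul eq _ _).symm)))))
      rw [← map_mul, ← map_inv, ← map_mul, ← map_mul, ← map_mul] at h1
      refine ⟨congrArg Subtype.val (eq.injective h1), fun r hr => ?_⟩
      obtain ⟨k, hk⟩ := h2 (eq ⟨r, hr⟩)
      refine ⟨k, k.2, ?_⟩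
      rcases hk with hk | hk
      · rw [← map_pow] at hk
        exact Or.inl (congrArg Subtype.val (eq.injective hk))
      · rw [← map_pow, ← map_mul] at hk
        exact Or.inr (congrArg Subtype.val (eq.injective hk))
    have hcent : ∀ c : S, c * i = i * c → c * j = j * c → c ∈ T := fun c h1 h2 =>
      hCT (mem_centralizer_iff.2 fun r hr => by
        obtain ⟨k, -, rfl | rfl⟩ := hwords r hr
        · exact ((Commute.pow_right h1 k).eq).symm
        · exact ((Commute.mul_right (Commute.pow_right h1 k) h2).eq).symm)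
    have hai : Commute a i := congrArg Subtype.val (hAc.1.1 ⟨a, haA⟩ ⟨i, hiA⟩)
    have hainv : a⁻¹ = a := inv_eq_of_mul_eq_one_right haa
    obtain ⟨k, hk4, hk | hk⟩ := hwords _ ((inferInstance : T.Normal).conj_mem j hj a)
    · refine hij ?_
      have e : j = i ^ k := by
        calc j = (a * a) * j * (a * a)⁻¹ := by rw [haa]; group
          _ = a * (a * j * a⁻¹) * a⁻¹ := by group
          _ = i ^ k := by rw [hk, (hai.pow_right k).eq, mul_inv_cancel_right]
      rw [e]; exact ((Commute.refl i).pow_right k).eq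
    · have e : j = i ^ k * (i ^ k * j) := by
        calc j = (a * a) * j * (a * a)⁻¹ := by rw [haa]; group
          _ = a * (a * j * a⁻¹) * a⁻¹ := by group
          _ = (a * i ^ k) * j * a⁻¹ := by rw [hk]; group
          _ = i ^ k * (a * j * a⁻¹) := by rw [(hai.pow_right k).eq]; group
          _ = i ^ k * (i ^ k * j) := by rw [hk]
      rw [← mul_assoc, ← pow_add, eq_comm, mul_eq_right, ← orderOf_dvd_iff_pow_eq_one, hio] at e
      have : k = 0 ∨ k = 2 := by omega
      rcases this with rfl | rfl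
      · rw [pow_zero, one_mul] at hk
        refine haT (hcent a hai.eq ?_)
        calc a * j = a * j * a⁻¹ * a := by group
          _ = j * a := by rw [hk]
      · refine haT ?_
        have hai' : a * i ∈ T := by
          refine hcent (a * i) ((hai.mul_left (Commute.refl i)).eq) ?_
          calc a * i * j = a * (i * j * i⁻¹) * i := by group
            _ = (a * (i * i)) * j * i := by rw [hiji]; group
            _ = (i * i) * (a * j * a⁻¹) * (a * i) := by rw [(hai.mul_right hai).eq]; group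
            _ = i ^ 4 * j * (a * i) := by rw [hk]; group
            _ = j * (a * i) := by rw [hi4, one_mul]
        have := mul_mem hai' (inv_mem hiT)
        rwa [mul_inv_cancel_right] at this
  · exact h hT
  · exact h hT

theorem minimal_structure [Group.IsSolvable S] (hO : Cfsg.pPrimeCore 2 S = ⊥)
    (h8 : ∃ A : Subgroup S, IsMulCommutative A ∧ ¬ IsCyclic A ∧ Nat.card A = 8)
    (hmin : ∀ R : Subgroup S, R ≠ ⊤ → (∃ k : ℕ, R.index = 2 ^ k) →
      ¬ ∃ A : Subgroup S, A ≤ R ∧ IsMulCommutative A ∧ ¬ IsCyclic A ∧ Nat.card A = 8)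
    (X : Sylow 2 S) :
    (X : Subgroup S).Normal ∧
      (IsMulCommutative (X : Subgroup S) ∨
        (Cfsg.IsExtraspecial 2 (X : Subgroup S) ∧ 32 ≤ Nat.card (X : Subgroup S)) ∨
        (∃ (X₀ : Subgroup S) (k : ℕ), X₀ ≤ (X : Subgroup S) ∧ X₀.relIndex (X : Subgroup S) = 2 ∧
          Nonempty (X₀ ≃* QuaternionGroup (2 ^ (k + 1))) ∧
          X₀ ⊔ ((X : Subgroup S) ⊓ centralizer (X₀ : Set S)) = (X : Subgroup S)) ∨
        (Cfsg.IsSpecial 2 (X : Subgroup S) ∧ Nat.card (center (X : Subgroup S)) = 4)) := by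
  classical
  haveI : Fact (Nat.Prime 2) := ⟨Nat.prime_two⟩
  obtain ⟨H, hH⟩ := CfsgLib.Hall.exists_isPiHall (G := S) {p | p ≠ 2}
  have hodd : (Nat.card H).Coprime 2 := by
    rw [Nat.coprime_comm, Nat.prime_two.coprime_iff_not_dvd]
    exact fun h => (hH.1 2 Nat.prime_two h) rfl
  obtain ⟨n, hn⟩ : ∃ n, H.index = 2 ^ n := by
    refine ⟨_, Nat.eq_prime_pow_of_unique_prime_dvd index_ne_zero_of_finite fun {d} hd hdvd => ?_⟩
    by_contra hne
    exact hH.2 d hd hne hdvd
  have hbig : ∀ K : Subgroup S, H ≤ K → ¬ Small K → K = ⊤ := by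
    intro K hK hns
    by_contra hne
    obtain ⟨m, -, hm⟩ := (Nat.dvd_prime_pow Nat.prime_two).1 (hn ▸ index_dvd_of_le hK)
    exact hns (hmin K hne ⟨m, hm⟩)
  have htop : ¬ Small (⊤ : Subgroup S) := fun h => by
    obtain ⟨A, hA⟩ := h8
    exact h ⟨A, le_top, hA⟩
  haveI : (Cfsg.pCore 2 S).Normal := sSup_normal _ fun _ h => h.1
  set T := Cfsg.pCore 2 S with hTdef
  have hT2 : IsPGroup 2 T := CfsgLib.PCore.pCore_isPGroup
  have hCT : centralizer (T : Set S) ≤ T :=
    CfsgLib.PCore.centralizer_pCore_le (CfsgLib.PCore.isPSolvable_of_isSolvable (p := 2)) hO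
  have htriv : H ≤ centralizer (T : Set S) → IsPGroup 2 S ∧ H = ⊥ := fun h => by
    have hHT : H ≤ T := h.trans hCT
    have hH1 : H = ⊥ := by
      obtain ⟨m, hm⟩ := (hT2.to_le hHT).exists_card_eq
      rw [← Subgroup.card_eq_one]
      rw [hm] at hodd ⊢
      rcases Nat.eq_zero_or_pos m with rfl | hm'
      · rfl
      · exact absurd (Nat.eq_one_of_dvd_coprimes hodd (dvd_pow_self 2 hm'.ne') dvd_rfl) (by norm_num)
    refine ⟨IsPGroup.of_card (n := n) ?_, hH1⟩
    rw [← hn, hH1, index_bot]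
  have hTns : ¬ Small T := by
    by_cases h : H ≤ centralizer (T : Set S)
    · have hS := (htriv h).1
      rw [show T = ⊤ from CfsgLib.PCore.pCore_eq_self_of_isPGroup hS]
      exact htop
    · exact two_core_not_small hO h8 hodd h
  have hTH : T ⊔ H = ⊤ := hbig _ le_sup_right fun h => hTns (h.mono le_sup_left)
  have hXT : (X : Subgroup S) = T := by
    refine (Subgroup.eq_of_le_of_card_ge (CfsgLib.PCore.pCore_le_sylow X) (Nat.le_of_dvd Nat.card_pos ?_)).symm
    obtain ⟨e, he⟩ := X.isPGroup'.exists_card_eq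
    have h1 := CfsgLib.PCore.card_sup_dvd_mul T H
    rw [hTH, Subgroup.card_top] at h1
    have h2 := (card_subgroup_dvd_card (X : Subgroup S)).trans h1
    rw [he] at h2 ⊢
    exact (Nat.Coprime.pow_left e hodd.symm).dvd_of_dvd_mul_right h2
  rw [hXT]
  refine ⟨inferInstance, ?_⟩
  by_cases hact : H ≤ centralizer (T : Set S)
  · left
    obtain ⟨-, hH1⟩ := htriv hact
    obtain ⟨A, hAc, hAn, hA8⟩ := h8
    have hAtop : A = ⊤ := hbig A (hH1 ▸ bot_le) fun h => h ⟨A, le_rfl, hAc, hAn, hA8⟩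
    exact ⟨⟨fun u v => Subtype.ext
      (congrArg Subtype.val (hAc.1.1 ⟨u, hAtop.ge (mem_top _)⟩ ⟨v, hAtop.ge (mem_top _)⟩) :)⟩⟩
  have hHT : H ≤ normalizer (T : Set S) := by rw [normalizer_eq_top]; exact le_top
  have hmin' : ∀ Y : Subgroup S, Y < T → H ≤ normalizer (Y : Set S) → Small Y := by
    intro Y hY hHY
    by_contra hns
    have htop' : H ⊔ Y = ⊤ := hbig _ le_sup_left fun h => hns (h.mono le_sup_right)
    have h1 : Nat.card (H ⊔ Y : Subgroup S) ∣ Nat.card H * Nat.card Y := by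
      haveI : (Y.subgroupOf (H ⊔ Y)).Normal :=
        (normal_subgroupOf_iff_le_normalizer le_sup_right).2 (sup_le hHY le_normalizer)
      have h2 := CfsgLib.PCore.card_sup_dvd_mul (G := (H ⊔ Y : Subgroup S))
        (Y.subgroupOf (H ⊔ Y)) (H.subgroupOf (H ⊔ Y))
      have hsup : Y.subgroupOf (H ⊔ Y) ⊔ H.subgroupOf (H ⊔ Y) = ⊤ := by
        rw [← subgroupOf_sup le_sup_right le_sup_left, sup_comm, subgroupOf_self]
      rw [hsup, Subgroup.card_top, Nat.card_congr (subgroupOfEquivOfLe (le_sup_right : Y ≤ H ⊔ Y)).toEquiv,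
        Nat.card_congr (subgroupOfEquivOfLe (le_sup_left : H ≤ H ⊔ Y)).toEquiv] at h2
      rwa [mul_comm]
    rw [htop', Subgroup.card_top] at h1
    obtain ⟨e, he⟩ := hT2.exists_card_eq
    have h3 := (card_subgroup_dvd_card T).trans h1
    rw [he] at h3
    have h4 := (Nat.Coprime.pow_left e hodd.symm).dvd_of_dvd_mul_left h3
    rw [← he] at h4
    exact hY.ne (Subgroup.eq_of_le_of_card_ge hY.le (Nat.le_of_dvd Nat.card_pos h4))
  rcases structure_of_min hT2 hHT hodd hact hmin' with h | ⟨h, -⟩ | ⟨W, hW, hQ, hrel, hsup, -⟩ | ⟨h, h4, -⟩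
  · exact Or.inl h
  · refine Or.inr (Or.inl ⟨h, ?_⟩)
    obtain ⟨m, hm, hcard⟩ := CfsgLib.PGroup.extraspecial_card h
    by_contra hlt
    have hm1 : m = 1 := by
      by_contra hne
      have : (2 : ℕ) ^ (1 + 2 * 2) ≤ 2 ^ (1 + 2 * m) := Nat.pow_le_pow_right two_pos (by omega)
      omega
    apply hTns
    rintro ⟨A, hA, hAc, -, hA8⟩
    refine CfsgLib.PGroup.extraspecial_not_isMulCommutative h ?_
    have : A = T := Subgroup.eq_of_le_of_card_ge hA (by rw [hA8, hcard, hm1]; norm_num)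
    exact this ▸ hAc
  · exact Or.inr (Or.inr (Or.inl ⟨W, 0, hW, hrel, hQ.iso, hsup⟩))
  · exact Or.inr (Or.inr (Or.inr ⟨h, h4⟩))

end CfsgLib.TwoGroups.SmallEight
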