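import Mathlib
import Cfsg.Prelude.Def_Solvable
import Cfsg.Prelude.Def_CaseTheorems
import Cfsg.Agent.S3224
import Cfsg.Agent.Lib.Involutions.StronglyEmbedded
import Cfsg.Agent.Lib.Involutions.Transfer
import Cfsg.Agent.Lib.TwoGroups.ControlledTransfer

/-!
Sylow 2-subgroups in transitive permutation groups of fixity 2.
-/

set_option autoImplicit false
set_option linter.unusedSectionVars false

namespace CfsgLib.TwoGroups.FixityTwo

open MulAction

variable {G : Type*} [Group G] [Finite G] {Ω : Type*} [Fintype Ω] [MulAction G Ω]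

/-- Three distinct points fixed by an element force it to be trivial. -/
theorem eq_one_of_three (hfix : ∀ g : G, g ≠ 1 → Nat.card (fixedBy Ω g) ≤ 2) {g : G} {a b c : Ω}
    (ha : g • a = a) (hb : g • b = b) (hc : g • c = c) (hab : a ≠ b) (hac : a ≠ c) (hbc : b ≠ c) :
    g = 1 := by
  by_contra hg
  have h := hfix g hg
  have hinj : Function.Injective (![⟨a, ha⟩, ⟨b, hb⟩, ⟨c, hc⟩] : Fin 3 → fixedBy Ω g) := by
    intro i j hij
    fin_cases i <;> fin_cases j <;> simp [Subtype.ext_iff, hab, hac, hbc, hab.symm, hac.symm, hbc.symm] at hij ⊢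
  have := Nat.card_le_card_of_injective _ hinj
  rw [Nat.card_fin] at this
  omega

/-- A 2-group with an involution whose centralizer has at most two orbits' worth of elements. -/
theorem dihedral_of_small_centralizer {S : Type*} [Group S] [Finite S] (hS : IsPGroup 2 S) {u : S}
    (hu : orderOf u = 2) (h4 : Nat.card (Subgroup.centralizer ({u} : Set S)) ≤ 4)
    (hS4 : 4 ≤ Nat.card S) (hV : Nat.card S = 4 → ∃ t : S, orderOf t = 2 ∧ t ≠ u) :
    (∃ n : ℕ, Nonempty (S ≃* DihedralGroup n)) ∨ Cfsg.IsQuasiDihedral S := by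
  have : Fact (Nat.Prime 2) := ⟨Nat.prime_two⟩
  have huC : Subgroup.zpowers u ≤ Subgroup.centralizer ({u} : Set S) :=
    Subgroup.zpowers_le.2 (Subgroup.mem_centralizer_singleton_iff.2 rfl)
  have hne : Subgroup.zpowers u ≠ Subgroup.centralizer ({u} : Set S) := by
    intro e
    have hlt : Subgroup.zpowers u < (⊤ : Subgroup S) := by
      refine lt_top_iff_ne_top.2 fun e' => ?_
      have := congrArg (fun H : Subgroup S => Nat.card H) e'
      simp only [Nat.card_zpowers, hu, Subgroup.card_top] at this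
      omega
    obtain ⟨y, -, hy, hyN⟩ := Involutions.exists_mem_normalizer_notMem (hS.to_subgroup ⊤) hlt
    apply hy
    rw [e, Subgroup.mem_centralizer_singleton_iff]
    obtain ⟨k, hk : u ^ k = y * u * y⁻¹⟩ := (Subgroup.mem_normalizer_iff.1 hyN u).1 (Subgroup.mem_zpowers u)
    have huu : u * u = 1 := Involutions.mul_self_eq_one hu
    rcases Int.even_or_odd' k with ⟨j, rfl | rfl⟩
    · rw [zpow_mul, zpow_two, huu, one_zpow, eq_comm, conj_eq_one_iff] at hk
      exact absurd hk (Involutions.ne_one_of_involution hu)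
    · rw [zpow_add, zpow_mul, zpow_two, huu, one_zpow, one_mul, zpow_one] at hk
      exact mul_inv_eq_iff_eq_mul.1 hk.symm
  have hc4 : Nat.card (Subgroup.centralizer ({u} : Set S)) = 4 := by
    obtain ⟨i, hi⟩ := (hS.to_subgroup (Subgroup.centralizer ({u} : Set S))).exists_card_eq
    have h2 : ¬ Nat.card (Subgroup.centralizer ({u} : Set S)) ≤ 2 := fun h =>
      hne (Subgroup.eq_of_le_of_card_ge huC (by rwa [Nat.card_zpowers, hu]))
    rw [hi] at h2 h4 ⊢
    match i, h2, h4 with
    | 0, h2, _ => simp at h2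
    | 1, h2, _ => simp at h2
    | 2, _, _ => rfl
    | i + 3, _, h4 =>
      have : 2 ^ 3 ≤ 2 ^ (i + 3) := Nat.pow_le_pow_right two_pos (by omega)
      omega
  rcases Cfsg.Agent.S3224.result hS u hu hc4 with h | h | h
  · exact Or.inl h
  · exact Or.inr h
  · left
    obtain ⟨t, ht, htu⟩ := hV h
    have h2 : ∀ g : S, g * g = 1 := by
      classical
      have := Fintype.ofFinite S
      intro g
      by_contra hg
      have hord : orderOf g = 4 := by
        obtain ⟨i, hi, hi'⟩ := (Nat.dvd_prime_pow Nat.prime_two).1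
          (show orderOf g ∣ 2 ^ 2 from (orderOf_dvd_natCard g).trans (dvd_of_eq h))
        interval_cases i
        · exact absurd (by rw [orderOf_eq_one_iff.1 hi', one_mul]) hg
        · exact absurd (Involutions.mul_self_eq_one (by simpa using hi')) hg
        · simpa using hi'
      have hcyc : IsCyclic S := isCyclic_of_orderOf_eq_card g (by rw [hord, h])
      exact htu (Involutions.involution_unique_of_cyclic ht hu)
    have : IsKleinFour S := by
      refine ⟨h, ?_⟩
      have hd : Monoid.exponent S ∣ 2 := Monoid.exponent_dvd_of_forall_pow_eq_one fun g => by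
        rw [pow_two]; exact h2 g
      rcases (Nat.dvd_prime Nat.prime_two).1 hd with e | e
      · rw [Monoid.exp_eq_one_iff] at e
        have : Nat.card S = 1 := Nat.card_eq_one_iff_unique.2 ⟨e, ⟨1⟩⟩
        omega
      · exact e
    exact ⟨2, IsKleinFour.nonempty_mulEquiv⟩

/-- Either the Sylow subgroup is of maximal class, or it acts with one short orbit. -/
theorem short_orbit (hfix : ∀ g : G, g ≠ 1 → Nat.card (fixedBy Ω g) ≤ 2) (α : Ω) {S : Subgroup G}
    (hS : IsPGroup 2 S) (h1 : S ⊓ stabilizer G α ≠ ⊥) (hle : ¬ S ≤ stabilizer G α) :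
    (((∃ n : ℕ, Nonempty (S ≃* DihedralGroup n)) ∨ Cfsg.IsQuasiDihedral S) ∧
      (Nat.card ↥(S ⊓ stabilizer G α) = 2 ∨ (S ⊓ stabilizer G α).relIndex S = 2)) ∨
    (∃ n ∈ S, n • α ≠ α ∧ (∀ d ∈ S, d • α = α → d • (n • α) = n • α) ∧
      (∀ x ∈ S, x • α = α ∨ x • α = n • α) ∧ (∀ x ∈ S, ∀ ω : Ω, x • ω = ω → x • α = α) ∧
      4 ≤ Nat.card S ∧ (S ⊓ stabilizer G α).relIndex S = 2) := by
  classical
  have : Fact (Nat.Prime 2) := ⟨Nat.prime_two⟩
  set D := S ⊓ stabilizer G α with hD
  have hDmem : ∀ x, x ∈ D ↔ x ∈ S ∧ x • α = α := fun x => Iff.rfl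
  have hlt : D < S := lt_of_le_of_ne inf_le_left fun e => hle (e ▸ inf_le_right)
  have hDS : D ≤ S := inf_le_left
  obtain ⟨n, hnS, hnD, hnN⟩ := Involutions.exists_mem_normalizer_notMem hS hlt
  obtain ⟨d₀, hd₀, hd₀1⟩ := D.bot_or_exists_ne_one.resolve_left h1
  have hnα : n • α ≠ α := fun e => hnD ((hDmem n).2 ⟨hnS, e⟩)
  -- points fixed by `D`
  have hnorm : ∀ m ∈ Subgroup.normalizer (D : Set G), ∀ d ∈ D, d • (m • α) = m • α := by
    intro m hm d hd
    have h : m⁻¹ * d * m ∈ D := (Subgroup.mem_normalizer_iff''.1 hm d).1 hd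
    calc d • (m • α) = m • ((m⁻¹ * d * m) • α) := by rw [smul_smul, smul_smul]; congr 1; group
      _ = m • α := by rw [((hDmem _).1 h).2]
  have hβ : ∀ d ∈ D, d • (n • α) = n • α := hnorm n hnN
  have hcos : ∀ m ∈ S, m ∈ Subgroup.normalizer (D : Set G) → m ∈ D ∨ n⁻¹ * m ∈ D := by
    intro m hmS hm
    by_cases h : m • α = α
    · exact Or.inl ((hDmem m).2 ⟨hmS, h⟩)
    refine Or.inr ((hDmem _).2 ⟨mul_mem (inv_mem hnS) hmS, ?_⟩)
    rw [mul_smul, inv_smul_eq_iff]
    by_contra hne
    exact hd₀1 (eq_one_of_three hfix ((hDmem _).1 hd₀).2 (hβ d₀ hd₀) (hnorm m hm d₀ hd₀) hnα.symm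
      (Ne.symm h) (Ne.symm hne))
  have hn2 : n * n ∈ D := by
    rcases hcos (n * n) (mul_mem hnS hnS) (mul_mem hnN hnN) with h | h
    · exact h
    · rw [inv_mul_cancel_left] at h
      exact absurd h hnD
  by_cases hnor : S ≤ Subgroup.normalizer (D : Set G)
  · -- `D` has index two
    have hrel : D.relIndex S = 2 := by
      rw [Subgroup.relIndex, Subgroup.index_eq_two_iff]
      refine ⟨⟨n, hnS⟩, fun b => ?_⟩
      rcases hcos b b.2 (hnor b.2) with h | h
      · refine Or.inr ⟨h, fun h' => hnD ?_⟩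
        have := mul_mem (inv_mem h) h'
        simpa [Subgroup.coe_mul] using this
      · have hb : (b : G) ∉ D := fun hb => hnD (by
          have := mul_mem hb (inv_mem h)
          simpa using this)
        refine Or.inl ⟨?_, hb⟩
        show (b : G) * n ∈ D
        rw [show (b : G) * n = n * ((n⁻¹ * b) * (n * n)) * n⁻¹ by group]
        exact (Subgroup.mem_normalizer_iff.1 hnN _).1 (mul_mem h hn2)
    have h4 : 4 ≤ Nat.card S := by
      have h := (D.subgroupOf S).index_mul_card
      rw [Nat.card_congr (Subgroup.subgroupOfEquivOfLe hDS).toEquiv] at h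
      rw [show (D.subgroupOf S).index = 2 from hrel] at h
      have hD1 : 2 ≤ Nat.card D := by
        rw [Nat.succ_le_iff, Subgroup.one_lt_card_iff_ne_bot]; exact h1
      omega
    by_cases hF : ∀ x ∈ S, ∀ ω : Ω, x • ω = ω → x • α = α
    · refine Or.inr ⟨n, hnS, hnα, fun d hd hda => hβ d ((hDmem d).2 ⟨hd, hda⟩), fun x hx => ?_, hF, h4, hrel⟩
      rcases hcos x hx (hnor hx) with h | h
      · exact Or.inl ((hDmem x).1 h).2
      · refine Or.inr ?_
        have := ((hDmem _).1 h).2
        rwa [mul_smul, inv_smul_eq_iff] at this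
    · push Not at hF
      obtain ⟨u, huS, ω, huω, huα⟩ := hF
      have huD : u ∉ D := fun h => huα ((hDmem u).1 h).2
      have huβ : u • α = n • α := by
        rcases hcos u huS (hnor huS) with h | h
        · exact absurd h huD
        · have := ((hDmem _).1 h).2
          rwa [mul_smul, inv_smul_eq_iff] at this
      have hωα : ω ≠ α := fun e => huα (e ▸ huω)
      have hωβ : ω ≠ n • α := fun e => huα (by
        rw [e, ← huβ] at huω
        exact smul_left_cancel u huω)
      have hD3 : ∀ d ∈ D, d • ω = ω → d = 1 := fun d hd hdω =>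
        eq_one_of_three hfix ((hDmem d).1 hd).2 (hβ d hd) hdω hnα.symm hωα.symm hωβ.symm
      have hu2 : u * u = 1 := by
        refine hD3 _ ?_ (by rw [mul_smul, huω, huω])
        rcases hcos u huS (hnor huS) with h | h
        · exact absurd h huD
        · exact (Subgroup.mul_mem_iff_of_index_two hrel (a := ⟨u, huS⟩) (b := ⟨u, huS⟩)).2 Iff.rfl
      have hu : orderOf (⟨u, huS⟩ : S) = 2 := by
        rw [← Subgroup.orderOf_coe]
        exact Involutions.orderOf_eq_two_iff_mul.2 ⟨fun e => huD (by rw [show u = 1 from e]; exact one_mem D), hu2⟩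
      have hmemC : ∀ c : Subgroup.centralizer ({(⟨u, huS⟩ : S)} : Set S), Commute ((c : S) : G) u :=
        fun c => congrArg Subtype.val (Subgroup.mem_centralizer_singleton_iff.1 c.2)
      -- the centralizer acts on the fixed points
      let f : Subgroup.centralizer ({(⟨u, huS⟩ : S)} : Set S) → fixedBy Ω u × Bool := fun c =>
        (⟨((c : S) : G) • ω, by
          show u • _ = _
          rw [smul_smul, ← (hmemC c).eq, ← smul_smul, huω]⟩, decide (((c : S) : G) ∈ D))
      have hf : Function.Injective f := by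
        intro a b hab
        have hab1 : ((a : S) : G) • ω = ((b : S) : G) • ω :=
          congrArg (fun p : fixedBy Ω u × Bool => (p.1 : Ω)) hab
        have hab2 : (((a : S) : G) ∈ D) ↔ (((b : S) : G) ∈ D) := by
          simpa [f] using congrArg Prod.snd hab
        refine Subtype.ext (Subtype.ext ?_)
        refine inv_mul_eq_one.1 (hD3 _ ?_ ?_)
        · exact (Subgroup.mul_mem_iff_of_index_two hrel (a := (a : S)⁻¹) (b := (b : S))).2
            (by rw [Subgroup.inv_mem_iff]; exact hab2)
        · rw [mul_smul, ← hab1, inv_smul_smul]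
      have hc4 : Nat.card (Subgroup.centralizer ({(⟨u, huS⟩ : S)} : Set S)) ≤ 4 := by
        refine (Nat.card_le_card_of_injective f hf).trans ?_
        rw [Nat.card_prod, Nat.card_eq_fintype_card (α := Bool), Fintype.card_bool]
        have := hfix u (fun e => huD (e ▸ one_mem D))
        omega
      refine Or.inl ⟨dihedral_of_small_centralizer hS hu hc4 h4 fun hc => ?_, Or.inr hrel⟩
      have hd2 : orderOf d₀ = 2 := by
        have h := (D.subgroupOf S).index_mul_card
        rw [Nat.card_congr (Subgroup.subgroupOfEquivOfLe hDS).toEquiv] at h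
        rw [show (D.subgroupOf S).index = 2 from hrel, hc] at h
        have := Subgroup.orderOf_dvd_natCard D hd₀
        rw [show Nat.card D = 2 by omega] at this
        exact ((Nat.dvd_prime Nat.prime_two).1 this).resolve_left
          fun e => hd₀1 (orderOf_eq_one_iff.1 e)
      exact ⟨⟨d₀, ((hDmem _).1 hd₀).1⟩, by rw [← Subgroup.orderOf_coe]; exact hd2,
        fun e => huD (by rw [← show d₀ = u from congrArg Subtype.val e]; exact hd₀)⟩
  · -- `D` has order two
    left
    set N' := S ⊓ Subgroup.normalizer (D : Set G) with hN'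
    have hDN : D ≤ N' := le_inf inf_le_left Subgroup.le_normalizer
    obtain ⟨s, hsS, hsN, hsn⟩ := Involutions.exists_mem_normalizer_notMem hS
      (lt_of_le_of_ne inf_le_left fun e => hnor (e ▸ inf_le_right) : N' < S)
    have hmeet : ∀ d ∈ D, s⁻¹ * d * s ∈ D → d = 1 := by
      intro d hd hd'
      have hsα : d • (s • α) = s • α := by
        calc d • (s • α) = s • ((s⁻¹ * d * s) • α) := by rw [smul_smul, smul_smul]; congr 1; group
          _ = s • α := by rw [((hDmem _).1 hd').2]
      refine eq_one_of_three hfix ((hDmem d).1 hd).2 (hβ d hd) hsα hnα.symm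
        (fun e => hsN (hDN ((hDmem s).2 ⟨hsS, e.symm⟩))) fun e => hsN ?_
      have h : n⁻¹ * s ∈ D := (hDmem _).2 ⟨mul_mem (inv_mem hnS) hsS, by rw [mul_smul, ← e, inv_smul_smul]⟩
      have := mul_mem (show n ∈ N' from ⟨hnS, hnN⟩) (hDN h)
      rwa [mul_inv_cancel_left] at this
    have hout : ∀ d ∈ D, d ≠ 1 → s * d * s⁻¹ ∈ N' ∧ n⁻¹ * (s * d * s⁻¹) ∈ D := by
      intro d hd hd1
      have h := (Subgroup.mem_normalizer_iff.1 hsn d).1 (hDN hd)
      refine ⟨h, (hcos _ h.1 h.2).resolve_left fun h' => hd1 ?_⟩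
      have := hmeet _ h' (by rwa [show s⁻¹ * (s * d * s⁻¹) * s = d by group])
      rwa [conj_eq_one_iff] at this
    have huniq : ∀ d ∈ D, d ≠ 1 → d = d₀ := by
      intro d hd hd1
      obtain ⟨-, ha⟩ := hout d hd hd1
      obtain ⟨-, hb⟩ := hout d₀ hd₀ hd₀1
      have h := mul_mem (inv_mem ha) hb
      rw [show (n⁻¹ * (s * d * s⁻¹))⁻¹ * (n⁻¹ * (s * d₀ * s⁻¹)) = s * (d⁻¹ * d₀) * s⁻¹ by group] at h
      have := hmeet _ h (by
        rw [show s⁻¹ * (s * (d⁻¹ * d₀) * s⁻¹) * s = d⁻¹ * d₀ by group]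
        exact mul_mem (inv_mem hd) hd₀)
      rwa [conj_eq_one_iff, inv_mul_eq_one] at this
    have hd2 : orderOf d₀ = 2 := by
      refine Involutions.orderOf_eq_two_iff_mul.2 ⟨hd₀1, by_contra fun h => hd₀1 ?_⟩
      exact mul_eq_left.1 (huniq _ (mul_mem hd₀ hd₀) h)
    have hDz : ∀ d ∈ D, d = 1 ∨ d = d₀ := fun d hd =>
      (em (d = 1)).imp_right (huniq d hd)
    have hDc : Nat.card D = 2 := by
      rw [show D = Subgroup.zpowers d₀ from le_antisymm (fun d hd => by
        rcases hDz d hd with rfl | rfl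
        · exact one_mem _
        · exact Subgroup.mem_zpowers _) (Subgroup.zpowers_le.2 hd₀), Nat.card_zpowers, hd2]
    have h8 : 4 < Nat.card S := by
      have e1 : Nat.card N' < Nat.card S := by
        by_contra h
        exact hsN ((SetLike.ext_iff.1 (Subgroup.eq_of_le_of_card_ge (inf_le_left : N' ≤ S) (not_lt.1 h)) s).2 hsS)
      have e2 : Nat.card D < Nat.card N' := by
        by_contra h
        exact hnD ((SetLike.ext_iff.1 (Subgroup.eq_of_le_of_card_ge hDN (not_lt.1 h)) n).2 ⟨hnS, hnN⟩)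
      have e3 := Subgroup.card_dvd_of_le hDN
      rw [hDc] at e2 e3
      omega
    have hd₀S : d₀ ∈ S := ((hDmem _).1 hd₀).1
    have hmemC : ∀ c : Subgroup.centralizer ({(⟨d₀, hd₀S⟩ : S)} : Set S),
        ((c : S) : G) ∈ Subgroup.normalizer (D : Set G) := by
      intro c
      have hc : Commute ((c : S) : G) d₀ :=
        congrArg Subtype.val (Subgroup.mem_centralizer_singleton_iff.1 c.2)
      refine Subgroup.mem_normalizer_fintype fun v hv => ?_
      rcases hDz v hv with rfl | rfl
      · simp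
      · rwa [hc.eq, mul_inv_cancel_right]
    let f : Subgroup.centralizer ({(⟨d₀, hd₀S⟩ : S)} : Set S) → D × Bool := fun c =>
      if h : ((c : S) : G) ∈ D then (⟨_, h⟩, true)
      else (⟨_, (hcos _ (c : S).2 (hmemC c)).resolve_left h⟩, false)
    have hf : Function.Injective f := by
      intro a b hab
      simp only [f] at hab
      refine Subtype.ext (Subtype.ext ?_)
      split_ifs at hab with ha hb hb
      · simpa using hab
      · simp at hab
      · simp at hab
      · simpa using hab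
    have hc4 := (Nat.card_le_card_of_injective f hf).trans (le_of_eq (show Nat.card (D × Bool) = 4 by
      rw [Nat.card_prod, hDc, Nat.card_eq_fintype_card (α := Bool), Fintype.card_bool]))
    exact ⟨dihedral_of_small_centralizer hS (u := ⟨d₀, hd₀S⟩)
      (by rw [← Subgroup.orderOf_coe]; exact hd2) hc4 h8.le fun e => absurd e (by omega), Or.inl hDc⟩

theorem mult_cases : ∀ v : Multiplicative (ZMod 2), v = 1 ∨ v = Multiplicative.ofAdd 1 := by decide

theorem mult_sq : ∀ v : Multiplicative (ZMod 2), v ^ 2 = 1 := by decide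

theorem mult_ne : (1 : Multiplicative (ZMod 2)) ≠ Multiplicative.ofAdd 1 := by decide

theorem mult_mul_self : Multiplicative.ofAdd (1 : ZMod 2) * Multiplicative.ofAdd 1 = 1 := by decide

/-- The Frobenius subgroup of index two. -/
theorem exists_frobenius [FaithfulSMul G Ω] (htr : IsPretransitive G Ω)
    (hfix : ∀ g : G, g ≠ 1 → Nat.card (fixedBy Ω g) ≤ 2) (α : Ω) (S : Sylow 2 G)
    {n : G} (hn : n ∈ (S : Subgroup G)) (hnα : n • α ≠ α) (h1 : (S : Subgroup G) ⊓ stabilizer G α ≠ ⊥)
    (hβ : ∀ d ∈ (S : Subgroup G), d • α = α → d • (n • α) = n • α)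
    (hpair : ∀ x ∈ (S : Subgroup G), x • α = α ∨ x • α = n • α)
    (hF : ∀ x ∈ (S : Subgroup G), ∀ ω : Ω, x • ω = ω → x • α = α)
    (hrel : ((S : Subgroup G) ⊓ stabilizer G α).relIndex (S : Subgroup G) = 2) :
    ∃ N : Subgroup G, N.Normal ∧ N.index = 2 ∧ ∃ H : Subgroup ↥N, Cfsg.IsFrobeniusComplement H := by
  classical
  have : Fact (Nat.Prime 2) := ⟨Nat.prime_two⟩
  set D := (S : Subgroup G) ⊓ stabilizer G α with hD
  have hmul : ∀ a b : (S : Subgroup G), ((a : G) * (b : G)) • α = α ↔
      (((a : G) • α = α) ↔ ((b : G) • α = α)) := by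
    intro a b
    have h := Subgroup.mul_mem_iff_of_index_two hrel (a := a) (b := b)
    simpa [Subgroup.mem_subgroupOf, hD, Subgroup.mem_inf, a.2, b.2, (a * b).2,
      mul_mem a.2 b.2, mul_smul] using h
  let φ : (S : Subgroup G) →* Multiplicative (ZMod 2) :=
    MonoidHom.mk' (fun x => if (x : G) • α = α then 1 else Multiplicative.ofAdd 1) fun a b => by
      by_cases ha : (a : G) • α = α <;> by_cases hb : (b : G) • α = α <;>
        simp [hmul, ha, hb, mult_mul_self]
  have hφn : φ ⟨n, hn⟩ = Multiplicative.ofAdd 1 := if_neg hnα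
  have hiff : ∀ x : (S : Subgroup G), (∃ ω : Ω, (x : G) • ω = ω) ↔ φ x = 1 := by
    intro x
    constructor
    · rintro ⟨ω, hω⟩
      exact if_pos (hF x x.2 ω hω)
    · intro h
      refine ⟨α, by_contra fun hx => ?_⟩
      have : φ x = Multiplicative.ofAdd 1 := if_neg hx
      rw [h] at this
      exact mult_ne this
  have htwo := mult_cases
  let f : G →* Multiplicative (ZMod 2) := MonoidHom.transfer φ
  have hf : ∀ x : (S : Subgroup G), f (x : G) = φ x := by
    intro x
    rw [show f (x : G) = φ x ^ (S : Subgroup G).index from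
      CfsgLib.TwoGroups.transfer_eq_pow_of_controlled φ (x : G) x.2 (fun k a h => ?_)]
    · obtain ⟨j, hj⟩ : Odd (S : Subgroup G).index := by
        rw [← Nat.not_even_iff_odd, even_iff_two_dvd]; exact S.not_dvd_index
      rw [hj, pow_succ, pow_mul, mult_sq, one_pow, one_mul]
    · rw [show φ ⟨(x : G), x.2⟩ = φ x from rfl, ← map_pow]
      have e : (∃ ω : Ω, (a⁻¹ * (x : G) ^ k * a) • ω = ω) ↔ ∃ ω : Ω, ((x ^ k : (S : Subgroup G)) : G) • ω = ω := by
        constructor
        · rintro ⟨ω, hω⟩
          refine ⟨a • ω, ?_⟩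
          conv_rhs => rw [← hω]
          rw [smul_smul, smul_smul, Subgroup.coe_pow]
          congr 1
          group
        · rintro ⟨ω, hω⟩
          refine ⟨a⁻¹ • ω, ?_⟩
          rw [Subgroup.coe_pow] at hω
          conv_rhs => rw [← hω]
          rw [smul_smul, smul_smul]
          congr 1
          group
      rw [hiff ⟨_, h⟩, hiff (x ^ k)] at e
      rcases htwo (φ ⟨_, h⟩) with e1 | e1
      · rw [e1]; exact (e.1 e1).symm
      · rcases htwo (φ (x ^ k)) with e2 | e2
        · rw [e2]; exact e.2 e2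
        · rw [e1, e2]
  set N := f.ker with hN
  have hsurj : Function.Surjective f := fun v => by
    rcases htwo v with rfl | rfl
    · exact ⟨1, map_one f⟩
    · exact ⟨n, (hf ⟨n, hn⟩).trans hφn⟩
  have hNi : N.index = 2 := by
    rw [hN, Subgroup.index_ker, MonoidHom.range_eq_top.2 hsurj, Subgroup.card_top]
    simp
  have hnN : n ∉ N := fun h => by
    rw [hN, MonoidHom.mem_ker, show f n = φ ⟨n, hn⟩ from hf ⟨n, hn⟩, hφn] at h
    exact mult_ne h.symm
  -- point stabilizers lie in `N`
  have hMN : ∀ x : G, x • α = α → x ∈ N := by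
    intro x hx
    obtain ⟨a, b, hb, hab⟩ := Nat.exists_eq_two_pow_mul_odd (n := orderOf x) (orderOf_pos x).ne'
    have hxb : (x ^ b) ^ 2 ^ a = 1 := by rw [← pow_mul, mul_comm, ← hab, pow_orderOf_eq_one]
    obtain ⟨j, -, hj⟩ := (Nat.dvd_prime_pow Nat.prime_two).1 (orderOf_dvd_of_pow_eq_one hxb)
    obtain ⟨T, hT⟩ := (IsPGroup.of_card (p := 2) (n := j)
      (by rw [Nat.card_zpowers, hj]) : IsPGroup 2 (Subgroup.zpowers (x ^ b))).exists_le_sylow
    obtain ⟨g, hg⟩ := exists_smul_eq G T S
    have hmem : g * x ^ b * g⁻¹ ∈ (S : Subgroup G) := by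
      rw [← hg]; exact ⟨_, hT (Subgroup.mem_zpowers _), rfl⟩
    have h := (hiff ⟨_, hmem⟩).1 ⟨g • α, by
      show (g * x ^ b * g⁻¹) • (g • α) = g • α
      rw [smul_smul, inv_mul_cancel_right, mul_smul]
      exact congrArg (g • ·) (show x ^ b ∈ stabilizer G α from pow_mem hx b)⟩
    rw [← hf ⟨_, hmem⟩, map_mul, map_mul, map_inv, mul_comm (f g), mul_inv_cancel_right, map_pow] at h
    obtain ⟨j, rfl⟩ := hb
    rwa [pow_succ, pow_mul, mult_sq, one_pow, one_mul] at h
  have hsep : ∀ g ∈ N, g • α ≠ n • α := fun g hg e => hnN (by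
    have h : n⁻¹ * g ∈ N := hMN _ (by rw [mul_smul, e, inv_smul_smul])
    have := mul_mem hg (inv_mem h)
    rwa [mul_inv_rev, mul_inv_cancel_left, inv_inv] at this)
  have hNn : N.Normal := MonoidHom.normal_ker f
  refine ⟨N, hNn, hNi, (stabilizer G α).subgroupOf N, ?_, ?_, fun g hg => ?_⟩
  · intro h
    obtain ⟨d, hd, hd1⟩ := D.bot_or_exists_ne_one.resolve_left h1
    have h' : (⟨d, hMN d hd.2⟩ : N) ∈ (stabilizer G α).subgroupOf N := hd.2
    rw [h, Subgroup.mem_bot] at h'
    exact hd1 (congrArg Subtype.val h')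
  · intro h
    have hfixN : ∀ x ∈ N, ∀ ω : Ω, x • ω = ω := by
      intro x hx ω
      obtain ⟨g, rfl⟩ := htr.exists_smul_eq α ω
      have h' : g⁻¹ * x * g ∈ N := by simpa using hNn.conj_mem x hx g⁻¹
      have h'' : (⟨_, h'⟩ : N) ∈ (stabilizer G α).subgroupOf N := by
        rw [h]; exact Subgroup.mem_top _
      have h3 : (g⁻¹ * x * g) • α = α := h''
      calc x • g • α = g • ((g⁻¹ * x * g) • α) := by rw [smul_smul, smul_smul]; congr 1; group
        _ = g • α := by rw [h3]
    obtain ⟨d, hd, hd1⟩ := D.bot_or_exists_ne_one.resolve_left h1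
    exact hd1 (eq_of_smul_eq_smul fun ω : Ω => by rw [hfixN d (hMN d hd.2), one_smul])
  · refine (Subgroup.eq_bot_iff_forall _).2 fun y hy => ?_
    by_contra hy1
    obtain ⟨hyα, hyg⟩ := Subgroup.mem_inf.1 hy
    have hgα : (g : G) • α ≠ α := fun e => hg e
    have hα' : (y : G) • α = α := hyα
    have hγ : (y : G) • ((g : G) • α) = (g : G) • α := by
      obtain ⟨w, hw, hwe⟩ := hyg
      have hw' : (w : G) • α = α := hw
      have hwe' : (g : G) * (w : G) * (g : G)⁻¹ = y := congrArg Subtype.val hwe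
      rw [← hwe', smul_smul, inv_mul_cancel_right, mul_smul, hw']
    -- pass to an element of prime order
    have hyne : (y : G) ≠ 1 := fun e => hy1 (Subtype.ext e)
    obtain ⟨p, hp, hpd⟩ := Nat.exists_prime_and_dvd (mt orderOf_eq_one_iff.1 hyne)
    have : Fact p.Prime := ⟨hp⟩
    set z : G := (y : G) ^ (orderOf (y : G) / p) with hz
    have hzo : orderOf z = p := by
      rw [hz, orderOf_pow_orderOf_div (orderOf_pos _).ne' hpd]
    have hz1 : z ≠ 1 := fun e => hp.ne_one (by rw [← hzo, e, orderOf_one])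
    have hzα : z • α = α := (pow_mem (show (y : G) ∈ stabilizer G α from hα') _ :)
    have hzγ : z • ((g : G) • α) = (g : G) • α :=
      (pow_mem (show (y : G) ∈ stabilizer G ((g : G) • α) from hγ) _ :)
    have hzN : z ∈ N := pow_mem y.2 _
    by_cases hp2 : p = 2
    · subst hp2
      obtain ⟨T, hT⟩ := (IsPGroup.of_card (p := 2) (n := 1)
        (by rw [Nat.card_zpowers, hzo, pow_one]) : IsPGroup 2 (Subgroup.zpowers z)).exists_le_sylow
      obtain ⟨a, ha⟩ := exists_smul_eq G T S
      have hmem : a * z * a⁻¹ ∈ (S : Subgroup G) := by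
        rw [← ha]; exact ⟨_, hT (Subgroup.mem_zpowers _), rfl⟩
      have hne : a * z * a⁻¹ ≠ 1 := fun e => hz1 (conj_eq_one_iff.1 e)
      have e1 : (a * z * a⁻¹) • (a • α) = a • α := by rw [smul_smul, inv_mul_cancel_right, mul_smul, hzα]
      have e2 : (a * z * a⁻¹) • (a • (g : G) • α) = a • (g : G) • α := by
        rw [smul_smul, inv_mul_cancel_right, mul_smul, hzγ]
      have e3 := hF _ hmem _ e1
      have e4 := hβ _ hmem e3
      have hab : a • α ≠ a • (g : G) • α := fun e => hgα (smul_left_cancel a e).symm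
      have hin : ∀ ω, (a * z * a⁻¹) • ω = ω → ω = α ∨ ω = n • α := fun ω hω => by
        by_contra hcon
        push Not at hcon
        exact hne (eq_one_of_three hfix e3 e4 hω hnα.symm hcon.1.symm hcon.2.symm)
      have hgN : a * g * a⁻¹ ∈ N := hNn.conj_mem g g.2 a
      rcases hin _ e1 with c1 | c1 <;> rcases hin _ e2 with c2 | c2
      · exact hab (c1.trans c2.symm)
      · exact hsep _ hgN (by rw [mul_smul, mul_smul, inv_smul_eq_iff.2 c1.symm, c2])
      · exact hsep _ (inv_mem hgN) (by
          rw [mul_inv_rev, mul_inv_rev, inv_inv, mul_smul, mul_smul, inv_smul_eq_iff.2 c2.symm,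
            inv_smul_smul, c1])
      · exact hab (c1.trans c2.symm)
    · -- count fixed points in the two orbits of `N`
      have hzp : IsPGroup p (Subgroup.zpowers (⟨z, hzN⟩ : N)) :=
        IsPGroup.of_card (n := 1) (by rw [Nat.card_zpowers, ← Subgroup.orderOf_coe, hzo, pow_one])
      have hγN : (g : G) • α ∈ orbit N α := ⟨g, rfl⟩
      have hcardA : Nat.card (fixedPoints (Subgroup.zpowers (⟨z, hzN⟩ : N)) (orbit N α)) = 2 := by
        rw [Nat.card_coe_set_eq, Set.ncard_eq_two]
        refine ⟨⟨α, mem_orbit_self α⟩, ⟨(g : G) • α, hγN⟩, fun e => hgα (congrArg Subtype.val e).symm, ?_⟩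
        ext ⟨ω, hω⟩
        simp only [mem_fixedPoints, Set.mem_insert_iff, Set.mem_singleton_iff, Subtype.mk.injEq]
        constructor
        · intro h
          have hzω : z • ω = ω := congrArg Subtype.val (h ⟨⟨z, hzN⟩, Subgroup.mem_zpowers _⟩)
          by_contra hcon
          push Not at hcon
          exact hz1 (eq_one_of_three hfix hzα hzγ hzω hgα.symm hcon.1.symm hcon.2.symm)
        · intro h m
          refine Subtype.ext ?_
          have hm : ((m : N) : G) ∈ Subgroup.zpowers z := by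
            obtain ⟨k, hk⟩ := Subgroup.mem_zpowers_iff.1 m.2
            exact ⟨k, by rw [← hk, Subgroup.coe_zpow]⟩
          obtain ⟨k, hk⟩ := Subgroup.mem_zpowers_iff.1 hm
          show ((m : N) : G) • ω = ω
          rw [← hk]
          rcases h with rfl | rfl
          · exact (zpow_mem (show z ∈ stabilizer G _ from hzα) k :)
          · exact (zpow_mem (show z ∈ stabilizer G ((g : G) • α) from hzγ) k :)
      have hcardB : Nat.card (fixedPoints (Subgroup.zpowers (⟨z, hzN⟩ : N)) (orbit N (n • α))) = 0 := by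
        rw [Nat.card_eq_zero]
        refine Or.inl ⟨fun ⟨⟨ω, hω⟩, h⟩ => ?_⟩
        have hzω : z • ω = ω := congrArg Subtype.val (h ⟨⟨z, hzN⟩, Subgroup.mem_zpowers _⟩)
        obtain ⟨⟨m, hm⟩, rfl⟩ := hω
        have hmα : ∀ c ∈ N, c • α ≠ m • (n • α) := fun c hc e =>
          hsep _ (mul_mem (inv_mem hm) hc) (by rw [mul_smul, e, inv_smul_smul])
        exact hz1 (eq_one_of_three hfix hzα hzγ (show z • (m • (n • α)) = m • (n • α) from hzω)
          hgα.symm (by have := hmα 1 (one_mem N); rwa [one_smul] at this) (hmα g g.2))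
      have heq : Nat.card (orbit N α) = Nat.card (orbit N (n • α)) := by
        refine Nat.card_congr (Equiv.subtypeEquiv (MulAction.toPerm n) fun ω => ?_)
        constructor
        · rintro ⟨⟨m, hm⟩, rfl⟩
          refine ⟨⟨n * m * n⁻¹, hNn.conj_mem m hm n⟩, ?_⟩
          show (n * m * n⁻¹) • (n • α) = n • (m • α)
          rw [smul_smul, inv_mul_cancel_right, mul_smul]
        · rintro ⟨⟨m, hm⟩, hme⟩
          have hme' : m • (n • α) = n • ω := hme
          refine ⟨⟨n⁻¹ * m * n, by simpa using hNn.conj_mem m hm n⁻¹⟩, ?_⟩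
          show (n⁻¹ * m * n) • α = ω
          rw [mul_smul, mul_smul, hme', inv_smul_smul]
      have ea := hzp.card_modEq_card_fixedPoints (orbit N α)
      have eb := hzp.card_modEq_card_fixedPoints (orbit N (n • α))
      rw [hcardA, heq] at ea
      rw [hcardB] at eb
      have h2 : p ∣ 2 := Nat.modEq_zero_iff_dvd.1 (ea.symm.trans eb)
      exact hp2 ((Nat.prime_dvd_prime_iff_eq hp Nat.prime_two).1 h2)

end CfsgLib.TwoGroups.FixityTwo
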