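import Mathlib
import Cfsg.Agent.Lib.TwoGroups.Semidihedral

/-!
# `2`-groups with elementary abelian abelianization: wreath constructions

`ElemAb H` says that every square lies in the derived subgroup.
-/

set_option autoImplicit false
set_option linter.style.haveILetI false
set_option linter.unusedSectionVars false

namespace CfsgLib.WreathAb

/-- Every square is a product of commutators. -/
def ElemAb (H : Type*) [Group H] : Prop := ∀ x : H, x ^ 2 ∈ commutator H

theorem elemAb_iff {H : Type*} [Group H] :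
    ElemAb H ↔ ∀ x : H, Abelianization.of x ^ 2 = 1 := by
  refine forall_congr' fun x => ?_
  rw [← Abelianization.ker_of, MonoidHom.mem_ker, map_pow]

theorem ElemAb.map_sq {H K : Type*} [Group H] [CommGroup K] (h : ElemAb H) (f : H →* K) (x : H) :
    f x ^ 2 = 1 := by
  rw [← map_pow]
  exact Abelianization.commutator_subset_ker f (h x)

theorem ElemAb.of_equiv {H K : Type*} [Group H] [Group K] (e : H ≃* K) (h : ElemAb H) :
    ElemAb K := by
  rw [elemAb_iff]
  intro x
  simpa using h.map_sq (Abelianization.of.comp e.toMonoidHom) (e.symm x)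

theorem elemAb_of_sq_eq_one {H : Type*} [Group H] (S : Set H) (hgen : Subgroup.closure S = ⊤)
    (hS : ∀ s ∈ S, Abelianization.of s ^ 2 = 1) : ElemAb H := by
  rw [elemAb_iff]
  intro x
  have hx : x ∈ Subgroup.closure S := hgen ▸ Subgroup.mem_top x
  induction hx using Subgroup.closure_induction with
  | mem y hy => exact hS y hy
  | one => simp
  | mul a b _ _ ha hb => rw [map_mul, mul_pow, ha, hb, one_mul]
  | inv a _ ha => rw [map_inv, inv_pow, ha, inv_one]

/-- A subgroup generated by involutions. -/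
theorem elemAb_closure {G : Type*} [Group G] (S : Set G) (h : ∀ s ∈ S, s ^ 2 = 1) :
    ElemAb (Subgroup.closure S) := by
  refine elemAb_of_sq_eq_one ((Subgroup.closure S).subtype ⁻¹' S) ?_ fun s hs => ?_
  · exact Subgroup.closure_closure_coe_preimage
  · rw [← map_pow, show s ^ 2 = 1 from Subtype.ext (by simpa using h _ hs), map_one]

theorem elemAb_pi {ι : Type*} [Fintype ι] {A : Type*} [Group A] {P : Subgroup A} (hP : ElemAb P) :
    ElemAb (Subgroup.pi (Set.univ : Set ι) fun _ => P) := by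
  classical
  let j : ι → P →* Subgroup.pi (Set.univ : Set ι) fun _ => P := fun i =>
    { toFun := fun a => ⟨Pi.mulSingle i (a : A), fun k _ => by
        by_cases hk : k = i
        · subst hk; rw [Pi.mulSingle_eq_same]; exact a.2
        · rw [Pi.mulSingle_eq_of_ne hk]; exact one_mem P⟩
      map_one' := Subtype.ext (Pi.mulSingle_one i)
      map_mul' := fun a b => Subtype.ext ((MonoidHom.mulSingle (fun _ : ι => A) i).map_mul (a : A) (b : A)) }
  refine elemAb_of_sq_eq_one (⋃ i, Set.range (j i)) ?_ ?_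
  · rw [eq_top_iff]
    intro f _
    have hf : f ∈ (Subgroup.closure (⋃ i, Set.range (j i))) := by
      have key : ∀ g ∈ Subgroup.pi (Set.univ : Set ι) (fun _ => P), g ∈ (Subgroup.closure
          (⋃ i, Set.range (j i))).map (Subgroup.pi (Set.univ : Set ι) fun _ => P).subtype := by
        intro g hg
        refine Subgroup.pi_mem_of_mulSingle_mem g fun i => ?_
        exact ⟨j i ⟨g i, hg i (Set.mem_univ i)⟩,
          Subgroup.subset_closure (Set.mem_iUnion.2 ⟨i, Set.mem_range_self _⟩), rfl⟩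
      obtain ⟨f', hf', he⟩ := key f f.2
      rwa [← Subtype.ext (p := fun x => x ∈ Subgroup.pi (Set.univ : Set ι) fun _ => P) he]
    exact hf
  · intro s hs
    obtain ⟨i, a, rfl⟩ := Set.mem_iUnion.1 hs
    exact hP.map_sq (Abelianization.of.comp (j i)) a

/-- A wreath-type subgroup of the right order is a Sylow subgroup with elementary abelian
abelianization. -/
theorem sylow_elemAb {A H : Type*} [Group A] [Group H] [Finite H] {m : ℕ}
    (ι : (Fin m → A) →* H) (σ : Equiv.Perm (Fin m) →* H)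
    (hrel : ∀ (π : Equiv.Perm (Fin m)) (f : Fin m → A), σ π * ι f * (σ π)⁻¹ = ι (f ∘ ⇑π.symm))
    (hinj : ∀ f π, ι f * σ π = 1 → f = 1 ∧ π = 1) {D : Subgroup (Fin m → A)} (hD : ElemAb D)
    {K : Subgroup (Equiv.Perm (Fin m))} (hK : ElemAb K)
    (hDK : ∀ π ∈ K, ∀ f ∈ D, f ∘ ⇑π.symm ∈ D)
    (hcard : Nat.card D * Nat.card K = 2 ^ (Nat.card H).factorization 2) (P : Sylow 2 H) :
    ElemAb (P : Subgroup H) := by
  let W : Subgroup H :=
    { carrier := {h | ∃ f ∈ D, ∃ π ∈ K, h = ι f * σ π}
      one_mem' := ⟨1, one_mem D, 1, one_mem K, by simp⟩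
      mul_mem' := by
        rintro _ _ ⟨f, hf, π, hπ, rfl⟩ ⟨g, hg, τ, hτ, rfl⟩
        refine ⟨f * g ∘ ⇑π.symm, mul_mem hf (hDK π hπ g hg), π * τ, mul_mem hπ hτ, ?_⟩
        rw [map_mul, map_mul, ← hrel π g]
        group
      inv_mem' := by
        rintro _ ⟨f, hf, π, hπ, rfl⟩
        refine ⟨f⁻¹ ∘ ⇑(π⁻¹).symm, hDK π⁻¹ (inv_mem hπ) _ (inv_mem hf), π⁻¹, inv_mem hπ, ?_⟩
        rw [← hrel π⁻¹ f⁻¹, map_inv σ, map_inv ι]
        group }
  let jD : D →* W :=
    { toFun := fun f => ⟨ι (f : Fin m → A), (f : Fin m → A), f.2, 1, one_mem K, by simp⟩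
      map_one' := Subtype.ext (map_one ι)
      map_mul' := fun a b => Subtype.ext (map_mul ι _ _) }
  let jK : K →* W :=
    { toFun := fun π => ⟨σ (π : Equiv.Perm (Fin m)), 1, one_mem D, π, π.2, by simp⟩
      map_one' := Subtype.ext (map_one σ)
      map_mul' := fun a b => Subtype.ext (map_mul σ _ _) }
  have hbij : Function.Bijective fun x : D × K => jD x.1 * jK x.2 := by
    constructor
    · rintro ⟨f, π⟩ ⟨g, τ⟩ h
      have h' : ι (f : Fin m → A) * σ π = ι (g : Fin m → A) * σ τ := congrArg Subtype.val h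
      have h2 : ι ((g : Fin m → A)⁻¹ * f) * σ ((π : Equiv.Perm (Fin m)) * (τ : Equiv.Perm (Fin m))⁻¹) = 1 := by
        rw [map_mul, map_mul, map_inv, map_inv]
        calc (ι (g : Fin m → A))⁻¹ * ι f * (σ π * (σ τ)⁻¹)
            = (ι (g : Fin m → A))⁻¹ * (ι f * σ π) * (σ τ)⁻¹ := by group
          _ = 1 := by rw [h']; group
      obtain ⟨e1, e2⟩ := hinj _ _ h2
      exact Prod.ext (Subtype.ext (inv_mul_eq_one.1 e1).symm) (Subtype.ext (mul_inv_eq_one.1 e2))
    · rintro ⟨_, f, hf, π, hπ, rfl⟩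
      exact ⟨(⟨f, hf⟩, ⟨π, hπ⟩), rfl⟩
  have hW : Nat.card W = 2 ^ (Nat.card H).factorization 2 := by
    rw [← hcard, ← Nat.card_prod]
    exact (Nat.card_congr (Equiv.ofBijective _ hbij)).symm
  refine ElemAb.of_equiv ((Sylow.ofCard W hW).equiv P) ?_
  rw [elemAb_iff]
  intro x
  obtain ⟨⟨f, π⟩, rfl⟩ := hbij.2 x
  show Abelianization.of (jD f * jK π) ^ 2 = 1
  rw [map_mul]
  refine ((Commute.all _ _).mul_pow 2).trans ?_
  have h1 := hD.map_sq (Abelianization.of.comp jD) f
  have h2 := hK.map_sq (Abelianization.of.comp jK) π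
  simp only [MonoidHom.comp_apply] at h1 h2
  exact (congrArg₂ (· * ·) h1 h2).trans (one_mul _)

theorem elemAb_quaternion (n : ℕ) [NeZero n] (hn : Even n) : ElemAb (QuaternionGroup n) := by
  intro x
  have hc : ∀ i : ZMod (2 * n), QuaternionGroup.a (2 * i) ∈ commutator (QuaternionGroup n) := by
    intro i
    have h := Subgroup.commutator_mem_commutator (G := QuaternionGroup n)
      (Subgroup.mem_top (QuaternionGroup.a i)) (Subgroup.mem_top (QuaternionGroup.xa 0))
    rw [commutatorElement_def, ← commutator_def] at h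
    convert h using 1
    rw [show (QuaternionGroup.a i : QuaternionGroup n)⁻¹ = QuaternionGroup.a (-i) from rfl,
      show (QuaternionGroup.xa 0 : QuaternionGroup n)⁻¹ = QuaternionGroup.xa ((n : ZMod (2 * n)) + 0) from rfl]
    simp only [QuaternionGroup.a_mul_xa, QuaternionGroup.xa_mul_a, QuaternionGroup.a_mul_a,
      QuaternionGroup.xa_mul_xa]
    congr 1
    have h2n : (2 * (n : ZMod (2 * n))) = 0 := by exact_mod_cast ZMod.natCast_self (2 * n)
    linear_combination (-1 : ZMod (2 * n)) * h2n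
  cases x with
  | a i => rw [pow_two, QuaternionGroup.a_mul_a, ← two_mul]; exact hc i
  | xa i =>
    rw [QuaternionGroup.xa_sq]
    obtain ⟨k, rfl⟩ := hn
    convert hc (k : ZMod (2 * (k + k))) using 2
    push_cast
    ring

theorem elemAb_semidihedral {S : Type*} [Group S] [Finite S] (hS : Cfsg.IsQuasiDihedral S) :
    ElemAb S := by
  obtain ⟨r, x, y, h⟩ := CfsgLib.TwoGroups.SD.exists_sd hS
  have hc := CfsgLib.TwoGroups.SD.commutator_eq h
  refine elemAb_of_sq_eq_one ({x, y} : Set S) ?_ ?_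
  · rw [eq_top_iff]
    intro g _
    obtain ⟨k, rfl | rfl⟩ := h.gen g
    · exact Subgroup.zpow_mem _ (Subgroup.subset_closure (Set.mem_insert x {y})) k
    · exact Subgroup.mul_mem _ (Subgroup.zpow_mem _ (Subgroup.subset_closure (Set.mem_insert x {y})) k)
        (Subgroup.subset_closure (Set.mem_insert_of_mem x (Set.mem_singleton y)))
  · rintro s (rfl | rfl) <;> rw [← map_pow, ← MonoidHom.mem_ker, Abelianization.ker_of]
    · rw [hc]
      exact ⟨1, by simp [zpow_two, pow_two]⟩
    · rw [← h.ordy, pow_orderOf_eq_one]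
      exact one_mem _

theorem factorization_two_pow_sub_one {q n : ℕ} (hq : Odd q) (h1 : 1 < q) (hn : n ≠ 0) :
    (q ^ (2 * n) - 1).factorization 2 =
      (q ^ 2 - 1).factorization 2 + n.factorization 2 := by
  haveI := Fact.mk Nat.prime_two
  have hdvd : 2 ∣ q - 1 := by obtain ⟨k, rfl⟩ := hq; exact ⟨k, by omega⟩
  have hq2 : ¬ 2 ∣ q := Nat.two_dvd_ne_zero.2 (Nat.odd_iff.1 hq)
  have key : ∀ m : ℕ, m ≠ 0 → Even m → padicValNat 2 (q ^ m - 1) + 1 =
      padicValNat 2 (q + 1) + padicValNat 2 (q - 1) + padicValNat 2 m := by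
    intro m hm he
    simpa using padicValNat.pow_two_sub_pow (x := q) (y := 1) h1 hdvd hq2 hm he
  have e1 := key (2 * n) (by omega) (even_two_mul n)
  have e2 := key 2 (by omega) even_two
  rw [padicValNat.mul two_ne_zero hn] at e1
  simp only [Nat.factorization_def _ Nat.prime_two]
  omega

theorem factorization_prod {α : Type*} (s : Finset α) (f : α → ℕ) (p : ℕ)
    (hf : ∀ a ∈ s, f a ≠ 0) : (∏ a ∈ s, f a).factorization p = ∑ a ∈ s, (f a).factorization p := by
  rw [Nat.factorization_prod hf, Finset.sum_apply']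

theorem sum_factorization_succ (p m : ℕ) :
    ∑ i ∈ Finset.range m, (i + 1).factorization p = m.factorial.factorization p := by
  induction m with
  | zero => simp
  | succ m ih =>
    rw [Finset.sum_range_succ, ih, Nat.factorial_succ,
      Nat.factorization_mul (Nat.succ_ne_zero m) m.factorial_ne_zero, Finsupp.add_apply, add_comm]

end CfsgLib.WreathAb
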