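import Mathlib
import Cfsg.Prelude.Def_CaseTheorems

/-!
Recognising the type of a Sylow 2-subgroup from the order of the group and a few elements,
and the monomial elements of `GL_2`.
-/

set_option autoImplicit false

namespace CfsgLib.TwoGroups.ClassicalSylow

section Abstract

variable {G : Type*} [Group G] [Finite G]

theorem sylow_card_of_eq (P : Sylow 2 G) {N r : ℕ} (hG : Nat.card G = 2 ^ N * r) (hr : Odd r) :
    Nat.card (P : Subgroup G) = 2 ^ N := by
  have : Fact (Nat.Prime 2) := ⟨Nat.prime_two⟩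
  rw [P.card_eq_multiplicity, hG, Nat.factorization_mul (pow_ne_zero _ two_ne_zero) hr.pos.ne',
    Finsupp.add_apply, Nat.Prime.factorization_pow Nat.prime_two, Finsupp.single_eq_same,
    Nat.factorization_eq_zero_of_not_dvd hr.not_two_dvd_nat, add_zero]

/-- A 2-subgroup maps injectively into the given Sylow subgroup by a conjugation. -/
theorem exists_hom_sylow (P : Sylow 2 G) {T : Subgroup G} (hT : IsPGroup 2 T) :
    ∃ f : T →* (P : Subgroup G), Function.Injective f := by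
  have : Fact (Nat.Prime 2) := ⟨Nat.prime_two⟩
  obtain ⟨Q, hQ⟩ := hT.exists_le_sylow
  exact ⟨(Sylow.equiv Q P).toMonoidHom.comp (Subgroup.inclusion hQ),
    (Sylow.equiv Q P).injective.comp (Subgroup.inclusion_injective hQ)⟩

theorem isPGroup_zpowers_of_orderOf {g : G} {k : ℕ} (hg : orderOf g = 2 ^ k) :
    IsPGroup 2 (Subgroup.zpowers g) :=
  IsPGroup.of_card (n := k) (by rw [Nat.card_zpowers, hg])

theorem quasiDihedral_of_elements (P : Sylow 2 G) {n r : ℕ} (hn : 3 ≤ n)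
    (hG : Nat.card G = 2 ^ (n + 1) * r) (hr : Odd r) {x y : G} (hx : orderOf x = 2 ^ n)
    (hy : orderOf y = 2) (hxy : y * x * y⁻¹ = x ^ (2 ^ (n - 1) - 1)) :
    Cfsg.IsQuasiDihedral (P : Subgroup G) := by
  have hyN : Subgroup.zpowers y ≤ Subgroup.normalizer (Subgroup.zpowers x : Set G) := by
    rw [Subgroup.zpowers_le]
    refine Subgroup.mem_normalizer_fintype fun v hv => ?_
    rw [SetLike.mem_coe, Subgroup.mem_zpowers_iff] at hv ⊢
    obtain ⟨k, rfl⟩ := hv
    exact ⟨((2 ^ (n - 1) - 1 : ℕ) : ℤ) * k, by rw [zpow_mul, zpow_natCast, ← hxy, conj_zpow]⟩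
  have hT : IsPGroup 2 (Subgroup.zpowers x ⊔ Subgroup.zpowers y : Subgroup G) :=
    (isPGroup_zpowers_of_orderOf hx).to_sup_of_normal_left'
      (isPGroup_zpowers_of_orderOf (k := 1) (by simpa using hy)) hyN
  obtain ⟨f, hf⟩ := exists_hom_sylow P hT
  refine ⟨n, hn, sylow_card_of_eq P hG hr,
    f ⟨x, Subgroup.mem_sup_left (Subgroup.mem_zpowers x)⟩,
    f ⟨y, Subgroup.mem_sup_right (Subgroup.mem_zpowers y)⟩, ?_, ?_, ?_⟩
  · rw [orderOf_injective f hf, Subgroup.orderOf_mk, hx]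
  · rw [orderOf_injective f hf, Subgroup.orderOf_mk, hy]
  · rw [← map_inv, ← map_mul, ← map_mul, ← map_pow]
    exact congrArg f (Subtype.ext hxy)

theorem wreathed_of_elements (P : Sylow 2 G) {n r : ℕ} (hn : 2 ≤ n)
    (hG : Nat.card G = 2 ^ (2 * n + 1) * r) (hr : Odd r) {x y z : G} (hx : orderOf x = 2 ^ n)
    (hxy : x * y = y * x) (hdisj : Subgroup.zpowers x ⊓ Subgroup.zpowers y = ⊥)
    (hz : orderOf z = 2) (hzx : z * x * z⁻¹ = y) (hzy : z * y * z⁻¹ = x) :
    Cfsg.IsWreathed (P : Subgroup G) := by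
  have hyord : orderOf y = 2 ^ n := by
    rw [← hzx, show z * x * z⁻¹ = MulAut.conj z x from rfl, MulEquiv.orderOf_eq, hx]
  have hA : IsPGroup 2 (Subgroup.zpowers x ⊔ Subgroup.zpowers y : Subgroup G) := by
    refine (isPGroup_zpowers_of_orderOf hx).to_sup_of_normal_left'
      (isPGroup_zpowers_of_orderOf hyord) ?_
    rw [Subgroup.zpowers_le]
    refine Subgroup.mem_normalizer_fintype fun v hv => ?_
    obtain ⟨k, rfl⟩ := Subgroup.mem_zpowers_iff.1 hv
    rw [← conj_zpow, ← hxy, mul_inv_cancel_right]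
    exact hv
  have hzN : Subgroup.zpowers z ≤
      Subgroup.normalizer ((Subgroup.zpowers x ⊔ Subgroup.zpowers y : Subgroup G) : Set G) := by
    rw [Subgroup.zpowers_le]
    refine Subgroup.mem_normalizer_fintype fun v hv => ?_
    have hle : (Subgroup.zpowers x ⊔ Subgroup.zpowers y).map (MulAut.conj z).toMonoidHom ≤
        Subgroup.zpowers x ⊔ Subgroup.zpowers y := by
      rw [Subgroup.map_sup, MonoidHom.map_zpowers, MonoidHom.map_zpowers]
      simp only [MulEquiv.coe_toMonoidHom, MulAut.conj_apply, hzx, hzy]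
      exact sup_le le_sup_right le_sup_left
    exact hle ⟨v, hv, rfl⟩
  have hT : IsPGroup 2 (Subgroup.zpowers x ⊔ Subgroup.zpowers y ⊔ Subgroup.zpowers z : Subgroup G) :=
    hA.to_sup_of_normal_left' (isPGroup_zpowers_of_orderOf (k := 1) (by simpa using hz)) hzN
  obtain ⟨f, hf⟩ := exists_hom_sylow P hT
  refine ⟨n, hn, sylow_card_of_eq P hG hr,
    f ⟨x, Subgroup.mem_sup_left (Subgroup.mem_sup_left (Subgroup.mem_zpowers x))⟩,
    f ⟨y, Subgroup.mem_sup_left (Subgroup.mem_sup_right (Subgroup.mem_zpowers y))⟩,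
    f ⟨z, Subgroup.mem_sup_right (Subgroup.mem_zpowers z)⟩, ?_, ?_, ?_, ?_, ?_⟩
  · rw [orderOf_injective f hf, Subgroup.orderOf_mk, hx]
  · rw [← map_mul, ← map_mul]
    exact congrArg f (Subtype.ext hxy)
  · rw [eq_bot_iff]
    rintro v ⟨⟨a, ha⟩, ⟨b, hb⟩⟩
    rw [Subgroup.mem_bot]
    simp only [← map_zpow] at ha hb
    have e := congrArg Subtype.val (hf (ha.trans hb.symm))
    simp only [SubgroupClass.coe_zpow] at e
    have h1 : x ^ a ∈ Subgroup.zpowers x ⊓ Subgroup.zpowers y :=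
      ⟨⟨a, rfl⟩, ⟨b, e.symm⟩⟩
    rw [hdisj, Subgroup.mem_bot] at h1
    rw [← ha]
    refine (congrArg f (Subtype.ext ?_)).trans (map_one f)
    simpa using h1
  · rw [orderOf_injective f hf, Subgroup.orderOf_mk, hz]
  · rw [← map_inv, ← map_mul, ← map_mul]
    exact congrArg f (Subtype.ext hzx)

end Abstract

theorem exists_orderOf_eq {G : Type*} [Group G] [Finite G] [IsCyclic G] {d : ℕ}
    (hd : d ∣ Nat.card G) : ∃ x : G, orderOf x = d := by
  obtain ⟨g, hg⟩ := IsCyclic.exists_ofOrder_eq_natCard (α := G)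
  obtain ⟨e, he⟩ := hd
  refine ⟨g ^ e, ?_⟩
  have hpos : 0 < Nat.card G := Nat.card_pos
  have he0 : e ≠ 0 := by rintro rfl; simp at he; omega
  rw [orderOf_pow' g he0, hg, he, Nat.gcd_mul_left_left, Nat.mul_div_cancel _ (Nat.pos_of_ne_zero he0)]

theorem split_mod_four {q : ℕ} (hq : q % 4 = 1) (h1 : 1 < q) :
    ∃ s r r', 2 ≤ s ∧ Odd r ∧ Odd r' ∧ q - 1 = 2 ^ s * r ∧ q + 1 = 2 * r' := by
  obtain ⟨s, r, hr, he⟩ := Nat.exists_eq_two_pow_mul_odd (n := q - 1) (by omega)
  refine ⟨s, r, (q + 1) / 2, ?_, hr, ?_, he, by omega⟩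
  · by_contra hs
    obtain ⟨t, rfl⟩ := hr
    have h' : s = 0 ∨ s = 1 := by omega
    rcases h' with rfl | rfl <;> omega
  · exact Nat.odd_iff.2 (by omega)

theorem split_mod_four' {q : ℕ} (hq : q % 4 = 3) :
    ∃ s r r', 2 ≤ s ∧ Odd r ∧ Odd r' ∧ q + 1 = 2 ^ s * r ∧ q - 1 = 2 * r' := by
  obtain ⟨s, r, hr, he⟩ := Nat.exists_eq_two_pow_mul_odd (n := q + 1) (by omega)
  refine ⟨s, r, (q - 1) / 2, ?_, hr, ?_, he, by omega⟩
  · by_contra hs
    obtain ⟨t, rfl⟩ := hr
    have h' : s = 0 ∨ s = 1 := by omega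
    rcases h' with rfl | rfl <;> omega
  · exact Nat.odd_iff.2 (by omega)

/-! ### Monomial elements of `GL_2` -/

section Monomial

open Matrix

variable {F : Type*} [Field F]

/-- The diagonal elements of `GL_2`. -/
def diagHom : Fˣ × Fˣ →* GL (Fin 2) F where
  toFun p := ⟨!![(p.1 : F), 0; 0, (p.2 : F)], !![((p.1⁻¹ : Fˣ) : F), 0; 0, ((p.2⁻¹ : Fˣ) : F)],
    by simp [Matrix.mul_fin_two, Matrix.one_fin_two],
    by simp [Matrix.mul_fin_two, Matrix.one_fin_two]⟩
  map_one' := Units.ext (by simp [Matrix.one_fin_two])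
  map_mul' a b := Units.ext (by simp [Matrix.mul_fin_two])

theorem val_diagHom (p : Fˣ × Fˣ) : (diagHom p).val = !![(p.1 : F), 0; 0, (p.2 : F)] := rfl

theorem diagHom_injective : Function.Injective (diagHom (F := F)) := by
  intro a b h
  have h' := congrArg Units.val h
  rw [val_diagHom, val_diagHom] at h'
  exact Prod.ext (Units.ext (by simpa using congrFun (congrFun h' 0) 0))
    (Units.ext (by simpa using congrFun (congrFun h' 1) 1))

/-- The coordinate swap. -/
def swapGL : GL (Fin 2) F :=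
  ⟨!![0, 1; 1, 0], !![0, 1; 1, 0], by simp [Matrix.mul_fin_two, Matrix.one_fin_two],
    by simp [Matrix.mul_fin_two, Matrix.one_fin_two]⟩

theorem val_swapGL : (swapGL (F := F)).val = !![(0 : F), 1; 1, 0] := rfl

theorem orderOf_swapGL : orderOf (swapGL (F := F)) = 2 := by
  refine orderOf_eq_prime (Units.ext ?_) fun h => ?_
  · rw [pow_two, Units.val_mul, val_swapGL]
    simp [Matrix.mul_fin_two, Matrix.one_fin_two]
  · have h2 := congrArg (fun g : GL (Fin 2) F => (g : Matrix (Fin 2) (Fin 2) F) 0 1) h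
    simp [val_swapGL] at h2

theorem swapGL_conj (a b : Fˣ) : swapGL * diagHom (a, b) * swapGL⁻¹ = diagHom (b, a) := by
  rw [mul_inv_eq_iff_eq_mul]
  apply Units.ext
  rw [Units.val_mul, Units.val_mul, val_swapGL, val_diagHom, val_diagHom]
  simp [Matrix.mul_fin_two]

theorem orderOf_diagHom_left (a : Fˣ) : orderOf (diagHom (a, 1)) = orderOf a := by
  rw [orderOf_injective _ diagHom_injective, Prod.orderOf, orderOf_one, Nat.lcm_one_right]

theorem diagHom_disjoint (a b : Fˣ) :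
    Subgroup.zpowers (diagHom (a, (1 : Fˣ))) ⊓ Subgroup.zpowers (diagHom ((1 : Fˣ), b)) = ⊥ := by
  rw [eq_bot_iff]
  rintro v ⟨⟨i, hi⟩, ⟨j, hj⟩⟩
  rw [Subgroup.mem_bot]
  simp only [← map_zpow] at hi hj
  have e := diagHom_injective (hi.trans hj.symm)
  have h1 : a ^ i = 1 := by simpa using congrArg Prod.fst e
  rw [← hi]
  refine (congrArg diagHom ?_).trans (map_one _)
  ext <;> simp [h1]

end Monomial

end CfsgLib.TwoGroups.ClassicalSylow
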