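import Cfsg.Agent.Lib.TwoGroups.PSLThree
import Cfsg.Agent.Lib.TwoGroups.ClassicalSylow
import Cfsg.Agent.Lib.ClassicalGroups.HermGroup
import Cfsg.Prelude.Def_CaseTheorems

/-!
Sylow 2-subgroups of `PSU_3(q)`, `q` odd, are isomorphic to those of `GU_2(q)`.
-/

set_option autoImplicit false

namespace CfsgLib.TwoGroups.PSUThree

open Matrix CfsgLib.ClassicalGroups
open scoped MatrixGroups

theorem isQuasiDihedral_congr {S T : Type*} [Group S] [Group T] (e : S ≃* T)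
    (h : Cfsg.IsQuasiDihedral S) : Cfsg.IsQuasiDihedral T := by
  obtain ⟨n, hn, hc, x, y, hx, hy, hrel⟩ := h
  exact ⟨n, hn, by rw [← Nat.card_congr e.toEquiv, hc], e x, e y,
    by rw [MulEquiv.orderOf_eq, hx], by rw [MulEquiv.orderOf_eq, hy],
    by rw [← map_inv, ← map_mul, ← map_mul, hrel, map_pow]⟩

theorem isWreathed_congr {S T : Type*} [Group S] [Group T] (e : S ≃* T)
    (h : Cfsg.IsWreathed S) : Cfsg.IsWreathed T := by
  obtain ⟨n, hn, hc, x, y, z, hx, hxy, hd, hz, hrel⟩ := h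
  refine ⟨n, hn, by rw [← Nat.card_congr e.toEquiv, hc], e x, e y, e z,
    by rw [MulEquiv.orderOf_eq, hx], by rw [← map_mul, hxy, map_mul], ?_,
    by rw [MulEquiv.orderOf_eq, hz], by rw [← map_inv, ← map_mul, ← map_mul, hrel]⟩
  have h' := congrArg (Subgroup.map e.toMonoidHom) hd
  rw [Subgroup.map_inf _ _ _ e.injective, MonoidHom.map_zpowers, MonoidHom.map_zpowers,
    Subgroup.map_bot] at h'
  exact h'

variable {F : Type*} [Field F] [Fintype F] {q : ℕ}

theorem blk_mem (hF : Fintype.card F = q ^ 2) (A : Cfsg.GU 2 F q) :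
    InvolutionSLThree.blk A.1 ∈ Cfsg.SU 3 F q := by
  rw [mem_SU_iff]
  intro u v
  rw [InvolutionSLThree.val_blk]
  have h := mem_GU_iff.1 A.2 ![u 1, u 2] ![v 1, v 2]
  have hd : (A.1.val.det) ^ (q + 1) = 1 := by
    have h' := congrArg Units.val (GU_det_pow hF A)
    rwa [Units.val_pow_eq_pow_val, Units.val_one, GeneralLinearGroup.val_det_apply] at h'
  simp [Cfsg.hermForm, Matrix.mulVec, dotProduct, Fin.sum_univ_three, Fin.sum_univ_two] at h ⊢
  have hd0 : A.1.val.det ≠ 0 := Matrix.GeneralLinearGroup.det_ne_zero A.1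
  rw [mul_pow, inv_pow]
  have e : (A.1.val.det)⁻¹ * ((A.1.val.det) ^ q)⁻¹ = 1 := by
    rw [← mul_inv, ← pow_succ', hd, inv_one]
  linear_combination (u 0 * v 0 ^ q) * e + h

/-- The Levi map `GU_2 → SU_3`. -/
noncomputable def blkU (hF : Fintype.card F = q ^ 2) : Cfsg.GU 2 F q →* Cfsg.SU 3 F q :=
  (InvolutionSLThree.blk.comp (Cfsg.GU 2 F q).subtype).codRestrict _ (blk_mem hF)

theorem blkU_injective (hF : Fintype.card F = q ^ 2) : Function.Injective (blkU hF) :=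
  fun _ _ h => Subtype.ext (PSLThree.blk_injective (congrArg Subtype.val h :))

theorem card_SU_three (hF : Fintype.card F = q ^ 2) :
    Nat.card (Cfsg.SU 3 F q) = Nat.card (Cfsg.GU 2 F q) * (q ^ 2 * (q ^ 2 - q + 1)) := by
  have h := card_SU_mul hF (n := 3) (by norm_num)
  rw [card_GU hF] at h
  rw [card_GU hF]
  simp [Finset.prod_range_succ, Nat.even_iff] at h ⊢
  have : q ≤ q ^ 2 := Nat.le_self_pow two_ne_zero q
  have h3 : q ^ 3 + 1 = (q + 1) * (q ^ 2 - q + 1) := by zify [this]; ring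
  rw [h3] at h
  apply Nat.eq_of_mul_eq_mul_left (show 0 < q + 1 by omega)
  rw [h]
  ring

/-- A Sylow 2-subgroup of `PSU_3(q)` is isomorphic to one of `GU_2(q)`. -/
theorem exists_iso (hF : Fintype.card F = q ^ 2) (hq : Odd q) (S : Sylow 2 (Cfsg.PSU 3 F q)) :
    ∃ P : Sylow 2 (Cfsg.GU 2 F q),
      Nonempty ((P : Subgroup (Cfsg.GU 2 F q)) ≃* (S : Subgroup (Cfsg.PSU 3 F q))) := by
  classical
  have : Fact (Nat.Prime 2) := ⟨Nat.prime_two⟩
  let P : Sylow 2 (Cfsg.GU 2 F q) := default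
  obtain ⟨N, hN⟩ := P.isPGroup'.exists_card_eq
  have hmodd : Odd ((P : Subgroup (Cfsg.GU 2 F q)).index * (q ^ 2 * (q ^ 2 - q + 1))) := by
    refine Odd.mul ?_ (Odd.mul hq.pow ?_)
    · rw [← Nat.not_even_iff_odd, even_iff_two_dvd]
      exact P.not_dvd_index
    · obtain ⟨k, rfl⟩ := hq
      have e : (2 * k + 1) ^ 2 - (2 * k + 1) = 2 * ((2 * k + 1) * k) := by
        have : (2 * k + 1) ^ 2 = 2 * ((2 * k + 1) * k) + (2 * k + 1) := by ring
        omega
      rw [e]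
      exact ⟨_, rfl⟩
  let T₀ := (P : Subgroup (Cfsg.GU 2 F q)).map (blkU hF)
  have hT₀ : Nat.card T₀ = 2 ^ N :=
    (Nat.card_congr ((P : Subgroup (Cfsg.GU 2 F q)).equivMapOfInjective _ (blkU_injective hF)).toEquiv).symm.trans hN
  have hc3 : Nat.card (Cfsg.SU 3 F q) =
      2 ^ N * ((P : Subgroup (Cfsg.GU 2 F q)).index * (q ^ 2 * (q ^ 2 - q + 1))) := by
    rw [card_SU_three hF, ← (P : Subgroup (Cfsg.GU 2 F q)).card_mul_index, hN, mul_assoc]
  obtain ⟨T, hT⟩ := (IsPGroup.of_card hT₀ : IsPGroup 2 T₀).exists_le_sylow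
  have hTT : T₀ = (T : Subgroup (Cfsg.SU 3 F q)) :=
    Subgroup.eq_of_le_of_card_ge hT
      (by rw [hT₀, ClassicalSylow.sylow_card_of_eq T hc3 hmodd])
  let π := QuotientGroup.mk' (Subgroup.center (Cfsg.SU 3 F q))
  let φ : (T : Subgroup (Cfsg.SU 3 F q)) →* Cfsg.PSU 3 F q :=
    π.comp (T : Subgroup (Cfsg.SU 3 F q)).subtype
  have hφ : Function.Injective φ := by
    refine (injective_iff_map_eq_one φ).2 fun g hg => ?_
    have hg' : (g : Cfsg.SU 3 F q) ∈ Subgroup.center (Cfsg.SU 3 F q) := (QuotientGroup.eq_one_iff _).1 hg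
    have h3 : orderOf g ∣ 3 := by
      rw [← Subgroup.orderOf_coe]
      refine dvd_trans ?_ (Nat.gcd_dvd_left 3 (q + 1))
      rw [← card_center_SU hF (n := 3) (by norm_num)]
      exact Subgroup.orderOf_dvd_natCard _ hg'
    obtain ⟨k, hk⟩ := T.isPGroup' g
    have hd := Nat.dvd_gcd h3 (orderOf_dvd_of_pow_eq_one hk)
    rwa [(Nat.Coprime.pow_right k (by norm_num : Nat.Coprime 3 2)).gcd_eq_one, Nat.dvd_one,
      orderOf_eq_one_iff] at hd
  let S₁ : Sylow 2 (Cfsg.PSU 3 F q) := T.mapSurjective (QuotientGroup.mk'_surjective _)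
  have hr : φ.range = (S₁ : Subgroup (Cfsg.PSU 3 F q)) := by
    show (π.comp (T : Subgroup (Cfsg.SU 3 F q)).subtype).range = (T : Subgroup (Cfsg.SU 3 F q)).map π
    rw [MonoidHom.range_comp, Subgroup.range_subtype]
  exact ⟨P, ⟨((((P : Subgroup (Cfsg.GU 2 F q)).equivMapOfInjective _ (blkU_injective hF)).trans
    (MulEquiv.subgroupCongr hTT)).trans ((MonoidHom.ofInjective hφ).trans
      (MulEquiv.subgroupCongr hr))).trans (S₁.equiv S)⟩⟩

end CfsgLib.TwoGroups.PSUThree
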