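import Mathlib
import Cfsg.Agent.S0215
import Cfsg.Agent.Lib.Involutions.Basic

/-!
A fusion-closed 2-subgroup centralizes a disjoint normal subgroup without odd normal subgroups.
-/

set_option autoImplicit false

namespace CfsgLib.TwoGroups.DisjointClosed

universe u

theorem centralizes : ∀ (n : ℕ) (K : Type u) [Group K] [Finite K] (H A : Subgroup K) (P : Sylow 2 K),
    Nat.card A ≤ n → H.Normal → H ⊔ A = ⊤ → H ⊓ A = ⊥ → A ≤ P →
    (∀ M : Subgroup K, M ≤ H → M.Normal → Odd (Nat.card M) → M = ⊥) →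
    (∀ x ∈ A, ∀ k : K, k * x * k⁻¹ ∈ P → k * x * k⁻¹ ∈ A) →
    ∀ a ∈ A, ∀ h ∈ H, a * h = h * a := by
  intro n
  induction n with
  | zero =>
    intro K _ _ H A P hn
    have : 0 < Nat.card A := Nat.card_pos
    omega
  | succ n ih =>
    intro K _ _ H A P hn hH htop hdisj hAP hM hcl
    have : Fact (Nat.Prime 2) := ⟨Nat.prime_two⟩
    rcases (A.bot_or_exists_ne_one) with hA | ⟨w, hw, hw1⟩
    · intro a ha h _
      rw [hA, Subgroup.mem_bot] at ha
      simp [ha]
    have hAp : IsPGroup 2 A := P.isPGroup'.to_le hAP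
    have : Nontrivial A := ⟨⟨⟨w, hw⟩, 1, fun e => hw1 (congrArg Subtype.val e)⟩⟩
    -- a central involution of A
    have hZne := hAp.center_nontrivial
    obtain ⟨c, hc⟩ := exists_prime_orderOf_dvd_card' (G := Subgroup.center A) 2 (by
      obtain ⟨k, hk⟩ := (hAp.to_subgroup (Subgroup.center A)).exists_card_eq
      rw [hk]
      refine dvd_pow_self 2 fun h0 => ?_
      rw [h0, pow_zero] at hk
      exact absurd hk (Finite.one_lt_card (α := Subgroup.center A)).ne')
    set a : K := ((c : A) : K) with ha_def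
    have haA : a ∈ A := (c : A).2
    have ha2 : orderOf a = 2 := by rw [ha_def, Subgroup.orderOf_coe, Subgroup.orderOf_coe, hc]
    have haA_comm : ∀ b ∈ A, b * a = a * b := fun b hb =>
      congrArg Subtype.val (Subgroup.mem_center_iff.1 c.2 ⟨b, hb⟩)
    -- a is isolated, so it centralizes H
    have hiso : ∀ g : K, g * a * g⁻¹ ∈ P → g * a * g⁻¹ = a := by
      intro g hg
      have hgA := hcl a haA g hg
      have hgmem : g ∈ H ⊔ A := by rw [htop]; exact Subgroup.mem_top g
      obtain ⟨h, hh, b, hb, rfl⟩ := Subgroup.mem_sup_of_normal_left.1 hgmem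
      have e : h * b * a * (h * b)⁻¹ = h * a * h⁻¹ := by
        calc h * b * a * (h * b)⁻¹ = h * (b * a) * b⁻¹ * h⁻¹ := by group
          _ = _ := by rw [haA_comm b hb]; group
      rw [e] at hgA ⊢
      have h1 : h * a * h⁻¹ * a⁻¹ ∈ H ⊓ A :=
        ⟨by rw [show h * a * h⁻¹ * a⁻¹ = h * (a * h⁻¹ * a⁻¹) by group]
            exact H.mul_mem hh (hH.conj_mem _ (H.inv_mem hh) a),
          A.mul_mem hgA (A.inv_mem haA)⟩
      rw [hdisj, Subgroup.mem_bot] at h1
      exact mul_inv_eq_one.1 h1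
    obtain ⟨N, hN, hNodd, hNcomm⟩ := Cfsg.Agent.S0215.result P a ha2 (hAP haA) hiso
    have hHN : H ⊓ N = ⊥ :=
      hM _ inf_le_left inferInstance (Odd.of_dvd_nat hNodd (Subgroup.card_dvd_of_le inf_le_right))
    have haH : ∀ h ∈ H, a * h = h * a := by
      intro h hh
      have h1 : a * h * a⁻¹ * h⁻¹ ∈ H ⊓ N :=
        ⟨H.mul_mem (hH.conj_mem h hh a) (H.inv_mem hh), hNcomm h⟩
      rw [hHN, Subgroup.mem_bot] at h1
      exact mul_inv_eq_iff_eq_mul.1 (mul_inv_eq_one.1 h1)
    have hcen : a ∈ Subgroup.center K := by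
      rw [Subgroup.mem_center_iff]
      intro g
      have hgmem : g ∈ H ⊔ A := by rw [htop]; exact Subgroup.mem_top g
      obtain ⟨h, hh, b, hb, rfl⟩ := Subgroup.mem_sup_of_normal_left.1 hgmem
      rw [mul_assoc, haA_comm b hb, ← mul_assoc, ← haH h hh, mul_assoc]
    set Z := Subgroup.zpowers a with hZdef
    have hZc : Z ≤ Subgroup.center K := Subgroup.zpowers_le.2 hcen
    have : Z.Normal := ⟨fun v hv g => by
      rw [Subgroup.mem_center_iff.1 (hZc hv) g, mul_inv_cancel_right]; exact hv⟩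
    have hZA : Z ≤ A := Subgroup.zpowers_le.2 haA
    let π := QuotientGroup.mk' Z
    have hπs : Function.Surjective π := QuotientGroup.mk'_surjective Z
    have hinj : ∀ x ∈ H, π x = 1 → x = 1 := by
      intro x hx hx1
      have h1 : x ∈ H ⊓ A := ⟨hx, hZA ((QuotientGroup.eq_one_iff x).1 hx1)⟩
      rwa [hdisj, Subgroup.mem_bot] at h1
    have hpre : ∀ (B : Subgroup K), Z ≤ B → ∀ x, π x ∈ B.map π → x ∈ B := by
      rintro B hZB x ⟨y, hy, hyx⟩
      have h1 : y⁻¹ * x ∈ B := hZB (QuotientGroup.eq.1 hyx)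
      simpa using B.mul_mem hy h1
    intro b hb h hh
    have key := ih (K ⧸ Z) (H.map π) (A.map π) (P.mapSurjective hπs) ?_ (hH.map π hπs)
      (by rw [← Subgroup.map_sup, htop, Subgroup.map_top_of_surjective π hπs]) ?_
      (Subgroup.map_mono hAP) ?_ ?_ (π b) ⟨b, hb, rfl⟩ (π h) ⟨h, hh, rfl⟩
    · have h1 : b * h * b⁻¹ * h⁻¹ = 1 := by
        refine hinj _ (H.mul_mem (hH.conj_mem h hh b) (H.inv_mem hh)) ?_
        rw [map_mul, map_mul, map_mul, map_inv, map_inv, key, mul_inv_cancel_right, mul_inv_cancel]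
      exact mul_inv_eq_iff_eq_mul.1 (mul_inv_eq_one.1 h1)
    · have h1 : Nat.card (A.map π) < Nat.card A := by
        refine lt_of_le_of_ne (Nat.le_of_dvd Nat.card_pos (Subgroup.card_map_dvd A π)) fun he => ?_
        have hbij : Function.Injective (π.comp A.subtype) := ?_
        · have := hbij (a₁ := ⟨a, haA⟩) (a₂ := 1) (by
            show π a = π 1
            rw [map_one]
            exact (QuotientGroup.eq_one_iff a).2 (Subgroup.mem_zpowers a))
          exact CfsgLib.Involutions.ne_one_of_involution ha2 (congrArg Subtype.val this)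
        · have hr : (π.comp A.subtype).range = A.map π := by
            rw [MonoidHom.range_eq_map, ← Subgroup.map_map, ← MonoidHom.range_eq_map, Subgroup.range_subtype]
          have hc := Subgroup.card_eq_card_quotient_mul_card_subgroup (π.comp A.subtype).ker
          rw [Nat.card_congr (QuotientGroup.quotientKerEquivRange _).toEquiv, hr, he] at hc
          rw [← MonoidHom.ker_eq_bot_iff, Subgroup.eq_bot_iff_card]
          exact (mul_eq_left₀ Nat.card_pos.ne').1 hc.symm
      omega
    · rw [Subgroup.eq_bot_iff_forall]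
      rintro v ⟨⟨x, hx, rfl⟩, hv⟩
      have hxA := hpre A hZA x hv
      have h1 : x ∈ H ⊓ A := ⟨hx, hxA⟩
      rw [hdisj, Subgroup.mem_bot] at h1
      rw [h1, map_one]
    · intro M hMle hMn hModd
      let M' := M.comap π ⊓ H
      have hmap : M'.map π = M := by
        apply le_antisymm
        · rintro _ ⟨x, hx, rfl⟩
          exact hx.1
        · intro v hv
          obtain ⟨x, hx, rfl⟩ := hMle hv
          exact ⟨x, ⟨hv, hx⟩, rfl⟩
      have hcard : Nat.card M' = Nat.card M := by
        rw [← hmap]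
        refine Nat.card_congr (Equiv.ofBijective (fun x : M' => (⟨π x, ⟨x, x.2, rfl⟩⟩ : M'.map π)) ⟨?_, ?_⟩)
        · intro x y hxy
          have h1 : π ((x : K)⁻¹ * y) = 1 := by
            rw [map_mul, map_inv, show π x = π y from congrArg Subtype.val hxy, inv_mul_cancel]
          exact Subtype.ext (inv_mul_eq_one.1 (hinj _ (H.mul_mem (H.inv_mem x.2.2) y.2.2) h1))
        · rintro ⟨v, x, hx, rfl⟩
          exact ⟨⟨x, hx⟩, rfl⟩
      have := hM M' inf_le_right inferInstance (hcard ▸ hModd)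
      rw [← hmap, this, Subgroup.map_bot]
    · rintro _ ⟨x, hx, rfl⟩ k hk
      obtain ⟨k, rfl⟩ := hπs k
      rw [← map_inv, ← map_mul, ← map_mul] at hk ⊢
      exact ⟨_, hcl x hx k (hpre P (hZA.trans hAP) _ hk), rfl⟩

end CfsgLib.TwoGroups.DisjointClosed
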