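import Mathlib

/-!
Involutions of `SL_3` in odd characteristic and their centralizers in `PSL_3`.
-/

set_option autoImplicit false

namespace CfsgLib.TwoGroups.InvolutionSLThree

open Matrix
open scoped MatrixGroups

variable {F : Type*} [Field F]

/-- The standard involution. -/
def invJ : Matrix (Fin 3) (Fin 3) F := diagonal ![1, -1, -1]

/-- An involution of determinant one is similar to `diag(1,-1,-1)`. -/
theorem exists_diag (h2 : (2 : F) ≠ 0) {g : Matrix (Fin 3) (Fin 3) F} (hg : g * g = 1)
    (hd : g.det = 1) (hne : g ≠ 1) :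
    ∃ P : GL (Fin 3) F, g * P.val = P.val * invJ := by
  set f := Matrix.toLin' g with hf
  have hff : ∀ v, f (f v) = v := fun v => by
    rw [hf, ← LinearMap.comp_apply, ← Matrix.toLin'_mul, hg, Matrix.toLin'_one]; rfl
  set Ep := LinearMap.ker (f - LinearMap.id) with hEp
  set Em := LinearMap.ker (f + LinearMap.id) with hEm
  have hp : ∀ v, v ∈ Ep ↔ f v = v := fun v => by
    rw [hEp, LinearMap.mem_ker, LinearMap.sub_apply, LinearMap.id_apply, sub_eq_zero]
  have hm : ∀ v, v ∈ Em ↔ f v = -v := fun v => by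
    rw [hEm, LinearMap.mem_ker, LinearMap.add_apply, LinearMap.id_apply, add_eq_zero_iff_eq_neg]
  have hc : IsCompl Ep Em := by
    constructor
    · rw [Submodule.disjoint_def]
      intro v h1 h1'
      rw [hp] at h1; rw [hm, h1] at h1'
      have h3 : (2 : F) • v = 0 := by rw [two_smul]; nth_rw 2 [h1']; exact add_neg_cancel v
      exact (smul_eq_zero.1 h3).resolve_left h2
    · rw [codisjoint_iff, eq_top_iff]
      intro v _
      rw [Submodule.mem_sup]
      refine ⟨(2 : F)⁻¹ • (v + f v), ?_, (2 : F)⁻¹ • (v - f v), ?_, ?_⟩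
      · rw [hp, map_smul, map_add, hff, add_comm]
      · rw [hm, map_smul, map_sub, hff, ← smul_neg, neg_sub]
      · rw [← smul_add, show v + f v + (v - f v) = (2 : F) • v by rw [two_smul]; abel, smul_smul,
          inv_mul_cancel₀ h2, one_smul]
  let e := Submodule.prodEquivOfIsCompl Ep Em hc
  have hconj : f = (e.toLinearMap.comp ((LinearMap.id : Ep →ₗ[F] Ep).prodMap
      (-(LinearMap.id : Em →ₗ[F] Em)))).comp e.symm.toLinearMap := by
    refine LinearMap.ext fun v => ?_
    obtain ⟨⟨a, b⟩, rfl⟩ := e.surjective v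
    have h1 := (hp (a : Fin 3 → F)).1 a.2
    have h1' := (hm (b : Fin 3 → F)).1 b.2
    simp [e, map_add, h1, h1']
  have hdim : Module.finrank F Ep + Module.finrank F Em = 3 := by
    rw [Submodule.finrank_add_eq_of_isCompl hc, Module.finrank_fin_fun]
  have hdet' : g.det = (-1 : F) ^ Module.finrank F Em := by
    rw [← LinearMap.det_toLin', ← hf, hconj, LinearMap.comp_assoc, LinearMap.det_conj,
      LinearMap.det_prodMap, LinearMap.det_id, one_mul, ← neg_one_smul F (LinearMap.id : Em →ₗ[F] Em),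
      LinearMap.det_smul, LinearMap.det_id, mul_one]
  have hdet : (1 : F) = (-1 : F) ^ Module.finrank F Em := hd.symm.trans hdet'
  have hodd : ¬ Odd (Module.finrank F Em) := fun ho => by
    rw [ho.neg_one_pow] at hdet
    exact h2 (by linear_combination hdet)
  have hb0 : Module.finrank F Em ≠ 0 := by
    intro h0
    rw [Submodule.finrank_eq_zero] at h0
    have htop : Ep = ⊤ := by have := hc.sup_eq_top; rwa [h0, sup_bot_eq] at this
    apply hne
    apply Matrix.toLin'.injective
    rw [Matrix.toLin'_one]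
    exact LinearMap.ext fun v => (hp v).1 (htop ▸ Submodule.mem_top)
  have hb : Module.finrank F Em = 2 := by
    have := Nat.not_odd_iff.1 hodd
    omega
  have ha : Module.finrank F Ep = 1 := by omega
  let bas : Module.Basis (Fin (1 + 2)) F (Fin 3 → F) :=
    (((Module.finBasisOfFinrankEq F Ep ha).prod (Module.finBasisOfFinrankEq F Em hb)).map e).reindex
      finSumFinEquiv
  have hbas0 : f (bas 0) = bas 0 := by
    rw [show (0 : Fin (1 + 2)) = finSumFinEquiv (Sum.inl (0 : Fin 1)) from rfl]
    simp only [bas, Module.Basis.reindex_apply, Equiv.symm_apply_apply, Module.Basis.map_apply]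
    refine (hp _).1 ?_
    simp [e]
  have hbas1 : ∀ k : Fin 2, f (bas (finSumFinEquiv (Sum.inr k))) = -bas (finSumFinEquiv (Sum.inr k)) := by
    intro k
    simp only [bas, Module.Basis.reindex_apply, Equiv.symm_apply_apply, Module.Basis.map_apply]
    refine (hm _).1 ?_
    simp [e]
  let P : Matrix (Fin 3) (Fin 3) F := Matrix.of fun i j => bas j i
  have hP : IsUnit P := Matrix.linearIndependent_cols_iff_isUnit.1 (by exact bas.linearIndependent)
  refine ⟨hP.unit, ?_⟩
  rw [IsUnit.unit_spec]
  ext i j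
  rw [invJ, Matrix.mul_diagonal]
  have key : f (bas j) = (![1, -1, -1] : Fin 3 → F) j • bas j := by
    fin_cases j
    · simpa using hbas0
    · simp; exact hbas1 0
    · simp; exact hbas1 1
  have key' := congrFun key i
  rw [hf, Matrix.toLin'_apply, Pi.smul_apply, smul_eq_mul] at key'
  rw [mul_comm]
  exact key'

/-- The block embedding of `GL_2` in `SL_3`. -/
noncomputable def blk : GL (Fin 2) F →* SL(3, F) :=
  MonoidHom.mk' (fun A => ⟨!![(A.val.det)⁻¹, 0, 0; 0, A.val 0 0, A.val 0 1; 0, A.val 1 0, A.val 1 1], by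
    have h : A.val.det ≠ 0 := Matrix.GeneralLinearGroup.det_ne_zero A
    rw [Matrix.det_fin_three]
    simp only [Matrix.of_apply, Matrix.cons_val_zero, Matrix.cons_val_one, Matrix.cons_val]
    rw [Matrix.det_fin_two] at h ⊢
    field_simp
    ring⟩) (by
    intro A B
    refine Matrix.SpecialLinearGroup.ext _ _ fun i j => ?_
    simp only [Units.val_mul, Matrix.det_mul, mul_inv]
    show _ = ((!![(A.val.det)⁻¹, 0, 0; 0, A.val 0 0, A.val 0 1; 0, A.val 1 0, A.val 1 1] :
      Matrix (Fin 3) (Fin 3) F) *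
      !![(B.val.det)⁻¹, 0, 0; 0, B.val 0 0, B.val 0 1; 0, B.val 1 0, B.val 1 1]) i j
    fin_cases i <;> fin_cases j <;>
      simp [Matrix.mul_apply, Fin.sum_univ_three, Fin.sum_univ_two])

theorem val_blk (A : GL (Fin 2) F) : (blk A).val =
    !![(A.val.det)⁻¹, 0, 0; 0, A.val 0 0, A.val 0 1; 0, A.val 1 0, A.val 1 1] := rfl

theorem blk_commute_invJ (A : GL (Fin 2) F) : (blk A).val * invJ = invJ * (blk A).val := by
  rw [val_blk, invJ]
  ext i j
  rw [Matrix.mul_diagonal, Matrix.diagonal_mul]
  fin_cases i <;> fin_cases j <;> simp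

theorem exists_blk (h2 : (2 : F) ≠ 0) {x : SL(3, F)} (hx : x.val * invJ = invJ * x.val) :
    ∃ A, blk A = x := by
  have he : ∀ i j, x.val i j * (![1, -1, -1] : Fin 3 → F) j = (![1, -1, -1] : Fin 3 → F) i * x.val i j := by
    intro i j
    have := congrFun (congrFun hx i) j
    rwa [invJ, Matrix.mul_diagonal, Matrix.diagonal_mul] at this
  have hz : ∀ a : F, a * -1 = 1 * a → a = 0 := fun a h => by
    have : (2 : F) * a = 0 := by linear_combination -h
    exact (mul_eq_zero.1 this).resolve_left h2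
  have hz' : ∀ a : F, a * 1 = -1 * a → a = 0 := fun a h => hz a (by linear_combination -h)
  have h01 : x.val 0 1 = 0 := hz _ (he 0 1)
  have h02 : x.val 0 2 = 0 := hz _ (he 0 2)
  have h10 : x.val 1 0 = 0 := hz' _ (he 1 0)
  have h20 : x.val 2 0 = 0 := hz' _ (he 2 0)
  have hdet := x.2
  rw [Matrix.det_fin_three, h01, h02, h10, h20] at hdet
  have hdet' : x.val 0 0 * (x.val 1 1 * x.val 2 2 - x.val 1 2 * x.val 2 1) = 1 := by
    linear_combination hdet
  let B : Matrix (Fin 2) (Fin 2) F := !![x.val 1 1, x.val 1 2; x.val 2 1, x.val 2 2]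
  have hB : B.det ≠ 0 := by
    rw [Matrix.det_fin_two_of]; exact right_ne_zero_of_mul_eq_one hdet'
  refine ⟨Matrix.GeneralLinearGroup.mkOfDetNeZero B hB, Matrix.SpecialLinearGroup.ext _ _ fun i j => ?_⟩
  have h00 : (x.val 1 1 * x.val 2 2 - x.val 1 2 * x.val 2 1)⁻¹ = x.val 0 0 :=
    inv_eq_of_mul_eq_one_left hdet'
  rw [val_blk]
  fin_cases i <;> fin_cases j <;> simp [B, h01, h02, h10, h20, h00, Matrix.GeneralLinearGroup.mkOfDetNeZero]

theorem blk_mem_center_iff (A : GL (Fin 2) F) :
    blk A ∈ Subgroup.center SL(3, F) ↔ ∃ r : F, r ^ 3 = 1 ∧ A.val = Matrix.scalar (Fin 2) r := by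
  rw [Matrix.SpecialLinearGroup.mem_center_iff]
  constructor
  · rintro ⟨r, hr, h⟩
    refine ⟨r, by simpa using hr, ?_⟩
    have h' := fun i j => congrFun (congrFun h i) j
    rw [val_blk] at h'
    have e11 := h' 1 1
    have e12 := h' 1 2
    have e21 := h' 2 1
    have e22 := h' 2 2
    ext i j
    fin_cases i <;> fin_cases j <;> simp_all [Matrix.scalar_apply]
  · rintro ⟨r, hr, h⟩
    refine ⟨r, by simpa using hr, ?_⟩
    have hr0 : r ≠ 0 := fun e => by simp [e] at hr
    have hd : (A.val.det)⁻¹ = r := by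
      apply inv_eq_of_mul_eq_one_left
      rw [h, Matrix.scalar_apply, Matrix.det_diagonal, Fin.prod_univ_two]
      linear_combination hr
    rw [val_blk, hd, h]
    ext i j
    fin_cases i <;> fin_cases j <;> simp [Matrix.scalar_apply]

end CfsgLib.TwoGroups.InvolutionSLThree
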