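import Cfsg.Agent.Lib.TwoGroups.WreathedAut

/-!
The subgroup `Q Z(S)` of a wreathed group in coordinates, and adapted coordinates.
-/

set_option autoImplicit false
set_option linter.unusedSectionVars false

namespace CfsgLib.TwoGroups.WR

variable {S : Type*} [Group S] [Finite S] {n : ℕ} {x y z : S}

/-- Elements `x^a y^b z^e` with `2^(n-1) ∣ a - b`. -/
def vee (h : WR S n x y z) : Subgroup S where
  carrier := {g | ∃ a b : ℤ, (2 : ℤ) ^ (n - 1) ∣ a - b ∧ (g = el x y a b ∨ g = el x y a b * z)}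
  one_mem' := ⟨0, 0, by simp, Or.inl el_zero.symm⟩
  mul_mem' := by
    rintro _ _ ⟨a, b, hab, rfl | rfl⟩ ⟨c, d, hcd, rfl | rfl⟩
    · exact ⟨a + c, b + d, by
        rw [show a + c - (b + d) = (a - b) + (c - d) by ring]; exact hab.add hcd, Or.inl (el_mul h a b c d)⟩
    · exact ⟨a + c, b + d, by
        rw [show a + c - (b + d) = (a - b) + (c - d) by ring]; exact hab.add hcd,
        Or.inr (by rw [← mul_assoc, el_mul h])⟩
    · exact ⟨a + d, b + c, by
        rw [show a + d - (b + c) = (a - b) - (c - d) by ring]; exact hab.sub hcd,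
        Or.inr (el_z_mul_el h a b c d)⟩
    · exact ⟨a + d, b + c, by
        rw [show a + d - (b + c) = (a - b) - (c - d) by ring]; exact hab.sub hcd,
        Or.inl (el_z_mul_el_z h a b c d)⟩
  inv_mem' := by
    rintro _ ⟨a, b, hab, rfl | rfl⟩
    · exact ⟨-a, -b, by rw [show -a - -b = -(a - b) by ring, dvd_neg]; exact hab, Or.inl (el_inv h a b)⟩
    · exact ⟨-b, -a, by rwa [show -b - -a = a - b by ring], Or.inr (el_z_inv h a b)⟩

theorem el_mem_vee (h : WR S n x y z) {a b : ℤ} :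
    el x y a b ∈ vee h ↔ (2 : ℤ) ^ (n - 1) ∣ a - b := by
  refine ⟨?_, fun hd => ⟨a, b, hd, Or.inl rfl⟩⟩
  rintro ⟨c, d, hcd, e | e⟩
  · obtain ⟨h1, h2⟩ := (h.eq_iff _ _ _ _).mp e
    rw [show a - b = (a - c) - (b - d) + (c - d) by ring]
    exact ((pow_dvd_pow 2 (Nat.sub_le n 1)).trans (h1.sub h2)).add hcd
  · exact absurd e.symm (el_z_ne h _ _ _ _)

theorem elz_mem_vee (h : WR S n x y z) {a b : ℤ} :
    el x y a b * z ∈ vee h ↔ (2 : ℤ) ^ (n - 1) ∣ a - b := by
  refine ⟨?_, fun hd => ⟨a, b, hd, Or.inr rfl⟩⟩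
  rintro ⟨c, d, hcd, e | e⟩
  · exact absurd e (el_z_ne h _ _ _ _)
  · obtain ⟨h1, h2⟩ := (el_z_eq h).mp e
    rw [show a - b = (a - c) - (b - d) + (c - d) by ring]
    exact ((pow_dvd_pow 2 (Nat.sub_le n 1)).trans (h1.sub h2)).add hcd

theorem center_le_vee (h : WR S n x y z) : Subgroup.center S ≤ vee h := by
  intro g hg
  obtain ⟨a, rfl⟩ := (mem_center_iff h).mp hg
  exact (el_mem_vee h).mpr (by simp)

theorem qz_eq_vee (h : WR S n x y z) : qz n x y z = vee h := by
  obtain ⟨q1, -⟩ := quarter h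
  refine le_antisymm (sup_le ((Subgroup.closure_le _).mpr ?_) (center_le_vee h)) ?_
  · rintro g (rfl | rfl)
    · exact (el_mem_vee h).mpr ⟨1, by rw [q1]; ring⟩
    · exact (elz_mem_vee h).mpr (by simp)
  · have hw : el x y (2 ^ (n - 1)) 0 * z ∈ qz n x y z :=
      Subgroup.mem_sup_left (Subgroup.subset_closure (Or.inr rfl))
    have hbase : ∀ a b : ℤ, (2 : ℤ) ^ (n - 1) ∣ a - b → el x y a b ∈ qz n x y z := by
      rintro a b ⟨t, ht⟩
      rw [show el x y a b = el x y (2 ^ (n - 2)) (-2 ^ (n - 2)) ^ t *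
          el x y (b + 2 ^ (n - 2) * t) (b + 2 ^ (n - 2) * t) by
        rw [el_zpow h, el_mul h]; congr 1 <;> [(rw [q1] at ht; linarith); ring]]
      exact Subgroup.mul_mem _
        (Subgroup.mem_sup_left (Subgroup.zpow_mem _ (Subgroup.subset_closure (Set.mem_insert _ _)) _))
        (Subgroup.mem_sup_right ((mem_center_iff h).mpr ⟨_, rfl⟩))
    rintro g ⟨a, b, hab, rfl | rfl⟩
    · exact hbase a b hab
    · have e : el x y a b * z = el x y (a - 2 ^ (n - 1)) b * (el x y (2 ^ (n - 1)) 0 * z) := by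
        rw [← mul_assoc, el_mul h, sub_add_cancel, add_zero]
      rw [e]
      refine Subgroup.mul_mem _ (hbase _ _ ?_) hw
      rw [show a - 2 ^ (n - 1) - b = (a - b) - 2 ^ (n - 1) by ring]
      exact hab.sub dvd_rfl

/-- Moving `z` inside its coset. -/
theorem shift (h : WR S n x y z) {c d : ℤ} (hcd : (2 : ℤ) ^ n ∣ c + d) :
    WR S n x y (el x y c d * z) where
  two_le := h.two_le
  comm := h.comm
  eq_iff := h.eq_iff
  ordz := by
    rw [show el x y c d * z = el x y c (-c) * z from (el_z_eq h).mpr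
      ⟨by simp, by rwa [show d - -c = c + d by ring]⟩]
    exact orderOf_elz_involution h c
  rel := by
    have e := conj_elz_el h c d 1 0
    rwa [el_x, el_y] at e
  card := h.card
  gen := by
    intro g
    obtain ⟨a, b, rfl | rfl⟩ := h.gen g
    · exact ⟨a, b, Or.inl rfl⟩
    · exact ⟨a - c, b - d, Or.inr (by rw [← mul_assoc, el_mul h, sub_add_cancel, sub_add_cancel])⟩
  ne := fun a b => el_z_ne h c d a b

/-- Adapted coordinates for a quaternion subgroup of order 8. -/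
theorem exists_coords (h : WR S n x y z) {Q : Subgroup S} (e : Q ≃* QuaternionGroup 2) :
    ∃ z', WR S n x y z' ∧ Q ⊔ Subgroup.center S = qz n x y z' ∧
      ∃ c d : ℤ, (2 : ℤ) ^ n ∣ c + d ∧ z' = el x y c d * z := by
  obtain ⟨a, c, d, -, -, hcd, hna, ha4, hQ⟩ := quaternion_gens h le_rfl Q e
  obtain ⟨q1, q2⟩ := quarter h
  push_cast at hcd hna ha4
  obtain ⟨t, ht⟩ : (2 : ℤ) ^ (n - 2) ∣ a := by
    rw [q2, mul_comm a] at ha4
    exact Int.dvd_of_mul_dvd_mul_left (by norm_num) ha4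
  have hodd : Odd t := by
    rcases Int.even_or_odd t with ⟨l, hl⟩ | ho
    · exact absurd ⟨l, by rw [q2, ht, hl]; ring⟩ hna
    · exact ho
  obtain ⟨l, rfl⟩ := hodd
  have hsum : (2 : ℤ) ^ n ∣ (c - 2 ^ (n - 1)) + d := by
    obtain ⟨m, hm⟩ := hcd
    exact ⟨m + l, by rw [q2] at hm ⊢; rw [q1]; rw [ht] at hm; linarith⟩
  have h' := shift h hsum
  refine ⟨_, h', ?_, c - 2 ^ (n - 1), d, hsum, rfl⟩
  unfold qz
  congr 1
  have hw : el x y (2 ^ (n - 1)) 0 * (el x y (c - 2 ^ (n - 1)) d * z) = el x y c d * z := by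
    rw [← mul_assoc, el_mul h, add_sub_cancel, zero_add]
  rw [hQ, hw]
  refine le_antisymm ((Subgroup.closure_le _).mpr ?_) ((Subgroup.closure_le _).mpr ?_)
  · rintro g (rfl | rfl)
    · have e1 : el x y a (-a) = el x y (2 ^ (n - 2)) (-2 ^ (n - 2)) ^ (2 * l + 1) := by
        rw [el_zpow h, ht, neg_mul]
      rw [e1]
      exact Subgroup.zpow_mem _ (Subgroup.subset_closure (Set.mem_insert _ _)) _
    · exact Subgroup.subset_closure (Or.inr rfl)
  · rintro g (rfl | rfl)
    · have e1 : el x y (2 ^ (n - 2)) (-2 ^ (n - 2)) = el x y a (-a) ^ (2 * l + 1) := by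
        rw [el_zpow h, h.eq_iff, q2, ht]
        exact ⟨⟨-(l * l + l), by ring⟩, ⟨l * l + l, by ring⟩⟩
      rw [e1]
      exact Subgroup.zpow_mem _ (Subgroup.subset_closure (Set.mem_insert _ _)) _
    · exact Subgroup.subset_closure (Or.inr rfl)

theorem centralizer_q8 (h : WR S n x y z) {Q : Subgroup S} (e : Q ≃* QuaternionGroup 2) {u : S}
    (hu : ∀ v ∈ Q, Commute u v) : u ∈ Subgroup.center S := by
  obtain ⟨a, c, d, hk, hw, -, hna, -, -⟩ := quaternion_gens h le_rfl Q e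
  obtain ⟨p, p', rfl | rfl⟩ := h.gen u
  · have h2 := (commute_el_elz h).mp (hu _ hw)
    refine (mem_center_iff h).mpr ⟨p', (h.eq_iff _ _ _ _).mpr ⟨h2, by simp⟩⟩
  · exfalso
    apply hna
    have h2 := (commute_el_elz h).mp (hu _ hk).symm
    push_cast
    rwa [show a - -a = a * 2 by ring] at h2

theorem qz_conj (h : WR S n x y z) {c d : ℤ} (hcd : (2 : ℤ) ^ n ∣ c + d) :
    ∃ s : S, (qz n x y z).map (MulAut.conj s).toMonoidHom = qz n x y (el x y c d * z) := by
  refine ⟨el x y c 0, ?_⟩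
  have hz : (Subgroup.center S).map (MulAut.conj (el x y c 0)).toMonoidHom = Subgroup.center S := by
    refine Subgroup.eq_of_le_of_card_ge ?_ ?_
    · rintro _ ⟨u, hu, rfl⟩
      exact (inferInstance : (Subgroup.center S).Normal).conj_mem u hu _
    · rw [Subgroup.card_map_of_injective (MulAut.conj _).injective]
  have he : el x y c 0 * (el x y (2 ^ (n - 1)) 0 * z) * (el x y c 0)⁻¹ =
      el x y (2 ^ (n - 1)) 0 * (el x y c d * z) := by
    rw [conj_el_elz h, ← mul_assoc, el_mul h, el_z_eq h]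
    constructor
    · rw [show (2 : ℤ) ^ (n - 1) + c - 0 - (2 ^ (n - 1) + c) = 0 by ring]; simp
    · rwa [show (0 : ℤ) + 0 - c - (0 + d) = -(c + d) by ring, dvd_neg]
  unfold qz
  rw [Subgroup.map_sup, hz, MonoidHom.map_closure, Set.image_pair]
  simp only [MulEquiv.coe_toMonoidHom, MulAut.conj_apply, conj_el_el h, he]

end CfsgLib.TwoGroups.WR
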