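import Mathlib

/-!
Anisotropic quadratic maps `q : W → V` between elementary abelian 2-groups (written
multiplicatively) all of whose non-trivial fibres have one size: an isometry of odd order with a
non-trivial fixed vector is trivial.
-/

set_option autoImplicit false

namespace CfsgLib.AnisotropicForm

open Finset

variable {V : Type*} [CommGroup V]

/-- The sign of a character at a point. -/
noncomputable def sgn (ψ : AddChar (Additive V) ℂ) (v : V) : ℤ :=
  if ψ (Additive.ofMul v) = 1 then 1 else -1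

theorem sgn_cast (hV : ∀ v : V, v * v = 1) (ψ : AddChar (Additive V) ℂ) (v : V) :
    (sgn ψ v : ℂ) = ψ (Additive.ofMul v) := by
  have h : ψ (Additive.ofMul v) * ψ (Additive.ofMul v) = 1 := by
    rw [← ψ.map_add_eq_mul, ← ofMul_mul, hV, ofMul_one, ψ.map_zero_eq_one]
  rcases mul_self_eq_one_iff.1 h with h1 | h1
  · simp [sgn, h1]
  · rw [sgn, h1, if_neg (by norm_num)]; simp

theorem sgn_mul (hV : ∀ v : V, v * v = 1) (ψ : AddChar (Additive V) ℂ) (u v : V) :
    sgn ψ (u * v) = sgn ψ u * sgn ψ v := by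
  apply @Int.cast_injective ℂ
  push_cast
  rw [sgn_cast hV, sgn_cast hV, sgn_cast hV, ofMul_mul, ψ.map_add_eq_mul]

theorem sgn_one (ψ : AddChar (Additive V) ℂ) : sgn ψ 1 = 1 := by simp [sgn]

theorem sgn_sq (ψ : AddChar (Additive V) ℂ) (v : V) : sgn ψ v * sgn ψ v = 1 := by
  unfold sgn; split_ifs <;> rfl

theorem exists_sgn_ne_one {ψ : AddChar (Additive V) ℂ} (hψ : ψ ≠ 0) : ∃ v : V, sgn ψ v ≠ 1 := by
  obtain ⟨a, ha⟩ := AddChar.ne_zero_iff.1 hψ
  exact ⟨a.toMul, by simp [sgn, ha]⟩

/-- A multiplicative integer-valued function sums to the order or to zero. -/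
theorem card_dvd_sum {C : Type*} [Group C] [Fintype C] (χ : C → ℤ)
    (hχ : ∀ a b, χ (a * b) = χ a * χ b) : (Fintype.card C : ℤ) ∣ ∑ c, χ c := by
  by_cases h : ∀ c, χ c = 1
  · simp [h]
  push Not at h
  obtain ⟨e, he⟩ := h
  have h1 : χ e * ∑ c, χ c = ∑ c, χ c := by
    rw [Finset.mul_sum]
    exact Fintype.sum_equiv (Equiv.mulLeft e) _ _ (fun c => (hχ e c).symm)
  have h2 : (χ e - 1) * ∑ c, χ c = 0 := by rw [sub_mul, one_mul, h1, sub_self]
  rw [(mul_eq_zero.1 h2).resolve_left (sub_ne_zero.2 he)]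
  exact dvd_zero _

theorem sum_sgn_eq_zero [Fintype V] (hV : ∀ v : V, v * v = 1) {ψ : AddChar (Additive V) ℂ}
    (hψ : ψ ≠ 0) : ∑ v, sgn ψ v = 0 := by
  obtain ⟨e, he⟩ := exists_sgn_ne_one hψ
  have h1 : sgn ψ e * ∑ v, sgn ψ v = ∑ v, sgn ψ v := by
    rw [Finset.mul_sum]
    exact Fintype.sum_equiv (Equiv.mulLeft e) _ _ (fun c => (sgn_mul hV ψ e c).symm)
  have h2 : (sgn ψ e - 1) * ∑ v, sgn ψ v = 0 := by rw [sub_mul, one_mul, h1, sub_self]
  exact (mul_eq_zero.1 h2).resolve_left (sub_ne_zero.2 he)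

/-- The Gauss sum of `q` at `ψ`. -/
noncomputable def gsum {C : Type*} [Fintype C] (ψ : AddChar (Additive V) ℂ) (q : C → V) : ℤ :=
  ∑ c, sgn ψ (q c)

/-- The square of a Gauss sum is divisible by the order. -/
theorem card_dvd_gsum_sq {C : Type*} [Group C] [Fintype C] (hV : ∀ v : V, v * v = 1)
    (ψ : AddChar (Additive V) ℂ) (q : C → V)
    (hB : ∀ a b d, q (a * b * d) * q (a * b) * q d =
      (q (a * d) * q a * q d) * (q (b * d) * q b * q d)) :
    (Fintype.card C : ℤ) ∣ gsum ψ q * gsum ψ q := by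
  have h1 : gsum ψ q * gsum ψ q
      = ∑ d, sgn ψ (q d) * ∑ c, sgn ψ (q (c * d) * q c * q d) := by
    calc gsum ψ q * gsum ψ q = ∑ c, ∑ d, sgn ψ (q c) * sgn ψ (q (c * d)) := by
          rw [gsum, Finset.sum_mul]
          refine Finset.sum_congr rfl fun c _ => ?_
          rw [Finset.mul_sum]
          exact (Fintype.sum_equiv (Equiv.mulLeft c) _ _ fun d => rfl).symm
      _ = ∑ d, ∑ c, sgn ψ (q c) * sgn ψ (q (c * d)) := Finset.sum_comm
      _ = _ := by
          refine Finset.sum_congr rfl fun d _ => ?_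
          rw [Finset.mul_sum]
          refine Finset.sum_congr rfl fun c _ => ?_
          rw [sgn_mul hV, sgn_mul hV]
          linear_combination (-(sgn ψ (q c) * sgn ψ (q (c * d)))) * sgn_sq ψ (q d)
  rw [h1]
  refine Finset.dvd_sum fun d _ => Dvd.dvd.mul_left (card_dvd_sum _ fun a b => ?_) _
  rw [hB, sgn_mul hV]

variable [Fintype V]

/-- A map with one trivial value and equal non-trivial fibres: its order and its Gauss sums. -/
theorem card_and_gsum {C : Type*} [One C] [Fintype C] [DecidableEq V] (hV : ∀ v : V, v * v = 1)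
    (q : C → V) (hzero : ∀ c, q c = 1 ↔ c = 1) {f : ℕ}
    (hfib : ∀ v, v ≠ 1 → (univ.filter fun c => q c = v).card = f) :
    Fintype.card C = 1 + f * (Fintype.card V - 1) ∧
      ∀ ψ : AddChar (Additive V) ℂ, ψ ≠ 0 → gsum ψ q = 1 - (f : ℤ) := by
  classical
  have h0 : (univ.filter fun c => q c = 1).card = 1 := by
    rw [Finset.card_eq_one]
    exact ⟨1, by ext c; simp [hzero]⟩
  have hf : ∀ v, (univ.filter fun c => q c = v).card = if v = 1 then 1 else f := by
    intro v
    split_ifs with h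
    · rw [h, h0]
    · exact hfib v h
  constructor
  · rw [← Finset.card_univ, Finset.card_eq_sum_card_fiberwise (f := q) (t := univ) (by simp),
      ← Finset.add_sum_erase univ _ (mem_univ (1 : V)), h0,
      Finset.sum_congr rfl (fun v hv => hfib v (Finset.ne_of_mem_erase hv)), Finset.sum_const,
      Finset.card_erase_of_mem (mem_univ _), Finset.card_univ, smul_eq_mul, mul_comm]
  · intro ψ hψ
    have h1 : gsum ψ q = ∑ v, ((univ.filter fun c => q c = v).card : ℤ) * sgn ψ v := by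
      rw [gsum, ← Finset.sum_fiberwise univ q fun c => sgn ψ (q c)]
      refine Finset.sum_congr rfl fun v _ => ?_
      rw [Finset.sum_congr rfl (fun c hc => by rw [(Finset.mem_filter.1 hc).2]), Finset.sum_const,
        nsmul_eq_mul]
    have h2 := Finset.add_sum_erase univ (fun v => sgn ψ v) (mem_univ (1 : V))
    rw [sum_sgn_eq_zero hV hψ, sgn_one] at h2
    rw [h1, ← Finset.add_sum_erase univ _ (mem_univ (1 : V)), h0, sgn_one,
      Finset.sum_congr rfl (fun v hv => by rw [hfib v (Finset.ne_of_mem_erase hv)]),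
      ← Finset.mul_sum]
    linear_combination (f : ℤ) * h2

/-- An anisotropic map of maximal size has no orthogonal decomposition. -/
theorem no_orthogonal_decomposition {C D : Type*} [Group C] [Group D] [Fintype C] [Fintype D]
    [DecidableEq V] (hV : ∀ v : V, v * v = 1) (qC : C → V) (qD : D → V)
    (hBC : ∀ a b d, qC (a * b * d) * qC (a * b) * qC d =
      (qC (a * d) * qC a * qC d) * (qC (b * d) * qC b * qC d))
    (hBD : ∀ a b d, qD (a * b * d) * qD (a * b) * qD d =
      (qD (a * d) * qD a * qD d) * (qD (b * d) * qD b * qD d))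
    {f m n : ℕ} (hn : Fintype.card V = 2 ^ n) (hm : Fintype.card C = 2 ^ m)
    (hm1 : 1 ≤ m) (hmn : m < 2 * n) (hcard : Fintype.card C * Fintype.card D = 2 ^ (2 * n))
    (hqD : qD 1 = 1)
    (hzero : ∀ p : C × D, qC p.1 * qD p.2 = 1 ↔ p = 1)
    (hfib : ∀ v, v ≠ 1 → (univ.filter fun p : C × D => qC p.1 * qD p.2 = v).card = f) :
    False := by
  classical
  obtain ⟨hc, hs⟩ := card_and_gsum hV (fun p : C × D => qC p.1 * qD p.2) hzero hfib
  have hn1 : 1 ≤ n := by omega
  have h2n : (2 : ℕ) ^ (2 * n) = 2 ^ n * 2 ^ n := by rw [two_mul, pow_add]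
  have hq2 : 2 ≤ 2 ^ n := by
    calc 2 = 2 ^ 1 := rfl
      _ ≤ _ := Nat.pow_le_pow_right (by norm_num) hn1
  have hf : (f : ℤ) = 2 ^ n + 1 := by
    rw [Fintype.card_prod, hcard, hn, h2n] at hc
    have e : ((2 : ℤ) ^ n) * 2 ^ n = 1 + f * (2 ^ n - 1) := by
      have h := congrArg (fun k : ℕ => (k : ℤ)) hc
      push_cast [Nat.cast_sub (show 1 ≤ 2 ^ n by omega)] at h
      exact h
    have hne : ((2 : ℤ) ^ n - 1) ≠ 0 := by
      have : (2 : ℤ) ≤ 2 ^ n := by exact_mod_cast hq2
      omega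
    apply mul_right_cancel₀ hne
    linear_combination -e
  have hprod : ∀ ψ : AddChar (Additive V) ℂ, ψ ≠ 0 → gsum ψ qC * gsum ψ qD = -(2 ^ n : ℤ) := by
    intro ψ hψ
    have h1 : gsum ψ (fun p : C × D => qC p.1 * qD p.2) = gsum ψ qC * gsum ψ qD := by
      simp only [gsum, Fintype.sum_prod_type, sgn_mul hV]
      exact (Finset.sum_mul_sum _ _ _ _).symm
    rw [← h1, hs ψ hψ, hf]; ring
  have hsq : ∀ ψ : AddChar (Additive V) ℂ, ψ ≠ 0 → gsum ψ qC * gsum ψ qC = (2 : ℤ) ^ m := by
    intro ψ hψ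
    obtain ⟨x, hx⟩ := card_dvd_gsum_sq hV ψ qC hBC
    obtain ⟨y, hy⟩ := card_dvd_gsum_sq hV ψ qD hBD
    have hxy : x * y = 1 := by
      have hne : ((Fintype.card C : ℤ) * Fintype.card D) ≠ 0 := by
        exact_mod_cast (by rw [hcard]; positivity : Fintype.card C * Fintype.card D ≠ 0)
      apply mul_left_cancel₀ hne
      have h3 : ((Fintype.card C : ℤ) * Fintype.card D) = (2 : ℤ) ^ n * 2 ^ n := by
        exact_mod_cast hcard.trans h2n
      have h4 : (gsum ψ qC * gsum ψ qC) * (gsum ψ qD * gsum ψ qD) = (2 : ℤ) ^ n * 2 ^ n := by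
        rw [mul_mul_mul_comm, hprod ψ hψ]; ring
      rw [hx, hy] at h4
      linear_combination h4 - h3
    rcases Int.eq_one_or_neg_one_of_mul_eq_one hxy with rfl | rfl
    · rw [hx, hm]; simp
    · exfalso
      have := mul_self_nonneg (gsum ψ qC)
      rw [hx, hm] at this
      push_cast at this
      have : (0 : ℤ) < 2 ^ m := by positivity
      omega
  -- the absolute value is a power of 2
  have hAne : (univ.erase (0 : AddChar (Additive V) ℂ)).Nonempty := by
    rw [← Finset.card_pos, Finset.card_erase_of_mem (mem_univ _), Finset.card_univ, AddChar.card_eq,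
      Fintype.card_additive, hn]
    omega
  obtain ⟨ψ0, hψ0⟩ := hAne
  have h0 := hsq ψ0 (Finset.ne_of_mem_erase hψ0)
  have h0' : (gsum ψ0 qC).natAbs * (gsum ψ0 qC).natAbs = 2 ^ m := by
    rw [← Int.natAbs_mul, h0, Int.natAbs_pow]; rfl
  obtain ⟨a, -, ha⟩ := (Nat.dvd_prime_pow Nat.prime_two).1 (Dvd.intro _ h0')
  rw [ha, ← pow_add] at h0'
  have hma : m = a + a := (Nat.pow_right_injective le_rfl h0').symm
  have habs : ∀ ψ : AddChar (Additive V) ℂ, ψ ≠ 0 →
      gsum ψ qC = 2 ^ a ∨ gsum ψ qC = -2 ^ a := by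
    intro ψ hψ
    refine mul_self_eq_mul_self_iff.1 ?_
    rw [hsq ψ hψ, hma, pow_add]
  -- summing over all characters
  have htot : ∑ ψ : AddChar (Additive V) ℂ, gsum ψ qC = (2 : ℤ) ^ n := by
    apply @Int.cast_injective ℂ
    simp only [gsum, Int.cast_sum, sgn_cast hV]
    rw [Finset.sum_comm]
    simp only [AddChar.sum_apply_eq_ite]
    rw [Finset.sum_eq_single (1 : C)]
    · have h1 : qC 1 = 1 := by
        have := (hzero 1).2 rfl
        simpa [hqD] using this
      simp [h1, hn]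
    · intro c _ hc1
      rw [if_neg]
      intro h
      have h1 : qC c = 1 := by simpa using h
      exact hc1 (congrArg Prod.fst ((hzero (c, 1)).1 (by simp [h1, hqD])))
    · simp
  have hψz : gsum (0 : AddChar (Additive V) ℂ) qC = (2 : ℤ) ^ m := by
    simp [gsum, sgn, hm]
  rw [← Finset.add_sum_erase univ _ (mem_univ (0 : AddChar (Additive V) ℂ)), hψz] at htot
  -- parity
  have hpar : ∀ s : Finset (AddChar (Additive V) ℂ), 0 ∉ s →
      ∃ k : ℤ, ∑ ψ ∈ s, gsum ψ qC = 2 ^ a * (2 * k + s.card) := by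
    intro s
    induction s using Finset.induction_on with
    | empty => intro _; exact ⟨0, by simp⟩
    | insert x s hx ih =>
      intro h
      rw [Finset.mem_insert, not_or] at h
      obtain ⟨k, hk⟩ := ih h.2
      rw [Finset.sum_insert hx, hk, Finset.card_insert_of_notMem hx]
      rcases habs x (Ne.symm h.1) with e | e <;> rw [e]
      · exact ⟨k, by push_cast; ring⟩
      · exact ⟨k - 1, by push_cast; ring⟩
  obtain ⟨k, hk⟩ := hpar (univ.erase 0) (Finset.notMem_erase _ _)
  rw [hk, Finset.card_erase_of_mem (mem_univ _), Finset.card_univ, AddChar.card_eq,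
    Fintype.card_additive, hn, hma] at htot
  push_cast [Nat.cast_sub (show 1 ≤ 2 ^ n by omega)] at htot
  have han : a < n := by omega
  obtain ⟨j, rfl⟩ : ∃ j, n = a + (j + 1) := ⟨n - a - 1, by omega⟩
  obtain ⟨i, rfl⟩ : ∃ i, a = i + 1 := ⟨a - 1, by omega⟩
  have h3 : (2 : ℤ) ^ (i + 1) + (2 * k + ((2 : ℤ) ^ (i + 1) * 2 ^ (j + 1) - 1)) = 2 ^ (j + 1) := by
    apply mul_left_cancel₀ (pow_ne_zero (i + 1) (two_ne_zero : (2 : ℤ) ≠ 0))
    rw [pow_add _ (i + 1) (j + 1)] at htot
    rw [pow_add _ (i + 1) (i + 1)] at htot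
    linear_combination htot
  have h4 : (2 : ℤ) ∣ 1 := ⟨2 ^ i + k + 2 ^ i * 2 ^ (j + 1) - 2 ^ j, by
    simp only [pow_succ] at h3 ⊢
    linear_combination -h3⟩
  norm_num at h4

variable {W : Type*} [CommGroup W] [Fintype W]

/-- An isometry of odd order of an anisotropic map with equal fibres, fixing a non-trivial
vector, is trivial. -/
theorem isometry_eq_one [DecidableEq V] (hV : ∀ v : V, v * v = 1) (hW : ∀ w : W, w * w = 1)
    (hV4 : 4 ≤ Fintype.card V) (q : W → V) (hzero : ∀ w, q w = 1 ↔ w = 1)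
    (hB : ∀ a b d, q (a * b * d) * q (a * b) * q d =
      (q (a * d) * q a * q d) * (q (b * d) * q b * q d))
    (hsurj : ∀ v, ∃ w, q w = v)
    (hequi : ∀ u v, u ≠ 1 → v ≠ 1 →
      (univ.filter fun w => q w = u).card = (univ.filter fun w => q w = v).card)
    (l : MulAut W) (hl : ∀ w, q (l w) = q w) {k : ℕ} (hk : Odd k) (hlk : l ^ k = 1)
    {w0 : W} (hw0 : w0 ≠ 1) (hfix : l w0 = w0) : l = 1 := by
  classical
  obtain ⟨v1, hv1⟩ : ∃ v : V, v ≠ 1 :=
    haveI : Nontrivial V := Fintype.one_lt_card_iff_nontrivial.1 (by omega)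
    exists_ne 1
  set f := (univ.filter fun w => q w = v1).card with hfdef
  have hfib : ∀ v, v ≠ 1 → (univ.filter fun w => q w = v).card = f := fun v hv => hequi v v1 hv hv1
  obtain ⟨hc, hs⟩ := card_and_gsum hV q hzero hfib
  by_cases hf1 : f = 1
  · ext w
    show l w = w
    rcases eq_or_ne (q w) 1 with h | h
    · rw [(hzero w).1 h, map_one]
    · have hone := hfib (q w) h
      rw [hf1, Finset.card_eq_one] at hone
      obtain ⟨x, hx⟩ := hone
      have h1 : l w ∈ univ.filter fun w' => q w' = q w := by simp [hl]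
      have h2 : w ∈ univ.filter fun w' => q w' = q w := by simp
      rw [hx, Finset.mem_singleton] at h1 h2
      rw [h1, ← h2]
  have hpV : IsPGroup 2 V := fun v => ⟨1, by rw [pow_one, sq, hV]⟩
  have hpW : IsPGroup 2 W := fun v => ⟨1, by rw [pow_one, sq, hW]⟩
  obtain ⟨n, hn⟩ := hpV.exists_card_eq
  obtain ⟨m, hm⟩ := hpW.exists_card_eq
  rw [Nat.card_eq_fintype_card] at hn hm
  have hnm : n ≤ m := by
    have := Fintype.card_le_of_surjective q hsurj
    rwa [hn, hm, Nat.pow_le_pow_iff_right (by norm_num)] at this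
  have hq4 : (4 : ℤ) ≤ 2 ^ n := by exact_mod_cast hn ▸ hV4
  -- the size of `W`
  have hm2 : m = 2 * n := by
    have hcz : (2 : ℤ) ^ m = 1 + f * (2 ^ n - 1) := by
      have h := congrArg (fun x : ℕ => (x : ℤ)) hc
      rw [hm, hn] at h
      push_cast [Nat.cast_sub (show 1 ≤ 2 ^ n from Nat.one_le_two_pow)] at h
      exact h
    obtain ⟨j, rfl⟩ : ∃ j, m = n + j := ⟨m - n, by omega⟩
    rw [pow_add] at hcz
    set a : ℤ := (f : ℤ) - 2 ^ j with hadef
    have hfa : (f : ℤ) = 1 + 2 ^ n * a := by rw [hadef]; linear_combination hcz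
    have hj : (2 : ℤ) ^ j = 1 + (2 ^ n - 1) * a := by
      linear_combination (1 : ℤ) * hfa - hadef
    have ha0 : 0 < a := by
      rcases lt_trichotomy a 0 with h | h | h
      · have : (0 : ℤ) < 2 ^ j := by positivity
        nlinarith
      · rw [h, mul_zero, add_zero] at hfa
        exact absurd (by exact_mod_cast hfa) hf1
      · exact h
    have hjn : n ≤ j := by
      by_contra hlt
      have : (2 : ℤ) ^ j ≤ 2 ^ (n - 1) := pow_le_pow_right₀ (by norm_num) (by omega)
      have h2 : (2 : ℤ) ^ n = 2 ^ (n - 1) * 2 := by rw [← pow_succ]; congr 1; omega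
      nlinarith
    have hodd : ¬ (2 : ℤ) ∣ a := by
      rintro ⟨b, hb⟩
      obtain ⟨j', rfl⟩ : ∃ j', j = j' + 1 :=
        ⟨j - 1, by rcases n with _ | n <;> [norm_num at hq4; omega]⟩
      rw [hb] at hj
      have : (2 : ℤ) ∣ 1 := ⟨2 ^ j' - (2 ^ n - 1) * b, by rw [pow_succ] at hj; linear_combination -hj⟩
      norm_num at this
    obtain ⟨ψ, hψ⟩ : ∃ ψ : AddChar (Additive V) ℂ, ψ ≠ 0 :=
      haveI : Nontrivial (AddChar (Additive V) ℂ) := Fintype.one_lt_card_iff_nontrivial.1
        (by rw [AddChar.card_eq, Fintype.card_additive]; omega)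
      exists_ne 0
    have hd := card_dvd_gsum_sq hV ψ q hB
    rw [hs ψ hψ, hm, hfa] at hd
    push_cast at hd
    rw [show (1 - (1 + (2 : ℤ) ^ n * a)) * (1 - (1 + (2 : ℤ) ^ n * a)) = 2 ^ (2 * n) * (a * a) by
      ring] at hd
    have hcop : IsCoprime ((2 : ℤ) ^ (n + j)) (a * a) := by
      have h2 : IsCoprime (2 : ℤ) a :=
        (Int.prime_two.coprime_iff_not_dvd).2 hodd
      exact (h2.mul_right h2).pow_left
    have hd2 := hcop.dvd_of_dvd_mul_right hd
    have := Int.le_of_dvd (by positivity) hd2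
    rw [pow_le_pow_iff_right₀ (by norm_num)] at this
    omega
  -- the decomposition
  let δ : W →* W := MonoidHom.mk' (fun w => l w * w) fun a b => by rw [map_mul, mul_mul_mul_comm]
  by_contra hl1
  have hinv : ∀ w : W, w⁻¹ = w := fun w => inv_eq_of_mul_eq_one_right (hW w)
  have hfx : ∀ c ∈ δ.ker, l c = c := fun c hc => by
    have : l c * c = 1 := hc
    rw [mul_eq_one_iff_eq_inv, hinv] at this
    exact this
  have horth : ∀ c ∈ δ.ker, ∀ d ∈ δ.range, q (c * d) = q c * q d := by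
    intro c hc _ ⟨w, hw⟩
    subst hw
    show q (c * (l w * w)) = q c * q (l w * w)
    have h1 := hB (l w) w c
    have h2 : q (l w * c) = q (w * c) := by
      conv_lhs => rw [← hfx c hc, ← map_mul, hl]
    rw [h2, hl w, hV (q (w * c) * q w * q c)] at h1
    rw [mul_comm c]
    rw [mul_comm (q c), ← mul_left_inj (q (l w * w) * q c), hV, ← mul_assoc]
    exact h1
  have hdisj : ∀ c ∈ δ.ker, c ∈ δ.range → c = 1 := by
    rintro c hc ⟨w, hw⟩
    have hw' : l w = c * w := by
      rw [← hw]; show l w = l w * w * w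
      rw [mul_assoc, hW, mul_one]
    have h2 : (l ^ 2) w = w := by
      rw [pow_two, MulAut.mul_apply, hw', map_mul, hfx c hc, hw', ← mul_assoc, hW, one_mul]
    obtain ⟨i, hi⟩ := hk
    have hiter : ∀ i : ℕ, (l ^ (2 * i)) w = w := by
      intro i
      induction i with
      | zero => simp
      | succ i ih => rw [Nat.mul_succ, pow_add, MulAut.mul_apply, h2, ih]
    have hlw : l w = w := by
      have : (l ^ k) w = w := by rw [hlk]; rfl
      rw [hi, pow_succ', MulAut.mul_apply, hiter] at this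
      exact this
    rw [← hw]; show l w * w = 1
    rw [hlw, hW]
  let e : δ.ker × δ.range → W := fun p => p.1.1 * p.2.1
  have hcard : Fintype.card δ.ker * Fintype.card δ.range = Fintype.card W := by
    simp only [← Nat.card_eq_fintype_card]
    rw [← Subgroup.index_ker, Subgroup.card_mul_index]
  have hinj : Function.Injective e := by
    rintro ⟨⟨c, hc⟩, ⟨d, hd⟩⟩ ⟨⟨c', hc'⟩, ⟨d', hd'⟩⟩ h
    have h' : c * d = c' * d' := h
    have h1 : c'⁻¹ * c = d' * d⁻¹ := by
      rw [eq_mul_inv_iff_mul_eq, mul_assoc, h', inv_mul_cancel_left]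
    have h2 := hdisj _ (δ.ker.mul_mem (δ.ker.inv_mem hc') hc)
      (h1 ▸ δ.range.mul_mem hd' (δ.range.inv_mem hd))
    rw [inv_mul_eq_one] at h2
    subst h2
    exact Prod.ext rfl (Subtype.ext (mul_left_cancel h'))
  have hbij : Function.Bijective e := (Fintype.bijective_iff_injective_and_card e).2
    ⟨hinj, by rw [Fintype.card_prod, hcard]⟩
  have hqe : ∀ p, q (e p) = q p.1.1 * q p.2.1 := fun p => horth _ p.1.2 _ p.2.2
  obtain ⟨mc, hmc⟩ := (hpW.to_subgroup δ.ker).exists_card_eq
  rw [Nat.card_eq_fintype_card] at hmc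
  have hC1 : 1 ≤ mc := by
    rcases Nat.eq_zero_or_pos mc with h | h
    · exfalso
      rw [h, pow_zero, Fintype.card_eq_one_iff] at hmc
      obtain ⟨x, hx⟩ := hmc
      have h1 := hx ⟨w0, by show l w0 * w0 = 1; rw [hfix, hW]⟩
      exact hw0 (congrArg Subtype.val (h1.trans (hx 1).symm))
    · exact h
  have hC2 : mc < 2 * n := by
    by_contra h
    have hle : Fintype.card W ≤ Fintype.card δ.ker := by
      rw [hmc, hm, hm2]; exact Nat.pow_le_pow_right (by norm_num) (not_lt.1 h)
    have heq : Fintype.card δ.ker = Fintype.card W :=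
      le_antisymm (Fintype.card_subtype_le _) hle
    refine hl1 (MulEquiv.ext fun w => hfx w ?_)
    have : δ.ker = ⊤ := Subgroup.eq_top_of_card_eq _ (by
      simpa only [Nat.card_eq_fintype_card] using heq)
    rw [this]; trivial
  refine no_orthogonal_decomposition (C := δ.ker) (D := δ.range) hV (fun c => q c.1)
    (fun d => q d.1) (fun a b d => hB a.1 b.1 d.1) (fun a b d => hB a.1 b.1 d.1) (f := f) hn hmc
    hC1 hC2 (by rw [hcard, hm, hm2]) ((hzero 1).2 rfl) (fun p => ?_) (fun v hv => ?_)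
  · show q p.1.1 * q p.2.1 = 1 ↔ p = 1
    rw [← hqe, hzero]
    exact ⟨fun h => hinj (h.trans (by simp [e])), fun h => by subst h; simp [e]⟩
  · rw [← hfib v hv]
    refine Finset.card_bij (fun p _ => e p) (fun p hp => ?_) (fun _ _ _ _ h => hinj h) (fun w hw => ?_)
    · simpa [hqe] using hp
    · obtain ⟨p, rfl⟩ := hbij.2 w
      exact ⟨p, by simpa [hqe] using hw, rfl⟩

end CfsgLib.AnisotropicForm
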