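import Mathlib
import Cfsg.Prelude.Def_CaseTheorems

/-!
Elementary facts on finite 2-groups, indices and ranks.
-/

set_option autoImplicit false

namespace CfsgLib.TwoGroups

/-- A hom into a 2-group is trivial when the source has no subgroup of index 2. -/
theorem hom_eq_one_of_no_index_two {G P : Type*} [Group G] [Group P] [Finite P]
    (hP : IsPGroup 2 P) (hG : ∀ H : Subgroup G, H.index ≠ 2) (f : G →* P) (g : G) : f g = 1 := by
  have : Fact (Nat.Prime 2) := ⟨Nat.prime_two⟩
  obtain ⟨j, hj⟩ := (hP.to_subgroup f.range).exists_card_eq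
  rcases j with _ | j
  · have h1 : f.range = ⊥ := Subgroup.eq_bot_of_card_eq _ (by simpa using hj)
    have h2 : f g ∈ f.range := ⟨g, rfl⟩
    rw [h1] at h2
    exact Subgroup.mem_bot.1 h2
  · exfalso
    obtain ⟨K, hK⟩ := Sylow.exists_subgroup_card_pow_prime (G := f.range) 2 (n := j)
      (hj ▸ pow_dvd_pow 2 (Nat.le_succ j))
    have h1 : K.index = 2 := by
      have := K.card_mul_index
      rw [hj, hK, pow_succ] at this
      exact Nat.eq_of_mul_eq_mul_left (pow_pos two_pos j) this
    apply hG (K.comap f.rangeRestrict)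
    rw [K.index_comap_of_surjective f.rangeRestrict_surjective, h1]

/-- A product over a finite type of elements outside a subgroup of index 2 lies in it iff the number
of factors is even. -/
theorem prod_mem_iff_even_of_index_two {V : Type*} [CommGroup V] {W : Subgroup V} (hW : W.index = 2)
    {ι : Type*} (s : Finset ι) (f : ι → V) (hf : ∀ i ∈ s, f i ∉ W) :
    (∏ i ∈ s, f i) ∈ W ↔ Even s.card := by
  classical
  induction s using Finset.induction_on with
  | empty => simp [W.one_mem]
  | insert a s ha ih =>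
    rw [Finset.prod_insert ha, Finset.card_insert_of_notMem ha,
      Subgroup.mul_mem_iff_of_index_two hW, ih (fun i hi => hf i (Finset.mem_insert_of_mem hi)),
      Nat.even_add_one]
    have := hf a (Finset.mem_insert_self a s)
    tauto

/-- `PRankLE` for a subgroup, in terms of the ambient group. -/
theorem pRankLE_subgroup_iff {G : Type*} [Group G] (p k : ℕ) (H : Subgroup G) :
    Cfsg.PRankLE p k H ↔ ∀ A : Subgroup G, A ≤ H → IsMulCommutative A →
      (∀ a ∈ A, a ^ p = 1) → Nat.card A ≤ p ^ k := by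
  constructor
  · intro h A hAH hc he
    have hc' : IsMulCommutative (A.subgroupOf H) := by
      refine ⟨⟨fun x y => ?_⟩⟩
      apply Subtype.ext
      apply Subtype.ext
      have := hc.is_comm.comm (⟨((x : H) : G), x.2⟩ : A) ⟨((y : H) : G), y.2⟩
      simpa using congrArg Subtype.val this
    have h1 := h (A.subgroupOf H) hc' (fun a ha => Subtype.ext (by simpa using he _ ha))
    rwa [Nat.card_congr (Subgroup.subgroupOfEquivOfLe hAH).toEquiv] at h1
  · intro h A hc he
    rw [Nat.card_congr (A.equivMapOfInjective H.subtype H.subtype_injective).toEquiv]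
    refine h _ (Subgroup.map_subtype_le A) ⟨⟨fun x y => Subtype.ext ?_⟩⟩ ?_
    · obtain ⟨x', hx', hxe⟩ := x.2
      obtain ⟨y', hy', hye⟩ := y.2
      have := congrArg (fun z : A => ((z : H) : G)) (hc.is_comm.comm ⟨x', hx'⟩ ⟨y', hy'⟩)
      simpa [← hxe, ← hye] using this
    · rintro _ ⟨a, ha, rfl⟩
      simpa using congrArg (H.subtype) (he a ha)

/-- `Ω₁` of a commutative subgroup. -/
def omegaTwo {G : Type*} [Group G] (S : Subgroup G) (hS : IsMulCommutative S) : Subgroup G where
  carrier := {x | x ∈ S ∧ x ^ 2 = 1}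
  one_mem' := ⟨S.one_mem, one_pow 2⟩
  mul_mem' {a b} ha hb := by
    refine ⟨S.mul_mem ha.1 hb.1, ?_⟩
    have h : Commute a b := congrArg Subtype.val (hS.is_comm.comm ⟨a, ha.1⟩ ⟨b, hb.1⟩)
    rw [h.mul_pow, ha.2, hb.2, one_mul]
  inv_mem' {a} ha := ⟨S.inv_mem ha.1, by rw [inv_pow, ha.2, inv_one]⟩

theorem omegaTwo_card_pow {G : Type*} [Group G] [Finite G] (S : Subgroup G)
    (hS : IsMulCommutative S) : ∃ j, Nat.card (omegaTwo S hS) = 2 ^ j := by
  have : Fact (Nat.Prime 2) := ⟨Nat.prime_two⟩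
  exact IsPGroup.exists_card_eq (p := 2) (fun x => ⟨1, Subtype.ext (by simpa using x.2.2)⟩)

theorem omegaTwo_card_eq {G : Type*} [Group G] [Finite G] (S : Subgroup G)
    (hS : IsMulCommutative S) (r : ℕ) (hle : Cfsg.PRankLE 2 r S)
    (hlt : r = 0 ∨ ¬ Cfsg.PRankLE 2 (r - 1) S) : Nat.card (omegaTwo S hS) = 2 ^ r := by
  have hc : IsMulCommutative (omegaTwo S hS) := ⟨⟨fun x y => Subtype.ext
    (congrArg Subtype.val (hS.is_comm.comm ⟨_, x.2.1⟩ ⟨_, y.2.1⟩) : )⟩⟩
  have h1 := (pRankLE_subgroup_iff 2 r S).1 hle (omegaTwo S hS) (fun x hx => hx.1) hc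
    (fun x hx => hx.2)
  obtain ⟨j, hj⟩ := omegaTwo_card_pow S hS
  rw [hj] at h1 ⊢
  have hjr : j ≤ r := (Nat.pow_le_pow_iff_right (by norm_num : 1 < 2)).1 h1
  by_contra hne
  have hjr' : j < r := lt_of_le_of_ne hjr (fun h => hne (by rw [h]))
  rcases hlt with rfl | hlt
  · omega
  · apply hlt
    rw [pRankLE_subgroup_iff]
    intro A hA _ he
    calc Nat.card A ≤ Nat.card (omegaTwo S hS) :=
          Subgroup.card_le_of_le (show A ≤ omegaTwo S hS from fun a ha => ⟨hA ha, he a ha⟩)
      _ = 2 ^ j := hj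
      _ ≤ 2 ^ (r - 1) := Nat.pow_le_pow_right (by norm_num) (by omega)

end CfsgLib.TwoGroups
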