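import Mathlib

/-!
The 2-part of the order of a general linear group in odd characteristic.
-/

set_option autoImplicit false

namespace CfsgLib.TwoGroups.GLTwoPart

/-- The exponent of the 2-part of the order of `GL_n(q)`, `q` odd. -/
def glVal (q n : ℕ) : ℕ :=
  (n + 1) / 2 * padicValNat 2 (q - 1) + n / 2 * padicValNat 2 (q ^ 2 - 1) +
    padicValNat 2 (n / 2).factorial

theorem v_pow_odd {q k : ℕ} (hq : 1 < q) (hodd : Odd q) (hk : Odd k) :
    padicValNat 2 (q ^ k - 1) = padicValNat 2 (q - 1) := by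
  classical
  have : Fact (Nat.Prime 2) := ⟨Nat.prime_two⟩
  have hs : Odd (∑ i ∈ Finset.range k, q ^ i) := by
    rw [Finset.odd_sum_iff_odd_card_odd, Finset.filter_true_of_mem fun i _ => hodd.pow,
      Finset.card_range]
    exact hk
  rw [← geom_sum_mul_of_one_le (x := q) (by omega) k,
    padicValNat.mul (fun h => by rw [h] at hs; exact absurd hs (by decide)) (by omega),
    padicValNat.eq_zero_of_not_dvd fun h => (Nat.not_even_iff_odd.2 hs) (even_iff_two_dvd.2 h),
    zero_add]

theorem v_pow_even {q j : ℕ} (hq : 1 < q) (hodd : Odd q) (hj : j ≠ 0) :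
    padicValNat 2 (q ^ (2 * j) - 1) = padicValNat 2 (q ^ 2 - 1) + padicValNat 2 j := by
  have : Fact (Nat.Prime 2) := ⟨Nat.prime_two⟩
  have hq2 : ¬ 2 ∣ q := fun h => (Nat.not_even_iff_odd.2 hodd) (even_iff_two_dvd.2 h)
  have h := padicValNat.pow_two_sub_one hq hq2 (n := 2 * j) (by omega) (even_two_mul j)
  have hfac : q ^ 2 - 1 = (q + 1) * (q - 1) := by simpa using Nat.sq_sub_sq q 1
  rw [hfac, padicValNat.mul (by omega) (by omega)]
  rw [padicValNat.mul two_ne_zero hj, padicValNat.self (by norm_num)] at h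
  omega

theorem prod_val {q : ℕ} (hq : 1 < q) (hodd : Odd q) (n : ℕ) :
    (∏ i ∈ Finset.range n, (q ^ n - q ^ i)) ≠ 0 ∧
      padicValNat 2 (∏ i ∈ Finset.range n, (q ^ n - q ^ i)) = glVal q n := by
  have : Fact (Nat.Prime 2) := ⟨Nat.prime_two⟩
  have hvq : padicValNat 2 q = 0 :=
    padicValNat.eq_zero_of_not_dvd fun h => (Nat.not_even_iff_odd.2 hodd) (even_iff_two_dvd.2 h)
  induction n with
  | zero => simp [glVal]
  | succ n ih =>
    have hstep : (∏ i ∈ Finset.range (n + 1), (q ^ (n + 1) - q ^ i)) =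
        q ^ n * (∏ i ∈ Finset.range n, (q ^ n - q ^ i)) * (q ^ (n + 1) - 1) := by
      rw [Finset.prod_range_succ', pow_zero]
      congr 1
      rw [show q ^ n = ∏ _i ∈ Finset.range n, q by simp, ← Finset.prod_mul_distrib]
      refine Finset.prod_congr rfl fun i _ => ?_
      rw [Finset.prod_const, Finset.card_range, Nat.mul_sub, ← pow_succ', ← pow_succ']
    have hne : q ^ (n + 1) - 1 ≠ 0 := by
      have : 1 < q ^ (n + 1) := Nat.one_lt_pow (by omega) hq
      omega
    have hqn : q ^ n ≠ 0 := pow_ne_zero _ (by omega)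
    rw [hstep]
    refine ⟨mul_ne_zero (mul_ne_zero hqn ih.1) hne, ?_⟩
    rw [padicValNat.mul (mul_ne_zero hqn ih.1) hne, padicValNat.mul hqn ih.1, padicValNat.pow, hvq,
      mul_zero, zero_add, ih.2]
    obtain ⟨j, rfl | rfl⟩ := Nat.even_or_odd' n
    · rw [v_pow_odd hq hodd (odd_two_mul_add_one j)]
      simp only [glVal]
      rw [show (2 * j + 1) / 2 = j by omega, show 2 * j / 2 = j by omega,
        show (2 * j + 1 + 1) / 2 = j + 1 by omega]
      ring
    · rw [show 2 * j + 1 + 1 = 2 * (j + 1) by omega, v_pow_even hq hodd (Nat.succ_ne_zero j)]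
      simp only [glVal]
      rw [show (2 * j + 1 + 1) / 2 = j + 1 by omega, show (2 * j + 1) / 2 = j by omega,
        show (2 * (j + 1) + 1) / 2 = j + 1 by omega, show 2 * (j + 1) / 2 = j + 1 by omega,
        Nat.factorial_succ, padicValNat.mul (Nat.succ_ne_zero j) (Nat.factorial_ne_zero j)]
      ring

theorem two_ne_zero_of_odd_card {F : Type*} [Field F] [Fintype F] (hF : Odd (Fintype.card F)) :
    (2 : F) ≠ 0 := by
  refine Ring.two_ne_zero fun h => ?_
  rw [FiniteField.even_card_iff_char_two] at h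
  have := Nat.odd_iff.1 hF
  omega

theorem card_gl_val {F : Type*} [Field F] [Fintype F] (hF : Odd (Fintype.card F)) (n : ℕ) :
    (Nat.card (Matrix.GeneralLinearGroup (Fin n) F)).factorization 2 = glVal (Fintype.card F) n := by
  rw [Nat.factorization_def _ Nat.prime_two, Matrix.card_GL_field,
    Fin.prod_univ_eq_prod_range (fun i => Fintype.card F ^ n - Fintype.card F ^ i)]
  exact (prod_val Fintype.one_lt_card hF n).2

/-- Legendre's formula for the factorial at two. -/
theorem v_factorial (n : ℕ) :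
    padicValNat 2 n.factorial = n / 2 + padicValNat 2 (n / 2).factorial := by
  have : Fact (Nat.Prime 2) := ⟨Nat.prime_two⟩
  conv_lhs => rw [← Nat.div_add_mod n 2]
  rw [padicValNat_factorial_mul_add _ (Nat.mod_lt n two_pos), padicValNat_factorial_mul]
  omega

end CfsgLib.TwoGroups.GLTwoPart
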