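import Mathlib
import Cfsg.Agent.Lib.TwoGroups.GLTwoPart
import Cfsg.Agent.Lib.KnownSimple51.SignBasis

/-!
The 2-part of a group of linear maps normalizing an elementary abelian 2-group is bounded through
the characters of multiplicity one.
-/

set_option autoImplicit false

namespace CfsgLib.TwoGroups.GLNormalBound

open Matrix CfsgLib.KnownSimple51.SignBasis

variable {F : Type*} [Field F] [Fintype F] {V : Type*} [AddCommGroup V] [Module F V]
  [FiniteDimensional F V] {S : Type*} [Group S] [Finite S]

/-- With `r` characters of a normal elementary abelian 2-subgroup, `a` of them of multiplicity one. -/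
theorem exists_bound (hF : Odd (Fintype.card F)) (ρ : S →* Module.End F V) (hρ : Function.Injective ρ)
    (E : Subgroup S) (hEn : E.Normal) (hcomm : ∀ a b : E, a * b = b * a) (hsq : ∀ a : E, a * a = 1)
    {n : ℕ} (hdim : Module.finrank F V = n) :
    ∃ r a : ℕ, Nat.card E ≤ 2 ^ r ∧ r ≤ n ∧ a ≤ n ∧ 2 * r ≤ n + a ∧
      (Nat.card S).factorization 2 ≤ a * padicValNat 2 (Fintype.card F - 1) +
        padicValNat 2 a.factorial + GLTwoPart.glVal (Fintype.card F) (n - a) := by
  classical
  have h2 := GLTwoPart.two_ne_zero_of_odd_card hF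
  obtain ⟨b, s, hs⟩ := exists_sign_basis h2 hcomm hsq (ρ.comp E.subtype) (ι := Fin n)
    (by simp [hdim])
  let M : S →* Matrix (Fin n) (Fin n) F :=
    (LinearMap.toMatrixAlgEquiv b).toAlgHom.toMonoidHom.comp ρ
  have hMinj : Function.Injective M := fun x y h => hρ ((LinearMap.toMatrixAlgEquiv b).injective h)
  have hME : ∀ e : E, M (e : S) = Matrix.diagonal fun i => sgn F (s i e) := by
    intro e
    ext j i
    show LinearMap.toMatrixAlgEquiv b (ρ e) j i = _
    rw [LinearMap.toMatrixAlgEquiv_apply, show ρ (e : S) (b i) = sgn F (s i e) • b i from hs e i,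
      map_smul]
    by_cases h : j = i
    · subst h; simp
    · simp [h]
  let cj : S → E → E := fun g e => ⟨g * e * g⁻¹, hEn.conj_mem _ e.2 g⟩
  have hcj : ∀ g h e, cj (g * h) e = cj g (cj h e) := fun g h e => Subtype.ext (by simp [cj, mul_assoc])
  have hcj1 : ∀ g e, cj g (cj g⁻¹ e) = e := fun g e => Subtype.ext (by simp [cj, mul_assoc])
  let R : S → Fin n → Fin n → Prop := fun g i j => ∀ e, s j (cj g e) = s i e
  have hR : ∀ g i j, M g j i ≠ 0 → R g i j := by
    intro g i j hne e
    have h1 : M g * M (e : S) = M (cj g e : S) * M g := by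
      rw [← map_mul, ← map_mul]; congr 1; simp [cj]
    have h3 := congrFun (congrFun h1 j) i
    rw [hME, hME, Matrix.mul_diagonal, Matrix.diagonal_mul, mul_comm] at h3
    exact (sgn_injective h2 (mul_right_cancel₀ hne h3)).symm
  have hinv : ∀ g, M g * M g⁻¹ = 1 := fun g => by rw [← map_mul, mul_inv_cancel, map_one]
  have hinv' : ∀ g, M g⁻¹ * M g = 1 := fun g => by rw [← map_mul, inv_mul_cancel, map_one]
  have hrow : ∀ g j, ∃ i, M g j i ≠ 0 := fun g j => by
    by_contra! hz
    have := congrFun (congrFun (hinv g) j) j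
    simp [Matrix.mul_apply, hz] at this
  have hcol : ∀ g i, ∃ j, M g j i ≠ 0 := fun g i => by
    by_contra! hz
    have := congrFun (congrFun (hinv' g) i) i
    simp [Matrix.mul_apply, hz] at this
  let A : Finset (Fin n) := Finset.univ.filter fun i => ∀ j, s j = s i → j = i
  have hAu : ∀ {i j}, i ∈ A → s j = s i → j = i := fun hi h => (Finset.mem_filter.1 hi).2 _ h
  have hA1 : ∀ g i j, i ∈ A → M g j i ≠ 0 → j ∈ A := by
    intro g i j hi hne
    refine Finset.mem_filter.2 ⟨Finset.mem_univ _, fun j' hj' => ?_⟩
    have hsup : ∀ j'', s j'' = s j → ∀ i', M g j'' i' ≠ 0 → i' = i := fun j'' h'' i' h' =>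
      hAu hi (MonoidHom.ext fun e => by rw [← hR g i' j'' h' e, h'', hR g i j hne e])
    by_contra hjj
    have e1 : ∀ k, (M g * M g⁻¹) j k = M g j i * M g⁻¹ i k := fun k => by
      rw [Matrix.mul_apply]
      exact Finset.sum_eq_single i (fun x _ hx => by rw [not_not.1 fun h => hx (hsup j rfl x h), zero_mul])
        (by simp)
    have e2 : (M g * M g⁻¹) j' j' = M g j' i * M g⁻¹ i j' := by
      rw [Matrix.mul_apply]
      exact Finset.sum_eq_single i (fun x _ hx => by rw [not_not.1 fun h => hx (hsup j' hj' x h), zero_mul])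
        (by simp)
    have e3 := e1 j'
    rw [hinv g, Matrix.one_apply_ne (Ne.symm hjj)] at e3
    rw [hinv g, Matrix.one_apply_eq] at e2
    rcases mul_eq_zero.1 e3.symm with h | h
    · exact hne h
    · rw [h, mul_zero] at e2; exact one_ne_zero e2
  have hR1 : ∀ g i j k, j ∈ A → R g i j → R g i k → k = j := fun g i j k hj h1 h3 =>
    hAu hj (MonoidHom.ext fun e => by rw [← hcj1 g e, h1 _, h3 _])
  have hA2 : ∀ g i j, j ∈ A → M g j i ≠ 0 → i ∈ A := by
    intro g i j hj hne
    obtain ⟨k, hk⟩ := hcol g⁻¹ j
    have hkA := hA1 _ _ _ hj hk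
    have : i = k := hAu hkA (MonoidHom.ext fun e => by
      rw [← hR g i j hne e, ← hR g⁻¹ j k hk (cj g e), ← hcj, inv_mul_cancel]
      exact congrArg (s k) (Subtype.ext (by simp [cj])))
    exact this ▸ hkA
  have hex : ∀ g (i : A), ∃ j : A, R g i j := fun g i => by
    obtain ⟨j, hj⟩ := hcol g i
    exact ⟨⟨j, hA1 g i j i.2 hj⟩, hR g i j hj⟩
  choose p hp using hex
  have hpu : ∀ g (i : A) (j : A), R g i j → p g i = j := fun g i j h =>
    Subtype.ext (hR1 g i j (p g i) j.2 h (hp g i))
  letI act : MulAction S A :=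
    { smul := p
      one_smul := fun i => hpu 1 i i fun e => congrArg (s i) (Subtype.ext (by simp [cj]))
      mul_smul := fun g h i => hpu (g * h) i (p g (p h i)) fun e => by
        rw [hcj, hp g (p h i), hp h i] }
  let π : S →* Equiv.Perm A := MulAction.toPermHom S A
  have hker : ∀ g ∈ π.ker, ∀ (i : A) (j : Fin n), M g j i ≠ 0 → j = i := by
    intro g hg i j hne
    have h1 : p g i = i := congrFun (congrArg DFunLike.coe hg) i
    have h3 := hp g i
    rw [h1] at h3
    exact hR1 g i i j i.2 h3 (hR g i j hne)
  let W := {i : Fin n // i ∉ A}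
  let φ : π.ker →* (A → F) × Matrix W W F :=
    { toFun := fun g => (fun i => M g i i, (M g).submatrix Subtype.val Subtype.val)
      map_one' := by
        refine Prod.ext (funext fun i => ?_) ?_
        · simp
        · show (M (1 : S)).submatrix Subtype.val Subtype.val = 1
          rw [map_one, Matrix.submatrix_one Subtype.val Subtype.val_injective]
      map_mul' := fun g h => by
        refine Prod.ext (funext fun i => ?_) (Matrix.ext fun x y => ?_)
        · show M (g * h : S) i i = M g i i * M h i i
          rw [map_mul, Matrix.mul_apply]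
          exact Finset.sum_eq_single (i : Fin n) (fun x _ hx => by
            rw [not_not.1 fun hne => hx (hker h h.2 i x hne), mul_zero]) (by simp)
        · show M (g * h : S) x y = ∑ z : W, M g x z * M h z y
          rw [map_mul, Matrix.mul_apply]
          refine Eq.trans ?_ (Finset.sum_subtype (Finset.univ.filter fun z => z ∉ A) (fun z => by simp)
            fun z => M g x z * M h z y)
          refine (Finset.sum_filter_of_ne fun z _ hz hzA => ?_).symm
          exact y.2 (hA2 h y z hzA (right_ne_zero_of_mul hz)) }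
  have hφ : Function.Injective φ.toHomUnits := fun g h e => by
    have e' : φ g = φ h := congrArg Units.val e
    refine Subtype.ext (hMinj (Matrix.ext fun j i => ?_))
    by_cases hi : i ∈ A
    · by_cases hji : j = i
      · rw [hji]; exact congrFun (congrArg Prod.fst e') ⟨i, hi⟩
      · rw [not_not.1 fun hne => hji (hker g g.2 ⟨i, hi⟩ j hne),
          not_not.1 fun hne => hji (hker h h.2 ⟨i, hi⟩ j hne)]
    · by_cases hj : j ∈ A
      · rw [not_not.1 fun hne => hi (hA2 g i j hj hne), not_not.1 fun hne => hi (hA2 h i j hj hne)]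
      · exact congrFun (congrFun (congrArg Prod.snd e') ⟨j, hj⟩) ⟨i, hi⟩
  refine ⟨(Finset.univ.image s).card, A.card, ?_, ?_, ?_, ?_, ?_⟩
  · let Ω := Finset.univ.image s
    have hinj : Function.Injective fun (e : E) (χ : Ω) => χ.1 e := fun e e' h =>
      injective_signs b s (ρ := ρ.comp E.subtype) (hρ.comp Subtype.val_injective) hs
        (funext fun i => congrFun h ⟨s i, Finset.mem_image_of_mem _ (Finset.mem_univ i)⟩)
    have := Nat.card_le_card_of_injective _ hinj
    simpa [Nat.card_fun] using this
  · exact le_trans Finset.card_image_le (by simp)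
  · exact le_trans A.card_le_univ (by simp)
  · have h4 : 2 * (Aᶜ.image s).card ≤ Aᶜ.card := by
      refine Finset.mul_card_image_le_card _ 2 fun χ hχ => ?_
      obtain ⟨i, hi, rfl⟩ := Finset.mem_image.1 hχ
      have hi' : ¬ ∀ j, s j = s i → j = i := fun h =>
        Finset.mem_compl.1 hi (Finset.mem_filter.2 ⟨Finset.mem_univ _, h⟩)
      push Not at hi'
      obtain ⟨j, hj, hne⟩ := hi'
      have hjA : j ∈ Aᶜ := Finset.mem_compl.2 fun h => hne (hAu h hj.symm).symm
      refine Finset.one_lt_card.2 ⟨i, ?_, j, ?_, hne.symm⟩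
      · simp [Finset.mem_compl.1 hi]
      · simp [Finset.mem_compl.1 hjA, hj]
    have h5 : (Finset.univ.image s).card ≤ A.card + (Aᶜ.image s).card := by
      rw [← Finset.union_compl A, Finset.image_union]
      exact le_trans (Finset.card_union_le _ _) (Nat.add_le_add_right Finset.card_image_le _)
    have h6 : A.card + Aᶜ.card = n := by rw [Finset.card_add_card_compl]; simp
    omega
  · have hd1 : Nat.card π.range ∣ A.card.factorial := by
      have := Subgroup.card_subgroup_dvd_card π.range
      rwa [Nat.card_perm, Nat.card_eq_finsetCard] at this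
    have hd2 : Nat.card π.ker ∣ (Fintype.card F - 1) ^ A.card *
        Nat.card (GeneralLinearGroup (Fin (n - A.card)) F) := by
      have h7 := Subgroup.card_dvd_of_injective φ.toHomUnits hφ
      rw [Nat.card_congr MulEquiv.prodUnits.toEquiv, Nat.card_prod,
        Nat.card_congr MulEquiv.piUnits.toEquiv, Nat.card_fun, Nat.card_units,
        Nat.card_eq_fintype_card (α := F)] at h7
      have hW : Fintype.card W = n - A.card := by simp [W, Fintype.card_subtype_compl]
      rwa [Nat.card_congr (Units.mapEquiv (Matrix.reindexAlgEquiv F F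
        (Fintype.equivFinOfCardEq hW)).toMulEquiv).toEquiv, Nat.card_eq_finsetCard] at h7
    have hcard : Nat.card S = Nat.card π.ker * Nat.card π.range := by
      rw [← π.ker.card_mul_index, Subgroup.index_ker]
    have hq : 1 < Fintype.card F := Fintype.one_lt_card
    have hne : (Fintype.card F - 1) ^ A.card *
        Nat.card (GeneralLinearGroup (Fin (n - A.card)) F) * A.card.factorial ≠ 0 :=
      mul_ne_zero (mul_ne_zero (pow_ne_zero _ (by omega)) Nat.card_pos.ne') (Nat.factorial_ne_zero _)
    have h8 := (Nat.factorization_le_iff_dvd Nat.card_pos.ne' hne).2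
      (hcard ▸ mul_dvd_mul hd2 hd1) 2
    rw [Nat.factorization_mul (mul_ne_zero (pow_ne_zero _ (by omega)) Nat.card_pos.ne')
        (Nat.factorial_ne_zero _),
      Nat.factorization_mul (pow_ne_zero _ (by omega)) Nat.card_pos.ne', Finsupp.add_apply,
      Finsupp.add_apply, Nat.factorization_pow, Finsupp.smul_apply, smul_eq_mul,
      GLTwoPart.card_gl_val hF, Nat.factorization_def _ Nat.prime_two,
      Nat.factorization_def (Fintype.card F - 1) Nat.prime_two,
      Nat.factorization_def A.card.factorial Nat.prime_two] at h8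
    rw [Nat.factorization_def _ Nat.prime_two]
    omega

end CfsgLib.TwoGroups.GLNormalBound
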