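import Cfsg.Prelude.Def_Transfer
import Cfsg.Agent.Lib.SympSylow.Monomial
import Cfsg.Agent.Lib.TwoGroups.GLTwoPart
import Cfsg.Agent.Lib.KnownSimple51.SignBasis

/-!
Signs constant on blocks form a normal subgroup of a Sylow 2-subgroup of a general linear group.
-/

set_option autoImplicit false

namespace CfsgLib.TwoGroups.GLNormalSigns

open Matrix CfsgLib.SympSylow CfsgLib.KnownSimple51.SignBasis

variable {F : Type*} [Field F] {α κ : Type*} [Fintype α] [DecidableEq α] {b : ℕ}

/-- The blockwise monomial action, together with scalars on further coordinates. -/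
def act : Mon (GeneralLinearGroup (Fin b) F) α × (κ → Fˣ) →*
    Module.End F ((α → Fin b → F) × (κ → F)) where
  toFun d :=
    { toFun := fun v => (fun x => (d.1.left x : Matrix (Fin b) (Fin b) F) *ᵥ v.1 (d.1.right⁻¹ x), fun k => (d.2 k : F) * v.2 k)
      map_add' := fun v w => by
        refine Prod.ext (funext fun x => ?_) (funext fun k => ?_)
        · exact Matrix.mulVec_add (d.1.left x : Matrix (Fin b) (Fin b) F) (v.1 (d.1.right⁻¹ x))
            (w.1 (d.1.right⁻¹ x))
        · exact mul_add _ _ _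
      map_smul' := fun c v => by
        refine Prod.ext (funext fun x => ?_) (funext fun k => ?_)
        · exact Matrix.mulVec_smul (d.1.left x : Matrix (Fin b) (Fin b) F) c (v.1 (d.1.right⁻¹ x))
        · exact mul_left_comm _ _ _ }
  map_one' := by
    refine LinearMap.ext fun v => Prod.ext (funext fun x => ?_) (funext fun k => ?_)
    · show ((1 : GeneralLinearGroup (Fin b) F) : Matrix (Fin b) (Fin b) F) *ᵥ v.1 ((1 : Equiv.Perm α)⁻¹ x) = v.1 x
      simp
    · exact one_mul _
  map_mul' d d' := by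
    refine LinearMap.ext fun v => Prod.ext (funext fun x => ?_) (funext fun k => ?_)
    · show ((d.1 * d'.1).left x).1 *ᵥ v.1 ((d.1 * d'.1).right⁻¹ x) =
        (d.1.left x).1 *ᵥ ((d'.1.left (d.1.right⁻¹ x)).1 *ᵥ v.1 (d'.1.right⁻¹ (d.1.right⁻¹ x)))
      rw [mul_left_apply, Matrix.mulVec_mulVec, SemidirectProduct.mul_right, _root_.mul_inv_rev]
      rfl
    · exact mul_assoc _ _ _

theorem act_injective (hb : 0 < b) :
    Function.Injective (act (F := F) (α := α) (κ := κ) (b := b)) := by
  classical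
  intro d d' h
  have key : ∀ (x : α) (v : α → Fin b → F), (d.1.left x).1 *ᵥ v (d.1.right⁻¹ x) = (d'.1.left x).1 *ᵥ v (d'.1.right⁻¹ x) :=
    fun x v => congrFun (congrArg Prod.fst (LinearMap.congr_fun h (v, 0))) x
  have hσ : d.1.right = d'.1.right := by
    refine inv_injective (Equiv.ext fun x => ?_)
    by_contra hne
    let w : Fin b → F := Pi.single ⟨0, hb⟩ 1
    have hk := key x (Pi.single (d.1.right⁻¹ x) w)
    rw [Pi.single_eq_same, Pi.single_eq_of_ne (Ne.symm hne), Matrix.mulVec_zero] at hk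
    have hw : w = 0 := by
      have h' := congrArg (fun u => ((d.1.left x)⁻¹).1 *ᵥ u) hk
      simpa [Matrix.mulVec_mulVec, ← Units.val_mul] using h'
    simpa [w] using congrFun hw ⟨0, hb⟩
  refine Prod.ext (SemidirectProduct.ext (funext fun x => Units.ext (Matrix.ext_of_mulVec_single fun i => ?_)) hσ)
    (funext fun k => Units.ext ?_)
  · have hk := key x (Pi.single (d.1.right⁻¹ x) (Pi.single i 1))
    rw [← hσ, Pi.single_eq_same] at hk
    exact hk
  · have hk := congrFun (congrArg Prod.snd (LinearMap.congr_fun h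
      ((0, Pi.single k 1) : (α → Fin b → F) × (κ → F)))) k
    simpa [act] using hk

/-- A sign as a unit of the field. -/
def sgnUnit (F : Type*) [Field F] : ℤˣ →* Fˣ := Units.map (Int.castRingHom F).toMonoidHom

theorem sgnUnit_injective (h2 : (2 : F) ≠ 0) : Function.Injective (sgnUnit F) := fun _ _ h =>
  sgn_injective h2 (congrArg Units.val h)

/-- A scalar matrix as an invertible matrix. -/
def scalarHom : Fˣ →* GeneralLinearGroup (Fin b) F :=
  Units.map (algebraMap F (Matrix (Fin b) (Fin b) F)).toMonoidHom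

theorem scalarHom_commute (u : Fˣ) (g : GeneralLinearGroup (Fin b) F) :
    scalarHom u * g = g * scalarHom u :=
  Units.ext (Algebra.commutes (u : F) (g : Matrix (Fin b) (Fin b) F))

theorem scalarHom_injective (hb : 0 < b) :
    Function.Injective (scalarHom (F := F) (b := b)) := fun u v h => by
  have h1 := congrArg Units.val h
  have h' := congrFun (congrFun h1 ⟨0, hb⟩) ⟨0, hb⟩
  refine Units.ext ?_
  simpa [scalarHom, Matrix.algebraMap_eq_diagonal] using h'

/-- Signs constant on blocks. -/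
def signs : (α → ℤˣ) × (κ → ℤˣ) →* Mon (GeneralLinearGroup (Fin b) F) α × (κ → Fˣ) :=
  MonoidHom.prodMap (SemidirectProduct.inl.comp ((scalarHom.comp (sgnUnit F)).compLeft α : (α → ℤˣ) →* (α → GeneralLinearGroup (Fin b) F)))
    ((sgnUnit F).compLeft κ : (κ → ℤˣ) →* (κ → Fˣ))

theorem signs_injective (h2 : (2 : F) ≠ 0) (hb : 0 < b) :
    Function.Injective (signs (F := F) (α := α) (κ := κ) (b := b)) := fun f g h => by
  refine Prod.ext (funext fun x => ?_) (funext fun k => ?_)
  · exact sgnUnit_injective h2 (scalarHom_injective hb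
      (congrFun (SemidirectProduct.inl_injective (congrArg Prod.fst h)) x))
  · exact sgnUnit_injective h2 (congrFun (congrArg Prod.snd h) k)

theorem signs_range_normal : (signs (F := F) (α := α) (κ := κ) (b := b)).range.Normal := by
  refine ⟨?_⟩
  rintro _ ⟨f, rfl⟩ d
  refine ⟨(fun x => f.1 (d.1.right⁻¹ x), f.2), ?_⟩
  rw [eq_mul_inv_iff_mul_eq]
  refine Prod.ext (SemidirectProduct.ext (funext fun x => ?_) ?_) (funext fun k => ?_)
  · simp [signs, mul_left_apply, scalarHom_commute]
  · simp [signs]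
  · simp [signs, mul_comm]

/-- A normal subgroup of exponent two of a full two-part subgroup gives one in every Sylow subgroup. -/
theorem exists_normal_of_hom {G D A : Type*} [Group G] [Finite G] [Group D] [Finite D] [CommGroup A]
    [Finite A] (φ : D →* G) (hφ : Function.Injective φ)
    (hv : (Nat.card D).factorization 2 = (Nat.card G).factorization 2)
    (ε : A →* D) (hε : Function.Injective ε) (hn : ε.range.Normal) (hA : ∀ a : A, a ^ 2 = 1)
    (S : Sylow 2 G) :
    ∃ E : Subgroup (S : Subgroup G), E.Normal ∧ Cfsg.IsElementaryAbelian 2 E ∧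
      Nat.card A ≤ Nat.card E := by
  classical
  have : Fact (Nat.Prime 2) := ⟨Nat.prime_two⟩
  let P : Sylow 2 D := default
  have hTc : Nat.card ((P : Subgroup D).map φ) = 2 ^ (Nat.card G).factorization 2 := by
    rw [Nat.card_congr ((P : Subgroup D).equivMapOfInjective _ hφ).symm.toEquiv,
      P.card_eq_multiplicity, hv]
  let T' : Sylow 2 G := Sylow.ofCard _ hTc
  obtain ⟨c, hc⟩ := MulAction.exists_smul_eq G T' S
  have hp : IsPGroup 2 ε.range := by
    rintro ⟨_, a, rfl⟩
    exact ⟨1, Subtype.ext (by rw [pow_one, Subgroup.coe_pow, ← map_pow, hA, map_one]; rfl)⟩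
  have hle : ε.range ≤ P := hp.le_sylow_of_normal P
  let χ : D →* G := (MulAut.conj c).toMonoidHom.comp φ
  have hS : ∀ x, x ∈ (S : Subgroup G) ↔ ∃ p ∈ (P : Subgroup D), χ p = x := by
    intro x
    rw [← hc]
    constructor
    · rintro ⟨_, ⟨p, hp, rfl⟩, rfl⟩
      exact ⟨p, hp, rfl⟩
    · rintro ⟨p, hp, rfl⟩
      exact ⟨φ p, ⟨p, hp, rfl⟩, rfl⟩
  have hmem : ∀ a, χ (ε a) ∈ (S : Subgroup G) := fun a => (hS _).2 ⟨ε a, hle ⟨a, rfl⟩, rfl⟩
  let ψ : A →* (S : Subgroup G) := (χ.comp ε).codRestrict _ hmem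
  have hψ : Function.Injective ψ := fun a a' h =>
    hε (hφ ((MulAut.conj c).injective (congrArg Subtype.val h)))
  refine ⟨ψ.range, ⟨?_⟩, ⟨⟨⟨?_⟩⟩, ?_⟩, ?_⟩
  · rintro _ ⟨a, rfl⟩ y
    obtain ⟨p, -, hpy⟩ := (hS _).1 y.2
    obtain ⟨a', ha'⟩ := hn.conj_mem (ε a) ⟨a, rfl⟩ p
    refine ⟨a', Subtype.ext ?_⟩
    show χ (ε a') = (y : G) * χ (ε a) * (y : G)⁻¹
    rw [ha', map_mul, map_mul, map_inv, hpy]
  · rintro ⟨_, a, rfl⟩ ⟨_, a', rfl⟩
    exact Subtype.ext (by
      show ψ a * ψ a' = ψ a' * ψ a
      rw [← map_mul, ← map_mul, mul_comm])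
  · rintro _ ⟨a, rfl⟩
    rw [← map_pow, hA, map_one]
  · rw [Nat.card_congr (MonoidHom.ofInjective hψ).toEquiv.symm]

/-- Block signs in a Sylow 2-subgroup of a general linear group. -/
theorem exists_normal [Fintype F] (hF : Odd (Fintype.card F)) {m r n : ℕ} (hb : 0 < b)
    (hn : m * b + r = n)
    (hv : m * GLTwoPart.glVal (Fintype.card F) b + padicValNat 2 m.factorial +
      r * padicValNat 2 (Fintype.card F - 1) = GLTwoPart.glVal (Fintype.card F) n)
    (S : Sylow 2 (GeneralLinearGroup (Fin n) F)) :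
    ∃ E : Subgroup (S : Subgroup (GeneralLinearGroup (Fin n) F)), E.Normal ∧
      Cfsg.IsElementaryAbelian 2 E ∧ 2 ^ (m + r) ≤ Nat.card E := by
  classical
  have h2 := GLTwoPart.two_ne_zero_of_odd_card hF
  let V := (Fin m → Fin b → F) × (Fin r → F)
  have e : V ≃ₗ[F] (Fin n → F) := LinearEquiv.ofFinrankEq _ _ (by
    simp [V, Module.finrank_prod, Module.finrank_pi_fintype, hn])
  let conv : Module.End F V ≃ₐ[F] Matrix (Fin n) (Fin n) F :=
    (e.conjAlgEquiv F).trans Matrix.toLinAlgEquiv'.symm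
  let φ : Mon (GeneralLinearGroup (Fin b) F) (Fin m) × (Fin r → Fˣ) →*
      GeneralLinearGroup (Fin n) F :=
    (conv.toAlgHom.toMonoidHom.comp (act (κ := Fin r))).toHomUnits
  have hφ : Function.Injective φ := fun d d' h =>
    act_injective hb (conv.injective (congrArg Units.val h))
  have : Finite (Mon (GeneralLinearGroup (Fin b) F) (Fin m)) :=
    Finite.of_equiv _ SemidirectProduct.equivProd.symm
  have hfact : (Nat.card (Mon (GeneralLinearGroup (Fin b) F) (Fin m) × (Fin r → Fˣ))).factorization 2 =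
      (Nat.card (GeneralLinearGroup (Fin n) F)).factorization 2 := by
    rw [GLTwoPart.card_gl_val hF, Nat.card_prod, Nat.card_congr SemidirectProduct.equivProd,
      Nat.card_prod, Nat.card_fun, Nat.card_fun, Nat.card_perm, Nat.card_fin, Nat.card_fin,
      Nat.card_units, Nat.card_eq_fintype_card (α := F)]
    have hq : 1 < Fintype.card F := Fintype.one_lt_card
    have hg : Nat.card (GeneralLinearGroup (Fin b) F) ≠ 0 := Nat.card_pos.ne'
    rw [Nat.factorization_mul (mul_ne_zero (pow_ne_zero _ hg) (Nat.factorial_ne_zero m))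
        (pow_ne_zero _ (by omega)),
      Nat.factorization_mul (pow_ne_zero _ hg) (Nat.factorial_ne_zero m), Finsupp.add_apply,
      Finsupp.add_apply, Nat.factorization_pow, Nat.factorization_pow, Finsupp.smul_apply,
      Finsupp.smul_apply, GLTwoPart.card_gl_val hF, smul_eq_mul, smul_eq_mul,
      Nat.factorization_def _ Nat.prime_two, Nat.factorization_def _ Nat.prime_two]
    exact hv
  obtain ⟨E, h1, h3, h4⟩ := exists_normal_of_hom φ hφ hfact (signs (κ := Fin r))
    (signs_injective h2 hb) signs_range_normal (fun a => by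
      rw [sq]
      exact Prod.ext (funext fun _ => Int.units_mul_self _) (funext fun _ => Int.units_mul_self _)) S
  refine ⟨E, h1, h3, le_trans (le_of_eq ?_) h4⟩
  simp [Nat.card_prod, Nat.card_fun, pow_add]

end CfsgLib.TwoGroups.GLNormalSigns
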