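import Cfsg.Agent.Lib.TwoGroups.AnisotropicForm
import Cfsg.Agent.Lib.PCore.PSolvable
import Cfsg.Agent.Lib.Coprime.SchurZassenhaus
import Cfsg.Agent.Lib.Coprime.Commutator
import Cfsg.Agent.Lib.Frobenius.Action
import Cfsg.Agent.Lib.TwoFrobenius.Complement

/-!
A solvable group with at least two commuting involutions, all involutions conjugate, has
2-length one.
-/

set_option autoImplicit false
set_option linter.style.haveILetI false

namespace CfsgLib.InvolutionsConjugate

variable {H : Type*} [Group H]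

/-- Invariance of a subgroup under conjugation by a set of elements. -/
def Inv (N X : Subgroup H) : Prop := ∀ n ∈ N, ∀ x ∈ X, n * x * n⁻¹ ∈ X

theorem Inv.le_normalizer {N X : Subgroup H} (h : Inv N X) :
    N ≤ Subgroup.normalizer (X : Set H) := by
  intro n hn
  rw [Subgroup.mem_normalizer_iff]
  intro x
  refine ⟨h n hn x, fun hx => ?_⟩
  simpa [mul_assoc] using h n⁻¹ (N.inv_mem hn) _ hx

theorem inv_of_le_normalizer {N X : Subgroup H} (h : N ≤ Subgroup.normalizer (X : Set H)) :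
    Inv N X := fun n hn x hx => (Subgroup.mem_normalizer_iff.1 (h hn) x).1 hx

theorem Inv.inf {N X Y : Subgroup H} (hX : Inv N X) (hY : Inv N Y) : Inv N (X ⊓ Y) :=
  fun n hn x hx => ⟨hX n hn x hx.1, hY n hn x hx.2⟩

theorem Inv.centralizer {N L : Subgroup H} (h : Inv N L) :
    Inv N (Subgroup.centralizer (L : Set H)) := by
  intro n hn x hx
  rw [Subgroup.mem_centralizer_iff] at hx ⊢
  intro l hl
  have h1 := hx _ (h n⁻¹ (N.inv_mem hn) l hl)
  rw [inv_inv] at h1
  calc l * (n * x * n⁻¹) = n * (n⁻¹ * l * n * x) * n⁻¹ := by group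
    _ = n * (x * (n⁻¹ * l * n)) * n⁻¹ := by rw [h1]
    _ = n * x * n⁻¹ * l := by group

theorem Inv.closure {N : Subgroup H} {s : Set H}
    (h : ∀ n ∈ N, ∀ x ∈ s, n * x * n⁻¹ ∈ Subgroup.closure s) : Inv N (Subgroup.closure s) := by
  intro n hn x hx
  have : Subgroup.closure s ≤ (Subgroup.closure s).comap (MulAut.conj n).toMonoidHom := by
    rw [Subgroup.closure_le]
    intro y hy
    simpa using h n hn y hy
  simpa using this hx

/-- A maximal subgroup above a proper subgroup of a 2-group contains all squares. -/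
theorem exists_squares_mem [Finite H] {X V : Subgroup H} (hX : IsPGroup 2 X) (hVX : V < X) :
    ∃ M : Subgroup H, V ≤ M ∧ M < X ∧ ∀ x ∈ X, x * x ∈ M := by
  obtain ⟨k, hk⟩ := hX.exists_card_eq
  obtain ⟨j, hj⟩ := (hX.to_le hVX.le).exists_card_eq
  have hjk : j < k := by
    by_contra h
    exact hVX.ne (Subgroup.eq_of_le_of_card_ge hVX.le
      (by rw [hk, hj]; exact Nat.pow_le_pow_right (by norm_num) (not_lt.1 h)))
  obtain ⟨M, hM, hVM⟩ := Sylow.exists_subgroup_card_pow_prime_le (G := X) 2 (n := j) (m := k - 1)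
    (hk ▸ pow_dvd_pow 2 (Nat.sub_le _ _)) (V.subgroupOf X)
    (by rw [Nat.card_congr (Subgroup.subgroupOfEquivOfLe hVX.le).toEquiv, hj]) (by omega)
  have hidx : M.index = 2 := by
    have h := M.card_mul_index
    rw [hM, hk, show (2 : ℕ) ^ k = 2 ^ (k - 1) * 2 by rw [← pow_succ]; congr 1; omega] at h
    exact Nat.eq_of_mul_eq_mul_left (pow_pos (by norm_num) _) h
  refine ⟨M.map X.subtype, fun v hv => ⟨⟨v, hVX.le hv⟩, hVM hv, rfl⟩, ?_, fun x hx =>
    ⟨⟨x, hx⟩ * ⟨x, hx⟩, Subgroup.mul_self_mem_of_index_two hidx _, rfl⟩⟩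
  refine lt_of_le_of_ne (Subgroup.map_subtype_le _) fun he => ?_
  have h := congrArg (fun U : Subgroup H => Nat.card U) he
  simp only [Subgroup.card_map_of_injective X.subtype_injective, hM, hk] at h
  have := Nat.pow_right_injective le_rfl h
  omega

/-- Conjugation on an invariant subgroup. -/
def conjHom (N Q : Subgroup H) (h : Inv N Q) : N →* MulAut Q where
  toFun n :=
    { toFun := fun a => ⟨n * a * (n : H)⁻¹, h n n.2 a a.2⟩
      invFun := fun a => ⟨(n : H)⁻¹ * a * n, by simpa using h _ (N.inv_mem n.2) a a.2⟩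
      left_inv := fun a => Subtype.ext (by simp [mul_assoc])
      right_inv := fun a => Subtype.ext (by simp [mul_assoc])
      map_mul' := fun a b => Subtype.ext (by simp [mul_assoc]) }
  map_one' := by ext; simp
  map_mul' := fun m n => by ext; simp [mul_assoc]

@[simp] theorem conjHom_apply (N Q : Subgroup H) (h : Inv N Q) (n : N) (a : Q) :
    ((conjHom N Q h n a : Q) : H) = n * a * (n : H)⁻¹ := rfl

/-- An element of `A` fixed by `α`-images of a rank two section: cyclic groups of odd order. -/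
theorem fix_of_cyclic {A : Type*} [Group A] [Finite A] [IsCyclic A] (hA : Odd (Nat.card A))
    {M : Type*} [Group M] (α : M →* MulAut A) (X V : Subgroup M)
    (hV : ∀ v ∈ V, α v = 1) (hsq : ∀ x ∈ X, x * x ∈ V)
    (hmin : ∀ K : Subgroup M, V ≤ K → (∀ m, ∀ k ∈ K, m * k * m⁻¹ ∈ K) →
      (∃ x ∈ X, x ∈ K ∧ x ∉ V) → X ≤ K)
    {xs ys : M} (hxs : xs ∈ X) (hys : ys ∈ X) (hxV : xs ∉ V) (hyV : ys ∉ V)
    (hxyV : xs * ys⁻¹ ∉ V) : ∀ x ∈ X, α x = 1 := by
  have hcomm : ∀ f g : MulAut A, ∀ a, f (g a) = g (f a) := by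
    intro f g a
    obtain ⟨i, hi⟩ := MonoidHom.map_cyclic f.toMonoidHom
    obtain ⟨j, hj⟩ := MonoidHom.map_cyclic g.toMonoidHom
    simp only [MulEquiv.toMonoidHom_eq_coe, MonoidHom.coe_coe] at hi hj
    rw [hi (g a), hj a, hi a, hj (a ^ i), ← zpow_mul, ← zpow_mul, mul_comm]
  let D : Subgroup A :=
    { carrier := {a | ∀ x ∈ X, α x a = a}
      mul_mem' := fun {a b} ha hb x hx => by rw [map_mul, ha x hx, hb x hx]
      one_mem' := fun x _ => map_one _
      inv_mem' := fun {a} ha x hx => by rw [map_inv, ha x hx] }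
  have hD : (⊤ : Subgroup A) ≤ D := by
    refine CfsgLib.Coprime.le_of_forall_sylow_le fun r hr R => ?_
    haveI := Fact.mk hr
    rintro a ⟨b, hb, rfl⟩
    obtain ⟨k, hk⟩ := IsPGroup.iff_orderOf.1 R.2 ⟨b, hb⟩
    rw [Subgroup.orderOf_mk, ← Subgroup.orderOf_coe] at hk
    set a := ((⊤ : Subgroup A).subtype b)
    have hka : orderOf a = r ^ k := hk
    rcases Nat.eq_zero_or_pos k with rfl | hk0
    · rw [pow_zero, orderOf_eq_one_iff] at hka
      rw [hka]; exact D.one_mem
    have hr2 : r ≠ 2 := by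
      rintro rfl
      exact (Nat.not_even_iff_odd.2 hA) (even_iff_two_dvd.2
        ((dvd_pow_self 2 hk0.ne').trans (hka ▸ orderOf_dvd_natCard a)))
    have hpm : ∀ x ∈ X, α x a = a ∨ α x a = a⁻¹ := by
      intro x hx
      obtain ⟨i, hi⟩ := MonoidHom.map_cyclic (α x).toMonoidHom
      simp only [MulEquiv.toMonoidHom_eq_coe, MonoidHom.coe_coe] at hi
      have h2 : α x (α x a) = a := by
        rw [← MulAut.mul_apply, ← map_mul, hV _ (hsq x hx)]; rfl
      rw [hi a, hi, ← zpow_mul] at h2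
      have h3 : a ^ (i * i - 1) = 1 := by rw [zpow_sub, zpow_one, h2, mul_inv_cancel]
      rw [← orderOf_dvd_iff_zpow_eq_one, hka,
        show i * i - 1 = (i - 1) * (i + 1) by ring] at h3
      have hrp : Prime (r : ℤ) := Nat.prime_iff_prime_int.1 hr
      push_cast at h3
      rw [hi a]
      by_cases hd : (r : ℤ) ∣ i - 1
      · left
        have hnd : ¬ (r : ℤ) ∣ i + 1 := fun h => by
          have h2 := Int.le_of_dvd (by norm_num)
            (show (r : ℤ) ∣ 2 by simpa [show (i + 1) - (i - 1) = 2 by ring] using dvd_sub h hd)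
          have := hr.two_le
          omega
        have h4 := (((hrp.coprime_iff_not_dvd).2 hnd).pow_left (m := k)).dvd_of_dvd_mul_right h3
        have : a ^ (i - 1) = 1 := by
          rw [← orderOf_dvd_iff_zpow_eq_one, hka]; push_cast; exact h4
        rwa [zpow_sub, zpow_one, mul_inv_eq_one] at this
      · right
        have h4 := (((hrp.coprime_iff_not_dvd).2 hd).pow_left (m := k)).dvd_of_dvd_mul_left h3
        have : a ^ (i + 1) = 1 := by
          rw [← orderOf_dvd_iff_zpow_eq_one, hka]; push_cast; exact h4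
        rwa [zpow_add, zpow_one, mul_eq_one_iff_eq_inv] at this
    let K : Subgroup M :=
      { carrier := {m | α m a = a}
        mul_mem' := fun {m n} hm hn => by
          show α (m * n) a = a
          rw [map_mul, MulAut.mul_apply, hn, hm]
        one_mem' := by show α 1 a = a; rw [map_one]; rfl
        inv_mem' := fun {m} hm => by
          show α m⁻¹ a = a
          conv_lhs => rw [← (show α m a = a from hm), ← MulAut.mul_apply, ← map_mul, inv_mul_cancel,
            map_one]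
          rfl }
    have hKinv : ∀ m, ∀ k ∈ K, m * k * m⁻¹ ∈ K := by
      intro m n hn
      show α (m * n * m⁻¹) a = a
      rw [map_mul, map_mul, MulAut.mul_apply, MulAut.mul_apply, hcomm (α n), show α n a = a from hn,
        ← MulAut.mul_apply, ← map_mul, mul_inv_cancel, map_one]
      rfl
    have hsome : ∃ x ∈ X, x ∈ K ∧ x ∉ V := by
      rcases hpm xs hxs with h1 | h1
      · exact ⟨xs, hxs, h1, hxV⟩
      rcases hpm ys hys with h2 | h2
      · exact ⟨ys, hys, h2, hyV⟩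
      refine ⟨xs * ys⁻¹, X.mul_mem hxs (X.inv_mem hys), ?_, hxyV⟩
      show α (xs * ys⁻¹) a = a
      have h3 : α ys⁻¹ a = a⁻¹ := by
        conv_lhs => rw [← inv_inv a, ← h2, map_inv, ← MulAut.mul_apply, ← map_mul, inv_mul_cancel,
          map_one]
        rfl
      rw [map_mul, MulAut.mul_apply, h3, map_inv, h1, inv_inv]
    exact fun x hx => hmin K (fun v hv => by show α v a = a; rw [hV v hv]; rfl) hKinv hsome hx
  intro x hx
  ext a
  exact hD (Subgroup.mem_top a) x hx

section Local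

variable [Finite H]

/-- The core contradiction: an odd group `L` centralising all involutions and normalised by a
2-group `T ⊋ V`, in a group transitive on the involutions. -/
theorem local_contradiction (P V N L T : Subgroup H)
    (hV : ∀ z, z ∈ V ↔ z * z = 1) (hV4 : 4 ≤ Nat.card V)
    (hP : IsPGroup 2 P) [hPn : P.Normal] (hVP : V ≤ P) (hPV : ∀ p ∈ P, ∀ z ∈ V, p * z = z * p)
    (hCP : Subgroup.centralizer (P : Set H) ≤ P)
    (htrans : ∀ u ∈ V, ∀ v ∈ V, u ≠ 1 → v ≠ 1 → ∃ n ∈ N, n * u * n⁻¹ = v)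
    (hLN : L ≤ N) (hLinv : Inv N L) (hLodd : Odd (Nat.card L))
    (hLV : ∀ l ∈ L, ∀ z ∈ V, l * z = z * l) (hL1 : L ≠ ⊥)
    (hTN : T ≤ N) (hT : IsPGroup 2 T) (hVT : V ≤ T) (hTne : T ≠ V)
    (hNT : ∀ n ∈ N, ∃ l ∈ L, ∃ m ∈ N, m ∈ Subgroup.normalizer (T : Set H) ∧ n = l * m) :
    False := by
  classical
  haveI : Fact (Nat.Prime 2) := ⟨Nat.prime_two⟩
  haveI := Fintype.ofFinite H
  have hVn : V.Normal := ⟨fun z hz g => by
    rw [hV] at hz ⊢
    rw [show g * z * g⁻¹ * (g * z * g⁻¹) = g * (z * z) * g⁻¹ by group, hz, mul_one, mul_inv_cancel]⟩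
  have hVinv : ∀ X : Subgroup H, Inv X V := fun X n _ z hz => hVn.conj_mem z hz n
  have hcopOf : ∀ X : Subgroup H, IsPGroup 2 X → (Nat.card L).Coprime (Nat.card X) := by
    intro X hX
    obtain ⟨k, hk⟩ := hX.exists_card_eq
    rw [hk]
    exact Nat.Coprime.pow_right _ (Nat.coprime_two_right.2 hLodd)
  have hLx : ∀ X : Subgroup H, IsPGroup 2 X → ∀ z ∈ L, z ∈ X → z = 1 := fun X hX z hzL hzX => by
    have h := Subgroup.inf_eq_bot_of_coprime (hcopOf X hX)
    exact Subgroup.mem_bot.1 (h ▸ (⟨hzL, hzX⟩ : z ∈ L ⊓ X))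
  -- a minimal invariant subgroup not centralised by `L`
  let Bad : Subgroup H → Prop := fun X => X ≤ P ∧ Inv N X ∧ ¬ X ≤ Subgroup.centralizer (L : Set H)
  have hBadP : Bad P := by
    refine ⟨le_rfl, fun n _ x hx => hPn.conj_mem x hx n, fun h => hL1 ?_⟩
    rw [Subgroup.eq_bot_iff_forall]
    exact fun z hz => hLx P hP z hz (hCP (Subgroup.le_centralizer_iff.1 h hz))
  obtain ⟨Q, ⟨hQP, hQinv, hQne⟩, hQmin⟩ :=
    exists_minimal_of_wellFoundedLT Bad ⟨P, hBadP⟩
  set R := Q ⊓ Subgroup.centralizer (L : Set H) with hRdef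
  have hQ2 : IsPGroup 2 Q := hP.to_le hQP
  have hsmall : ∀ X : Subgroup H, X < Q → Inv N X → X ≤ R := by
    intro X hXQ hXinv
    refine le_inf hXQ.le ?_
    by_contra h
    exact hXQ.not_ge (hQmin ⟨hXQ.le.trans hQP, hXinv, h⟩ hXQ.le)
  have hRinv : Inv N R := hQinv.inf hLinv.centralizer
  have hQ1 : ⊥ < Q := bot_lt_iff_ne_bot.2 fun h => hQne (h ▸ bot_le)
  -- squares and commutators
  have hsqR : ∀ a ∈ Q, a * a ∈ R := by
    let Y : Subgroup H := Subgroup.closure {y | ∃ a ∈ Q, y = a * a}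
    obtain ⟨M, -, hMQ, hM⟩ := exists_squares_mem hQ2 hQ1
    have hYQ : Y < Q := lt_of_le_of_lt ((Subgroup.closure_le M).2
      (by rintro _ ⟨a, ha, rfl⟩; exact hM a ha)) hMQ
    have hYinv : Inv N Y := Inv.closure (by
      rintro n hn _ ⟨a, ha, rfl⟩
      exact Subgroup.subset_closure ⟨n * a * n⁻¹, hQinv n hn a ha, by group⟩)
    exact fun a ha => hsmall Y hYQ hYinv (Subgroup.subset_closure ⟨a, ha, rfl⟩)
  have hcmR : ∀ a ∈ Q, ∀ b ∈ Q, a * b * a⁻¹ * b⁻¹ ∈ R := by
    intro a ha b hb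
    have h1 := hsqR _ (Q.mul_mem ha hb)
    have h2 := hsqR _ (Q.mul_mem (Q.mul_mem (Q.inv_mem hb) (Q.inv_mem ha)) hb)
    have h3 := hsqR _ (Q.inv_mem hb)
    have h := R.mul_mem (R.mul_mem h1 h2) h3
    rwa [show a * b * (a * b) * (b⁻¹ * a⁻¹ * b * (b⁻¹ * a⁻¹ * b)) * (b⁻¹ * b⁻¹)
      = a * b * a⁻¹ * b⁻¹ by group] at h
  -- `Q = [Q, L]`
  have hQL : ⁅Q, L⁆ = Q := by
    have hnorm : L ≤ Subgroup.normalizer (Q : Set H) := fun l hl => hQinv.le_normalizer (hLN hl)
    rcases eq_or_lt_of_le (CfsgLib.Coprime.commutator_le_of_normalizes hnorm) with h | h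
    · exact h
    exfalso
    have hinv : Inv N ⁅Q, L⁆ := by
      rw [Subgroup.commutator_def]
      refine Inv.closure ?_
      rintro n hn _ ⟨a, ha, l, hl, rfl⟩
      exact Subgroup.subset_closure ⟨n * a * n⁻¹, hQinv n hn a ha, n * l * n⁻¹, hLinv n hn l hl,
        by simp only [commutatorElement_def]; group⟩
    have h0 : ⁅⁅Q, L⁆, L⁆ = ⊥ := Subgroup.commutator_eq_bot_iff_le_centralizer.2
      ((hsmall _ h hinv).trans inf_le_right)
    exact hQne (Subgroup.commutator_eq_bot_iff_le_centralizer.1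
      (CfsgLib.Coprime.commutator_eq_bot_of_commutator_commutator_eq_bot L Q hnorm (hcopOf Q hQ2)
        (Or.inr (haveI := hQ2.isNilpotent; inferInstance)) h0))
  -- `R` is central in `Q`
  have hRQ : ∀ a ∈ Q, ∀ r ∈ R, a * r = r * a := by
    have h1 : ⁅⁅L, R⁆, Q⁆ = ⊥ := by
      rw [Subgroup.commutator_comm L R,
        Subgroup.commutator_eq_bot_iff_le_centralizer.2 (inf_le_right : R ≤ _),
        Subgroup.commutator_bot_left]
    have h2 : ⁅⁅R, Q⁆, L⁆ = ⊥ := by
      refine Subgroup.commutator_eq_bot_iff_le_centralizer.2 (le_trans ?_ (inf_le_right : R ≤ _))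
      rw [Subgroup.commutator_le]
      exact fun r hr a ha => hcmR r hr.1 a ha
    have h3 := Subgroup.commutator_commutator_eq_bot_of_rotate h1 h2
    rw [hQL, Subgroup.commutator_eq_bot_iff_le_centralizer] at h3
    exact fun a ha r hr => (h3 ha r hr).symm
  -- `R = V`
  have hRV : R ≤ V := by
    intro r hr
    let π := QuotientGroup.mk' V
    have hQb : ∀ a ∈ Q, ∀ b ∈ Q, π a * π b = π b * π a := by
      intro a ha b hb
      rw [← map_mul, ← map_mul, QuotientGroup.mk'_eq_mk']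
      refine ⟨(a * b)⁻¹ * (b * a), ?_, by group⟩
      rw [hV]
      have hc := hcmR b⁻¹ (Q.inv_mem hb) a⁻¹ (Q.inv_mem ha)
      rw [show b⁻¹ * a⁻¹ * b⁻¹⁻¹ * a⁻¹⁻¹ = (a * b)⁻¹ * (b * a) by group] at hc
      -- the square of a commutator
      set c := (a * b)⁻¹ * (b * a) with hcdef
      have hba : b * a = a * b * c := by rw [hcdef]; group
      have hca : a * c = c * a := hRQ a ha c hc
      have hcb : b * c = c * b := hRQ b hb c hc
      have h4 : b * (a * a) = (a * a) * b := hRQ b hb _ (hsqR a ha)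
      have h5 : b * (a * a) = a * a * b * (c * c) := by
        calc b * (a * a) = b * a * a := (mul_assoc _ _ _).symm
          _ = a * b * c * a := by rw [hba]
          _ = a * b * (a * c) := by rw [mul_assoc (a * b), ← hca]
          _ = a * (b * a) * c := by group
          _ = a * a * b * (c * c) := by rw [hba]; group
      rw [h4] at h5
      exact left_eq_mul.1 h5
    haveI : IsMulCommutative (Q.map π) := ⟨⟨by
      rintro ⟨_, a, ha, rfl⟩ ⟨_, b, hb, rfl⟩; exact Subtype.ext (hQb a ha b hb)⟩⟩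
    have hnorm : L.map π ≤ Subgroup.normalizer (Q.map π : Set (H ⧸ V)) := by
      refine Inv.le_normalizer ?_
      rintro _ ⟨l, hl, rfl⟩ _ ⟨a, ha, rfl⟩
      exact ⟨l * a * l⁻¹, hQinv l (hLN hl) a ha, by simp⟩
    have hcop : (Nat.card (L.map π)).Coprime (Nat.card (Q.map π)) :=
      Nat.Coprime.coprime_dvd_left (Subgroup.card_map_dvd _ _)
        (Nat.Coprime.coprime_dvd_right (Subgroup.card_map_dvd _ _) (hcopOf Q hQ2))
    have h := CfsgLib.Coprime.commutator_inf_centralizer_eq_bot (L.map π) (Q.map π) hnorm hcop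
    have hmem : π r ∈ ⁅Q.map π, L.map π⁆ ⊓ Subgroup.centralizer (L.map π : Set (H ⧸ V)) := by
      refine ⟨?_, ?_⟩
      · rw [← Subgroup.map_commutator, hQL]; exact ⟨r, hr.1, rfl⟩
      · rintro _ ⟨l, hl, rfl⟩
        rw [← map_mul, ← map_mul, hr.2 l hl]
    rw [h, Subgroup.mem_bot] at hmem
    exact (QuotientGroup.eq_one_iff r).1 hmem
  have hVQ : V ≤ Q := by
    intro z hz
    rcases eq_or_ne z 1 with rfl | hz1
    · exact Q.one_mem
    obtain ⟨c, hc⟩ := exists_prime_orderOf_dvd_card' 2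
      ((IsPGroup.card_eq_or_dvd hQ2).resolve_left fun h => hQ1.ne' (Subgroup.card_eq_one.1 h))
    rw [← Subgroup.orderOf_coe] at hc
    have hc2 : (c : H) * c = 1 := by rw [← sq, ← hc, pow_orderOf_eq_one]
    have hc1 : (c : H) ≠ 1 := fun h => by rw [h, orderOf_one] at hc; norm_num at hc
    obtain ⟨n, hn, rfl⟩ := htrans c ((hV _).2 hc2) z hz hc1 hz1
    exact hQinv n hn c c.2
  have hRV' : ∀ a ∈ Q, (∀ l ∈ L, l * a = a * l) → a ∈ V := fun a ha h => hRV ⟨ha, h⟩
  have hVR : ∀ z ∈ V, z ∈ R := fun z hz => ⟨hVQ hz, fun l hl => hLV l hl z hz⟩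
  have hsq : ∀ a ∈ Q, a * a ∈ V := fun a ha => hRV (hsqR a ha)
  have hQV : ∃ a ∈ Q, a ∉ V := by
    by_contra! h
    exact hQne fun a ha => (hVR a (h a ha)).2
  -- every element of `V` is a square in `Q`
  have hsurj : ∀ z ∈ V, ∃ a ∈ Q, a * a = z := by
    intro z hz
    rcases eq_or_ne z 1 with rfl | hz1
    · exact ⟨1, Q.one_mem, mul_one 1⟩
    obtain ⟨a, ha, haV⟩ := hQV
    obtain ⟨n, hn, rfl⟩ := htrans (a * a) (hsq a ha) z hz (fun h => haV ((hV a).2 h)) hz1
    exact ⟨n * a * n⁻¹, hQinv n hn a ha, by group⟩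
  -- the quotient `W`
  let W := ↥Q ⧸ V.subgroupOf Q
  let q : W → V := fun w => ⟨(w.out : H) * (w.out : H), hsq _ w.out.2⟩
  have hWeq : ∀ a b : Q, ((a : W) = (b : W) ↔ (a : H)⁻¹ * b ∈ V) := fun a b => by
    rw [QuotientGroup.eq, Subgroup.mem_subgroupOf]; rfl
  have hq : ∀ a : Q, (q (a : W) : H) = (a : H) * a := by
    intro a
    show ((a : W).out : H) * ((a : W).out : H) = _
    obtain ⟨z, hz⟩ := QuotientGroup.mk_out_eq_mul (V.subgroupOf Q) a
    rw [hz]
    show (a : H) * z * ((a : H) * z) = _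
    have hzV : ((z : Q) : H) ∈ V := z.2
    have hc : ((z : Q) : H) * a = a * (z : Q) := (hPV a (hQP a.2) _ hzV).symm
    rw [show (a : H) * (z : Q) * (a * (z : Q)) = a * (((z : Q) : H) * a) * (z : Q) by group, hc,
      show (a : H) * (a * (z : Q)) * (z : Q) = a * a * (((z : Q) : H) * (z : Q)) by group,
      (hV _).1 hzV, mul_one]
  haveI : (V.subgroupOf Q).Normal := hVn.subgroupOf Q
  have hWsq : ∀ w : W, w * w = 1 := by
    intro w
    induction w using QuotientGroup.induction_on with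
    | _ a =>
      rw [← QuotientGroup.mk_mul, QuotientGroup.eq_one_iff]
      exact hsq a a.2
  letI : CommGroup W :=
    { (inferInstance : Group W) with
      mul_comm := fun a b => by
        have h := hWsq (a * b)
        rw [mul_eq_one_iff_eq_inv, mul_inv_rev] at h
        rw [h, inv_eq_of_mul_eq_one_right (hWsq a), inv_eq_of_mul_eq_one_right (hWsq b)] }
  letI : CommGroup V :=
    { (inferInstance : Group V) with
      mul_comm := fun a b => Subtype.ext (hPV a (hVP a.2) b b.2) }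
  have hVsq : ∀ v : V, v * v = 1 := fun v => Subtype.ext ((hV _).1 v.2)
  -- the action of `N`
  let cQ := conjHom N Q hQinv
  have hmapV : ∀ n : N, (V.subgroupOf Q).map (cQ n).toMonoidHom = V.subgroupOf Q := by
    intro n
    refine Subgroup.eq_of_le_of_card_ge ?_ (Subgroup.card_map_of_injective (cQ n).injective).ge
    rintro _ ⟨a, ha, rfl⟩
    exact hVn.conj_mem _ ha n
  let act : N →* MulAut W := MonoidHom.mk'
    (fun n => QuotientGroup.congr _ _ (cQ n) (hmapV n)) (fun m n => by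
      ext w
      induction w using QuotientGroup.induction_on with
      | _ a =>
        show (((cQ (m * n)) a : Q) : W) = ((cQ m (cQ n a) : Q) : W)
        rw [map_mul]; rfl)
  have hact : ∀ (n : N) (a : Q), act n (a : W) = ((cQ n a : Q) : W) := fun n a => rfl
  have hqact : ∀ (n : N) (w : W), (q (act n w) : H) = n * (q w : H) * (n : H)⁻¹ := by
    intro n w
    induction w using QuotientGroup.induction_on with
    | _ a =>
      rw [hact, hq, hq, conjHom_apply]
      group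
  have hqB : ∀ a b d : W, q (a * b * d) * q (a * b) * q d
      = (q (a * d) * q a * q d) * (q (b * d) * q b * q d) := by
    -- the polar form is the commutator
    have hcm : ∀ x y : Q, ∀ c : V, (c : H) = y * x * (y : H)⁻¹ * (x : H)⁻¹ →
        q ((x : W) * (y : W)) * q (x : W) * q (y : W) = c := by
      intro x y c hc
      have hkey : ((q ((x : W) * (y : W))) : H) = (q (x : W) : H) * q (y : W) * c := by
        rw [← QuotientGroup.mk_mul, hq, hq, hq, hc, Subgroup.coe_mul]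
        have hcR : (y : H) * x * (y : H)⁻¹ * (x : H)⁻¹ ∈ R := hcmR y y.2 x x.2
        have h1 := hRQ (x * (y * y) : H) (Q.mul_mem x.2 (Q.mul_mem y.2 y.2)) _ hcR
        calc (x : H) * y * (x * y)
            = x * (y * x * (y : H)⁻¹ * (x : H)⁻¹ * (x * (y * y))) := by group
          _ = x * (x * (y * y) * (y * x * (y : H)⁻¹ * (x : H)⁻¹)) := by rw [← h1]
          _ = _ := by group
      have h : q ((x : W) * (y : W)) = q (x : W) * q (y : W) * c := Subtype.ext hkey
      rw [h, show q (x : W) * q (y : W) * c * q (x : W) * q (y : W)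
        = c * (q (x : W) * q (x : W)) * (q (y : W) * q (y : W)) by ac_rfl, hVsq, hVsq, mul_one,
        mul_one]
    have hcmV : ∀ x y : Q, (y : H) * x * (y : H)⁻¹ * (x : H)⁻¹ ∈ V := fun x y =>
      hRV (hcmR y y.2 x x.2)
    intro a b d
    induction a using QuotientGroup.induction_on with
    | _ a =>
    induction b using QuotientGroup.induction_on with
    | _ b =>
    induction d using QuotientGroup.induction_on with
    | _ d =>
      rw [← QuotientGroup.mk_mul (V.subgroupOf Q) a b, hcm (a * b) d ⟨_, hcmV _ _⟩ rfl,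
        hcm a d ⟨_, hcmV _ _⟩ rfl, hcm b d ⟨_, hcmV _ _⟩ rfl]
      apply Subtype.ext
      show (d : H) * (a * b) * (d : H)⁻¹ * ((a : H) * b)⁻¹ = _ * _
      have h1 := hRQ a a.2 _ (hcmR d d.2 b b.2)
      calc (d : H) * (a * b) * (d : H)⁻¹ * ((a : H) * b)⁻¹
          = (d * a * (d : H)⁻¹ * (a : H)⁻¹) * (a * (d * b * (d : H)⁻¹ * (b : H)⁻¹))
            * (a : H)⁻¹ := by group
        _ = _ := by rw [h1]; group
  have hqzero : ∀ w : W, q w = 1 ↔ w = 1 := by
    intro w
    induction w using QuotientGroup.induction_on with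
    | _ a =>
      rw [QuotientGroup.eq_one_iff, Subgroup.mem_subgroupOf, hV, ← hq]
      exact Subtype.ext_iff
  have hVfix : ∀ n : N, (∀ z ∈ V, (n : H) * z = z * n) → ∀ w, q (act n w) = q w := by
    intro n hn w
    refine Subtype.ext ?_
    rw [hqact, hn _ (q w).2, mul_inv_cancel_right]
  have htrick : ∀ l ∈ L, ∀ b ∈ Q, l * b * l⁻¹ * b⁻¹ ∈ V → l * b = b * l := by
    intro l hl b hb hv
    set v := l * b * l⁻¹ * b⁻¹ with hvdef
    have hlb : l * b * l⁻¹ = v * b := by rw [hvdef]; group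
    have hiter : ∀ i : ℕ, l ^ i * b * (l ^ i)⁻¹ = v ^ i * b := by
      intro i
      induction i with
      | zero => simp
      | succ i ih =>
        calc l ^ (i + 1) * b * (l ^ (i + 1))⁻¹
            = l * (l ^ i * b * (l ^ i)⁻¹) * l⁻¹ := by rw [pow_succ']; group
          _ = l * v ^ i * b * l⁻¹ := by rw [ih]; group
          _ = v ^ i * (l * b * l⁻¹) := by
              rw [(show Commute l v from hLV l hl v hv).pow_right i |>.eq]; group
          _ = v ^ (i + 1) * b := by rw [hlb, pow_succ]; group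
    have hodd : Odd (orderOf l) := hLodd.of_dvd_nat
      (by simpa using orderOf_dvd_natCard (⟨l, hl⟩ : L))
    have h := hiter (orderOf l)
    rw [pow_orderOf_eq_one, one_mul, inv_one, mul_one, right_eq_mul] at h
    have hv1 : v = 1 := by
      obtain ⟨i, hi⟩ := hodd
      rw [hi, pow_succ, pow_mul, sq, (hV v).1 hv, one_pow, one_mul] at h
      exact h
    rw [hv1, one_mul, mul_inv_eq_iff_eq_mul] at hlb
    exact hlb
  haveI : Fintype W := Fintype.ofFinite W
  haveI : Fintype V := Fintype.ofFinite V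
  -- fixed-point-free
  have hfpf : ∀ l ∈ L, ∀ hlN : l ∈ N, ∀ w : W, w ≠ 1 → act ⟨l, hlN⟩ w = w → act ⟨l, hlN⟩ = 1 := by
    intro l hl hlN w hw hfix
    have hodd : Odd (orderOf (⟨l, hlN⟩ : N)) := by
      rw [← Subgroup.orderOf_coe]
      exact hLodd.of_dvd_nat (by simpa using orderOf_dvd_natCard (⟨l, hl⟩ : L))
    refine CfsgLib.AnisotropicForm.isometry_eq_one hVsq hWsq ?_ q hqzero hqB ?_ ?_ _
      (hVfix _ fun z hz => hLV l hl z hz) hodd (by rw [← map_pow, pow_orderOf_eq_one, map_one])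
      hw hfix
    · rwa [← Nat.card_eq_fintype_card]
    · intro v
      obtain ⟨a, ha, hav⟩ := hsurj v v.2
      exact ⟨((⟨a, ha⟩ : Q) : W), Subtype.ext (by rw [hq]; exact hav)⟩
    · intro u v hu hv
      obtain ⟨n, hn, hnv⟩ := htrans u u.2 v v.2 (fun h => hu (Subtype.ext h))
        (fun h => hv (Subtype.ext h))
      refine Finset.card_equiv (act ⟨n, hn⟩).toEquiv fun w => ?_
      simp only [Finset.mem_filter, Finset.mem_univ, true_and, MulEquiv.toEquiv_eq_coe,
        EquivLike.coe_coe]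
      rw [Subtype.ext_iff, Subtype.ext_iff, hqact, ← hnv]
      simp
  -- the kernel of the action inside `T`
  have hTker : ∀ t ∈ T, (∀ b ∈ Q, t * b * t⁻¹ * b⁻¹ ∈ V) → t ∈ V := by
    intro t ht htb
    have hact1 : act ⟨t, hTN ht⟩ = 1 := by
      ext w
      induction w using QuotientGroup.induction_on with
      | _ b =>
        rw [hact]
        show ((cQ ⟨t, hTN ht⟩ b : Q) : W) = (b : W)
        refine ((hWeq b _).2 ?_).symm
        show (b : H)⁻¹ * (t * b * t⁻¹) ∈ V
        have := hVn.conj_mem _ (htb b b.2) (b : H)⁻¹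
        simpa [mul_assoc] using this
    -- `t` centralises `Q`
    have htQ : ∀ b ∈ Q, t * b = b * t := by
      have hstep : ∀ b ∈ Q, ∀ l ∈ L, t * (b * l * b⁻¹ * l⁻¹) = (b * l * b⁻¹ * l⁻¹) * t := by
        intro b hb l hl
        have hc : t * l * t⁻¹ * l⁻¹ ∈ L := L.mul_mem (hLinv t (hTN ht) l hl) (L.inv_mem hl)
        have hcN : t * l * t⁻¹ * l⁻¹ ∈ N := hLN hc
        have hc1 : act ⟨_, hcN⟩ = 1 := by
          have e : (⟨_, hcN⟩ : N) = ⟨t, hTN ht⟩ * ⟨l, hLN hl⟩ * ⟨t, hTN ht⟩⁻¹ * ⟨l, hLN hl⟩⁻¹ :=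
            Subtype.ext rfl
          rw [e, map_mul, map_mul, map_mul, hact1, map_inv, map_inv, hact1]
          simp
        have hcQ : ∀ x ∈ Q, (t * l * t⁻¹ * l⁻¹) * x = x * (t * l * t⁻¹ * l⁻¹) := by
          intro x hx
          refine htrick _ hc x hx ?_
          have h := congrArg (fun f : MulAut W => f ((⟨x, hx⟩ : Q) : W)) hc1
          simp only [hact, MulAut.one_apply] at h
          have h2 := (hWeq _ _).1 h.symm
          have h3 := hVn.conj_mem _ h2 x
          simpa [cQ, mul_assoc] using h3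
        have hv : t * b⁻¹ * t⁻¹ * b⁻¹⁻¹ ∈ V := htb _ (Q.inv_mem hb)
        have hv' := htb b hb
        set v := t * b * t⁻¹ * b⁻¹ with hvdef
        have htb' : t * b * t⁻¹ = v * b := by rw [hvdef]; group
        have hlvb : l * (b⁻¹ * v⁻¹) * l⁻¹ = l * b⁻¹ * l⁻¹ * v⁻¹ := by
          have := hLV l hl v⁻¹ (V.inv_mem hv')
          rw [show l * (b⁻¹ * v⁻¹) * l⁻¹ = l * b⁻¹ * (v⁻¹ * l⁻¹) by group]
          rw [show l * b⁻¹ * l⁻¹ * v⁻¹ = l * b⁻¹ * (l⁻¹ * v⁻¹) by group,
            (show Commute l v⁻¹ from this).inv_left.eq]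
        have hlQ : l * b⁻¹ * l⁻¹ ∈ Q := hQinv l (hLN hl) _ (Q.inv_mem hb)
        rw [← mul_inv_eq_iff_eq_mul]
        calc t * (b * l * b⁻¹ * l⁻¹) * t⁻¹
            = (t * b * t⁻¹) * ((t * l * t⁻¹ * l⁻¹) * (l * (t * b * t⁻¹)⁻¹ * l⁻¹)
                * (t * l * t⁻¹ * l⁻¹)⁻¹) := by group
          _ = v * b * ((t * l * t⁻¹ * l⁻¹) * (l * (v * b)⁻¹ * l⁻¹)
                * (t * l * t⁻¹ * l⁻¹)⁻¹) := by rw [htb']
          _ = v * b * (l * b⁻¹ * l⁻¹ * v⁻¹) := by
              rw [mul_inv_rev, hlvb, hcQ _ (Q.mul_mem hlQ (Q.inv_mem (hVQ hv'))),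
                mul_inv_cancel_right]
          _ = b * (l * b⁻¹ * l⁻¹) * (v * v⁻¹) := by
              have h := hPV (b * (l * b⁻¹ * l⁻¹)) (hQP (Q.mul_mem hb hlQ)) v hv'
              rw [← mul_assoc (b * (l * b⁻¹ * l⁻¹)) v, h]; group
          _ = b * l * b⁻¹ * l⁻¹ := by group
      intro b hb
      have hle : ⁅Q, L⁆ ≤ Subgroup.centralizer ({t} : Set H) := by
        rw [Subgroup.commutator_le]
        intro x hx l hl
        rw [Subgroup.mem_centralizer_singleton_iff, commutatorElement_def]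
        exact (hstep x hx l hl).symm
      rw [hQL] at hle
      exact (Subgroup.mem_centralizer_singleton_iff.1 (hle hb)).symm
    by_contra htV
    obtain ⟨j, hj⟩ := IsPGroup.iff_orderOf.1 hT ⟨t, ht⟩
    rw [Subgroup.orderOf_mk] at hj
    obtain ⟨i, rfl⟩ : ∃ i, j = i + 2 := by
      refine ⟨j - 2, ?_⟩
      by_contra h
      refine htV ((hV t).2 ?_)
      rw [← sq, ← orderOf_dvd_iff_pow_eq_one, hj]
      calc 2 ^ j ∣ 2 ^ 1 := pow_dvd_pow 2 (by omega)
        _ = 2 := rfl
    set s := t ^ 2 ^ i with hsdef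
    have hs4 : orderOf s = 4 := by
      rw [hsdef, orderOf_pow' _ (by positivity), hj, pow_add,
        Nat.gcd_eq_right (Dvd.intro _ rfl), Nat.mul_div_cancel_left _ (by positivity)]
      rfl
    have hsT : s ∈ T := T.pow_mem ht _
    have hs2V : s * s ∈ V := by
      rw [hV, show s * s * (s * s) = s ^ 4 by simp [pow_succ, mul_assoc], ← hs4, pow_orderOf_eq_one]
    obtain ⟨a, ha, haa⟩ := hsurj (s * s)⁻¹ (V.inv_mem hs2V)
    have hsa : s * a = a * s :=
      ((show Commute t a from htQ a ha).pow_left _).eq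
    have hsaV : s * a ∈ V := by
      rw [hV, show s * a * (s * a) = s * (a * s) * a by group, ← hsa,
        show s * (s * a) * a = s * s * (a * a) by group, haa, mul_inv_cancel]
    have hsQ : s ∈ Q := by
      have := Q.mul_mem (hVQ hsaV) (Q.inv_mem ha)
      rwa [mul_inv_cancel_right] at this
    have hsV : s ∈ V := by
      refine hRV' s hsQ fun l hl => ?_
      have h1 : l * s * l⁻¹ * s⁻¹ = 1 := by
        refine hLx Q hQ2 _ ?_ (Q.mul_mem (hQinv l (hLN hl) s hsQ) (Q.inv_mem hsQ))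
        rw [show l * s * l⁻¹ * s⁻¹ = l * (s * l⁻¹ * s⁻¹) by group]
        exact L.mul_mem hl (hLinv s (hTN hsT) _ (L.inv_mem hl))
      rwa [mul_inv_eq_one, mul_inv_eq_iff_eq_mul] at h1
    have h := orderOf_dvd_of_pow_eq_one (show s ^ 2 = 1 by rw [sq]; exact (hV s).1 hsV)
    rw [hs4] at h
    norm_num at h
  -- the normalizer of `T` in `N`
  set N1 := N ⊓ Subgroup.normalizer (T : Set H) with hN1
  have hT1 : T ≤ N1 := le_inf hTN Subgroup.le_normalizer
  have htrans1 : ∀ u ∈ V, ∀ v ∈ V, u ≠ 1 → v ≠ 1 → ∃ n ∈ N1, n * u * n⁻¹ = v := by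
    intro u hu v hv hu1 hv1
    obtain ⟨n, hn, hnv⟩ := htrans u hu v hv hu1 hv1
    obtain ⟨l, hl, m, hm, hmT, rfl⟩ := hNT n hn
    refine ⟨m, ⟨hm, hmT⟩, ?_⟩
    have h := hLV l hl _ (hVn.conj_mem u hu m)
    rw [show l * m * u * (l * m)⁻¹ = l * (m * u * m⁻¹) * l⁻¹ by group, h, mul_inv_cancel_right] at hnv
    exact hnv
  have hTinv : Inv N1 T := inv_of_le_normalizer inf_le_right
  -- `T` centralises `V`
  have hTV : ∀ t ∈ T, ∀ z ∈ V, t * z = z * t := by
    let Vs : Subgroup T := V.subgroupOf T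
    haveI : Vs.Normal := hVn.subgroupOf T
    have hVne : Vs ≠ ⊥ := by
      intro h
      have := congrArg (fun K : Subgroup T => Nat.card K) h
      simp only [Vs, Nat.card_congr (Subgroup.subgroupOfEquivOfLe hVT).toEquiv,
        Subgroup.card_bot] at this
      omega
    haveI : Nontrivial Vs := Vs.nontrivial_iff_ne_bot.2 hVne
    -- a fixed point of conjugation
    obtain ⟨z0, hz0, hz01, hz0c⟩ : ∃ z0 ∈ V, z0 ≠ 1 ∧ ∀ t ∈ T, t * z0 = z0 * t := by
      have hcard : 2 ∣ Nat.card Vs := (IsPGroup.card_eq_or_dvd (hT.to_subgroup Vs)).resolve_left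
        fun h => hVne (Subgroup.card_eq_one.1 h)
      have hmod := IsPGroup.card_modEq_card_fixedPoints (p := 2) (G := ConjAct T)
        (show IsPGroup 2 (ConjAct T) from hT) Vs
      have h2 : 1 < Nat.card (MulAction.fixedPoints (ConjAct T) Vs) := by
        have hpos : 0 < Nat.card (MulAction.fixedPoints (ConjAct T) Vs) := by
          haveI : Nonempty (MulAction.fixedPoints (ConjAct T) Vs) :=
            ⟨⟨1, fun g => Subtype.ext (by simp [ConjAct.Subgroup.val_conj_smul])⟩⟩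
          exact Nat.card_pos
        have hd : 2 ∣ Nat.card (MulAction.fixedPoints (ConjAct T) Vs) :=
          Nat.modEq_zero_iff_dvd.1 (hmod.symm.trans (Nat.modEq_zero_iff_dvd.2 hcard))
        have := Nat.le_of_dvd hpos hd
        omega
      haveI := Finite.one_lt_card_iff_nontrivial.1 h2
      obtain ⟨⟨z, hz⟩, hne⟩ := exists_ne (⟨1, fun g => Subtype.ext
        (by simp [ConjAct.Subgroup.val_conj_smul])⟩ : MulAction.fixedPoints (ConjAct T) Vs)
      refine ⟨((z : T) : H), z.2, fun h => hne (Subtype.ext (Subtype.ext (Subtype.ext h))), ?_⟩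
      intro t ht
      have h := congrArg (fun x : Vs => (((x : T)) : H)) (hz (ConjAct.toConjAct ⟨t, ht⟩))
      simp only [ConjAct.Subgroup.val_conj_smul, ConjAct.toConjAct_smul, Subgroup.coe_mul,
        Subgroup.coe_inv] at h
      rwa [mul_inv_eq_iff_eq_mul] at h
    intro t ht z hz
    rcases eq_or_ne z 1 with rfl | hz1
    · simp
    obtain ⟨n, hn, rfl⟩ := htrans1 z0 hz0 z hz hz01 hz1
    have h := hz0c _ (hTinv n⁻¹ (N1.inv_mem hn) t ht)
    rw [inv_inv] at h
    calc t * (n * z0 * n⁻¹) = n * (n⁻¹ * t * n * z0) * n⁻¹ := by group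
      _ = n * (z0 * (n⁻¹ * t * n)) * n⁻¹ := by rw [h]
      _ = n * z0 * n⁻¹ * t := by group
  -- minimal `X`
  let Big : Subgroup H → Prop := fun X => V < X ∧ X ≤ T ∧ Inv N1 X
  obtain ⟨X, ⟨hVX, hXT, hXinv⟩, hXmin⟩ :=
    exists_minimal_of_wellFoundedLT Big ⟨T, lt_of_le_of_ne hVT (Ne.symm hTne), le_rfl, hTinv⟩
  have hXsmall : ∀ Y : Subgroup H, V ≤ Y → Y ≤ X → Inv N1 Y → (∃ y ∈ Y, y ∉ V) → X ≤ Y := by
    rintro Y hVY hYX hY ⟨y, hy, hyV⟩
    exact hXmin ⟨lt_of_le_of_ne hVY (fun h => hyV (h ▸ hy)), hYX.trans hXT, hY⟩ hYX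
  have hXsq : ∀ x ∈ X, x * x ∈ V := by
    intro x hx
    by_contra hxx
    obtain ⟨M, hVM, hMX, hM⟩ := exists_squares_mem (hT.to_le hXT) hVX
    let s : Set H := (V : Set H) ∪ {y | ∃ a ∈ X, y = a * a}
    have hYM : Subgroup.closure s ≤ M := (Subgroup.closure_le M).2 (Set.union_subset hVM
      (by rintro _ ⟨a, ha, rfl⟩; exact hM a ha))
    have h := hXsmall (Subgroup.closure s) (fun z hz => Subgroup.subset_closure (Or.inl hz))
      (hYM.trans hMX.le) (Inv.closure (by
        rintro n hn y (hy | ⟨a, ha, rfl⟩)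
        · exact Subgroup.subset_closure (Or.inl (hVn.conj_mem y hy n))
        · exact Subgroup.subset_closure (Or.inr ⟨n * a * n⁻¹, hXinv n hn a ha, by group⟩)))
      ⟨x * x, Subgroup.subset_closure (Or.inr ⟨x, hx, rfl⟩), hxx⟩
    exact hMX.not_ge (h.trans hYM)
  obtain ⟨x0, hx0, hx0V⟩ := SetLike.exists_of_lt hVX
  have hx0sq : x0 * x0 ≠ 1 := fun h => hx0V ((hV _).2 h)
  obtain ⟨ys, hys, hysV, hxyV⟩ : ∃ y ∈ X, y ∉ V ∧ x0 * y⁻¹ ∉ V := by
    obtain ⟨v, hv, hv1, hv2⟩ : ∃ v ∈ V, v ≠ 1 ∧ v ≠ x0 * x0 := by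
      by_contra! h
      have hsub : (V : Set H) ⊆ {1, x0 * x0} := fun v hv => by
        rcases eq_or_ne v 1 with h1 | h1
        · exact Or.inl h1
        · exact Or.inr (h v hv h1)
      have h2 := Set.ncard_le_ncard hsub
      rw [← Nat.card_coe_set_eq] at h2
      have h3 : ({1, x0 * x0} : Set H).ncard ≤ 2 := by
        refine (Set.ncard_insert_le _ _).trans ?_
        simp
      have h4 : Nat.card (V : Set H) = Nat.card V := rfl
      omega
    obtain ⟨n, hn, hnv⟩ := htrans1 _ (hXsq x0 hx0) v hv hx0sq hv1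
    refine ⟨n * x0 * n⁻¹, hXinv n hn x0 hx0, fun h => hv1 ?_, fun h => hv2 ?_⟩
    · rw [← hnv, show n * (x0 * x0) * n⁻¹ = n * x0 * n⁻¹ * (n * x0 * n⁻¹) by group, (hV _).1 h]
    · set y := n * x0 * n⁻¹ with hy
      set w := x0 * y⁻¹ with hw
      have hcw : y * w = w * y := hTV y (hXT (hXinv n hn x0 hx0)) w h
      rw [← hnv, show n * (x0 * x0) * n⁻¹ = y * y by rw [hy]; group]
      calc y * y = y * y * (w * w) := by rw [(hV w).1 h, mul_one]
        _ = y * (y * w) * w := by group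
        _ = y * (w * y) * w := by rw [hcw]
        _ = y * w * (y * w) := by group
        _ = w * y * (w * y) := by rw [hcw]
        _ = x0 * x0 := by rw [hw]; group
  -- the image of `L`
  let Lb : Subgroup (MulAut W) := (L.subgroupOf N).map act
  have hLbodd : Odd (Nat.card Lb) := hLodd.of_dvd_nat ((Subgroup.card_map_dvd _ _).trans
    (by rw [Nat.card_congr (Subgroup.subgroupOfEquivOfLe hLN).toEquiv]))
  have hLbfpf : CfsgLib.Frobenius.IsFPF Lb W := by
    rintro ⟨f, ⟨l, hlN⟩, hl, rfl⟩ hf w hw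
    by_contra hw1
    exact hf (Subtype.ext (hfpf l hl hlN w hw1 hw))
  haveI : Nontrivial W := by
    obtain ⟨a, ha, haV⟩ := hQV
    exact ⟨⟨((⟨a, ha⟩ : Q) : W), 1, fun h => haV (((QuotientGroup.eq_one_iff (⟨a, ha⟩ : Q)).1 h))⟩⟩
  haveI : IsZGroup Lb := ⟨fun r hr R => by
    haveI := Fact.mk hr
    haveI := R.2.isNilpotent
    refine CfsgLib.TwoFrobenius.isCyclic_of_abelian_cyclic
      (hLbodd.of_dvd_nat (Subgroup.card_subgroup_dvd_card _)) fun A hA => ?_
    exact (hLbfpf.comp ((R : Subgroup Lb).subtype.comp A.subtype)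
      ((Subgroup.subtype_injective _).comp A.subtype_injective)).isCyclic_of_commutative⟩
  let act1 : N1 →* MulAut W := act.comp (Subgroup.inclusion inf_le_left)
  have hLbinv : Inv act1.range Lb := by
    rintro _ ⟨m, rfl⟩ _ ⟨l, hl, rfl⟩
    refine ⟨Subgroup.inclusion inf_le_left m * l * (Subgroup.inclusion inf_le_left m)⁻¹,
      hLinv _ m.2.1 l hl, ?_⟩
    simp [act1]
  let β : N1 →* MulAut Lb := (conjHom act1.range Lb hLbinv).comp act1.rangeRestrict
  have hV1act : ∀ v : N1, (v : H) ∈ V → act1 v = 1 := by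
    intro v hv
    ext w
    induction w using QuotientGroup.induction_on with
    | _ b =>
      show ((cQ _ b : Q) : W) = (b : W)
      congr 1
      refine Subtype.ext ?_
      show (v : H) * b * (v : H)⁻¹ = b
      rw [← hPV b (hQP b.2) v hv, mul_inv_cancel_right]
  have hmin1 : ∀ K : Subgroup N1, V.subgroupOf N1 ≤ K → (∀ m, ∀ k ∈ K, m * k * m⁻¹ ∈ K) →
      (∃ x ∈ X.subgroupOf N1, x ∈ K ∧ x ∉ V.subgroupOf N1) → X.subgroupOf N1 ≤ K := by
    rintro K hVK hKinv ⟨x, hxX, hxK, hxV⟩ y hy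
    have h := hXsmall (X ⊓ K.map N1.subtype)
      (le_inf hVX.le fun v hv => ⟨⟨v, hT1 (hVT hv)⟩, hVK (by exact hv), rfl⟩) inf_le_left ?_
      ⟨x, ⟨hxX, x, hxK, rfl⟩, hxV⟩ hy
    · obtain ⟨k, hk, he⟩ := h.2
      rwa [show k = y from Subtype.ext he] at hk
    · rintro n hn z ⟨hz, k, hk, rfl⟩
      exact ⟨hXinv n hn _ hz, ⟨n, hn⟩ * k * ⟨n, hn⟩⁻¹, hKinv _ k hk, rfl⟩
  have hfixcyc : ∀ {A : Type _} [Group A] [Finite A] [IsCyclic A], Odd (Nat.card A) →
      ∀ α : N1 →* MulAut A, (∀ v : N1, (v : H) ∈ V → α v = 1) →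
      ∀ x : N1, (x : H) ∈ X → α x = 1 := fun {A} _ _ _ hA α hα x hx =>
    fix_of_cyclic hA α (X.subgroupOf N1) (V.subgroupOf N1) hα (fun y hy => hXsq y hy) hmin1
      (xs := ⟨x0, hT1 (hXT hx0)⟩) (ys := ⟨ys, hT1 (hXT hys)⟩) hx0 hys hx0V hysV hxyV x hx
  -- `X` commutes with `Lb`
  have hβV : ∀ v : N1, (v : H) ∈ V → β v = 1 := by
    intro v hv
    refine MulEquiv.ext fun l => Subtype.ext ?_
    show (act1 v * (l : MulAut W) * (act1 v)⁻¹ : MulAut W) = l
    simp [hV1act v hv]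
  have hXL : ∀ x : N1, (x : H) ∈ X → β x = 1 := by
    intro x hx
    let C := commutator Lb
    haveI : IsCyclic C := IsZGroup.isCyclic_commutator Lb
    let r : MulAut Lb →* MulAut C := MonoidHom.mk'
      (fun e => ((C.equivMapOfInjective e.toMonoidHom e.injective)).trans (MulEquiv.subgroupCongr
        (Subgroup.characteristic_iff_map_eq.1 inferInstance e)))
      (fun e f => by ext c; rfl)
    let a : MulAut Lb →* MulAut (Abelianization Lb) := MonoidHom.mk'
      (fun e => e.abelianizationCongr) (fun e f => by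
        ext c
        induction c using QuotientGroup.induction_on with
        | _ c => rfl)
    have h1 := hfixcyc (A := C) (hLbodd.of_dvd_nat (Subgroup.card_subgroup_dvd_card _)) (r.comp β)
      (fun v hv => by rw [MonoidHom.comp_apply, hβV v hv, map_one]) x hx
    have h2 := hfixcyc (A := Abelianization Lb)
      (hLbodd.of_dvd_nat (Subgroup.card_quotient_dvd_card _)) (a.comp β)
      (fun v hv => by rw [MonoidHom.comp_apply, hβV v hv, map_one]) x hx
    have hC : ∀ c ∈ C, β x c = c := fun c hc => by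
      have h := congrArg (fun f : MulAut C => ((f ⟨c, hc⟩ : C) : Lb)) h1
      exact h
    have hxx : β x * β x = 1 := by
      rw [← map_mul]; exact hβV _ (hXsq x hx)
    refine MulEquiv.ext fun l => ?_
    have hmem : l⁻¹ * β x l ∈ C := by
      have h := congrArg (fun f : MulAut (Abelianization Lb) => f (Abelianization.of l)) h2
      exact QuotientGroup.eq.1 (Eq.symm h)
    have hl2 : β x (β x l) = l := by rw [← MulAut.mul_apply, hxx]; rfl
    have hc2 : (l⁻¹ * β x l) * (l⁻¹ * β x l) = 1 := by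
      have h := hC _ hmem
      rw [map_mul, map_inv, hl2] at h
      nth_rewrite 1 [← h]
      group
    have hodd : Odd (orderOf (l⁻¹ * β x l)) := hLbodd.of_dvd_nat (orderOf_dvd_natCard _)
    have hd := orderOf_dvd_of_pow_eq_one (show (l⁻¹ * β x l) ^ 2 = 1 by rw [sq, hc2])
    have hone : orderOf (l⁻¹ * β x l) = 1 := by
      rcases (Nat.dvd_prime Nat.prime_two).1 hd with h | h
      · exact h
      · rw [h] at hodd; exact absurd hodd (by decide)
    rw [orderOf_eq_one_iff, inv_mul_eq_one] at hone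
    exact hone.symm
  have hcommute : ∀ x : N1, (x : H) ∈ X → ∀ l (hl : l ∈ L),
      act1 x * act ⟨l, hLN hl⟩ = act ⟨l, hLN hl⟩ * act1 x := by
    intro x hx l hl
    have h := congrArg (fun f : MulAut Lb =>
      ((f ⟨_, ⟨⟨l, hLN hl⟩, hl, rfl⟩⟩ : Lb) : MulAut W)) (hXL x hx)
    exact mul_inv_eq_iff_eq_mul.1 h
  -- common fixed vectors of `X`
  let Xb : Subgroup (MulAut W) := (X.subgroupOf N1).map act1
  have hXb : IsPGroup 2 Xb :=
    ((hT.to_le hXT).of_equiv (Subgroup.subgroupOfEquivOfLe (hXT.trans hT1)).symm).map act1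
  have hW2 : IsPGroup 2 W := hQ2.to_quotient _
  obtain ⟨w0, hw01, hw0⟩ : ∃ w : W, w ≠ 1 ∧ ∀ f ∈ Xb, f w = w := by
    have hdvd : 2 ∣ Nat.card W := (IsPGroup.card_eq_or_dvd hW2).resolve_left
      (fun h => not_subsingleton W (Nat.card_eq_one_iff_unique.1 h).1)
    have hmod := IsPGroup.card_modEq_card_fixedPoints (p := 2) (G := Xb) hXb W
    have hd : 2 ∣ Nat.card (MulAction.fixedPoints Xb W) :=
      Nat.modEq_zero_iff_dvd.1 (hmod.symm.trans (Nat.modEq_zero_iff_dvd.2 hdvd))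
    let one : MulAction.fixedPoints Xb W := ⟨1, fun f => map_one (f : MulAut W)⟩
    haveI : Nonempty (MulAction.fixedPoints Xb W) := ⟨one⟩
    have h2 : 1 < Nat.card (MulAction.fixedPoints Xb W) := by
      have := Nat.le_of_dvd Nat.card_pos hd
      omega
    haveI := Finite.one_lt_card_iff_nontrivial.1 h2
    obtain ⟨⟨w, hw⟩, hne⟩ := exists_ne one
    exact ⟨w, fun h => hne (Subtype.ext h), fun f hf => hw ⟨f, hf⟩⟩
  let F : Subgroup W :=
    { carrier := {w | ∀ f ∈ Xb, f w = w}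
      mul_mem' := fun {a b} ha hb f hf => by rw [map_mul, ha f hf, hb f hf]
      one_mem' := fun f _ => map_one f
      inv_mem' := fun {a} ha f hf => by rw [map_inv, ha f hf] }
  let Q2 : Subgroup H := (F.comap (QuotientGroup.mk' (V.subgroupOf Q))).map Q.subtype
  have hQ2mem : ∀ a : Q, (a : H) ∈ Q2 ↔ (a : W) ∈ F := fun a =>
    ⟨fun ⟨b, hb, he⟩ => by rw [show a = b from Subtype.ext he.symm]; exact hb,
      fun h => ⟨a, h, rfl⟩⟩
  have hQ2Q : Q2 ≤ Q := Subgroup.map_subtype_le _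
  have hQ2inv : Inv N Q2 := by
    intro n hn z hz
    obtain ⟨b, hb, rfl⟩ := hz
    have hbF : (b : W) ∈ F := hb
    refine (hQ2mem (cQ ⟨n, hn⟩ b)).2 ?_
    rw [← hact]
    intro f hf
    obtain ⟨x, hx, rfl⟩ := hf
    obtain ⟨l, hl, m, hm, hmT, he⟩ := hNT n hn
    have hn' : (⟨n, hn⟩ : N) = ⟨l, hLN hl⟩ * ⟨m, hm⟩ := Subtype.ext he
    let m1 : N1 := ⟨m, hm, hmT⟩
    have hx' : m1⁻¹ * x * m1 ∈ X.subgroupOf N1 := by
      have := hXinv _ (N1.inv_mem m1.2) _ hx
      simpa [Subgroup.mem_subgroupOf] using this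
    rw [hn', map_mul, MulAut.mul_apply, ← MulAut.mul_apply, hcommute x hx l hl,
      MulAut.mul_apply]
    congr 1
    show act1 x (act1 m1 (b : W)) = act1 m1 (b : W)
    rw [← MulAut.mul_apply, ← map_mul, show x * m1 = m1 * (m1⁻¹ * x * m1) by group, map_mul,
      MulAut.mul_apply, hbF _ ⟨_, hx', rfl⟩]
  obtain ⟨b0, rfl⟩ := QuotientGroup.mk'_surjective (V.subgroupOf Q) w0
  have hQ2eq : Q2 = Q := by
    by_contra h
    have h1 := hRV (hsmall Q2 (lt_of_le_of_ne hQ2Q h) hQ2inv ((hQ2mem b0).2 hw0))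
    exact hw01 ((QuotientGroup.eq_one_iff b0).2 h1)
  refine hx0V (hTker x0 (hXT hx0) fun b hb => ?_)
  have hbF : ((⟨b, hb⟩ : Q) : W) ∈ F := (hQ2mem ⟨b, hb⟩).1 (by rw [hQ2eq]; exact hb)
  have h := hbF _ ⟨⟨x0, hT1 (hXT hx0)⟩, hx0, rfl⟩
  have h2 := (hWeq _ _).1 h.symm
  have h3 := hVn.conj_mem _ h2 b
  simpa [cQ, mul_assoc] using h3

end Local

end CfsgLib.InvolutionsConjugate
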