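import Cfsg.Agent.Lib.TwoGroups.InvolutionsConjugate

/-!
In a solvable group with two commuting involutions and a single class of involutions, the
2-length is at most one.
-/

set_option autoImplicit false
set_option linter.style.haveILetI false

namespace CfsgLib.InvolutionsConjugate

open Cfsg

universe u

/-- There are two commuting involutions and all involutions are conjugate. -/
def Hyp (G : Type*) [Group G] : Prop :=
  (∃ x y : G, x ≠ 1 ∧ x * x = 1 ∧ y ≠ 1 ∧ y * y = 1 ∧ x ≠ y ∧ x * y = y * x) ∧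
    ∀ x y : G, x ≠ 1 → x * x = 1 → y ≠ 1 → y * y = 1 → IsConj x y

theorem exists_involution_lift {G : Type*} [Group G] {N : Subgroup G} [N.Normal]
    (hN : Odd (Nat.card N)) {w : G ⧸ N} (hw : w * w = 1) :
    ∃ z : G, z * z = 1 ∧ (z : G ⧸ N) = w := by
  obtain ⟨x, rfl⟩ := QuotientGroup.mk'_surjective N w
  have hx : x * x ∈ N := by
    rw [← QuotientGroup.eq_one_iff, QuotientGroup.mk_mul]; exact hw
  refine ⟨x ^ Nat.card N, ?_, ?_⟩
  · have h : (⟨x * x, hx⟩ : N) ^ Nat.card N = 1 := pow_card_eq_one'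
    have h' := congrArg Subtype.val h
    simp only [Subgroup.coe_pow, Subgroup.coe_one] at h'
    rw [← pow_two, ← pow_mul, mul_comm, pow_mul, pow_two x, h']
  · obtain ⟨k, hk⟩ := hN
    rw [QuotientGroup.mk_pow, hk, pow_succ, pow_mul, pow_two]
    have hw' : (x : G ⧸ N) * x = 1 := hw
    rw [hw', one_pow, one_mul]
    rfl

theorem hyp_quotient {G : Type*} [Group G] [Finite G] {N : Subgroup G} [N.Normal]
    (hN : Odd (Nat.card N)) (h : Hyp G) : Hyp (G ⧸ N) := by
  have hne : ∀ z : G, z * z = 1 → z ∈ N → z = 1 := by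
    intro z hz hzN
    obtain ⟨k, hk⟩ := hN
    have h1 : (⟨z, hzN⟩ : N) ^ Nat.card N = 1 := pow_card_eq_one'
    rw [hk, pow_succ, pow_mul, pow_two] at h1
    have hz' : (⟨z, hzN⟩ : N) * ⟨z, hzN⟩ = 1 := Subtype.ext hz
    rw [hz', one_pow, one_mul] at h1
    exact congrArg Subtype.val h1
  refine ⟨?_, fun a b ha1 ha hb1 hb => ?_⟩
  · obtain ⟨x, y, hx1, hx, hy1, hy, hxy, hc⟩ := h.1
    refine ⟨x, y, fun e => hx1 (hne x hx ((QuotientGroup.eq_one_iff x).1 e)), ?_,
      fun e => hy1 (hne y hy ((QuotientGroup.eq_one_iff y).1 e)), ?_, fun e => hxy ?_, ?_⟩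
    · rw [← QuotientGroup.mk_mul, hx]; rfl
    · rw [← QuotientGroup.mk_mul, hy]; rfl
    · have h1 := hne (x * y) ?_ ?_
      · rw [mul_eq_one_iff_eq_inv] at h1
        rw [h1, inv_eq_of_mul_eq_one_right hy]
      · rw [show x * y * (x * y) = x * (y * x) * y by group, ← hc,
          show x * (x * y) * y = (x * x) * (y * y) by group, hx, hy, one_mul]
      · rw [← QuotientGroup.eq_one_iff, QuotientGroup.mk_mul, e, ← QuotientGroup.mk_mul, hy]; rfl
    · rw [← QuotientGroup.mk_mul, hc]; rfl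
  · obtain ⟨x, hx, rfl⟩ := exists_involution_lift hN ha
    obtain ⟨y, hy, rfl⟩ := exists_involution_lift hN hb
    exact (QuotientGroup.mk' N).map_isConj (h.2 x y (fun e => ha1 (by rw [e]; rfl)) hx
      (fun e => hb1 (by rw [e]; rfl)) hy)

theorem odd_pPrimeCore {G : Type*} [Group G] [Finite G] : Odd (Nat.card (pPrimeCore 2 G)) :=
  Nat.coprime_two_right.1 (haveI : Fact (Nat.Prime 2) := ⟨Nat.prime_two⟩
    CfsgLib.PCore.pPrimeCore_coprime)

theorem pCore_index_odd : ∀ (n : ℕ) (H : Type u) [Group H] [Finite H], Nat.card H = n →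
    Group.IsSolvable H → pPrimeCore 2 H = ⊥ → Hyp H → (pCore 2 H).index.Coprime 2 := by
  intro n
  induction n using Nat.strong_induction_on with
  | _ n ih =>
  intro H _ _ hn hsol h0 hyp
  haveI : Fact (Nat.Prime 2) := ⟨Nat.prime_two⟩
  by_contra hcon
  set P := pCore 2 H with hPdef
  have hdvd : 2 ∣ P.index := by
    by_contra h
    exact hcon ((Nat.prime_two.coprime_iff_not_dvd.mpr h).symm)
  have hPn : P.Normal := inferInstance
  have hP : IsPGroup 2 P := CfsgLib.PCore.pCore_isPGroup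
  have hps : IsPSolvable 2 H := haveI := hsol; CfsgLib.PCore.isPSolvable_of_isSolvable
  obtain ⟨⟨x0, y0, hx01, hx0, hy01, hy0, hxy, hxyc⟩, hconj⟩ := hyp
  haveI : Nontrivial H := ⟨⟨x0, 1, hx01⟩⟩
  have hP1 : P ≠ ⊥ := CfsgLib.PCore.pCore_ne_bot hps h0
  -- all involutions are central in `P`
  let Z : Subgroup H := P ⊓ Subgroup.centralizer (P : Set H)
  obtain ⟨c, hcZ, hc1, hc2⟩ : ∃ c ∈ Z, c ≠ 1 ∧ c * c = 1 := by
    haveI : Nontrivial P := P.nontrivial_iff_ne_bot.mpr hP1
    haveI := hP.center_nontrivial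
    obtain ⟨c, hc⟩ := exists_prime_orderOf_dvd_card' 2
      ((IsPGroup.card_eq_or_dvd (hP.to_subgroup (Subgroup.center P))).resolve_left
        fun h => not_subsingleton (Subgroup.center P) (Nat.card_eq_one_iff_unique.1 h).1)
    rw [← Subgroup.orderOf_coe, ← Subgroup.orderOf_coe] at hc
    refine ⟨((c : P) : H), ⟨c.1.2, fun v hv =>
      congrArg Subtype.val (Subgroup.mem_center_iff.mp c.2 ⟨v, hv⟩)⟩, fun h => ?_, ?_⟩
    · rw [h, orderOf_one] at hc; norm_num at hc
    · rw [← sq, ← hc, pow_orderOf_eq_one]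
  have hallZ : ∀ z : H, z * z = 1 → z ∈ Z := by
    intro z hz
    rcases eq_or_ne z 1 with rfl | hz1
    · exact Z.one_mem
    obtain ⟨g, rfl⟩ := isConj_iff.1 (hconj c z hc1 hc2 hz1 hz)
    have hZn : Z.Normal := inferInstance
    exact hZn.conj_mem c hcZ g
  let V : Subgroup H :=
    { carrier := {z | z * z = 1}
      mul_mem' := fun {a b} ha hb => by
        have hab : a * b = b * a := (hallZ b hb).2 a (hallZ a ha).1
        show a * b * (a * b) = 1
        rw [show a * b * (a * b) = a * (b * a) * b by group, ← hab,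
          show a * (a * b) * b = (a * a) * (b * b) by group,
          show a * a = 1 from ha, show b * b = 1 from hb, one_mul]
      one_mem' := mul_one 1
      inv_mem' := fun {a} ha => by
        show a⁻¹ * a⁻¹ = 1
        rw [← mul_inv_rev, show a * a = 1 from ha, inv_one] }
  have hVP : V ≤ P := fun z hz => (hallZ z hz).1
  have hPV : ∀ p ∈ P, ∀ z ∈ V, p * z = z * p := fun p hp z hz => (hallZ z hz).2 p hp
  have hV4 : 4 ≤ Nat.card V := by
    obtain ⟨k, hk⟩ := (hP.to_le hVP).exists_card_eq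
    have h3 : ({1, x0, y0} : Set H).ncard = 3 := by
      rw [Set.ncard_eq_three]
      exact ⟨1, x0, y0, Ne.symm hx01, Ne.symm hy01, hxy, rfl⟩
    have hle := Set.ncard_le_ncard (show ({1, x0, y0} : Set H) ⊆ (V : Set H) by
      rintro z (rfl | rfl | rfl) <;> [exact V.one_mem; exact hx0; exact hy0])
    rw [h3, ← Nat.card_coe_set_eq] at hle
    change 3 ≤ Nat.card V at hle
    rw [hk] at hle ⊢
    rcases k with _ | _ | k
    · norm_num at hle
    · norm_num at hle
    · calc 4 = 2 ^ 2 := rfl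
        _ ≤ _ := Nat.pow_le_pow_right (by norm_num) (by omega)
  -- the next term of the upper series and a complement
  let M : Subgroup H := (pPrimeCore 2 (H ⧸ P)).comap (QuotientGroup.mk' P)
  have hMn : M.Normal := by
    refine Subgroup.Normal.comap ?_ _
    infer_instance
  have hrel : (P.relIndex M).Coprime 2 := by
    rw [← CfsgLib.PCore.card_map_mk',
      Subgroup.map_comap_eq_self_of_surjective (QuotientGroup.mk'_surjective _)]
    exact CfsgLib.PCore.pPrimeCore_coprime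
  have hcop : (Nat.card (P.subgroupOf M)).Coprime (P.subgroupOf M).index := by
    obtain ⟨k, hk⟩ := (hP.comap_subtype (K := M)).exists_card_eq
    rw [show Nat.card (P.subgroupOf M) = 2 ^ k from hk]
    exact Nat.Coprime.pow_left _ hrel.symm
  obtain ⟨K₀, hK₀⟩ := Subgroup.exists_right_complement'_of_coprime (N := P.subgroupOf M) hcop
  let K : Subgroup H := K₀.map M.subtype
  have hKM : K ≤ M := Subgroup.map_subtype_le _
  have hK₀card : Nat.card K₀ = (P.subgroupOf M).index := hK₀.symm.index_eq_card.symm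
  have hKcard : Nat.card K = P.relIndex M := by
    rw [Subgroup.card_map_of_injective M.subtype_injective, hK₀card]; rfl
  have hKodd : Odd (Nat.card K) := Nat.coprime_two_right.1 (hKcard ▸ hrel)
  have hK1 : K ≠ ⊥ := by
    intro e
    rw [e, Subgroup.card_bot] at hKcard
    have hMP : M ≤ P := Subgroup.relIndex_eq_one.mp hKcard.symm
    have hb : pPrimeCore 2 (H ⧸ P) = ⊥ := by
      rw [← Subgroup.map_comap_eq_self_of_surjective (QuotientGroup.mk'_surjective P)
        (pPrimeCore 2 (H ⧸ P)), Subgroup.map_eq_bot_iff, QuotientGroup.ker_mk']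
      exact hMP
    rcases subsingleton_or_nontrivial (H ⧸ P) with hs | hs
    · rw [Subgroup.index_eq_card, Nat.card_eq_one_iff_unique.mpr ⟨hs, inferInstance⟩] at hdvd
      exact Nat.prime_two.ne_one (Nat.dvd_one.mp hdvd)
    · rcases CfsgLib.PCore.pCore_ne_bot_or_pPrimeCore_ne_bot
        (CfsgLib.PCore.isPSolvable_quotient hps P) with h | h
      · exact h CfsgLib.PCore.pCore_quotient_pCore
      · exact h hb
  -- Frattini argument
  set N := Subgroup.normalizer (K : Set H) with hNdef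
  have hfrat : ∀ g : H, ∃ v ∈ P, v * g ∈ N := by
    intro g
    let K' : Subgroup H := K.map (MulAut.conj g).toMonoidHom
    have hK'M : K' ≤ M := by
      rintro _ ⟨k, hk, rfl⟩
      exact hMn.conj_mem k (hKM hk) g
    have hK'card : Nat.card (K'.subgroupOf M) = (P.subgroupOf M).index := by
      rw [Nat.card_congr (Subgroup.subgroupOfEquivOfLe hK'M).toEquiv,
        Subgroup.card_map_of_injective (MulEquiv.injective _), hKcard]
      rfl
    haveI : Group.IsNilpotent (P.subgroupOf M) := (hP.comap_subtype (K := M)).isNilpotent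
    obtain ⟨v, hv, he⟩ := CfsgLib.Coprime.conj_complement_of_card (P.subgroupOf M) hcop
      (Or.inl inferInstance) (K'.subgroupOf M) K₀ hK'card hK₀card
    have hmem : ∀ k ∈ K, (v : H) * g * k * ((v : H) * g)⁻¹ ∈ K := by
      intro k hk
      have h1 : (⟨g * k * g⁻¹, hMn.conj_mem k (hKM hk) g⟩ : M) ∈ K'.subgroupOf M := ⟨k, hk, rfl⟩
      have h2 := he.le (Subgroup.smul_mem_pointwise_smul _ (MulAut.conj v) _ h1)
      refine ⟨_, h2, ?_⟩
      simp [MulAut.smul_def, mul_assoc]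
    refine ⟨v, hv, ?_⟩
    refine CfsgLib.Coprime.mem_normalizer_of_forall_conj ?_
    exact hmem
  have hNtop : N.map (QuotientGroup.mk' P) = ⊤ := by
    rw [eq_top_iff]
    intro q _
    obtain ⟨g, rfl⟩ := QuotientGroup.mk'_surjective P q
    obtain ⟨v, hv, hvg⟩ := hfrat g
    refine ⟨v * g, hvg, ?_⟩
    rw [map_mul, show QuotientGroup.mk' P v = 1 from (QuotientGroup.eq_one_iff v).mpr hv, one_mul]
  -- an involution in `N`
  obtain ⟨t, ht⟩ := exists_prime_orderOf_dvd_card' (G := N) 2 (by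
    have h := Subgroup.card_map_dvd N (QuotientGroup.mk' P)
    rw [hNtop, Subgroup.card_top, ← Subgroup.index_eq_card] at h
    exact hdvd.trans h)
  rw [← Subgroup.orderOf_coe] at ht
  have ht2 : (t : H) * t = 1 := by rw [← sq, ← ht, pow_orderOf_eq_one]
  have ht1 : (t : H) ≠ 1 := fun h => by rw [h, orderOf_one] at ht; norm_num at ht
  have htP : (t : H) ∈ P := hVP ht2
  have hKP : ∀ z ∈ K, z ∈ P → z = 1 := by
    intro z hz hzP
    obtain ⟨k, hk⟩ := hP.exists_card_eq
    have h1 : P ⊓ K = ⊥ := Subgroup.inf_eq_bot_of_coprime (by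
      rw [hk]; exact Nat.Coprime.pow_left _ (Nat.coprime_two_left.2 hKodd))
    exact Subgroup.mem_bot.mp (h1 ▸ (⟨hzP, hz⟩ : z ∈ P ⊓ K))
  have htK : ∀ k ∈ K, k * (t : H) = t * k := by
    intro k hk
    have h : (t : H) * k * (t : H)⁻¹ * k⁻¹ = 1 := by
      refine hKP _ (K.mul_mem ((Subgroup.mem_normalizer_iff.1 t.2 k).1 hk) (K.inv_mem hk)) ?_
      rw [show (t : H) * k * (t : H)⁻¹ * k⁻¹ = t * (k * (t : H)⁻¹ * k⁻¹) by group]
      exact P.mul_mem htP (hPn.conj_mem _ (P.inv_mem htP) k)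
    rw [mul_inv_eq_one, mul_inv_eq_iff_eq_mul] at h
    exact h.symm
  -- conjugates of `t` under `N`
  have htrans0 : ∀ z ∈ V, z ≠ 1 → ∃ m ∈ N, m * t * m⁻¹ = z := by
    intro z hz hz1
    obtain ⟨g, rfl⟩ := isConj_iff.1 (hconj t z ht1 ht2 hz1 hz)
    obtain ⟨v, hv, hvg⟩ := hfrat g
    refine ⟨v * g, hvg, ?_⟩
    rw [show v * g * t * (v * g)⁻¹ = v * (g * t * g⁻¹) * v⁻¹ by group, hPV v hv _ hz,
      mul_inv_cancel_right]
  have hVK : ∀ z ∈ V, ∀ k ∈ K, k * z = z * k := by
    intro z hz k hk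
    rcases eq_or_ne z 1 with rfl | hz1
    · simp
    obtain ⟨m, hm, rfl⟩ := htrans0 z hz hz1
    have h := htK _ ((Subgroup.mem_normalizer_iff.1 (N.inv_mem hm) k).1 hk)
    rw [inv_inv] at h
    calc k * (m * t * m⁻¹) = m * (m⁻¹ * k * m * t) * m⁻¹ := by group
      _ = m * (t * (m⁻¹ * k * m)) * m⁻¹ := by rw [h]
      _ = m * t * m⁻¹ * k := by group
  have hVN : V ≤ N := fun z hz => by
    refine CfsgLib.Coprime.mem_normalizer_of_forall_conj fun k hk => ?_
    rw [← hVK z hz k hk, mul_inv_cancel_right]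
    exact hk
  have htrans : ∀ u ∈ V, ∀ v ∈ V, u ≠ 1 → v ≠ 1 → ∃ m ∈ N, m * u * m⁻¹ = v := by
    intro u hu v hv hu1 hv1
    obtain ⟨a, ha, rfl⟩ := htrans0 u hu hu1
    obtain ⟨b, hb, rfl⟩ := htrans0 v hv hv1
    exact ⟨b * a⁻¹, N.mul_mem hb (N.inv_mem ha), by group⟩
  -- `N` is proper
  have hNne : N ≠ ⊤ := by
    intro h
    refine hK1 (le_bot_iff.1 (h0 ▸ CfsgLib.PCore.le_pPrimeCore
      (Subgroup.normalizer_eq_top_iff.1 h) (Nat.coprime_two_right.2 hKodd)))
  -- induction
  have hyN : Hyp N := by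
    refine ⟨⟨⟨x0, hVN hx0⟩, ⟨y0, hVN hy0⟩, fun h => hx01 (congrArg Subtype.val h),
      Subtype.ext hx0, fun h => hy01 (congrArg Subtype.val h), Subtype.ext hy0,
      fun h => hxy (congrArg Subtype.val h), Subtype.ext hxyc⟩, fun a b ha1 ha hb1 hb => ?_⟩
    obtain ⟨m, hm, hmab⟩ := htrans a (congrArg Subtype.val ha) b (congrArg Subtype.val hb)
      (fun h => ha1 (Subtype.ext h)) (fun h => hb1 (Subtype.ext h))
    exact isConj_iff.2 ⟨⟨m, hm⟩, Subtype.ext hmab⟩
  set O := pPrimeCore 2 N with hOdef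
  have hlt : Nat.card (N ⧸ O) < n := by
    rw [← hn]
    refine lt_of_le_of_lt (Nat.le_of_dvd Nat.card_pos (Subgroup.card_quotient_dvd_card O)) ?_
    exact lt_of_le_of_ne (Subgroup.card_le_card_group N) fun h => hNne (Subgroup.eq_top_of_card_eq _ h)
  haveI := hsol
  have hind := ih _ hlt (N ⧸ O) rfl inferInstance CfsgLib.PCore.pPrimeCore_quotient_pPrimeCore
    (hyp_quotient odd_pPrimeCore hyN)
  set Pb := pCore 2 (N ⧸ O)
  obtain ⟨T⟩ := (inferInstance : Nonempty (Sylow 2 N))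
  -- the image of a Sylow subgroup
  have hTmap : (T : Subgroup N).map (QuotientGroup.mk' O) = Pb := by
    let S := T.mapSurjective (QuotientGroup.mk'_surjective O)
    exact le_antisymm (by
      intro q hq
      obtain ⟨k, hk⟩ := IsPGroup.iff_orderOf.1 (T.2.map (QuotientGroup.mk' O)) ⟨q, hq⟩
      rw [Subgroup.orderOf_mk] at hk
      rw [← QuotientGroup.eq_one_iff, ← orderOf_eq_one_iff]
      have h1 : orderOf (q : (N ⧸ O) ⧸ Pb) ∣ 2 ^ k := hk ▸ orderOf_map_dvd (QuotientGroup.mk' Pb) q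
      have h2 : orderOf (q : (N ⧸ O) ⧸ Pb) ∣ Pb.index := orderOf_dvd_natCard _
      exact Nat.eq_one_of_dvd_coprimes (Nat.Coprime.pow_right k hind) h2 h1)
      (CfsgLib.PCore.pCore_le_sylow S)
  have hTO : (T : Subgroup N) ⊔ O = Pb.comap (QuotientGroup.mk' O) := by
    rw [← hTmap, Subgroup.comap_map_eq, QuotientGroup.ker_mk']
  have hTOn : ((T : Subgroup N) ⊔ O).Normal := by
    rw [hTO]; exact Subgroup.Normal.comap inferInstance _
  have hNT0 : ∀ m : N, ∃ l ∈ O, ∃ r : N, r ∈ Subgroup.normalizer ((T : Subgroup N) : Set N) ∧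
      m = l * r := by
    intro m
    let W : Subgroup N := (T : Subgroup N) ⊔ O
    have h := Sylow.normalizer_sup_eq_top' (N := W) T le_sup_left
    have h2 : Subgroup.normalizer ((T : Subgroup N) : Set N) ⊔ O = ⊤ := by
      refine top_le_iff.1 (h ▸ sup_le le_sup_left (sup_le ?_ le_sup_right))
      exact Subgroup.le_normalizer.trans le_sup_left
    have hm : m ∈ O ⊔ Subgroup.normalizer ((T : Subgroup N) : Set N) := by
      rw [sup_comm, h2]; trivial
    rw [← SetLike.mem_coe, Subgroup.normal_mul O] at hm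
    obtain ⟨l, hl, r, hr, rfl⟩ := hm
    exact ⟨l, hl, r, hr, rfl⟩
  let L : Subgroup H := O.map N.subtype
  let T' : Subgroup H := (T : Subgroup N).map N.subtype
  have hLN : L ≤ N := Subgroup.map_subtype_le _
  have hLcard : Nat.card L = Nat.card O := Subgroup.card_map_of_injective N.subtype_injective
  have hLV : ∀ l ∈ L, ∀ z ∈ V, l * z = z * l := by
    rintro _ ⟨l, hl, rfl⟩ z hz
    have hOn : O.Normal := inferInstance
    let c : N := l * ⟨z, hVN hz⟩ * l⁻¹ * ⟨z, hVN hz⟩⁻¹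
    have hcO : c ∈ O := by
      rw [show c = l * ((⟨z, hVN hz⟩ : N) * l⁻¹ * ⟨z, hVN hz⟩⁻¹) by simp [c, mul_assoc]]
      exact O.mul_mem hl (hOn.conj_mem _ (O.inv_mem hl) _)
    have hcV : (c : H) ∈ V := by
      refine V.mul_mem ?_ (V.inv_mem hz)
      show (l : H) * z * (l : H)⁻¹ * ((l : H) * z * (l : H)⁻¹) = 1
      rw [show (l : H) * z * (l : H)⁻¹ * ((l : H) * z * (l : H)⁻¹) = l * (z * z) * (l : H)⁻¹ by group,
        show z * z = 1 from hz, mul_one, mul_inv_cancel]
    obtain ⟨k, hk⟩ := (hP.to_le hVP).exists_card_eq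
    have h1 : L ⊓ V = ⊥ := Subgroup.inf_eq_bot_of_coprime (by
      rw [hk, hLcard]; exact Nat.Coprime.pow_right _ (CfsgLib.PCore.pPrimeCore_coprime))
    have h2 : (c : H) = 1 := Subgroup.mem_bot.mp (h1 ▸ (⟨⟨c, hcO, rfl⟩, hcV⟩ : (c : H) ∈ L ⊓ V))
    simp only [c, Subgroup.coe_mul, Subgroup.coe_inv] at h2
    rw [mul_inv_eq_one, mul_inv_eq_iff_eq_mul] at h2
    exact h2
  have hT2 : IsPGroup 2 T' := T.2.map _
  refine local_contradiction P V N L T' (fun z => Iff.rfl) hV4 hP hVP hPV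
    (CfsgLib.PCore.centralizer_pCore_le hps h0) htrans hLN ?_ ?_ hLV ?_ (Subgroup.map_subtype_le _)
    hT2 ?_ ?_ ?_
  · rintro m hm _ ⟨l, hl, rfl⟩
    exact ⟨⟨m, hm⟩ * l * ⟨m, hm⟩⁻¹, (inferInstance : O.Normal).conj_mem l hl _, rfl⟩
  · rw [hLcard]; exact odd_pPrimeCore
  · intro h
    refine hK1 (le_bot_iff.1 (h ▸ ?_))
    intro k hk
    refine ⟨⟨k, Subgroup.le_normalizer hk⟩, CfsgLib.PCore.le_pPrimeCore
      (inferInstance : (K.subgroupOf N).Normal) ?_ hk, rfl⟩
    rw [Nat.card_congr (Subgroup.subgroupOfEquivOfLe (Subgroup.le_normalizer (H := K))).toEquiv]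
    exact Nat.coprime_two_right.2 hKodd
  · intro z hz
    have hVN' : (V.subgroupOf N).Normal := by
      refine ⟨fun a ha g => ?_⟩
      show (g : H) * a * (g : H)⁻¹ * ((g : H) * a * (g : H)⁻¹) = 1
      rw [show (g : H) * a * (g : H)⁻¹ * ((g : H) * a * (g : H)⁻¹) = g * ((a : H) * a) * (g : H)⁻¹
        by group, show (a : H) * a = 1 from ha, mul_one, mul_inv_cancel]
    have hle : V.subgroupOf N ≤ (T : Subgroup N) :=
      (CfsgLib.PCore.le_pCore hVN' ((hP.to_le hVP).of_equiv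
        (Subgroup.subgroupOfEquivOfLe hVN).symm)).trans (CfsgLib.PCore.pCore_le_sylow T)
    exact ⟨⟨z, hVN hz⟩, hle (by exact hz), rfl⟩
  · intro h
    have hle : (T : Subgroup N) ≤ P.subgroupOf N := fun a ha => hVP (h.le ⟨a, ha, rfl⟩)
    have h1 : Nat.card (N.map (QuotientGroup.mk' P)) = P.relIndex N := CfsgLib.PCore.card_map_mk' P N
    rw [hNtop, Subgroup.card_top, ← Subgroup.index_eq_card] at h1
    have h2 : P.relIndex N ∣ (T : Subgroup N).index := Subgroup.index_dvd_of_le hle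
    exact T.not_dvd_index (hdvd.trans (h1 ▸ h2))
  · intro m hm
    obtain ⟨l, hl, r, hr, he⟩ := hNT0 ⟨m, hm⟩
    refine ⟨l, ⟨l, hl, rfl⟩, r, r.2, ?_, congrArg Subtype.val he⟩
    refine CfsgLib.Coprime.mem_normalizer_of_forall_conj ?_
    rintro _ ⟨a, ha, rfl⟩
    exact ⟨r * a * r⁻¹, (Subgroup.mem_normalizer_iff.1 hr a).1 ha, rfl⟩

/-- A solvable group with two commuting involutions and one class of involutions has 2-length
at most one. -/
theorem pLengthLE_one {G : Type u} [Group G] [Finite G] (hsol : Group.IsSolvable G) (h : Hyp G) :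
    PLengthLE 2 1 G := by
  haveI : Fact (Nat.Prime 2) := ⟨Nat.prime_two⟩
  haveI := hsol
  set N := pPrimeCore 2 G with hN
  have hidx := pCore_index_odd _ (G ⧸ N) rfl inferInstance
    CfsgLib.PCore.pPrimeCore_quotient_pPrimeCore (hyp_quotient odd_pPrimeCore h)
  set M := (pCore 2 (G ⧸ N)).comap (QuotientGroup.mk' N) with hM
  have hMn : M.Normal := by
    refine Subgroup.Normal.comap ?_ _
    infer_instance
  have h2 : M ≤ (upperPSeries 2 G (1 + 1)).1 := by
    refine CfsgLib.PCore.le_upperPSeries_succ (fun h => absurd h (by decide)) (fun _ => ?_)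
    rw [CfsgLib.PCore.upperPSeries_one, ← CfsgLib.PCore.card_map_mk',
      Subgroup.map_comap_eq_self_of_surjective (QuotientGroup.mk'_surjective _)]
    exact IsPGroup.iff_card.mp CfsgLib.PCore.pCore_isPGroup
  have h3 : (⊤ : Subgroup G) ≤ (upperPSeries 2 G (2 + 1)).1 := by
    refine CfsgLib.PCore.le_upperPSeries_succ (fun _ => ?_) (fun h => absurd (by decide : Even 2) h)
    rw [Subgroup.relIndex_top_right]
    refine Nat.Coprime.coprime_dvd_left (Subgroup.index_dvd_of_le h2) ?_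
    rw [hM, Subgroup.index_comap_of_surjective _ (QuotientGroup.mk'_surjective N)]
    exact hidx
  exact top_le_iff.mp h3

end CfsgLib.InvolutionsConjugate
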