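import Cfsg.Prelude.Def_MonsterType
import Cfsg.Agent.Lib.Components.ComponentAction
import Cfsg.Agent.Lib.Components.FStar
import Cfsg.Agent.Lib.Components.Balance
import Cfsg.Agent.Lib.PGroup.Frattini
import Cfsg.Agent.Lib.TwoGroups.SmallEightCore
import Cfsg.Agent.Lib.Struct76.Basic

/-!
The generalized Fitting subgroup of a group with a large extraspecial 2-subgroup.
-/

set_option autoImplicit false

namespace CfsgLib.TwoGroups.LargeExtraStructure

open Subgroup CfsgLib.Components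
open scoped commutatorElement

variable {G : Type*} [Group G] [Finite G]

omit [Finite G] in
/-- Conjugation is injective on subgroups. -/
theorem map_conj_inj {A B : Subgroup G} {g : G}
    (h : A.map (MulAut.conj g).toMonoidHom = B.map (MulAut.conj g).toMonoidHom) : A = B :=
  map_injective (MulAut.conj g).injective h

omit [Finite G] in
/-- A Sylow subgroup of a normal subgroup of a normal subgroup. -/
theorem card_dvd_of_sylow [Finite G] (S : Sylow 2 G) {E L : Subgroup G} [E.Normal] (hLE : L ≤ E)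
    (hLn : (L.subgroupOf E).Normal) :
    ∃ P : Sylow 2 L, (P : Subgroup L).map L.subtype ≤ (S : Subgroup G) ⊓ L := by
  have : Fact (Nat.Prime 2) := ⟨Nat.prime_two⟩
  obtain ⟨Q, hQ⟩ := CfsgLib.Struct76.exists_sylow_inf_normal S E
  obtain ⟨P, hP⟩ := CfsgLib.Struct76.exists_sylow_inf_normal Q (L.subgroupOf E)
  let e : L.subgroupOf E ≃* L := subgroupOfEquivOfLe hLE
  refine ⟨P.mapSurjective (f := e.toMonoidHom) e.surjective, ?_⟩
  rintro _ ⟨_, ⟨x, hx, rfl⟩, rfl⟩
  refine ⟨?_, x.2⟩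
  have h1 : (x : E) ∈ (Q : Subgroup E) := by
    rw [hP] at hx
    exact hx
  rw [hQ] at h1
  exact h1

/-- A simple group of order twice an odd number is commutative. -/
theorem isMulCommutative_of_sylow_le_two {L : Type*} [Group L] [Finite L] [IsSimpleGroup L]
    (P : Sylow 2 L) (hP : Nat.card P ≤ 2) (hev : 2 ∣ Nat.card L) : IsMulCommutative L := by
  have : Fact (Nat.Prime 2) := ⟨Nat.prime_two⟩
  have hd : 2 ∣ Nat.card P := P.dvd_card_of_dvd_card hev
  have hc : Nat.card P = 2 := le_antisymm hP (Nat.le_of_dvd Nat.card_pos hd)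
  have hcyc : IsCyclic P := isCyclic_of_prime_card hc
  have hmin : (Nat.card L).minFac = 2 := by
    rw [Nat.minFac_eq_two_iff]; exact hev
  have hn := IsCyclic.normalizer_le_centralizer hmin hcyc
  let f := MonoidHom.transferSylow P hn
  have hk : ¬ 2 ∣ Nat.card f.ker := MonoidHom.not_dvd_card_ker_transferSylow P hn
  rcases (inferInstance : f.ker.Normal).eq_bot_or_eq_top with h | h
  · have hinj : Function.Injective f := (MonoidHom.ker_eq_bot_iff f).1 h
    refine ⟨⟨fun a b => hinj ?_⟩⟩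
    rw [map_mul, map_mul]
    exact (IsCyclic.commutative (α := P)).is_comm.comm _ _
  · rw [h, card_top] at hk
    exact absurd hev hk

/-- A two-group fixing a nontrivial even-order subgroup centralizes one of its nontrivial elements. -/
theorem mem_of_even {Q K : Subgroup G} (hQ : IsPGroup 2 Q) (z : G) (hz2 : orderOf z = 2)
    (hC : centralizer (Q : Set G) = zpowers z)
    (hodd : ∀ K : Subgroup G, Odd (Nat.card K) → Q ≤ normalizer (K : Set G) → K = ⊥)
    (hne : K ≠ ⊥) (hQK : Q ≤ normalizer (K : Set G)) : z ∈ K := by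
  have : Fact (Nat.Prime 2) := ⟨Nat.prime_two⟩
  have hev : 2 ∣ Nat.card K := by
    by_contra h
    exact hne (hodd K (Nat.odd_iff.2 (by omega)) hQK)
  obtain ⟨s, hs, hs1, hsc, -⟩ := exists_pElement_centralized hQ hQK hev
  rw [hC] at hsc
  obtain ⟨i, rfl⟩ := mem_zpowers_iff.1 hsc
  rw [← zpow_mod_orderOf, hz2] at hs hs1
  rcases Int.emod_two_eq_zero_or_one i with h | h <;> rw [show ((2 : ℕ) : ℤ) = 2 from rfl, h] at hs hs1
  · exact absurd (zpow_zero z) hs1
  · simpa using hs

theorem structure_theorem (Q : Subgroup G) (hQ : Cfsg.IsLargeExtraspecial Q) (z : G)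
    (hz : ((center ↥Q).map Q.subtype) = zpowers z) (M : Subgroup G)
    (hM : M = normalClosure ({z} : Set G)) :
    (IsMulCommutative ↥M ∧ Cfsg.generalizedFittingSubgroup G = Cfsg.pCore 2 G) ∨
    (M = Cfsg.generalizedFittingSubgroup G ∧ IsSimpleGroup ↥M ∧ ¬ IsMulCommutative ↥M) ∨
    (M = Cfsg.generalizedFittingSubgroup G ∧ ∃ (L : Subgroup G) (u : G), u ∈ Q ∧ IsSimpleGroup ↥L ∧
      ¬ IsMulCommutative ↥L ∧ L ⊓ (L).map (MulAut.conj u).toMonoidHom = ⊥ ∧
      (∀ x ∈ L, ∀ y ∈ (L).map (MulAut.conj u).toMonoidHom, x * y = y * x) ∧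
      L ⊔ (L).map (MulAut.conj u).toMonoidHom = M ∧ ∃ z₁ ∈ L, z = z₁ * (u * z₁ * u⁻¹) ∧
      (∃ R : Sylow 2 ↥L, (R : Subgroup ↥L) = (centralizer ({z₁} : Set G)).subgroupOf L ∧
        (frattini ↥(R : Subgroup ↥L)).map ((L.subtype).comp (R : Subgroup ↥L).subtype) ≤ zpowers z₁) ∧
      Q ≠ (Cfsg.pCore 2 ↥(centralizer ({z} : Set G))).map (centralizer ({z} : Set G)).subtype) := by
  classical
  have : Fact (Nat.Prime 2) := ⟨Nat.prime_two⟩
  obtain ⟨⟨⟨hQp, hQfr, -⟩, hQc⟩, hC, hCN, hodd⟩ := hQ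
  rw [hz] at hC hCN
  have hz2 : orderOf z = 2 := by
    rw [← Nat.card_zpowers, ← hz, card_map_of_injective Q.subtype_injective, hQc]
  have hzQ : z ∈ Q := map_subtype_le (center Q) (hz ▸ mem_zpowers z)
  have hQz : ∀ q ∈ Q, q * z = z * q := fun q hq => by
    have hzc : z ∈ centralizer (Q : Set G) := hC ▸ mem_zpowers z
    exact mem_centralizer_iff.1 hzc q hq
  have hCz : ∀ g : G, g * z = z * g → g ∈ normalizer (Q : Set G) := fun g hg => hCN (by
    rw [mem_centralizer_iff]
    rintro _ ⟨i, rfl⟩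
    exact ((show Commute g z from hg).zpow_right i).eq.symm)
  have hzz : z * z = 1 := by rw [← pow_two, ← hz2]; exact pow_orderOf_eq_one z
  have hzne : z ≠ 1 := fun h => by rw [h, orderOf_one] at hz2; exact absurd hz2 (by decide)
  have hzsub : ∀ w ∈ zpowers z, w = 1 ∨ w = z := fun w hw => by
    obtain ⟨i, rfl⟩ := mem_zpowers_iff.1 hw
    rw [← zpow_mod_orderOf, hz2]
    rcases Int.emod_two_eq_zero_or_one i with h | h <;> rw [show ((2 : ℕ) : ℤ) = 2 from rfl, h]
    · exact Or.inl (zpow_zero z)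
    · exact Or.inr (zpow_one z)
  have hin : ∀ K : Subgroup G, K ≠ ⊥ → Q ≤ normalizer (K : Set G) → z ∈ K :=
    fun K hne hQK => mem_of_even hQp z hz2 hC hodd hne hQK
  have hMn : M.Normal := hM ▸ normalClosure_normal
  have hzM : z ∈ M := hM ▸ subset_normalClosure rfl
  have hO : Cfsg.pPrimeCore 2 G = ⊥ := by
    refine hodd _ ?_ le_normalizer_of_normal
    exact Nat.coprime_two_right.1 CfsgLib.PCore.pPrimeCore_coprime
  have hF : Cfsg.fittingSubgroup G = Cfsg.pCore 2 G := fitting_eq_pCore_of_pPrimeCore_eq_bot hO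
  by_cases hR : Cfsg.pCore 2 G = ⊥
  swap
  · left
    set R := Cfsg.pCore 2 G with hRdef
    have hRp : IsPGroup 2 R := CfsgLib.PCore.pCore_isPGroup
    have : Nontrivial R := (nontrivial_iff_ne_bot R).2 hR
    have hZne : (center R).map R.subtype ≠ ⊥ := by
      rw [Ne, (center R).map_eq_bot_iff_of_injective R.subtype_injective]
      exact (nontrivial_iff_ne_bot _).1 hRp.center_nontrivial
    have : ((center R).map R.subtype).Normal := inferInstance
    have hzZ := hin _ hZne le_normalizer_of_normal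
    refine ⟨?_, ?_⟩
    · have hle : M ≤ (center R).map R.subtype := by
        rw [hM]; exact normalClosure_le_normal (Set.singleton_subset_iff.2 hzZ)
      refine ⟨⟨fun a b => Subtype.ext ?_⟩⟩
      obtain ⟨a', ha, ha'⟩ := hle a.2
      obtain ⟨b', -, hb'⟩ := hle b.2
      show (a : G) * b = b * a
      rw [← ha', ← hb', ← map_mul, ← map_mul, mem_center_iff.1 ha b']
    · have hzR : z ∈ R := map_subtype_le _ hzZ
      have hno : ∀ L : Subgroup G, ¬ Cfsg.IsComponent L := by
        intro L hL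
        have hRs : Group.IsSolvable R := haveI := hRp.isNilpotent; inferInstance
        have h1 : L ≤ centralizer (R : Set G) := le_centralizer_of_commutator_eq_bot
          (component_commutator_solvable hL hRs le_normalizer_of_normal)
        have h2 : L ≤ normalizer (Q : Set G) := fun l hl =>
          hCz l (mem_centralizer_iff.1 (h1 hl) z hzR).symm
        have hQs : Group.IsSolvable Q := haveI := hQp.isNilpotent; inferInstance
        have h3 : L ≤ centralizer (Q : Set G) :=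
          le_centralizer_of_commutator_eq_bot (component_commutator_solvable hL hQs h2)
        rw [hC] at h3
        refine component_not_isSolvable hL ?_
        exact Group.isSolvable_of_isSolvable_injective (inclusion_injective h3)
      rw [Cfsg.generalizedFittingSubgroup, hF, show Cfsg.layer G = ⊥ from
        sSup_eq_bot.2 fun L hL => absurd hL (hno L), bot_sup_eq]
  right
  have hFs : Cfsg.generalizedFittingSubgroup G = Cfsg.layer G := by
    rw [Cfsg.generalizedFittingSubgroup, hF, hR, sup_bot_eq]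
  set Ω : Set (Subgroup G) := {L | Cfsg.IsComponent L}
  have hcomm : ∀ L ∈ Ω, ∀ L' ∈ Ω, L ≠ L' → ⁅L, L'⁆ = ⊥ := fun L hL L' hL' h =>
    commutator_components_eq_bot hL hL' h
  have hcen : ∀ L ∈ Ω, L ⊓ centralizer (L : Set G) = ⊥ := fun L hL =>
    le_bot_iff.1 (hR ▸ component_center_le_pCore hO hL)
  have hsimple : ∀ L ∈ Ω, IsSimpleGroup L ∧ ¬ IsMulCommutative L := by
    intro L hL
    refine ⟨?_, quasisimple_not_isMulCommutative hL.2⟩
    have hc : center L = ⊥ := by
      rw [← (center L).map_eq_bot_iff_of_injective L.subtype_injective, map_center_subtype]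
      exact hcen L hL
    have := hL.2.2
    exact MulEquiv.isSimpleGroup
      ((QuotientGroup.quotientMulEquivOfEq hc).trans QuotientGroup.quotientBot).symm
  have hdisj : ∀ A B : Set (Subgroup G), A ⊆ Ω → B ⊆ Ω → Disjoint A B → sSup A ⊓ sSup B = ⊥ := by
    intro A B hA hB hAB
    rw [eq_bot_iff, ← sSup_inf_centralizer_eq_bot (fun L hL L' hL' => hcomm L (hA hL) L' (hA hL'))
      fun L hL => hcen L (hA hL)]
    refine inf_le_inf_left _ (sSup_le fun L' hL' => ?_)
    refine le_centralizer_iff.1 (sSup_le fun L hL => ?_)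
    exact le_centralizer_of_commutator_eq_bot
      (hcomm L (hA hL) L' (hB hL') fun e => Set.disjoint_left.1 hAB hL (e ▸ hL'))
  have hpair : ∀ {L L'}, L ∈ Ω → L' ∈ Ω → L ≠ L' → ∀ x ∈ L, ∀ y ∈ L', x * y = y * x :=
    fun {L L'} hL hL' h x hx y hy => commute_of_commutator_eq_bot (hcomm L hL L' hL' h) hx hy
  have hinter : ∀ {L L'}, L ∈ Ω → L' ∈ Ω → L ≠ L' → L ⊓ L' = ⊥ := fun {L L'} hL hL' h => by
    have h' := hdisj {L} {L'} (Set.singleton_subset_iff.2 hL) (Set.singleton_subset_iff.2 hL')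
      (Set.disjoint_singleton.2 h)
    simpa using h'
  have hinvar : ∀ A : Set (Subgroup G), (∀ q ∈ Q, ∀ L ∈ A, L.map (MulAut.conj q).toMonoidHom ∈ A) →
      Q ≤ normalizer (((sSup A : Subgroup G)) : Set G) := by
    intro A hA q hq
    have key : ∀ q ∈ Q, (sSup A).map (MulAut.conj q).toMonoidHom ≤ sSup A := fun q hq => by
      rw [sSup_eq_iSup, Subgroup.map_iSup]
      refine iSup_le fun L => ?_
      rw [Subgroup.map_iSup]
      exact iSup_le fun hL => le_iSup₂_of_le _ (hA q hq L hL) le_rfl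
    rw [Subgroup.mem_set_normalizer_iff]
    intro y
    refine ⟨fun hy => key q hq ⟨y, hy, rfl⟩, fun hy => ?_⟩
    have h' := key q⁻¹ (inv_mem hq) ⟨_, hy, rfl⟩
    simpa [mul_assoc] using h'
  have hlay : Cfsg.layer G ≠ ⊥ := by
    intro h
    have h1 : centralizer (Cfsg.generalizedFittingSubgroup G : Set G) ≤
        Cfsg.generalizedFittingSubgroup G := centralizer_generalizedFitting_le
    rw [hFs, h] at h1
    exact hzne (mem_bot.1 (h1 (mem_centralizer_iff.2 fun x hx => by
      rw [mem_bot.1 hx, one_mul, mul_one])))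
  obtain ⟨L, hL⟩ : ∃ L, L ∈ Ω := by
    by_contra! h
    exact hlay (sSup_eq_bot.2 fun L hL => absurd hL (h L))
  have hEn : (Cfsg.layer G).Normal := by rw [← hFs]; exact generalizedFitting_normal
  have hzE : z ∈ Cfsg.layer G := hin _ hlay le_normalizer_of_normal
  have hMle : M ≤ Cfsg.layer G := by
    rw [hM]; exact normalClosure_le_normal (Set.singleton_subset_iff.2 hzE)
  -- `Q` is transitive on the components
  set O : Set (Subgroup G) := {K | ∃ q ∈ Q, K = L.map (MulAut.conj q).toMonoidHom}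
  have hOΩ : O ⊆ Ω := by
    rintro _ ⟨q, -, rfl⟩
    exact isComponent_conj q hL
  have hOinv : ∀ q ∈ Q, ∀ K ∈ O, K.map (MulAut.conj q).toMonoidHom ∈ O := by
    rintro q hq _ ⟨r, hr, rfl⟩
    exact ⟨q * r, mul_mem hq hr, map_conj_map_conj _ _ _⟩
  have hLO : L ∈ O := ⟨1, one_mem Q, (map_conj_one L).symm⟩
  have hΩO : Ω ⊆ O := by
    by_contra hne
    obtain ⟨K, hK, hKO⟩ := Set.not_subset.1 hne
    have hB : ∀ q ∈ Q, ∀ K ∈ Ω \ O, K.map (MulAut.conj q).toMonoidHom ∈ Ω \ O := by
      rintro q hq K ⟨hK, hKO⟩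
      refine ⟨isComponent_conj q hK, fun hmem => hKO ?_⟩
      have := hOinv q⁻¹ (inv_mem hq) _ hmem
      rwa [map_conj_map_conj, inv_mul_cancel, map_conj_one] at this
    have h1 : z ∈ sSup O := hin _ (fun h => component_ne_bot hL (le_bot_iff.1 (h ▸ le_sSup hLO)))
      (hinvar O hOinv)
    have h3 : z ∈ sSup (Ω \ O) := hin _
      (fun h => component_ne_bot hK (le_bot_iff.1 (h ▸ le_sSup ⟨hK, hKO⟩))) (hinvar _ hB)
    exact hzne (mem_bot.1 (hdisj O (Ω \ O) hOΩ Set.diff_subset Set.disjoint_sdiff_right ▸ ⟨h1, h3⟩))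
  have hLsimple := hsimple L hL
  by_cases hone : ∀ q ∈ Q, L.map (MulAut.conj q).toMonoidHom = L
  · left
    have hΩeq : Cfsg.layer G = L := le_antisymm (sSup_le fun K hK => by
      obtain ⟨q, hq, rfl⟩ := hΩO hK
      rw [hone q hq]) (component_le_layer hL)
    have hMeq : M = L := by
      rw [hΩeq] at hMle
      haveI := hLsimple.1
      rcases (inferInstance : (M.subgroupOf L).Normal).eq_bot_or_eq_top with h | h
      · rw [subgroupOf_eq_bot, disjoint_iff, inf_eq_left.2 hMle] at h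
        exact absurd (mem_bot.1 (h ▸ hzM)) hzne
      · exact le_antisymm hMle (subgroupOf_eq_top.1 h)
    rw [hFs, hΩeq, hMeq]
    exact ⟨rfl, hLsimple⟩
  right
  push Not at hone
  obtain ⟨u, hu, hune⟩ := hone
  set L' := L.map (MulAut.conj u).toMonoidHom with hL'
  have hL'Ω : L' ∈ Ω := isComponent_conj u hL
  have hne : L ≠ L' := Ne.symm hune
  have hLE : L ≤ Cfsg.layer G := component_le_layer hL
  have hLnE : (L.subgroupOf (Cfsg.layer G)).Normal :=
    (normal_subgroupOf_iff_le_normalizer hLE).2 (layer_le_normalizer_component hL)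
  set C1 := L ⊓ centralizer ({z} : Set G) with hC1
  have hC1z : ∀ {x}, x ∈ C1 ↔ x ∈ L ∧ x * z = z * x := fun {x} =>
    and_congr Iff.rfl mem_centralizer_singleton_iff
  have hC1L : ∀ {x}, x ∈ C1 → x ∈ L := fun {x} hx => (hC1z.1 hx).1
  have hL'm : ∀ {x}, x ∈ L → u * x * u⁻¹ ∈ L' := fun {x} hx => ⟨x, hx, rfl⟩
  -- the commutators with `u`
  have hy : ∀ x ∈ C1, (u * x * u⁻¹) * x⁻¹ ∈ Q := by
    intro x hx
    rw [show u * x * u⁻¹ * x⁻¹ = u * (x * u⁻¹ * x⁻¹) by group]
    exact mul_mem hu ((Subgroup.mem_set_normalizer_iff.1 (hCz x (hC1z.1 hx).2) u⁻¹).1 (inv_mem hu))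
  have hsplit : ∀ {a a'}, a ∈ L → a' ∈ L' → a' * a = 1 → a = 1 ∧ a' = 1 := by
    intro a a' ha ha' h
    have h1 : a = a'⁻¹ := eq_inv_of_mul_eq_one_right h
    have h3 : a ∈ L ⊓ L' := mem_inf.2 ⟨ha, by rw [h1]; exact inv_mem ha'⟩
    rw [hinter hL hL'Ω hne, mem_bot] at h3
    subst h3
    exact ⟨rfl, by simpa using h⟩
  have hcu : ∀ x ∈ L, ∀ w ∈ L, u * x * u⁻¹ * w = w * (u * x * u⁻¹) := fun x hx w hw =>
    (hpair hL hL'Ω hne w hw _ ⟨x, hx, rfl⟩).symm
  have hC1p : ∀ x ∈ C1, ∃ j : ℕ, x ^ 2 ^ j = 1 := by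
    intro x hx
    obtain ⟨j, hj⟩ := hQp ⟨_, hy x hx⟩
    refine ⟨j, ?_⟩
    have h1 : ((u * x * u⁻¹) * x⁻¹) ^ 2 ^ j = 1 := congrArg Subtype.val hj
    rw [(show Commute (u * x * u⁻¹) x⁻¹ from hcu x (hC1L hx) x⁻¹ (inv_mem (hC1L hx))).mul_pow] at h1
    obtain ⟨h3, -⟩ := hsplit (pow_mem (inv_mem (hC1L hx)) _) (pow_mem (hL'm (hC1L hx)) _) h1
    rwa [inv_pow, inv_eq_one] at h3
  -- a Sylow subgroup of `L` centralizes `z`
  obtain ⟨S₀, hS₀⟩ := hQp.exists_le_sylow
  have hzS : ∀ s ∈ (S₀ : Subgroup G), s * z = z * s := by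
    set Z := (center (S₀ : Subgroup G)).map (S₀ : Subgroup G).subtype with hZ
    have hZC : Z ≤ zpowers z := by
      rw [← hC]
      rintro _ ⟨w, hw, rfl⟩
      rw [mem_centralizer_iff]
      intro q hq
      exact congrArg Subtype.val (mem_center_iff.1 hw ⟨q, hS₀ hq⟩)
    have : Nontrivial (S₀ : Subgroup G) := ⟨⟨z, hS₀ hzQ⟩, 1, fun h => hzne (congrArg Subtype.val h)⟩
    have hZne : Z ≠ ⊥ := by
      rw [hZ, Ne, (center (S₀ : Subgroup G)).map_eq_bot_iff_of_injective (S₀ : Subgroup G).subtype_injective]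
      exact (nontrivial_iff_ne_bot _).1 S₀.isPGroup'.center_nontrivial
    obtain ⟨w, hwZ, hw1⟩ : ∃ w ∈ Z, w ≠ 1 := by
      by_contra! h
      exact hZne (le_bot_iff.1 fun w hw => h w hw)
    have hwz : w = z := (hzsub w (hZC hwZ)).resolve_left hw1
    obtain ⟨w', hw', hww⟩ := hwZ
    intro s hs
    rw [← hwz, ← hww]
    exact congrArg Subtype.val (mem_center_iff.1 hw' ⟨s, hs⟩)
  obtain ⟨P, hP⟩ := card_dvd_of_sylow S₀ hLE hLnE
  have hC1P : IsPGroup 2 (C1.subgroupOf L) := by
    rintro ⟨x, hx⟩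
    obtain ⟨j, hj⟩ := hC1p x hx
    exact ⟨j, Subtype.ext (Subtype.ext hj)⟩
  have hPC1 : (P : Subgroup L) = C1.subgroupOf L :=
    (P.is_maximal' hC1P fun x hx => ⟨x.2, mem_centralizer_singleton_iff.2
      (hzS x (hP ⟨x, hx, rfl⟩).1)⟩).symm
  have hsmall : ¬ (∀ x ∈ C1, ∀ x' ∈ C1, x ≠ 1 → x' ≠ 1 → x = x') := by
    intro hall
    have hev : 2 ∣ Nat.card L := by
      by_contra hno
      have key : ∀ s : Finset (Subgroup G), (∀ K ∈ s, K ∈ Ω) → Odd (Nat.card ↥(s.sup id)) := by
        intro s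
        induction s using Finset.induction_on with
        | empty => intro _; simp
        | insert K s hKs ih =>
          intro hs
          have hsΩ : ∀ J ∈ s, J ∈ Ω := fun J hJ => hs J (Finset.mem_insert_of_mem hJ)
          have hKΩ : K ∈ Ω := hs K (Finset.mem_insert_self K s)
          have hKodd : Odd (Nat.card K) := by
            obtain ⟨q, -, rfl⟩ := hΩO hKΩ
            rw [card_map_of_injective (MulAut.conj q).injective]
            exact Nat.odd_iff.2 (by omega)
          rw [Finset.sup_insert, id_eq, CfsgLib.Coprime.card_sup_of_disjoint]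
          · exact hKodd.mul (ih hsΩ)
          · refine le_trans (le_centralizer_iff.1 ?_) (centralizer_le_normalizer _)
            exact Finset.sup_le fun J hJ => le_centralizer_of_commutator_eq_bot
              (hcomm J (hsΩ J hJ) K hKΩ fun e => hKs (e ▸ hJ))
          · rw [Finset.sup_id_eq_sSup, inf_comm, ← sSup_singleton (a := K)]
            exact hdisj _ _ (Set.singleton_subset_iff.2 hKΩ) hsΩ
              (Set.disjoint_singleton_left.2 hKs)
      haveI : Fintype (Subgroup G) := Fintype.ofFinite _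
      refine hlay (hodd _ ?_ le_normalizer_of_normal)
      have h := key Ω.toFinset fun K hK => Set.mem_toFinset.1 hK
      rwa [Finset.sup_id_eq_sSup, Set.coe_toFinset] at h
    haveI := hLsimple.1
    refine hLsimple.2 (isMulCommutative_of_sylow_le_two P ?_ hev)
    by_contra hgt
    have hgt' : 2 < Nat.card ↥(P : Subgroup L) := not_le.1 hgt
    have : Finite ↥(P : Subgroup L) := inferInstance
    let _ := Fintype.ofFinite ↥(P : Subgroup L)
    rw [Nat.card_eq_fintype_card] at hgt'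
    obtain ⟨x, hx⟩ : ∃ x : ↥(P : Subgroup L), x ≠ 1 :=
      Fintype.exists_ne_of_one_lt_card (by omega) 1
    obtain ⟨x', hx'1, hx'2⟩ : ∃ x' : ↥(P : Subgroup L), x' ≠ 1 ∧ x' ≠ x := by
      by_contra! h
      have := Fintype.card_le_of_surjective (fun b : Bool => if b then x else 1) fun y => by
        by_cases hy1 : y = 1
        · exact ⟨false, by simp [hy1]⟩
        · exact ⟨true, by simp [h y hy1]⟩
      simp at this
      omega
    have hm : ∀ y : ↥(P : Subgroup L), ((y : L) : G) ∈ C1 := fun y => by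
      have h' : (y : L) ∈ C1.subgroupOf L := hPC1 ▸ y.2
      exact h'
    exact hx'2 (Subtype.ext (Subtype.ext (hall _ (hm x') _ (hm x)
      (fun h => hx'1 (Subtype.ext (Subtype.ext h))) (fun h => hx (Subtype.ext (Subtype.ext h))))))
  -- there are exactly two components
  have htwo : ∀ K ∈ Ω, K = L ∨ K = L' := by
    by_contra! h
    obtain ⟨K, hK, hKL, hKL'⟩ := h
    obtain ⟨v, hv, rfl⟩ := hΩO hK
    set K := L.map (MulAut.conj v).toMonoidHom with hKdef
    set D := L'.map (MulAut.conj v).toMonoidHom with hDdef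
    have hDK : D ≠ K := fun e => hne (map_conj_inj e).symm
    set B : Set (Subgroup G) := {L, L', D}
    have hBΩ : B ⊆ Ω := by
      rintro _ (rfl | rfl | rfl)
      exacts [hL, hL'Ω, isComponent_conj v hL'Ω]
    have hKB : Disjoint ({K} : Set (Subgroup G)) B := by
      rw [Set.disjoint_singleton_left]
      rintro (e | e | e)
      exacts [hKL e, hKL' e, hDK e.symm]
    have hzero : sSup B ⊓ sSup {K} = ⊥ := by
      rw [inf_comm]; exact hdisj _ _ (Set.singleton_subset_iff.2 hK) hBΩ hKB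
    let y : G → G := fun x => (u * x * u⁻¹) * x⁻¹
    have hval : ∀ x ∈ C1, (y x)⁻¹ * (v * y x * v⁻¹) ∈ zpowers z := by
      intro x hx
      have hq : (y x)⁻¹ ∈ Q := inv_mem (hy x hx)
      rw [show (y x)⁻¹ * (v * y x * v⁻¹) = ⁅(y x)⁻¹, v⁆ by rw [commutatorElement_def]; group]
      rw [← hz]
      refine ⟨⁅(⟨_, hq⟩ : Q), ⟨v, hv⟩⁆, ?_, rfl⟩
      have hle : _root_.commutator Q ≤ center Q := hQfr ▸ CfsgLib.PGroup.commutator_le_frattini hQp
      exact hle (commutator_mem_commutator (mem_top _) (mem_top _))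
    have hinjw : ∀ x ∈ C1, ∀ x' ∈ C1,
        (y x)⁻¹ * (v * y x * v⁻¹) = (y x')⁻¹ * (v * y x' * v⁻¹) → x = x' := by
      intro x hx x' hx' he
      have hyB : ∀ x ∈ C1, y x ∈ sSup B := fun x hx =>
        mul_mem (le_sSup (show L' ∈ B by simp [B]) (hL'm (hC1L hx)))
          (le_sSup (show L ∈ B by simp [B]) (inv_mem (hC1L hx)))
      have hdB : ∀ x ∈ C1, v * (u * x * u⁻¹) * v⁻¹ ∈ sSup B := fun x hx =>
        le_sSup (show D ∈ B by simp [B]) ⟨_, (hL'm (hC1L hx)), rfl⟩
      have hc : (v * x⁻¹ * v⁻¹) * (v * x⁻¹ * v⁻¹ * (v * x'⁻¹ * v⁻¹)⁻¹ * 1) =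
          (v * x⁻¹ * v⁻¹) * (v * x⁻¹ * v⁻¹ * (v * x'⁻¹ * v⁻¹)⁻¹) := by rw [mul_one]
      clear hc
      set d := v * (u * x * u⁻¹) * v⁻¹
      set d' := v * (u * x' * u⁻¹) * v⁻¹
      set c := v * x⁻¹ * v⁻¹
      set c' := v * x'⁻¹ * v⁻¹
      have e1 : v * y x * v⁻¹ = d * c := by simp only [y, d, c]; group
      have e2 : v * y x' * v⁻¹ = d' * c' := by simp only [y, d', c']; group
      rw [e1, e2] at he
      have e3 : c * c'⁻¹ = d⁻¹ * y x * (y x')⁻¹ * d' := by
        calc c * c'⁻¹ = d⁻¹ * y x * ((y x)⁻¹ * (d * c)) * c'⁻¹ := by group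
          _ = d⁻¹ * y x * ((y x')⁻¹ * (d' * c')) * c'⁻¹ := by rw [he]
          _ = _ := by group
      have hmem : c * c'⁻¹ ∈ sSup B ⊓ sSup {K} := by
        refine mem_inf.2 ⟨e3 ▸ mul_mem (mul_mem (mul_mem (inv_mem (hdB x hx)) (hyB x hx)) (inv_mem (hyB x' hx')))
          (hdB x' hx'), ?_⟩
        rw [sSup_singleton]
        exact mul_mem (show c ∈ K from ⟨x⁻¹, inv_mem (hC1L hx), rfl⟩) (inv_mem (show c' ∈ K from ⟨x'⁻¹, inv_mem (hC1L hx'), rfl⟩))
      rw [hzero, mem_bot, mul_inv_eq_one] at hmem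
      exact inv_injective (mul_left_cancel (mul_right_cancel hmem))
    apply hsmall
    intro x hx x' hx' hx1 hx'1
    have h1 : (1 : G) ∈ C1 := one_mem C1
    rcases hzsub _ (hval x hx) with e | e
    · exact absurd (hinjw x hx 1 h1 (by rw [e]; simp [y])) hx1
    rcases hzsub _ (hval x' hx') with e' | e'
    · exact absurd (hinjw x' hx' 1 h1 (by rw [e']; simp [y])) hx'1
    exact hinjw x hx x' hx' (e.trans e'.symm)
  have hlayeq : Cfsg.layer G = L ⊔ L' :=
    le_antisymm (sSup_le fun K hK => by rcases htwo K hK with rfl | rfl; exacts [le_sup_left, le_sup_right])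
      (sup_le hLE (component_le_layer hL'Ω))
  have hMeq : M = L ⊔ L' := by
    refine le_antisymm (hlayeq ▸ hMle) (sup_le ?_ ?_)
    all_goals
      have hLM : L ≤ M := by
        rcases le_or_commutator_eq_bot hL hMn.isSubnormal with h | h
        · exact h
        · exfalso
          refine hsmall fun x hx x' hx' _ _ => ?_
          have htop : ∀ w : L, w ∈ C1.subgroupOf L := fun w => ⟨w.2, mem_centralizer_singleton_iff.2
            (commute_of_commutator_eq_bot h w.2 hzM)⟩
          have hLp : IsPGroup 2 L := fun w => by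
            obtain ⟨j, hj⟩ := hC1P ⟨w, htop w⟩
            exact ⟨j, congrArg Subtype.val hj⟩
          haveI := hLp.isNilpotent
          exact absurd (inferInstance : Group.IsSolvable L) (component_not_isSolvable hL)
    · exact hLM
    · rintro _ ⟨x, hx, rfl⟩
      exact hMn.conj_mem x (hLM hx) u
  -- the decomposition of `z`
  have hnorm : L' ≤ normalizer (L : Set G) := component_le_normalizer hL'Ω hL
  obtain ⟨a, ha, b, hb, hab⟩ : ∃ a ∈ L, ∃ b ∈ L', a * b = z := by
    have h := hMeq ▸ hzM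
    rw [← SetLike.mem_coe, coe_mul_of_right_le_normalizer_left L L' hnorm] at h
    obtain ⟨a, ha, b, hb, e⟩ := Set.mem_mul.1 h
    exact ⟨a, ha, b, hb, e⟩
  have huu : u * u ∈ zpowers z := by
    rw [← hz]
    refine ⟨⟨u, hu⟩ ^ 2, hQfr ▸ CfsgLib.PGroup.pow_mem_frattini hQp _, ?_⟩
    simp [pow_two]
  have hL'u : L'.map (MulAut.conj u).toMonoidHom = L := by
    rw [hL', map_conj_map_conj]
    refine mem_normalizer_iff_map_conj_eq.mp ?_
    have hzn : zpowers z ≤ Cfsg.layer G := zpowers_le.2 hzE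
    exact layer_le_normalizer_component hL (hzn huu)
  have hub : u * b * u⁻¹ = a ∧ u * a * u⁻¹ = b := by
    have e1 : (u * b * u⁻¹) ∈ L := hL'u ▸ ⟨b, hb, rfl⟩
    have e2 : (u * a * u⁻¹) ∈ L' := ⟨a, ha, rfl⟩
    have e3 : (u * a * u⁻¹) * (u * b * u⁻¹) = a * b := by
      rw [hab, show u * a * u⁻¹ * (u * b * u⁻¹) = u * (a * b) * u⁻¹ by group, hab, hQz u hu]
      group
    have hcom := hpair hL hL'Ω hne a ha b hb
    have e4 : (b⁻¹ * (u * a * u⁻¹)) * ((u * b * u⁻¹) * a⁻¹) = 1 := by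
      calc _ = b⁻¹ * ((u * a * u⁻¹) * (u * b * u⁻¹)) * a⁻¹ := by group
        _ = b⁻¹ * (b * a) * a⁻¹ := by rw [e3, hcom]
        _ = 1 := by group
    obtain ⟨e5, e6⟩ := hsplit (mul_mem e1 (inv_mem ha)) (mul_mem (inv_mem hb) e2) e4
    exact ⟨mul_inv_eq_one.1 e5, (inv_mul_eq_one.1 e6).symm⟩
  have hab' : z = a * (u * a * u⁻¹) := by rw [hub.2, hab]
  have hC1a : ∀ w ∈ L, (w * a = a * w ↔ w * z = z * w) := by
    intro w hw
    have hwb : w * b = b * w := hpair hL hL'Ω hne w hw b hb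
    rw [← hab]
    constructor
    · intro h
      calc w * (a * b) = (w * a) * b := by group
        _ = a * (w * b) := by rw [h]; group
        _ = (a * b) * w := by rw [hwb]; group
    · intro h
      refine mul_right_cancel (b := b) ?_
      calc w * a * b = a * b * w := by rw [← h]; group
        _ = a * w * b := by rw [mul_assoc a w b, hwb]; group
  have hCa : (centralizer ({a} : Set G)).subgroupOf L = C1.subgroupOf L := by
    ext w
    rw [mem_subgroupOf, mem_subgroupOf, hC1z, mem_centralizer_singleton_iff, hC1a w w.2]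
    exact ⟨fun h => ⟨w.2, h⟩, fun h => h.2⟩
  refine ⟨by rw [hFs, hlayeq, hMeq], L, u, hu, hLsimple.1, hLsimple.2, hinter hL hL'Ω hne,
    hpair hL hL'Ω hne, hMeq.symm, a, ha, hab', ⟨P, by rw [hPC1, hCa], ?_⟩, ?_⟩
  · rw [map_le_iff_le_comap]
    refine CfsgLib.TwoGroups.SmallEight.frattini_le_of_squares P.isPGroup' _ fun w => ?_
    show ((w * w : ↥(P : Subgroup L)) : L).1 ∈ zpowers a
    have hw : ((w : L) : G) ∈ C1 := by
      have h' : (w : L) ∈ C1.subgroupOf L := hPC1 ▸ w.2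
      exact h'
    set x := ((w : L) : G)
    have hsq : ((u * x * u⁻¹) * x⁻¹) ^ 2 ∈ zpowers z := by
      rw [← hz]
      exact ⟨⟨_, hy x hw⟩ ^ 2, hQfr ▸ CfsgLib.PGroup.pow_mem_frattini hQp _, rfl⟩
    rw [(show Commute (u * x * u⁻¹) x⁻¹ from hcu x (hC1L hw) x⁻¹ (inv_mem (hC1L hw))).mul_pow] at hsq
    show x * x ∈ zpowers a
    have hxx : x⁻¹ ^ 2 = (x * x)⁻¹ := by rw [pow_two, mul_inv_rev]
    rcases hzsub _ hsq with e | e
    · obtain ⟨e1, -⟩ := hsplit (pow_mem (inv_mem (hC1L hw)) 2) (pow_mem (hL'm (hC1L hw)) 2) e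
      rw [hxx, inv_eq_one] at e1
      rw [e1]; exact one_mem _
    · have hcom := hpair hL hL'Ω hne a ha b hb
      rw [← hab, hcom] at e
      have e4 : (b⁻¹ * (u * x * u⁻¹) ^ 2) * ((x⁻¹) ^ 2 * a⁻¹) = 1 := by
        calc _ = b⁻¹ * ((u * x * u⁻¹) ^ 2 * (x⁻¹) ^ 2) * a⁻¹ := by group
          _ = b⁻¹ * (b * a) * a⁻¹ := by rw [e]
          _ = 1 := by group
      obtain ⟨e5, -⟩ := hsplit (mul_mem (pow_mem (inv_mem (hC1L hw)) 2) (inv_mem ha))
        (mul_mem (inv_mem hb) (pow_mem (hL'm (hC1L hw)) 2)) e4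
      rw [mul_inv_eq_one, hxx, inv_eq_iff_eq_inv] at e5
      rw [e5]; exact inv_mem (mem_zpowers a)
  · intro hQeq
    apply hsmall
    set E1 := (Cfsg.layer G).subgroupOf (centralizer ({z} : Set G)) with hE1
    have hE1n : E1.Normal := inferInstance
    have hE1p : IsPGroup 2 E1 := by
      rintro ⟨⟨w, hw⟩, hwE⟩
      have hwE' : w ∈ L ⊔ L' := hlayeq ▸ hwE
      rw [← SetLike.mem_coe, coe_mul_of_right_le_normalizer_left L L' hnorm] at hwE'
      obtain ⟨c, hc, d, hd, rfl⟩ := Set.mem_mul.1 hwE'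
      rw [mem_centralizer_singleton_iff] at hw
      have hcd := hpair hL hL'Ω hne c hc d hd
      -- both coordinates centralize `z`
      have hda : d * a = a * d := (hpair hL hL'Ω hne a ha d hd).symm
      have hcb : c * b = b * c := hpair hL hL'Ω hne c hc b hb
      have hab2 := hpair hL hL'Ω hne a ha b hb
      have e4 : (d * b * d⁻¹ * b⁻¹) * (c * a * c⁻¹ * a⁻¹) = 1 := by
        have h1 : c * d * (a * b) = a * b * (c * d) := by rw [hab]; exact hw
        have h3 : (c * a) * (d * b) = (a * c) * (b * d) := by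
          calc (c * a) * (d * b) = c * (a * d) * b := by group
            _ = c * (d * a) * b := by rw [hda]
            _ = c * d * (a * b) := by group
            _ = a * b * (c * d) := h1
            _ = a * (b * c) * d := by group
            _ = a * (c * b) * d := by rw [hcb]
            _ = (a * c) * (b * d) := by group
        have h5 : (c * a * c⁻¹ * a⁻¹) * (d * b * d⁻¹ * b⁻¹) = 1 := by
          have hx : (a * c)⁻¹ * (c * a) ∈ L := mul_mem (inv_mem (mul_mem ha hc)) (mul_mem hc ha)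
          have hy' : (d * b) * (b * d)⁻¹ ∈ L' := mul_mem (mul_mem hd hb) (inv_mem (mul_mem hb hd))
          have h6 : ((a * c)⁻¹ * (c * a)) * ((d * b) * (b * d)⁻¹) = 1 := by
            calc _ = (a * c)⁻¹ * ((c * a) * (d * b)) * (b * d)⁻¹ := by group
              _ = 1 := by rw [h3]; group
          rw [hpair hL hL'Ω hne _ hx _ hy'] at h6
          obtain ⟨h7, h8⟩ := hsplit hx hy' h6
          rw [inv_mul_eq_one] at h7
          rw [mul_inv_eq_one] at h8
          rw [show c * a * c⁻¹ * a⁻¹ = (c * a) * (a * c)⁻¹ by group,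
            show d * b * d⁻¹ * b⁻¹ = (d * b) * (b * d)⁻¹ by group, h7, h8]
          group
        rwa [hpair hL hL'Ω hne _ (mul_mem (mul_mem (mul_mem hc ha) (inv_mem hc)) (inv_mem ha)) _
          (mul_mem (mul_mem (mul_mem hd hb) (inv_mem hd)) (inv_mem hb))] at h5
      obtain ⟨e5, e6⟩ := hsplit (mul_mem (mul_mem (mul_mem hc ha) (inv_mem hc)) (inv_mem ha))
        (mul_mem (mul_mem (mul_mem hd hb) (inv_mem hd)) (inv_mem hb)) e4
      have hca : c * a = a * c := by
        have := mul_inv_eq_one.1 e5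
        exact mul_inv_eq_iff_eq_mul.1 this
      have hdb : d * b = b * d := by
        have := mul_inv_eq_one.1 e6
        exact mul_inv_eq_iff_eq_mul.1 this
      obtain ⟨i, hi⟩ := hC1p c (hC1z.2 ⟨hc, (hC1a c hc).1 hca⟩)
      obtain ⟨d', hd', rfl⟩ : ∃ d' ∈ L, u * d' * u⁻¹ = d := hd
      have hd'a : d' * a = a * d' := by
        rw [← hub.2] at hdb
        have := congrArg (fun w => u⁻¹ * w * u) hdb
        simpa [mul_assoc] using this
      obtain ⟨j, hj⟩ := hC1p d' (hC1z.2 ⟨hd', (hC1a d' hd').1 hd'a⟩)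
      refine ⟨i + j, Subtype.ext (Subtype.ext ?_)⟩
      show (c * (u * d' * u⁻¹)) ^ 2 ^ (i + j) = 1
      rw [(show Commute c (u * d' * u⁻¹) from hcd).mul_pow, pow_add, pow_mul, hi, one_pow,
        one_mul, mul_comm, pow_mul, conj_pow, hj]
      simp
    have hC1Q : C1 ≤ Q := by
      rw [hQeq]
      intro x hx
      exact ⟨⟨x, hx.2⟩, CfsgLib.PCore.le_pCore hE1n hE1p (hLE (hC1L hx)), rfl⟩
    intro x hx x' hx' hx1 hx'1
    have key : ∀ x ∈ C1, x ≠ 1 → x⁻¹ = a := by
      intro x hx hx1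
      have hmem : u * x * u⁻¹ * x⁻¹ ∈ zpowers z := by
        rw [← hz]
        refine ⟨⁅(⟨u, hu⟩ : Q), ⟨x, hC1Q hx⟩⁆, ?_, rfl⟩
        have hle : _root_.commutator Q ≤ center Q := hQfr ▸ CfsgLib.PGroup.commutator_le_frattini hQp
        exact hle (commutator_mem_commutator (mem_top _) (mem_top _))
      rcases hzsub _ hmem with e | e
      · exact absurd (inv_eq_one.1 (hsplit (inv_mem (hC1L hx)) (hL'm (hC1L hx)) e).1) hx1
      · have hcom := hpair hL hL'Ω hne a ha b hb
        rw [← hab, hcom] at e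
        have e4 : (b⁻¹ * (u * x * u⁻¹)) * (x⁻¹ * a⁻¹) = 1 := by
          calc _ = b⁻¹ * ((u * x * u⁻¹) * x⁻¹) * a⁻¹ := by group
            _ = b⁻¹ * (b * a) * a⁻¹ := by rw [e]
            _ = 1 := by group
        obtain ⟨e5, -⟩ := hsplit (mul_mem (inv_mem (hC1L hx)) (inv_mem ha))
          (mul_mem (inv_mem hb) (hL'm (hC1L hx))) e4
        exact mul_inv_eq_one.1 e5
    exact inv_injective ((key x hx hx1).trans (key x' hx' hx'1).symm)

end CfsgLib.TwoGroups.LargeExtraStructure
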