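import Cfsg.Agent.Lib.TwoGroups.RankTwoSimpleCore
import Cfsg.Agent.Lib.TwoGroups.PSLThreeFusion
import Cfsg.Agent.Lib.Fusion.Group
import Cfsg.Agent.S5339
import Cfsg.Agent.S3116

/-!
The 2-fusion system of a group without subgroups of index 2 whose Sylow 2-subgroups are
semidihedral or wreathed is simple.
-/

set_option autoImplicit false
set_option linter.unusedSectionVars false

namespace CfsgLib.TwoGroups.RankTwoFusion

open Subgroup CfsgLib.TwoGroups.WR CfsgLib.TwoGroups.WRF CfsgLib.TwoGroups.WRC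

variable {G : Type*} [Group G] [Finite G] {S : Sylow 2 G}

/-- A subgroup of `S` closed under fusion. -/
def FusionClosed (W : Subgroup (S : Subgroup G)) : Prop :=
  ∀ u ∈ W, ∀ v : (S : Subgroup G), IsConj (u : G) (v : G) → v ∈ W

theorem sd_closed {r : ℕ} {x y : (S : Subgroup G)} (h : SD.SD (S : Subgroup G) r x y)
    (hG : ∀ H : Subgroup G, H.index ≠ 2) {W : Subgroup (S : Subgroup G)}
    (hinv : ∀ t : (S : Subgroup G), orderOf t = 2 → t ∈ W) (hW : FusionClosed W) : W = ⊤ := by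
  have hy : y ∈ W := hinv y h.ordy
  have hx2 : x ^ (2 : ℤ) ∈ W := by
    have h1 : x ^ (2 : ℤ) * y ∈ W := hinv _ (SD.orderOf_xy_even h ⟨1, rfl⟩)
    exact (W.mul_mem_cancel_right hy).1 h1
  have hI : x ^ (2 * r : ℤ) ∈ W := by rw [zpow_mul]; exact W.zpow_mem hx2 r
  have hxy : x ^ (1 : ℤ) * y ∈ W := hW _ hI _ (RankTwo.sd_fusion h hG).1
  have hx : x ∈ W := by simpa using (W.mul_mem_cancel_right hy).1 hxy
  refine eq_top_iff.2 fun g _ => ?_
  obtain ⟨k, rfl | rfl⟩ := h.gen g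
  · exact W.zpow_mem hx k
  · exact W.mul_mem (W.zpow_mem hx k) hy

theorem wr_closed {n : ℕ} {x y z : (S : Subgroup G)} (h : WR (S : Subgroup G) n x y z)
    (hG : ∀ H : Subgroup G, H.index ≠ 2) {W : Subgroup (S : Subgroup G)}
    (hinv : ∀ t : (S : Subgroup G), orderOf t = 2 → t ∈ W) (hW : FusionClosed W) : W = ⊤ := by
  have hz : z ∈ W := hinv z h.ordz
  have hu : el x y 1 (-1) ∈ W := by
    have h1 : el x y 1 (-1) * z ∈ W := hinv _ (WR.orderOf_elz_involution h 1)
    exact (W.mul_mem_cancel_right hz).1 h1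
  rcases u_index h with ⟨h2, -⟩ | ⟨-, -, g, hg, -, hgJ⟩
  · have h6 := (RankTwo.wr_indices h hG).1
    omega
  have himg : ∀ a b : ℤ, ∃ c d : ℤ, ((el x y c d : (S : Subgroup G)) : G) =
      g * ((el x y a b : (S : Subgroup G)) : G) * g⁻¹ := fun a b => by
    obtain ⟨_, ⟨c, d, rfl⟩, e⟩ := (mem_normalizer_iff.mp hg _).mp
      ((coe_mem_uG h).mpr (el_mem_base h a b))
    exact ⟨c, d, e⟩
  obtain ⟨c, d, hcd⟩ := himg 1 1
  obtain ⟨a, b, hab⟩ := himg 1 (-1)
  obtain ⟨e, f, hef⟩ := himg 0 1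
  have habW : el x y a b ∈ W := hW _ hu _ (isConj_iff.2 ⟨g, hab.symm⟩)
  -- compare the images modulo squares
  have hpow : el x y c d ^ ((2 : ℤ) ^ (n - 1)) = el x y (2 ^ (n - 1)) 0 := by
    apply Subtype.ext
    rw [Subgroup.coe_zpow, hcd, conj_zpow, ← Subgroup.coe_zpow, el_zpow h, one_mul]
    exact hgJ
  have hsum : el x y c d = el x y (a + 2 * e) (b + 2 * f) := by
    apply Subtype.ext
    rw [← el_mul h, show el x y (2 * e) (2 * f) = el x y e f * el x y e f by
      rw [el_mul h, two_mul, two_mul], Subgroup.coe_mul, Subgroup.coe_mul, hcd, hab, hef,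
      show el x y 1 1 = el x y 1 (-1) * (el x y 0 1 * el x y 0 1) by
        rw [el_mul h, el_mul h]; norm_num, Subgroup.coe_mul, Subgroup.coe_mul]
    group
  rw [el_zpow h, h.eq_iff, two_pow_split h] at hpow
  rw [h.eq_iff, two_pow_split h] at hsum
  have hpos : (0 : ℤ) < 2 ^ (n - 1) := by positivity
  have hc : (2 : ℤ) ∣ c - 1 := Int.dvd_of_mul_dvd_mul_right hpos.ne'
    (by rw [show (c - 1) * 2 ^ (n - 1) = c * 2 ^ (n - 1) - 2 ^ (n - 1) by ring]; exact hpow.1)
  have hd : (2 : ℤ) ∣ d := Int.dvd_of_mul_dvd_mul_right hpos.ne' (by simpa using hpow.2)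
  have ha : Odd a := by
    have h1 := (Dvd.intro _ rfl).trans hsum.1
    rw [Int.odd_iff]; omega
  have hb : Even b := by
    have h1 := (Dvd.intro _ rfl).trans hsum.2
    rw [Int.even_iff]; omega
  have hba : el x y b a ∈ W := by
    have h1 : z * el x y a b * z⁻¹ ∈ W := W.mul_mem (W.mul_mem hz habW) (W.inv_mem hz)
    rwa [z_mul h, mul_inv_cancel_right] at h1
  have hD : el x y (a * a - b * b) 0 ∈ W := by
    have h1 := W.mul_mem (W.zpow_mem habW a) (W.zpow_mem hba (-b))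
    rwa [el_zpow h, el_zpow h, el_mul h, show b * a + a * -b = 0 by ring,
      show a * a + b * -b = a * a - b * b by ring] at h1
  have hx : x ∈ W := by
    have hodd : Odd (a * a - b * b) := (ha.mul ha).sub_even (hb.mul_right b)
    obtain ⟨u, v, huv⟩ : IsCoprime (a * a - b * b) ((2 : ℤ) ^ n) :=
      IsCoprime.pow_right (by
        obtain ⟨k, hk⟩ := hodd
        exact ⟨1, -k, by rw [hk]; ring⟩)
    have h1 := W.zpow_mem hD u
    rw [el_zpow h] at h1
    have e1 : el x y ((a * a - b * b) * u) (0 * u) = el x y 1 0 := by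
      rw [h.eq_iff]
      exact ⟨⟨-v, by linear_combination huv⟩, ⟨0, by ring⟩⟩
    rwa [e1, el_x] at h1
  have hy : y ∈ W := by rw [← h.rel]; exact W.mul_mem (W.mul_mem hz hx) (W.inv_mem hz)
  refine eq_top_iff.2 fun s _ => ?_
  obtain ⟨k, l, rfl | rfl⟩ := h.gen s
  · exact W.mul_mem (W.zpow_mem hx k) (W.zpow_mem hy l)
  · exact W.mul_mem (W.mul_mem (W.zpow_mem hx k) (W.zpow_mem hy l)) hz

/-- The 2-fusion system of a group with semidihedral or wreathed Sylow 2-subgroups and no subgroup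
of index 2 is simple. -/
theorem isSimple (S : Sylow 2 G)
    (hS : Cfsg.IsQuasiDihedral (S : Subgroup G) ∨ Cfsg.IsWreathed (S : Subgroup G))
    (hG : ∀ H : Subgroup G, H.index ≠ 2) :
    (Cfsg.groupFusionSystem (S : Subgroup G)).IsSimple 2 := by
  classical
  have : Fact (Nat.Prime 2) := ⟨Nat.prime_two⟩
  have hcl : ∀ {W : Subgroup (S : Subgroup G)},
      (∀ t : (S : Subgroup G), orderOf t = 2 → t ∈ W) → FusionClosed W → W = ⊤ := by
    intro W hinv hW
    rcases hS with h | h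
    · obtain ⟨r, x, y, h⟩ := SD.exists_sd h
      exact sd_closed h hG hinv hW
    · obtain ⟨n, x, y, z, h⟩ := WR.exists_wr h
      exact wr_closed h hG hinv hW
  have hone : ∀ s t : G, orderOf s = 2 → orderOf t = 2 → IsConj s t := by
    intro s t hs ht
    rcases hS with h | h
    · obtain ⟨r, x, y, h⟩ := SD.exists_sd h
      exact (RankTwo.sd_isConj_J h hG hs).trans (RankTwo.sd_isConj_J h hG ht).symm
    · obtain ⟨n, x, y, z, h⟩ := WR.exists_wr h
      exact (RankTwo.wr_isConj_jE h hG hs).trans (RankTwo.wr_isConj_jE h hG ht).symm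
  have hAut : IsPGroup 2 (MulAut (S : Subgroup G)) := by
    rcases hS with h | h
    · exact Cfsg.Agent.S3116.result S.isPGroup' (Or.inr h)
    · exact PSLThree.mulAut_wreathed h
  have hS1 : (S : Subgroup G) ≠ ⊥ := by
    intro hbot
    rcases hS with h | h
    · obtain ⟨r, x, y, h⟩ := SD.exists_sd h
      exact Involutions.ne_one_of_involution h.ordy
        (Subtype.ext (Subgroup.mem_bot.1 (hbot ▸ y.2)))
    · obtain ⟨n, x, y, z, h⟩ := WR.exists_wr h
      exact Involutions.ne_one_of_involution h.ordz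
        (Subtype.ext (Subgroup.mem_bot.1 (hbot ▸ z.2)))
  refine Cfsg.Agent.S5339.result 2 S.isPGroup' _ (CfsgLib.Fusion.group_saturated S) hS1
    (PSLThree.autGroup_eq_inn S hAut) fun T hT => ?_
  by_cases hT0 : T = ⊥
  · exact Or.inl hT0
  refine Or.inr (le_antisymm hT.1 ?_)
  have fuse : ∀ u ∈ T, ∀ v ∈ (S : Subgroup G), IsConj u v → v ∈ T := by
    intro u hu v hv huv
    obtain ⟨c, hc⟩ := isConj_iff.1 huv
    have hR : Subgroup.zpowers u ≤ T := Subgroup.zpowers_le.2 hu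
    have := hT.2 _ hR _ (CfsgLib.Fusion.group_conjHom_mem (hR.trans hT.1) (g := c) fun w hw => by
      obtain ⟨k, rfl⟩ := Subgroup.mem_zpowers_iff.1 hw
      rw [← conj_zpow, hc]
      exact zpow_mem hv k) ⟨u, Subgroup.mem_zpowers u⟩
    rw [← hc]
    exact this
  obtain ⟨t, htT, ht⟩ : ∃ t ∈ T, orderOf t = 2 := by
    obtain ⟨j, hj⟩ := (S.isPGroup'.to_le hT.1).exists_card_eq
    have hj0 : j ≠ 0 := fun e => hT0 (Subgroup.card_eq_one.1 (by rw [hj, e, pow_zero]))
    obtain ⟨t, ht⟩ := exists_prime_orderOf_dvd_card' (G := T) 2 (hj ▸ dvd_pow_self 2 hj0)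
    exact ⟨t, t.2, by rw [Subgroup.orderOf_coe, ht]⟩
  have hW : T.subgroupOf (S : Subgroup G) = ⊤ := hcl
    (fun s hs => fuse t htT _ s.2 (hone t s ht (by rw [Subgroup.orderOf_coe, hs])))
    fun u hu v huv => fuse _ hu _ v.2 huv
  exact Subgroup.subgroupOf_eq_top.1 hW

end CfsgLib.TwoGroups.RankTwoFusion
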