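import Cfsg.Agent.Lib.TwoGroups.Semidihedral

/-!
Quaternion subgroups of order 8 in quasi-dihedral groups.
-/

set_option autoImplicit false
set_option linter.unusedSectionVars false

namespace CfsgLib.TwoGroups.SD

theorem quaternion_facts :
    (∃ u v : QuaternionGroup 2, u * v ≠ v * u) ∧
      (∀ g : QuaternionGroup 2, g ^ 4 = 1) ∧
      (∀ g : QuaternionGroup 2, g ^ 2 = 1 → ∀ k, g * k = k * g) := by
  decide

variable {S : Type*} [Group S] [Finite S] {r : ℕ} {x y : S}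

theorem q8_struct (h : SD S r x y) {Q : Subgroup S} (e : Q ≃* QuaternionGroup 2) :
    ∃ a : ℤ, Odd a ∧ x ^ a * y ∈ Q ∧ x ^ (2 * r : ℤ) ∈ Q ∧
      Q = Subgroup.closure {x ^ (2 * r : ℤ), x ^ a * y} ∧
      ∀ g ∈ Q, ∃ i : ℤ, g = x ^ (2 * r * i : ℤ) ∨ g = x ^ (2 * r * i : ℤ) * (x ^ a * y) := by
  obtain ⟨⟨u, v, huv⟩, h4, h2⟩ := quaternion_facts
  have hr := r_pos h
  set u' : Q := e.symm u with hu'
  set v' : Q := e.symm v with hv'
  have hne : u' * v' ≠ v' * u' := fun he => huv (by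
    simpa [hu', hv'] using congrArg e he)
  have hpow4 : ∀ g : Q, g ^ 4 = 1 := fun g => e.injective (by rw [map_pow, h4, map_one])
  have hinv : ∀ g : Q, g ^ 2 = 1 → ∀ k, g * k = k * g := fun g hg k => e.injective (by
    rw [map_mul, map_mul]
    exact h2 _ (by rw [← map_pow, hg, map_one]) _)
  have hidx := index_zpowers h
  obtain ⟨k, hk, hkn⟩ : ∃ k : Q, (k : S) ∈ Subgroup.zpowers x ∧ ¬ ∀ l : Q, k * l = l * k := by
    by_cases hu : (u' : S) ∈ Subgroup.zpowers x
    · exact ⟨u', hu, fun hh => hne (hh v')⟩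
    by_cases hv : (v' : S) ∈ Subgroup.zpowers x
    · exact ⟨v', hv, fun hh => hne (hh u').symm⟩
    refine ⟨u' * v', ?_, fun hh => hne ?_⟩
    · rw [Subgroup.coe_mul, Subgroup.mul_mem_iff_of_index_two hidx]
      exact iff_of_false hu hv
    · have := hh u'
      rw [mul_assoc] at this
      exact (mul_left_cancel this).symm
  obtain ⟨w, hw, hwn⟩ : ∃ w : Q, (w : S) ∉ Subgroup.zpowers x ∧ ¬ ∀ l : Q, w * l = l * w := by
    by_cases hu : (u' : S) ∈ Subgroup.zpowers x
    · by_cases hv : (v' : S) ∈ Subgroup.zpowers x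
      · exfalso
        obtain ⟨i, hi⟩ := Subgroup.mem_zpowers_iff.mp hu
        obtain ⟨j, hj⟩ := Subgroup.mem_zpowers_iff.mp hv
        exact hne (Subtype.ext (by
          rw [Subgroup.coe_mul, Subgroup.coe_mul, ← hi, ← hj]
          exact ((Commute.refl x).zpow_zpow i j).eq))
      · exact ⟨v', hv, fun hh => hne (hh u').symm⟩
    · exact ⟨u', hu, fun hh => hne (hh v')⟩
  obtain ⟨i, hi⟩ := Subgroup.mem_zpowers_iff.mp hk
  have hx2 : x ^ (2 * r : ℤ) ∈ Q := by
    have ho : orderOf (x ^ i) = 4 := by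
      have ha : ¬ (k ^ (2 ^ 1)) = 1 := fun hh => hkn (hinv k hh)
      have := orderOf_eq_prime_pow ha (hpow4 k)
      rw [← Subgroup.orderOf_coe, ← hi] at this
      exact this
    rcases (orderOf_zpow_eq_four h).mp ho with e' | e'
    · rw [← e', hi]; exact k.2
    · rw [zpow_neg] at e'
      rw [← inv_mem_iff, ← e', hi]; exact k.2
  obtain ⟨a, ha | ha⟩ := h.gen (w : S)
  · exact absurd (ha ▸ Subgroup.zpow_mem_zpowers x a) hw
  have haodd : Odd a := by
    rcases Int.even_or_odd a with he | ho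
    · exfalso
      refine hwn (hinv w (Subtype.ext ?_))
      rw [Subgroup.coe_pow, ha, ← orderOf_xy_even h he, pow_orderOf_eq_one, Subgroup.coe_one]
    · exact ho
  have hmem : x ^ a * y ∈ Q := ha ▸ w.2
  have hform : ∀ g ∈ Q, g ∈ Subgroup.zpowers x → ∃ j : ℤ, g = x ^ (2 * r * j : ℤ) := by
    intro g hg hgx
    obtain ⟨c, rfl⟩ := Subgroup.mem_zpowers_iff.mp hgx
    have := congrArg Subtype.val (hpow4 ⟨_, hg⟩)
    simp only [Subgroup.coe_pow, Subgroup.coe_one] at this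
    rw [← zpow_natCast, ← zpow_mul, zpow_x_eq_one h] at this
    obtain ⟨d, hd⟩ := this
    refine ⟨d, ?_⟩
    congr 1
    push_cast at hd
    linarith
  have hall : ∀ g ∈ Q, ∃ j : ℤ, g = x ^ (2 * r * j : ℤ) ∨ g = x ^ (2 * r * j : ℤ) * (x ^ a * y) := by
    intro g hg
    by_cases hgx : g ∈ Subgroup.zpowers x
    · obtain ⟨j, hj⟩ := hform g hg hgx
      exact ⟨j, Or.inl hj⟩
    · obtain ⟨j, hj⟩ := hform (g * (x ^ a * y)⁻¹) (Q.mul_mem hg (Q.inv_mem hmem)) (by
        rw [Subgroup.mul_mem_iff_of_index_two hidx, inv_mem_iff]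
        exact iff_of_false hgx (ha ▸ hw))
      exact ⟨j, Or.inr (by rw [← hj, inv_mul_cancel_right])⟩
  refine ⟨a, haodd, hmem, hx2, le_antisymm ?_ ((Subgroup.closure_le _).mpr ?_), hall⟩
  · intro g hg
    have h1 : x ^ (2 * r : ℤ) ∈ Subgroup.closure {x ^ (2 * r : ℤ), x ^ a * y} :=
      Subgroup.subset_closure (by simp)
    have h2 : ∀ j : ℤ, x ^ (2 * r * j : ℤ) ∈ Subgroup.closure {x ^ (2 * r : ℤ), x ^ a * y} :=
      fun j => by
        have := Subgroup.zpow_mem _ h1 j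
        rwa [← zpow_mul] at this
    obtain ⟨j, rfl | rfl⟩ := hall g hg
    · exact h2 j
    · exact Subgroup.mul_mem _ (h2 j) (Subgroup.subset_closure (by simp))
  · rintro g (rfl | rfl) <;> assumption

theorem q8_conj (h : SD S r x y) {Q₁ Q₂ : Subgroup S} (e₁ : Q₁ ≃* QuaternionGroup 2)
    (e₂ : Q₂ ≃* QuaternionGroup 2) : ∃ s : S, Q₁.map (MulAut.conj s).toMonoidHom = Q₂ := by
  obtain ⟨a, ha, -, -, hQ₁, -⟩ := q8_struct h e₁
  obtain ⟨b, hb, -, -, hQ₂, -⟩ := q8_struct h e₂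
  obtain ⟨c, hc⟩ := exists_conj_xy h (a := a) (b := b) (even_iff_two_dvd.mp (hb.sub_odd ha))
  refine ⟨x ^ c, ?_⟩
  rw [hQ₁, hQ₂, MonoidHom.map_closure, Set.image_pair]
  simp only [MulEquiv.coe_toMonoidHom, MulAut.conj_apply, hc]
  rw [((Commute.refl x).zpow_zpow c _).eq, mul_inv_cancel_right]

theorem q8_facts (h : SD S r x y) {Q : Subgroup S} (e : Q ≃* QuaternionGroup 2) :
    Subgroup.centralizer (Q : Set S) = (Subgroup.center Q).map Q.subtype ∧
      Q.relIndex (Subgroup.normalizer (Q : Set S)) = 2 := by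
  obtain ⟨a, ha, hw, hx2, -, hall⟩ := q8_struct h e
  have hr := r_pos h
  have hidx := index_zpowers h
  constructor
  · refine le_antisymm ?_ ?_
    · intro g hg
      rw [Subgroup.mem_centralizer_iff] at hg
      obtain ⟨k, rfl | rfl⟩ := h.gen g
      · obtain ⟨j, rfl⟩ := (commute_pow_xy h).mp (hg _ hw).symm
        have hmem : x ^ (4 * r * j : ℤ) ∈ Q := by
          rw [show (4 * r * j : ℤ) = 2 * r * (2 * j) by ring, zpow_mul]
          exact Q.zpow_mem hx2 _
        exact ⟨⟨_, hmem⟩, Subgroup.mem_center_iff.mpr fun l => Subtype.ext (hg _ l.2), rfl⟩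
      · exfalso
        obtain ⟨j, hj⟩ := (commute_pow_xy h).mp (hg _ hx2)
        have h2 := mul_left_cancel₀ (show (2 * (r : ℤ)) ≠ 0 by positivity)
          (show 2 * (r : ℤ) * 1 = 2 * r * (2 * j) by linarith)
        omega
    · rintro _ ⟨g, hg, rfl⟩
      exact Subgroup.mem_centralizer_iff.mpr fun l hl =>
        congrArg Subtype.val (Subgroup.mem_center_iff.mp hg ⟨l, hl⟩)
  · have hxQ : ∀ c : ℤ, x ^ c ∈ Q ↔ (2 * (r : ℤ)) ∣ c := by
      intro c
      constructor
      · intro hc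
        obtain ⟨j, e' | e'⟩ := hall _ hc
        · obtain ⟨d, hd⟩ := (zpow_x_eq h).mp e'
          exact ⟨j - 4 * d, by linarith⟩
        · rw [← mul_assoc, ← zpow_add] at e'
          exact absurd e'.symm (not_mem_y h _ _)
      · rintro ⟨j, rfl⟩
        rw [zpow_mul]; exact Q.zpow_mem hx2 j
    have hnorm : ∀ c : ℤ, x ^ c ∈ Subgroup.normalizer (Q : Set S) → (r : ℤ) ∣ c := by
      intro c hc
      have h1 := (Subgroup.mem_normalizer_iff.mp hc _).mp hw
      rw [conj_pow h] at h1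
      have h2 := Q.mul_mem h1 (Q.inv_mem hw)
      rw [show ∀ u v w : S, u * w * (v * w)⁻¹ = u * v⁻¹ from fun u v w => by group, ← zpow_neg,
        ← zpow_add, hxQ] at h2
      obtain ⟨d, hd⟩ := h2
      have h3 := mul_left_cancel₀ (show (2 : ℤ) ≠ 0 by norm_num)
        (show (2 : ℤ) * (c * (1 - 2 * r)) = 2 * (r * d) by linarith)
      exact ⟨d + 2 * c, by linear_combination h3⟩
    have hxr : x ^ (r : ℤ) ∈ Subgroup.normalizer (Q : Set S) := by
      rw [Subgroup.mem_normalizer_iff]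
      have hmap : ∀ g ∈ Q, x ^ (r : ℤ) * g * (x ^ (r : ℤ))⁻¹ ∈ Q := by
        intro g hg
        obtain ⟨j, rfl | rfl⟩ := hall g hg
        · rwa [((Commute.refl x).zpow_zpow _ _).eq, mul_inv_cancel_right]
        · rw [← mul_assoc (x ^ (2 * r * j : ℤ)), ← zpow_add, conj_pow h,
            show 2 * (r : ℤ) * j + a + r * (2 - 4 * r) = 2 * r * (j + 1 - 2 * r) + a by ring,
            zpow_add, mul_assoc]
          exact Q.mul_mem ((hxQ _).mpr (dvd_mul_right _ _)) hw
      have himg : Q.map (MulAut.conj (x ^ (r : ℤ))).toMonoidHom = Q := by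
        refine Subgroup.eq_of_le_of_card_ge ?_ ?_
        · rintro _ ⟨g, hg, rfl⟩
          exact hmap g hg
        · rw [Subgroup.card_map_of_injective (MulAut.conj (x ^ (r : ℤ))).injective]
      intro g
      refine ⟨hmap g, fun hg => ?_⟩
      rw [← himg] at hg
      obtain ⟨l, hl, hlg⟩ := hg
      simp only [MulEquiv.coe_toMonoidHom, MulAut.conj_apply] at hlg
      exact (mul_left_cancel (mul_right_cancel hlg)) ▸ hl
    rw [Subgroup.relIndex, Subgroup.index_eq_two_iff]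
    refine ⟨⟨_, hxr⟩, fun b => ?_⟩
    simp only [Subgroup.mem_subgroupOf, Subgroup.coe_mul]
    have par : ∀ c d : ℤ, (r : ℤ) ∣ c → (∃ m : ℤ, d = c + r * (2 * m + 1)) →
        Xor (x ^ d ∈ Q) (x ^ c ∈ Q) := by
      rintro c d ⟨j, rfl⟩ ⟨m, rfl⟩
      simp only [hxQ, show (r : ℤ) * j + r * (2 * m + 1) = r * (j + 2 * m + 1) by ring,
        show (2 * (r : ℤ)) = r * 2 by ring,
        mul_dvd_mul_iff_left (show (r : ℤ) ≠ 0 by positivity)]
      rcases Int.even_or_odd j with ⟨q, rfl⟩ | ⟨q, rfl⟩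
      · exact Or.inr ⟨⟨q, by ring⟩, by omega⟩
      · exact Or.inl ⟨⟨q + m + 1, by ring⟩, by omega⟩
    obtain ⟨c, e' | e'⟩ := h.gen (b : S) <;> rw [e']
    · rw [← zpow_add]
      exact par c _ (hnorm c (e' ▸ b.2)) ⟨0, by ring⟩
    · have hcn : x ^ (c - a) ∈ Subgroup.normalizer (Q : Set S) := by
        have := Subgroup.mul_mem _ b.2 (Subgroup.inv_mem _
          (Subgroup.le_normalizer (H := Q) hw))
        rwa [e', show ∀ u v w : S, u * w * (v * w)⁻¹ = u * v⁻¹ from fun u v w => by group,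
          ← zpow_neg, ← zpow_add, ← sub_eq_add_neg] at this
      rw [show x ^ c * y * x ^ (r : ℤ) = x ^ (c - a + (4 * r - 1) * r : ℤ) * (x ^ a * y) by
          rw [mul_assoc, y_mul h, ← mul_assoc, ← zpow_add, ← mul_assoc, ← zpow_add]; congr 2; ring,
        show x ^ c * y = x ^ (c - a) * (x ^ a * y) by
          rw [← mul_assoc, ← zpow_add, sub_add_cancel],
        Q.mul_mem_cancel_right hw, Q.mul_mem_cancel_right hw]
      exact par _ _ (hnorm _ hcn) ⟨2 * r - 1, by ring⟩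

end CfsgLib.TwoGroups.SD
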