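import Cfsg.Prelude.Def_Transfer
import Cfsg.Agent.Lib.TwoGroups.SemidihedralQ8
import Cfsg.Agent.Lib.TwoGroups.FusionTools
import Cfsg.Agent.Lib.Transfer.NormalComplement

/-!
Fusion in a finite group with quasi-dihedral Sylow 2-subgroup.
-/

set_option autoImplicit false
set_option linter.unusedSectionVars false

namespace CfsgLib.TwoGroups.SDF

open Subgroup CfsgLib.TwoGroups.FT CfsgLib.TwoGroups.SD

/-- A subgroup of index 2 contains a pair whose cyclic groups are permuted in a 3-cycle. -/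
theorem mem_of_cycle {K : Type*} [Group K] {H : Subgroup K} (hH : H.index = 2) {u v g : K}
    (h1 : g * u * g⁻¹ = v ∨ g * u * g⁻¹ = v⁻¹)
    (h2 : g * v * g⁻¹ = u * v ∨ g * v * g⁻¹ = (u * v)⁻¹) : u ∈ H ∧ v ∈ H := by
  have hN : H.Normal := Subgroup.normal_of_index_eq_two hH
  have hc : ∀ w : K, g * w * g⁻¹ ∈ H ↔ w ∈ H := fun w =>
    ⟨fun h => by simpa [mul_assoc] using hN.conj_mem _ h g⁻¹, fun h => hN.conj_mem _ h g⟩
  have e1 : v ∈ H ↔ u ∈ H := by
    rcases h1 with e | e <;> rw [← hc u, e]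
    exact inv_mem_iff.symm
  have e2 : u * v ∈ H ↔ v ∈ H := by
    rcases h2 with e | e <;> rw [← hc v, e]
    exact inv_mem_iff.symm
  rw [Subgroup.mul_mem_iff_of_index_two hH] at e2
  tauto

/-- A subgroup of index two is the kernel of a homomorphism onto the group of order two. -/
theorem exists_index_two_hom {K : Type*} [Group K] {H : Subgroup K} (hH : H.index = 2) :
    ∃ χ : K →* Multiplicative (ZMod 2), Function.Surjective χ ∧ ∀ s, χ s = 1 ↔ s ∈ H := by
  classical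
  have key : ∀ s t : K, (if s * t ∈ H then (1 : Multiplicative (ZMod 2)) else Multiplicative.ofAdd 1) =
      (if s ∈ H then 1 else Multiplicative.ofAdd 1) * (if t ∈ H then 1 else Multiplicative.ofAdd 1) := by
    intro s t
    simp only [Subgroup.mul_mem_iff_of_index_two hH]
    by_cases hs : s ∈ H <;> by_cases ht : t ∈ H <;> simp [hs, ht] <;> decide
  refine ⟨MonoidHom.mk' (fun s => if s ∈ H then (1 : Multiplicative (ZMod 2))
    else Multiplicative.ofAdd 1) key, ?_, fun s => ?_⟩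
  · intro w
    have hw : w = 1 ∨ w = Multiplicative.ofAdd 1 := by revert w; decide
    rcases hw with rfl | rfl
    · exact ⟨1, by simp [H.one_mem]⟩
    · obtain ⟨s, hs⟩ : ∃ s, s ∉ H := by
        by_contra hcon
        push Not at hcon
        rw [(Subgroup.eq_top_iff' H).mpr hcon] at hH
        simp at hH
      exact ⟨s, by simp [hs]⟩
  · by_cases hs : s ∈ H <;> simp [hs]

theorem card_classes_one {G : Type*} [Group G] {P : G → Prop} {u v : G} (hu : P u) (huv : IsConj u v)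
    (hall : ∀ t, P t → IsConj t u ∨ IsConj t v) :
    Nat.card {C : ConjClasses G // ∃ t : G, P t ∧ ConjClasses.mk t = C} = 1 := by
  show Nat.card {C : ConjClasses G | ∃ t : G, P t ∧ ConjClasses.mk t = C} = 1
  rw [show {C : ConjClasses G | ∃ t : G, P t ∧ ConjClasses.mk t = C} = {ConjClasses.mk u} from ?_,
    Nat.card_coe_set_eq, Set.ncard_singleton]
  refine Set.ext fun C => ⟨?_, fun h => ⟨u, hu, h.symm⟩⟩
  rintro ⟨t, ht, rfl⟩
  refine Set.mem_singleton_iff.mpr (ConjClasses.mk_eq_mk_iff_isConj.mpr ?_)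
  rcases hall t ht with h | h
  · exact h
  · exact h.trans huv.symm

theorem card_classes_two {G : Type*} [Group G] {P : G → Prop} {u v : G} (hu : P u) (hv : P v)
    (huv : ¬ IsConj u v) (hall : ∀ t, P t → IsConj t u ∨ IsConj t v) :
    Nat.card {C : ConjClasses G // ∃ t : G, P t ∧ ConjClasses.mk t = C} = 2 := by
  show Nat.card {C : ConjClasses G | ∃ t : G, P t ∧ ConjClasses.mk t = C} = 2
  rw [show {C : ConjClasses G | ∃ t : G, P t ∧ ConjClasses.mk t = C} =
      {ConjClasses.mk u, ConjClasses.mk v} from ?_, Nat.card_coe_set_eq]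
  · exact Set.ncard_pair fun e => huv (ConjClasses.mk_eq_mk_iff_isConj.mp e)
  refine Set.ext fun C => ⟨?_, ?_⟩
  · rintro ⟨t, ht, rfl⟩
    rcases hall t ht with h | h
    · exact Or.inl (ConjClasses.mk_eq_mk_iff_isConj.mpr h)
    · exact Or.inr (ConjClasses.mk_eq_mk_iff_isConj.mpr h)
  · rintro (rfl | rfl)
    · exact ⟨u, hu, rfl⟩
    · exact ⟨v, hv, rfl⟩

theorem zpowers_inj_two {G : Type*} [Group G] {u v : G} (hv : v ^ 2 = 1)
    (hne : u ≠ 1) (h : u ∈ zpowers v) : u = v := by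
  obtain ⟨k, rfl⟩ := h
  rcases Int.even_or_odd k with ⟨l, rfl⟩ | ⟨l, rfl⟩
  · exfalso
    apply hne
    show v ^ (l + l) = 1
    rw [← two_mul, zpow_mul]
    norm_cast
    rw [hv, one_zpow]
  · show v ^ (2 * l + 1) = v
    rw [zpow_add_one, zpow_mul]
    norm_cast
    rw [hv, one_zpow, one_mul]

theorem zpowers_four {G : Type*} [Group G] {u v : G} (hv : v ^ 4 = 1)
    (hu : u ^ 2 ≠ 1) (h : u ∈ zpowers v) : u = v ∨ u = v⁻¹ := by
  obtain ⟨k, rfl⟩ := h
  have hv4 : v ^ (4 : ℤ) = 1 := by exact_mod_cast hv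
  rcases Int.even_or_odd k with ⟨l, rfl⟩ | ⟨l, rfl⟩
  · exfalso
    apply hu
    show (v ^ (l + l)) ^ 2 = 1
    rw [← zpow_natCast, ← zpow_mul, show (l + l) * ((2 : ℕ) : ℤ) = 4 * l by push_cast; ring,
      zpow_mul, hv4, one_zpow]
  · rcases Int.even_or_odd l with ⟨q, rfl⟩ | ⟨q, rfl⟩
    · left
      show v ^ (2 * (q + q) + 1) = v
      rw [show (2 * (q + q) + 1 : ℤ) = 4 * q + 1 by ring, zpow_add_one, zpow_mul, hv4, one_zpow,
        one_mul]
    · right
      show v ^ (2 * (2 * q + 1) + 1) = v⁻¹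
      rw [show (2 * (2 * q + 1) + 1 : ℤ) = 4 * (q + 1) + (-1) by ring, zpow_add, zpow_mul, hv4,
        one_zpow, one_mul, zpow_neg_one]

variable {G : Type*} [Group G] [Finite G] {S : Sylow 2 G} {r : ℕ} {x y : (S : Subgroup G)}

theorem isConj_coe {u v : (S : Subgroup G)} (h : IsConj u v) : IsConj (u : G) (v : G) :=
  (S : Subgroup G).subtype.map_isConj h

theorem exists_conj_mem (S : Sylow 2 G) {t : G} {k : ℕ} (ht : t ^ 2 ^ k = 1) :
    ∃ s : (S : Subgroup G), IsConj t (s : G) := by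
  have hf : Fact (Nat.Prime 2) := ⟨Nat.prime_two⟩
  obtain ⟨j, -, hj⟩ := (Nat.dvd_prime_pow Nat.prime_two).mp (orderOf_dvd_of_pow_eq_one ht)
  obtain ⟨R, hR⟩ := (IsPGroup.of_card (p := 2) (G := zpowers t) (n := j)
    (by rw [Nat.card_zpowers, hj])).exists_le_sylow
  obtain ⟨g, rfl⟩ := MulAction.exists_smul_eq G R S
  exact ⟨⟨g * t * g⁻¹, ⟨t, hR (mem_zpowers t), rfl⟩⟩, isConj_iff.mpr ⟨g, rfl⟩⟩

theorem cases_two (h : SD (S : Subgroup G) r x y) {t : G} (ht : orderOf t = 2) :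
    IsConj t ((x ^ (4 * r : ℤ) : (S : Subgroup G)) : G) ∨
      IsConj t ((x ^ (0 : ℤ) * y : (S : Subgroup G)) : G) := by
  obtain ⟨s, hs⟩ := exists_conj_mem S (k := 1)
    (show t ^ 2 ^ 1 = 1 by rw [pow_one, ← ht, pow_orderOf_eq_one])
  have hs2 : orderOf s = 2 := by
    rw [← Subgroup.orderOf_coe]
    obtain ⟨c, hc⟩ := isConj_iff.mp hs
    rw [← hc, show c * t * c⁻¹ = MulAut.conj c t from rfl, MulEquiv.orderOf_eq, ht]
  rcases involution_cases h hs2 with rfl | ⟨a, ha, rfl⟩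
  · exact Or.inl hs
  · exact Or.inr (hs.trans (isConj_coe (isConj_xy h (by simpa using even_iff_two_dvd.mp ha))))

theorem cases_four (h : SD (S : Subgroup G) r x y) {t : G} (ht : orderOf t = 4) :
    IsConj t ((x ^ (2 * r : ℤ) : (S : Subgroup G)) : G) ∨
      IsConj t ((x ^ (1 : ℤ) * y : (S : Subgroup G)) : G) := by
  obtain ⟨s, hs⟩ := exists_conj_mem S (k := 2)
    (show t ^ 2 ^ 2 = 1 by rw [show (2 : ℕ) ^ 2 = 4 from rfl, ← ht, pow_orderOf_eq_one])
  have hs4 : orderOf s = 4 := by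
    rw [← Subgroup.orderOf_coe]
    obtain ⟨c, hc⟩ := isConj_iff.mp hs
    rw [← hc, show c * t * c⁻¹ = MulAut.conj c t from rfl, MulEquiv.orderOf_eq, ht]
  obtain ⟨k, rfl | rfl⟩ := h.gen s
  · left
    refine hs.trans (isConj_coe ?_)
    rcases (orderOf_zpow_eq_four h).mp hs4 with e | e <;> rw [e]
    refine isConj_iff.mpr ⟨y, ?_⟩
    rw [conj_y_pow h, zpow_x_eq h]
    exact ⟨(r : ℤ), by ring⟩
  · right
    rcases Int.even_or_odd k with he | ho
    · rw [orderOf_xy_even h he] at hs4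
      omega
    · exact hs.trans (isConj_coe (isConj_xy h
        (by obtain ⟨c, rfl⟩ := ho; exact ⟨-c, by ring⟩)))

/-- The index of `C(T)` in `N(T)` for a four-group, and fusion of involutions. -/
theorem klein_index (h : SD (S : Subgroup G) r x y) {T : Subgroup G} (hT : IsKleinFour T)
    (hTS : T ≤ (S : Subgroup G)) {a : ℤ} (ha : Even a)
    (haT : ((x ^ a * y : (S : Subgroup G)) : G) ∈ T) :
    ((centralizer (T : Set G)).relIndex (normalizer (T : Set G)) = 2 ∧
      ¬ IsConj ((x ^ (4 * r : ℤ) : (S : Subgroup G)) : G)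
        ((x ^ (0 : ℤ) * y : (S : Subgroup G)) : G)) ∨
    ((centralizer (T : Set G)).relIndex (normalizer (T : Set G)) = 6 ∧
      IsConj ((x ^ (4 * r : ℤ) : (S : Subgroup G)) : G)
        ((x ^ (0 : ℤ) * y : (S : Subgroup G)) : G) ∧
      ∃ g : G, Odd (orderOf g) ∧
        g * ((x ^ (4 * r : ℤ) : (S : Subgroup G)) : G) * g⁻¹ = ((x ^ a * y : (S : Subgroup G)) : G) ∧
        g * ((x ^ a * y : (S : Subgroup G)) : G) * g⁻¹ =
          ((x ^ (4 * r : ℤ) * (x ^ a * y) : (S : Subgroup G)) : G)) := by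
  have hTK : IsKleinFour (T.subgroupOf (S : Subgroup G)) := by
    refine ⟨?_, ?_⟩
    · rw [Nat.card_congr (subgroupOfEquivOfLe hTS).toEquiv]; exact hT.card_four
    · rw [Monoid.exponent_eq_of_mulEquiv (subgroupOfEquivOfLe hTS)]; exact hT.exponent_two
  have hTC := klein_eq_of_mem h hTK (show x ^ a * y ∈ T.subgroupOf (S : Subgroup G) from haT)
  set J : G := ((x ^ (4 * r : ℤ) : (S : Subgroup G)) : G) with hJdef
  set t : G := ((x ^ a * y : (S : Subgroup G)) : G) with htdef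
  have hjt : ((x ^ (4 * r : ℤ) * (x ^ a * y) : (S : Subgroup G)) : G) = J * t := Subgroup.coe_mul _ _ _
  rw [hjt]
  have ho : orderOf (x ^ (4 * r : ℤ)) = 2 := (orderOf_zpow_eq_two h).mpr rfl
  have hmem : ∀ u : G, u ∈ T → u = 1 ∨ u = J ∨ u = t ∨ u = J * t := by
    intro u hu
    have hu' : (⟨u, hTS hu⟩ : (S : Subgroup G)) ∈ T.subgroupOf (S : Subgroup G) := hu
    rw [hTC, mem_centralizer_singleton_iff] at hu'
    obtain ⟨j, e | e⟩ := (centralizer_xy h _).mp hu' <;> rcases central_pow h j with e' | e' <;>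
      rw [e'] at e
    · exact Or.inl (congrArg Subtype.val e)
    · exact Or.inr (Or.inl (congrArg Subtype.val e))
    · exact Or.inr (Or.inr (Or.inl (by rw [one_mul] at e; exact congrArg Subtype.val e)))
    · exact Or.inr (Or.inr (Or.inr ((congrArg Subtype.val e).trans hjt)))
  have hJT : J ∈ T := by
    have : x ^ (4 * r : ℤ) ∈ T.subgroupOf (S : Subgroup G) := by
      rw [hTC, mem_centralizer_singleton_iff]
      exact ((centralizer_xy h _).mpr ⟨1, Or.inl (by simp)⟩).eq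
    exact this
  have hsq : ∀ u ∈ T, u ^ 2 = 1 := fun u hu => by
    have := Monoid.pow_exponent_eq_one (⟨u, hu⟩ : T)
    rw [hT.exponent_two] at this
    exact congrArg Subtype.val this
  have hJ1 : J ≠ 1 := fun e => by
    have e' : x ^ (4 * r : ℤ) = 1 := Subtype.ext e
    rw [e', orderOf_one] at ho
    omega
  have ht1 : t ≠ 1 := fun e => by
    have e' : x ^ a * y = 1 := Subtype.ext e
    exact not_mem_y h a 0 (by rw [e', zpow_zero])
  have hJt : J ≠ t := fun e => not_mem_y h a (4 * r) (Subtype.ext e.symm)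
  have hjt1 : J * t ≠ 1 := fun e => by
    apply hJt
    rw [eq_inv_of_mul_eq_one_left e]
    exact inv_eq_of_mul_eq_one_right (by rw [← pow_two]; exact hsq t haT)
  have hJjt : J ≠ J * t := fun e => ht1 (mul_eq_left.mp e.symm)
  have htjt : t ≠ J * t := fun e => hJ1 (mul_eq_right.mp e.symm)
  set A := zpowers J
  set B := zpowers t
  set C := zpowers (J * t)
  have hne : ∀ u v : G, v ∈ T → u ≠ 1 → u ≠ v → zpowers u ≠ zpowers v := fun u v hv hu huv e =>
    huv (zpowers_inj_two (hsq v hv) hu (e ▸ mem_zpowers u))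
  have hjtT : J * t ∈ T := T.mul_mem hJT haT
  have hs : ∃ s ∈ normalizer (T : Set G), cj s A = A ∧ cj s B = C := by
    have e1 : x ^ (2 * r : ℤ) * x ^ (4 * r : ℤ) * (x ^ (2 * r : ℤ))⁻¹ = x ^ (4 * r : ℤ) := by
      rw [((Commute.refl x).zpow_zpow _ _).eq, mul_inv_cancel_right]
    have e2 : x ^ (2 * r : ℤ) * (x ^ a * y) * (x ^ (2 * r : ℤ))⁻¹ =
        x ^ (4 * r : ℤ) * (x ^ a * y) := by
      rw [conj_pow h, ← mul_assoc, ← zpow_add, xy_eq h]
      exact ⟨(r : ℤ), by ring⟩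
    set s : G := ((x ^ (2 * r : ℤ) : (S : Subgroup G)) : G)
    have f1 : s * J * s⁻¹ = J := congrArg Subtype.val e1
    have f2 : s * t * s⁻¹ = J * t := (congrArg Subtype.val e2).trans hjt
    refine ⟨s, mem_normalizer_of_cj (Subgroup.eq_of_le_of_card_ge ?_ (card_cj s T).ge), ?_, ?_⟩
    · rintro _ ⟨u, hu, rfl⟩
      show s * u * s⁻¹ ∈ T
      rcases hmem u hu with rfl | rfl | rfl | rfl
      · simp
      · rw [f1]; exact hJT
      · rw [f2]; exact hjtT
      · rw [show s * (J * t) * s⁻¹ = (s * J * s⁻¹) * (s * t * s⁻¹) by group, f1, f2]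
        exact T.mul_mem hJT hjtT
    · rw [cj_zpowers, f1]
    · rw [cj_zpowers, f2]
  have hperm : ∀ g ∈ normalizer (T : Set G), ∀ K, (K = A ∨ K = B ∨ K = C) →
      (cj g K = A ∨ cj g K = B ∨ cj g K = C) := by
    intro g hg K hK
    have key : ∀ u ∈ T, u ≠ 1 → cj g (zpowers u) = A ∨ cj g (zpowers u) = B ∨
        cj g (zpowers u) = C := by
      intro u hu hu1
      rw [cj_zpowers]
      rcases hmem _ ((mem_normalizer_iff.mp hg u).mp hu) with e | e | e | e
      · exact absurd (conj_eq_one_iff.mp e) hu1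
      · exact Or.inl (by rw [e])
      · exact Or.inr (Or.inl (by rw [e]))
      · exact Or.inr (Or.inr (by rw [e]))
    rcases hK with rfl | rfl | rfl
    · exact key J hJT hJ1
    · exact key t haT ht1
    · exact key _ hjtT hjt1
  have hLN : centralizer (T : Set G) ≤ normalizer (T : Set G) := by
    intro g hg
    refine mem_normalizer_of_cj (cj_eq_of_commute fun u hu => ?_)
    rw [(mem_centralizer_iff.mp hg u hu).symm, mul_inv_cancel_right]
  have hfix : ∀ g ∈ centralizer (T : Set G), cj g A = A ∧ cj g B = B ∧ cj g C = C := by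
    intro g hg
    have key : ∀ u ∈ T, cj g (zpowers u) = zpowers u := fun u hu => by
      rw [cj_zpowers, (mem_centralizer_iff.mp hg u hu).symm, mul_inv_cancel_right]
    exact ⟨key J hJT, key t haT, key _ hjtT⟩
  have hfixel : ∀ g : G, ∀ u ∈ T, u ≠ 1 → cj g (zpowers u) = zpowers u → g * u * g⁻¹ = u := by
    intro g u hu hu1 e
    rw [cj_zpowers] at e
    exact zpowers_inj_two (hsq u hu) (mt conj_eq_one_iff.mp hu1) (e ▸ mem_zpowers _)
  have hker : ∀ g ∈ normalizer (T : Set G), cj g A = A → cj g B = B → cj g C = C →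
      g ∈ centralizer (T : Set G) := by
    intro g _ eA eB eC
    rw [mem_centralizer_iff]
    intro u hu
    symm
    rw [← mul_inv_eq_iff_eq_mul]
    rcases hmem u hu with rfl | rfl | rfl | rfl
    · simp
    · exact hfixel g J hJT hJ1 eA
    · exact hfixel g t haT ht1 eB
    · exact hfixel g _ hjtT hjt1 eC
  have hyt : IsConj t ((x ^ (0 : ℤ) * y : (S : Subgroup G)) : G) :=
    isConj_coe (isConj_xy h (by simpa using even_iff_two_dvd.mp ha))
  rcases three_index (normalizer (T : Set G)) (centralizer (T : Set G)) A B C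
    (hne J t haT hJ1 hJt) (hne J _ hjtT hJ1 hJjt) (hne t _ hjtT ht1 htjt) hperm hLN hfix hker hs
    with ⟨h2, hA⟩ | ⟨h6, g, hg, hgo, hgA, hgB, -⟩
  · refine Or.inl ⟨h2, fun hc => ?_⟩
    obtain ⟨g, hg⟩ := isConj_iff.mp (hc.trans hyt.symm).symm
    have hP : IsPGroup 2 (cj g T) := isPGroup_cj (S.isPGroup'.to_le hTS)
    have hSJ : (S : Subgroup G) ≤ centralizer ({J} : Set G) := by
      intro w hw
      rw [mem_centralizer_singleton_iff]
      have hcen : x ^ (4 * r : ℤ) ∈ center (S : Subgroup G) := by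
        rw [center_eq h]; exact mem_zpowers _
      exact congrArg Subtype.val (mem_center_iff.mp hcen ⟨w, hw⟩)
    have hTle : cj g T ≤ centralizer ({J} : Set G) := by
      rintro _ ⟨u, hu, rfl⟩
      rw [mem_centralizer_singleton_iff, ← hg]
      have e : u * t = t * u := congrArg Subtype.val
        (mul_comm_of_exponent_two hT.exponent_two (⟨u, hu⟩ : T) ⟨t, haT⟩)
      show g * u * g⁻¹ * (g * t * g⁻¹) = g * t * g⁻¹ * (g * u * g⁻¹)
      calc g * u * g⁻¹ * (g * t * g⁻¹) = g * (u * t) * g⁻¹ := by group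
        _ = g * (t * u) * g⁻¹ := by rw [e]
        _ = g * t * g⁻¹ * (g * u * g⁻¹) := by group
    obtain ⟨m, hm, hmS⟩ := exists_conj_into S.isPGroup' hSJ (sylow_relIndex_odd S hSJ) hP hTle
    rw [cj_cj] at hmS
    have hK' : IsKleinFour ((cj (m * g) T).subgroupOf (S : Subgroup G)) := by
      let e : ((cj (m * g) T).subgroupOf (S : Subgroup G)) ≃* T :=
        (subgroupOfEquivOfLe hmS).trans (T.equivMapOfInjective _ (MulAut.conj (m * g)).injective).symm
      exact ⟨by rw [Nat.card_congr e.toEquiv]; exact hT.card_four,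
        by rw [Monoid.exponent_eq_of_mulEquiv e]; exact hT.exponent_two⟩
    obtain ⟨s, hs'⟩ := klein_conj h hTK hK'
    have hsT : cj (s : G) T = cj (m * g) T := by
      refine Subgroup.eq_of_le_of_card_ge ?_ (by rw [card_cj, card_cj])
      rintro _ ⟨u, hu, rfl⟩
      have h1 : s * (⟨u, hTS hu⟩ : (S : Subgroup G)) * s⁻¹ ∈
          (T.subgroupOf (S : Subgroup G)).map (MulAut.conj s).toMonoidHom := ⟨_, hu, rfl⟩
      rw [hs'] at h1
      exact h1
    set n := (s : G)⁻¹ * (m * g)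
    have hn : n ∈ normalizer (T : Set G) := mem_normalizer_of_cj (by
      show cj ((s : G)⁻¹ * (m * g)) T = T
      rw [← cj_cj, ← hsT, cj_inv_cj])
    have hnt : cj n B = A := by
      show cj ((s : G)⁻¹ * (m * g)) (zpowers t) = zpowers J
      rw [cj_zpowers]
      congr 1
      calc (s : G)⁻¹ * (m * g) * t * ((s : G)⁻¹ * (m * g))⁻¹
          = (s : G)⁻¹ * (m * (g * t * g⁻¹) * m⁻¹) * s := by group
        _ = (s : G)⁻¹ * J * s := by
          rw [hg, mem_centralizer_singleton_iff.mp hm, mul_inv_cancel_right]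
        _ = J := by
          rw [mul_assoc, ← mem_centralizer_singleton_iff.mp (hSJ s.2), inv_mul_cancel_left]
    exact hne J t haT hJ1 hJt ((cj_injective n ((hA n hn).trans hnt.symm)))
  · have e1 : g * J * g⁻¹ = t := by
      have hgA' : zpowers (g * J * g⁻¹) = zpowers t := (cj_zpowers g J).symm.trans hgA
      exact zpowers_inj_two (hsq t haT) (mt conj_eq_one_iff.mp hJ1) (by rw [← hgA']; exact mem_zpowers _)
    have e2 : g * t * g⁻¹ = J * t := by
      have hgB' : zpowers (g * t * g⁻¹) = zpowers (J * t) := (cj_zpowers g t).symm.trans hgB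
      exact zpowers_inj_two (hsq _ hjtT) (mt conj_eq_one_iff.mp ht1) (by rw [← hgB']; exact mem_zpowers _)
    exact Or.inr ⟨h6, (isConj_iff.mpr ⟨g, e1⟩).trans hyt, g, hgo, e1, e2⟩

/-- The index of `Q C(Q)` in `N(Q)` for a quaternion subgroup, and fusion of elements of order 4. -/
theorem q8_index (h : SD (S : Subgroup G) r x y) {Q : Subgroup G} (hQS : Q ≤ (S : Subgroup G))
    (eQ : Q ≃* QuaternionGroup 2) {a : ℤ} (ha : Odd a)
    (haQ : ((x ^ a * y : (S : Subgroup G)) : G) ∈ Q) :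
    ((Q ⊔ centralizer (Q : Set G)).relIndex (normalizer (Q : Set G)) = 2 ∧
      ¬ IsConj ((x ^ (2 * r : ℤ) : (S : Subgroup G)) : G)
        ((x ^ (1 : ℤ) * y : (S : Subgroup G)) : G)) ∨
    ((Q ⊔ centralizer (Q : Set G)).relIndex (normalizer (Q : Set G)) = 6 ∧
      IsConj ((x ^ (2 * r : ℤ) : (S : Subgroup G)) : G)
        ((x ^ (1 : ℤ) * y : (S : Subgroup G)) : G) ∧
      ∃ g : G, Odd (orderOf g) ∧
        (g * ((x ^ (2 * r : ℤ) : (S : Subgroup G)) : G) * g⁻¹ = ((x ^ a * y : (S : Subgroup G)) : G) ∨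
          g * ((x ^ (2 * r : ℤ) : (S : Subgroup G)) : G) * g⁻¹ =
            (((x ^ a * y : (S : Subgroup G)) : G))⁻¹) ∧
        (g * ((x ^ a * y : (S : Subgroup G)) : G) * g⁻¹ =
            ((x ^ (2 * r : ℤ) * (x ^ a * y) : (S : Subgroup G)) : G) ∨
          g * ((x ^ a * y : (S : Subgroup G)) : G) * g⁻¹ =
            (((x ^ (2 * r : ℤ) * (x ^ a * y) : (S : Subgroup G)) : G))⁻¹)) := by
  obtain ⟨a', ha', -, hx2, -, hall'⟩ :=
    q8_struct h ((subgroupOfEquivOfLe hQS).trans eQ)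
  have hxQ : ∀ j : ℤ, ((x ^ (2 * r * j : ℤ) : (S : Subgroup G)) : G) ∈ Q := fun j => by
    have := (Q.subgroupOf (S : Subgroup G)).zpow_mem hx2 j
    rw [← zpow_mul] at this
    exact this
  -- every element of `Q` in terms of the generators
  have hall : ∀ g : (S : Subgroup G), (g : G) ∈ Q →
      ∃ j : ℤ, g = x ^ (2 * r * j : ℤ) ∨ g = x ^ (2 * r * j : ℤ) * (x ^ a * y) := by
    intro g hg
    obtain ⟨i, hi | hi⟩ := hall' (x ^ a * y) haQ
    · exact absurd hi (not_mem_y h _ _)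
    obtain ⟨j, hj | hj⟩ := hall' g hg
    · exact ⟨j, Or.inl hj⟩
    · refine ⟨j - i, Or.inr ?_⟩
      rw [hj, hi, ← mul_assoc (x ^ (2 * r * (j - i) : ℤ)), ← zpow_add,
        show 2 * (r : ℤ) * (j - i) + 2 * r * i = 2 * r * j by ring]
  set I : G := ((x ^ (2 * r : ℤ) : (S : Subgroup G)) : G) with hIdef
  set w : G := ((x ^ a * y : (S : Subgroup G)) : G) with hwdef
  have hiw : ((x ^ (2 * r : ℤ) * (x ^ a * y) : (S : Subgroup G)) : G) = I * w := Subgroup.coe_mul _ _ _
  rw [hiw]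
  have hIQ : I ∈ Q := hx2
  have hiwQ : I * w ∈ Q := Q.mul_mem hIQ haQ
  have hI4' : orderOf (x ^ (2 * r : ℤ)) = 4 := (orderOf_zpow_eq_four h).mpr (Or.inl rfl)
  have hI4 : orderOf I = 4 := by rw [hIdef, Subgroup.orderOf_coe]; exact hI4'
  have hw4 : orderOf w = 4 := by rw [hwdef, Subgroup.orderOf_coe]; exact orderOf_xy_odd h ha
  have hiw4 : orderOf (I * w) = 4 := by
    rw [← hiw, Subgroup.orderOf_coe, ← mul_assoc, ← zpow_add]
    exact orderOf_xy_odd h (Even.add_odd ⟨(r : ℤ), by ring⟩ ha)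
  have hp4 : ∀ {u : G}, orderOf u = 4 → u ^ 4 = 1 ∧ u ^ 2 ≠ 1 ∧ u ≠ 1 := by
    intro u hu
    refine ⟨by rw [← hu, pow_orderOf_eq_one], fun e => ?_, fun e => ?_⟩
    · have := Nat.le_of_dvd two_pos (hu ▸ orderOf_dvd_of_pow_eq_one e)
      omega
    · rw [e, orderOf_one] at hu
      omega
  set A := zpowers I
  set B := zpowers w
  set C := zpowers (I * w)
  have hmem : ∀ u : G, u ∈ Q → orderOf u = 4 → u ∈ A ∨ u ∈ B ∨ u ∈ C := by
    intro u hu hu4
    have hw2 : ((x ^ a * y : (S : Subgroup G))) ^ 2 = x ^ (4 * r : ℤ) := by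
      rw [xy_sq h, zpow_x_eq h]
      obtain ⟨c, rfl⟩ := ha
      exact ⟨-c, by ring⟩
    obtain ⟨j, hj | hj⟩ := hall ⟨u, hQS hu⟩ hu
    · left
      refine ⟨j, ?_⟩
      have := congrArg Subtype.val hj
      rw [zpow_mul, Subgroup.coe_zpow] at this
      exact this.symm
    · have hx : x ^ (4 * r : ℤ) = (x ^ a * y) ^ 2 := hw2.symm
      rcases Int.even_or_odd j with ⟨l, rfl⟩ | ⟨l, rfl⟩
      · right; left
        refine ⟨2 * l + 1, ?_⟩
        have := congrArg Subtype.val hj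
        rw [show (2 * r * (l + l) : ℤ) = 4 * r * l by ring, zpow_mul, hx, ← zpow_natCast,
          ← zpow_mul, ← zpow_add_one, Subgroup.coe_zpow] at this
        exact this.symm
      · right; right
        have hiw2 : (x ^ (2 * r : ℤ) * (x ^ a * y)) ^ 2 = x ^ (4 * r : ℤ) := by
          rw [← mul_assoc, ← zpow_add, xy_sq h, zpow_x_eq h]
          obtain ⟨c, rfl⟩ := ha
          exact ⟨-((r : ℤ) + c), by ring⟩
        refine ⟨2 * l + 1, ?_⟩
        have := congrArg Subtype.val hj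
        rw [show (2 * r * (2 * l + 1) : ℤ) = 4 * r * l + 2 * r by ring, zpow_add, zpow_mul,
          ← hiw2, ← zpow_natCast, ← zpow_mul, mul_assoc, ← zpow_add_one, Subgroup.coe_zpow,
          hiw] at this
        exact this.symm
  have hnotin : ∀ u v : G, orderOf u = 4 → orderOf v = 4 → u ≠ v → u ≠ v⁻¹ →
      zpowers u ≠ zpowers v := by
    intro u v hu hv h1 h2 e
    rcases zpowers_four (hp4 hv).1 (hp4 hu).2.1 (e ▸ mem_zpowers u) with e' | e'
    · exact h1 e'
    · exact h2 e'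
  have hwinv : w⁻¹ ≠ I := by
    intro e
    have e' : (x ^ a * y)⁻¹ = x ^ (2 * r : ℤ) := Subtype.ext e
    exact not_mem_y h a (-(2 * r)) (by rw [zpow_neg, ← e', inv_inv])
  have hAB : A ≠ B := hnotin _ _ hI4 hw4 (fun e => not_mem_y h a (2 * r) (Subtype.ext e.symm))
    hwinv.symm
  have hAC : A ≠ C := hnotin _ _ hI4 hiw4 (fun e => (hp4 hw4).2.2 (mul_eq_left.mp e.symm))
    (fun e => by
      rw [← hiw] at e
      have e' : x ^ (2 * r : ℤ) = (x ^ (2 * r : ℤ) * (x ^ a * y))⁻¹ := Subtype.ext e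
      exact not_mem_y h (2 * r + a) (-(2 * r))
        (by rw [zpow_neg, e', inv_inv, zpow_add, mul_assoc]))
  have hBC : B ≠ C := hnotin _ _ hw4 hiw4 (fun e => (hp4 hI4).2.2 (mul_eq_right.mp e.symm))
    (fun e => (hp4 hI4).2.1 (by
      have h1 : I * w * w = 1 := by nth_rw 2 [e]; exact mul_inv_cancel _
      rw [mul_assoc, ← pow_two w] at h1
      rw [eq_inv_of_mul_eq_one_left h1, inv_pow, ← pow_mul, (hp4 hw4).1, inv_one]))
  have hperm : ∀ g ∈ normalizer (Q : Set G), ∀ K, (K = A ∨ K = B ∨ K = C) →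
      (cj g K = A ∨ cj g K = B ∨ cj g K = C) := by
    intro g hg K hK
    have key : ∀ u ∈ Q, orderOf u = 4 → cj g (zpowers u) = A ∨ cj g (zpowers u) = B ∨
        cj g (zpowers u) = C := by
      intro u hu hu4
      rw [cj_zpowers]
      have ho : orderOf (g * u * g⁻¹) = 4 := by
        rw [show g * u * g⁻¹ = MulAut.conj g u from rfl, MulEquiv.orderOf_eq, hu4]
      have key' : ∀ {v : G}, orderOf v = 4 → g * u * g⁻¹ ∈ zpowers v →
          zpowers (g * u * g⁻¹) = zpowers v := fun {v} hv hm =>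
        Subgroup.eq_of_le_of_card_ge (zpowers_le.mpr hm)
          (by rw [Nat.card_zpowers, Nat.card_zpowers, hv, ho])
      rcases hmem _ ((mem_normalizer_iff.mp hg u).mp hu) ho with e | e | e
      · exact Or.inl (key' hI4 e)
      · exact Or.inr (Or.inl (key' hw4 e))
      · exact Or.inr (Or.inr (key' hiw4 e))
    rcases hK with rfl | rfl | rfl
    · exact key I hIQ hI4
    · exact key w haQ hw4
    · exact key _ hiwQ hiw4
  have hLN : Q ⊔ centralizer (Q : Set G) ≤ normalizer (Q : Set G) := by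
    refine sup_le le_normalizer ?_
    intro g hg
    refine mem_normalizer_of_cj (cj_eq_of_commute fun u hu => ?_)
    rw [(mem_centralizer_iff.mp hg u hu).symm, mul_inv_cancel_right]
  have hwI : w * I * w⁻¹ = I⁻¹ := by
    have e : (x ^ a * y) * x ^ (2 * r : ℤ) * (x ^ a * y)⁻¹ = (x ^ (2 * r : ℤ))⁻¹ := by
      rw [show x ^ a * y * x ^ (2 * r : ℤ) * (x ^ a * y)⁻¹ =
        x ^ a * (y * x ^ (2 * r : ℤ) * y⁻¹) * (x ^ a)⁻¹ by group, conj_y_pow h,
        ((Commute.refl x).zpow_zpow a _).eq, mul_inv_cancel_right, ← zpow_neg, zpow_x_eq h]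
      exact ⟨-(r : ℤ), by ring⟩
    exact congrArg Subtype.val e
  have hIw : I * w * I⁻¹ = w⁻¹ := by
    have e : x ^ (2 * r : ℤ) * (x ^ a * y) * (x ^ (2 * r : ℤ))⁻¹ = (x ^ a * y)⁻¹ := by
      rw [conj_pow h, eq_comm, inv_eq_iff_mul_eq_one, xy_mul_xy h, zpow_x_eq_one h]
      obtain ⟨c, rfl⟩ := ha
      exact ⟨c + 3 * r - 4 * r * r, by ring⟩
    exact congrArg Subtype.val e
  have hxa2 : (x ^ a * y) ^ 2 = x ^ (4 * r : ℤ) := by
    rw [xy_sq h, zpow_x_eq h]
    obtain ⟨c, rfl⟩ := ha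
    exact ⟨-c, by ring⟩
  have hiw2' : (x ^ (2 * r : ℤ) * (x ^ a * y)) ^ 2 = x ^ (4 * r : ℤ) := by
    rw [← mul_assoc, ← zpow_add, xy_sq h, zpow_x_eq h]
    obtain ⟨c, rfl⟩ := ha
    exact ⟨-((r : ℤ) + c), by ring⟩
  have hII : w ^ 2 = I ^ 2 := by
    have e : (x ^ a * y) ^ 2 = (x ^ (2 * r : ℤ)) ^ 2 := by
      rw [hxa2, ← zpow_natCast, ← zpow_mul]
      congr 1
      push_cast
      ring
    exact congrArg Subtype.val e
  have hwI' : w⁻¹ * I * w = I⁻¹ := by
    calc w⁻¹ * I * w = (w⁻¹ * (w * I * w⁻¹) * w)⁻¹ := by rw [hwI]; group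
      _ = I⁻¹ := by group
  have hIC : I * (I * w) * I⁻¹ = (I * w)⁻¹ := by
    calc I * (I * w) * I⁻¹ = I * (I * w * I⁻¹) := by group
      _ = I * w⁻¹ := by rw [hIw]
      _ = I * (w⁻¹ * I * w) * (I * w)⁻¹ := by group
      _ = (I * w)⁻¹ := by rw [hwI']; group
  have hwC : w * (I * w) * w⁻¹ = (I * w)⁻¹ := by
    calc w * (I * w) * w⁻¹ = (w * I * w⁻¹) * w := by group
      _ = I⁻¹ * w ^ 2 * w⁻¹ := by rw [hwI]; group
      _ = I * w⁻¹ := by rw [hII]; group
      _ = I * (w⁻¹ * I * w) * (I * w)⁻¹ := by group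
      _ = (I * w)⁻¹ := by rw [hwI']; group
  have hQcl : ∀ M : Subgroup G, I ∈ M → w ∈ M → Q ≤ M := by
    intro M hI' hw' u hu
    obtain ⟨j, hj | hj⟩ := hall ⟨u, hQS hu⟩ hu
    · have := congrArg Subtype.val hj
      rw [zpow_mul, Subgroup.coe_zpow] at this
      simp only at this
      rw [this]; exact M.zpow_mem hI' j
    · have := congrArg Subtype.val hj
      rw [zpow_mul, Subgroup.coe_mul, Subgroup.coe_zpow] at this
      simp only at this
      rw [this]; exact M.mul_mem (M.zpow_mem hI' j) hw'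
  have hfixgen : ∀ g u : G, (g * u * g⁻¹ = u ∨ g * u * g⁻¹ = u⁻¹) →
      g ∈ normalizer (zpowers u : Set G) := by
    intro g u hu
    refine mem_normalizer_of_cj ?_
    rw [cj_zpowers]
    rcases hu with e | e <;> rw [e]
    exact zpowers_inv
  have hfix : ∀ g ∈ Q ⊔ centralizer (Q : Set G), cj g A = A ∧ cj g B = B ∧ cj g C = C := by
    intro g hg
    have key : ∀ u : G, u ∈ Q → (I * u * I⁻¹ = u ∨ I * u * I⁻¹ = u⁻¹) →
        (w * u * w⁻¹ = u ∨ w * u * w⁻¹ = u⁻¹) → cj g (zpowers u) = zpowers u := by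
      intro u hu h1 h2
      refine cj_eq_of_mem_normalizer (sup_le (hQcl _ (hfixgen _ _ h1) (hfixgen _ _ h2)) ?_ hg)
      intro k hk
      refine hfixgen _ _ (Or.inl ?_)
      rw [(mem_centralizer_iff.mp hk u hu).symm, mul_inv_cancel_right]
    exact ⟨key I hIQ (Or.inl (by group)) (Or.inr hwI), key w haQ (Or.inr hIw) (Or.inl (by group)),
      key _ hiwQ (Or.inr hIC) (Or.inr hwC)⟩
  have hker : ∀ g ∈ normalizer (Q : Set G), cj g A = A → cj g B = B → cj g C = C →
      g ∈ Q ⊔ centralizer (Q : Set G) := by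
    intro g _ eA eB _
    rw [cj_zpowers] at eA eB
    have hconj4 : ∀ {u : G}, orderOf u = 4 → (g * u * g⁻¹) ^ 2 ≠ 1 := fun {u} hu e => by
      rw [_root_.conj_pow, conj_eq_one_iff] at e
      exact (hp4 hu).2.1 e
    have hgI : g * I * g⁻¹ = I ∨ g * I * g⁻¹ = I⁻¹ :=
      zpowers_four (hp4 hI4).1 (hconj4 hI4) (by rw [show zpowers I = A from rfl, ← eA]; exact mem_zpowers _)
    have hgw : g * w * g⁻¹ = w ∨ g * w * g⁻¹ = w⁻¹ :=
      zpowers_four (hp4 hw4).1 (hconj4 hw4) (by rw [show zpowers w = B from rfl, ← eB]; exact mem_zpowers _)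
    obtain ⟨q, hq, hqI, hqw⟩ : ∃ q ∈ Q, q * I * q⁻¹ = g * I * g⁻¹ ∧ q * w * q⁻¹ = g * w * g⁻¹ := by
      rcases hgI with e1 | e1 <;> rcases hgw with e2 | e2 <;> rw [e1, e2]
      · exact ⟨1, Q.one_mem, by group, by group⟩
      · exact ⟨I, hIQ, by group, hIw⟩
      · exact ⟨w, haQ, hwI, by group⟩
      · refine ⟨I * w, hiwQ, ?_, ?_⟩
        · calc I * w * I * (I * w)⁻¹ = I * (w * I * w⁻¹) * I⁻¹ := by group
            _ = I⁻¹ := by rw [hwI]; group
        · calc I * w * w * (I * w)⁻¹ = I * w * I⁻¹ := by group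
            _ = w⁻¹ := hIw
    have hc : q⁻¹ * g ∈ centralizer (Q : Set G) := by
      rw [mem_centralizer_iff]
      have hle : Q ≤ centralizer ({q⁻¹ * g} : Set G) := by
        refine hQcl _ ?_ ?_ <;> rw [mem_centralizer_singleton_iff] <;> symm <;>
          rw [← mul_inv_eq_iff_eq_mul]
        · calc q⁻¹ * g * I * (q⁻¹ * g)⁻¹ = q⁻¹ * (g * I * g⁻¹) * q := by group
            _ = I := by rw [← hqI]; group
        · calc q⁻¹ * g * w * (q⁻¹ * g)⁻¹ = q⁻¹ * (g * w * g⁻¹) * q := by group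
            _ = w := by rw [← hqw]; group
      intro u hu
      exact mem_centralizer_singleton_iff.mp (hle hu)
    rw [← mul_inv_cancel_left q g]
    exact Subgroup.mul_mem _ (mem_sup_left hq) (mem_sup_right hc)
  have hs : ∃ s ∈ normalizer (Q : Set G), cj s A = A ∧ cj s B = C := by
    have e1 : x ^ (r : ℤ) * x ^ (2 * r : ℤ) * (x ^ (r : ℤ))⁻¹ = x ^ (2 * r : ℤ) := by
      rw [((Commute.refl x).zpow_zpow _ _).eq, mul_inv_cancel_right]
    have e2 : x ^ (r : ℤ) * (x ^ a * y) * (x ^ (r : ℤ))⁻¹ =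
        (x ^ (2 * r : ℤ) * (x ^ a * y)) ^ (1 - 2 * r : ℤ) := by
      rw [show (1 - 2 * r : ℤ) = ((2 : ℕ) : ℤ) * (-(r : ℤ)) + 1 by push_cast; ring, zpow_add_one,
        zpow_mul, zpow_natCast (x ^ (2 * r : ℤ) * (x ^ a * y)) 2, hiw2', ← zpow_mul, conj_pow h, ← mul_assoc, ← mul_assoc, ← zpow_add,
        ← zpow_add]
      congr 2
      ring
    set s : G := ((x ^ (r : ℤ) : (S : Subgroup G)) : G)
    have f1 : s * I * s⁻¹ = I := congrArg Subtype.val e1
    have f2 : s * w * s⁻¹ = (I * w) ^ (1 - 2 * r : ℤ) := by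
      have := congrArg Subtype.val e2
      rw [Subgroup.coe_zpow, hiw] at this
      exact this
    have hle : cj s Q ≤ Q := by
      rintro _ ⟨u, hu, rfl⟩
      have hQ' : Q ≤ cj s⁻¹ Q := hQcl _
        (by rw [mem_cj, inv_inv, f1]; exact hIQ)
        (by rw [mem_cj, inv_inv, f2]; exact Q.zpow_mem hiwQ _)
      have := hQ' hu
      rw [mem_cj, inv_inv] at this
      exact this
    refine ⟨s, mem_normalizer_of_cj (Subgroup.eq_of_le_of_card_ge hle (card_cj s Q).ge), ?_, ?_⟩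
    · rw [cj_zpowers, f1]
    · refine Subgroup.eq_of_le_of_card_ge ?_ (le_of_eq ?_)
      · rw [cj_zpowers, f2]
        exact zpowers_le.mpr (zpow_mem_zpowers _ _)
      · rw [card_cj, Nat.card_zpowers, Nat.card_zpowers, hiw4, hw4]
  have hyt : IsConj w ((x ^ (1 : ℤ) * y : (S : Subgroup G)) : G) :=
    isConj_coe (isConj_xy h (by obtain ⟨c, rfl⟩ := ha; exact ⟨-c, by ring⟩))
  rcases three_index (normalizer (Q : Set G)) (Q ⊔ centralizer (Q : Set G)) A B C hAB hAC hBC
    hperm hLN hfix hker hs with ⟨h2, hA⟩ | ⟨h6, g, -, hgo, hgA, hgB, -⟩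
  · refine Or.inl ⟨h2, fun hc => ?_⟩
    obtain ⟨g, hg⟩ := isConj_iff.mp (hc.trans hyt.symm).symm
    have hP : IsPGroup 2 (cj g Q) := isPGroup_cj (S.isPGroup'.to_le hQS)
    have hSA : (S : Subgroup G) ≤ normalizer (A : Set G) := by
      intro u hu
      obtain ⟨k, hk | hk⟩ := h.gen ⟨u, hu⟩
      · refine hfixgen _ _ (Or.inl ?_)
        have e : (⟨u, hu⟩ : (S : Subgroup G)) * x ^ (2 * r : ℤ) * ⟨u, hu⟩⁻¹ = x ^ (2 * r : ℤ) := by
          rw [hk, ((Commute.refl x).zpow_zpow k _).eq, mul_inv_cancel_right]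
        exact congrArg Subtype.val e
      · refine hfixgen _ _ (Or.inr ?_)
        have e : (⟨u, hu⟩ : (S : Subgroup G)) * x ^ (2 * r : ℤ) * ⟨u, hu⟩⁻¹ =
            (x ^ (2 * r : ℤ))⁻¹ := by
          rw [hk, show x ^ k * y * x ^ (2 * r : ℤ) * (x ^ k * y)⁻¹ =
            x ^ k * (y * x ^ (2 * r : ℤ) * y⁻¹) * (x ^ k)⁻¹ by group, conj_y_pow h,
            ((Commute.refl x).zpow_zpow k _).eq, mul_inv_cancel_right, ← zpow_neg, zpow_x_eq h]
          exact ⟨-(r : ℤ), by ring⟩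
        exact congrArg Subtype.val e
    have hQle : cj g Q ≤ normalizer (A : Set G) := by
      have hQB : Q ≤ normalizer (B : Set G) :=
        hQcl _ (hfixgen _ _ (Or.inr hIw)) (hfixgen _ _ (Or.inl (by group)))
      rintro _ ⟨u, hu, rfl⟩
      show g * u * g⁻¹ ∈ normalizer (A : Set G)
      have hgB : cj g B = A := by rw [cj_zpowers, hg]
      refine mem_normalizer_of_cj ?_
      rw [← hgB, cj_cj, show g * u * g⁻¹ * g = g * u by group, ← cj_cj,
        cj_eq_of_mem_normalizer (hQB hu)]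
    obtain ⟨m, hm, hmS⟩ := exists_conj_into S.isPGroup' hSA (sylow_relIndex_odd S hSA) hP hQle
    rw [cj_cj] at hmS
    obtain ⟨s, hs'⟩ := q8_conj h ((subgroupOfEquivOfLe hQS).trans eQ)
      (((subgroupOfEquivOfLe hmS).trans
        (Q.equivMapOfInjective _ (MulAut.conj (m * g)).injective).symm).trans eQ)
    have hsT : cj (s : G) Q = cj (m * g) Q := by
      refine Subgroup.eq_of_le_of_card_ge ?_ (by rw [card_cj, card_cj])
      rintro _ ⟨u, hu, rfl⟩
      have h1 : s * (⟨u, hQS hu⟩ : (S : Subgroup G)) * s⁻¹ ∈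
          (Q.subgroupOf (S : Subgroup G)).map (MulAut.conj s).toMonoidHom := ⟨_, hu, rfl⟩
      rw [hs'] at h1
      exact h1
    set n := (s : G)⁻¹ * (m * g)
    have hn : n ∈ normalizer (Q : Set G) := mem_normalizer_of_cj (by
      show cj ((s : G)⁻¹ * (m * g)) Q = Q
      rw [← cj_cj, ← hsT, cj_inv_cj])
    have hnt : cj n B = A := by
      show cj ((s : G)⁻¹ * (m * g)) (zpowers w) = zpowers I
      rw [← cj_cj, ← cj_cj, cj_zpowers g w, hg, cj_eq_of_mem_normalizer hm,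
        cj_eq_of_mem_normalizer (inv_mem (hSA s.2))]
    exact hAB ((cj_injective n ((hA n hn).trans hnt.symm)))
  · have hor : ∀ {u v : G}, orderOf u = 4 → orderOf v = 4 → zpowers (g * u * g⁻¹) = zpowers v →
        g * u * g⁻¹ = v ∨ g * u * g⁻¹ = v⁻¹ := by
      intro u v hu hv e
      refine zpowers_four (hp4 hv).1 ?_ (e ▸ mem_zpowers _)
      rw [_root_.conj_pow, ne_eq, conj_eq_one_iff]
      exact (hp4 hu).2.1
    rw [cj_zpowers] at hgA hgB
    have e1 := hor hI4 hw4 hgA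
    refine Or.inr ⟨h6, ?_, g, hgo, e1, hor hw4 hiw4 hgB⟩
    rcases e1 with e | e
    · exact (isConj_iff.mpr ⟨g, e⟩).trans hyt
    · refine ((isConj_iff.mpr ⟨g, e⟩ : IsConj I w⁻¹).trans (isConj_iff.mpr ⟨I, ?_⟩)).trans hyt
      rw [← conj_inv, hIw, inv_inv]

end CfsgLib.TwoGroups.SDF
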