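import Mathlib
import Cfsg.Agent.Lib.Sp.Card
import Cfsg.Agent.Lib.SpecLin.SLTwoClassSize

/-!
The monomial subgroup `SL₂ ≀ Sₙ` of `Sp₂ₙ(q)`, `q` odd, contains a Sylow 2-subgroup and normalizes
the group of sign changes of the hyperbolic pairs.
-/

set_option autoImplicit false

namespace CfsgLib.TwoGroups.SympMonomial

open Matrix

variable {F : Type*} [Field F] {n : ℕ}

/-- A sign as a field element. -/
def sg (F : Type*) [Field F] (e : ℤˣ) : F := ((e : ℤ) : F)

theorem sg_mul (a b : ℤˣ) : sg F (a * b) = sg F a * sg F b := by simp [sg]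

theorem sg_mul_self (a : ℤˣ) : sg F a * sg F a = 1 := by
  rw [← sg_mul, Int.units_mul_self]; simp [sg]

theorem sg_injective (h2 : (2 : F) ≠ 0) : Function.Injective (sg F) := by
  intro a b h
  rcases Int.units_eq_one_or a with rfl | rfl <;> rcases Int.units_eq_one_or b with rfl | rfl
  · rfl
  · exact absurd (show (2 : F) = 0 by simp [sg] at h; linear_combination h) h2
  · exact absurd (show (2 : F) = 0 by simp [sg] at h; linear_combination -h) h2
  · rfl

/-- One block of a monomial matrix. -/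
def blockAt (σ : Equiv.Perm (Fin n)) (g : Fin n → Matrix.SpecialLinearGroup (Fin 2) F) (a b : Fin 2) :
    Matrix (Fin n) (Fin n) F :=
  Matrix.of fun i k => if i = σ k then (g k).1 a b else 0

/-- A monomial matrix. -/
def mon (σ : Equiv.Perm (Fin n)) (g : Fin n → Matrix.SpecialLinearGroup (Fin 2) F) :
    Matrix (Fin n ⊕ Fin n) (Fin n ⊕ Fin n) F :=
  fromBlocks (blockAt σ g 0 0) (blockAt σ g 0 1) (blockAt σ g 1 0) (blockAt σ g 1 1)

theorem det_two (A : Matrix.SpecialLinearGroup (Fin 2) F) :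
    A.1 0 0 * A.1 1 1 - A.1 0 1 * A.1 1 0 = 1 := by rw [← Matrix.det_fin_two]; exact A.2

theorem block_mul (σ τ : Equiv.Perm (Fin n)) (g h : Fin n → Matrix.SpecialLinearGroup (Fin 2) F)
    (a b c d : Fin 2) :
    blockAt σ g a b * blockAt τ h c d =
      Matrix.of fun i k => if i = σ (τ k) then (g (τ k)).1 a b * (h k).1 c d else 0 := by
  ext i k
  simp only [Matrix.mul_apply, blockAt, Matrix.of_apply]
  rw [Finset.sum_eq_single (τ k)]
  · by_cases hi : i = σ (τ k) <;> simp [hi]
  · intro j _ hj; simp [hj]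
  · intro h; exact absurd (Finset.mem_univ _) h

theorem mon_mul (σ τ : Equiv.Perm (Fin n)) (g h : Fin n → Matrix.SpecialLinearGroup (Fin 2) F) :
    mon σ g * mon τ h = mon (σ * τ) (fun k => g (τ k) * h k) := by
  rw [mon, mon, mon, fromBlocks_multiply, block_mul, block_mul, block_mul, block_mul, block_mul,
    block_mul, block_mul, block_mul]
  congr 1 <;>
  · ext i k
    simp only [Matrix.add_apply, Matrix.of_apply, blockAt, Equiv.Perm.coe_mul, Function.comp_apply,
      Matrix.SpecialLinearGroup.coe_mul, Matrix.mul_apply, Fin.sum_univ_two]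
    split_ifs <;> simp

theorem mon_one : mon (1 : Equiv.Perm (Fin n)) (fun _ => (1 : Matrix.SpecialLinearGroup (Fin 2) F)) = 1 := by
  rw [mon, ← fromBlocks_one]
  congr 1 <;> ext i k <;> simp [blockAt, Matrix.one_apply]

theorem block_transpose_mul (σ : Equiv.Perm (Fin n)) (g : Fin n → Matrix.SpecialLinearGroup (Fin 2) F)
    (a b c d : Fin 2) :
    (blockAt σ g a b)ᵀ * blockAt σ g c d = Matrix.diagonal fun i => (g i).1 a b * (g i).1 c d := by
  ext i k
  simp only [Matrix.mul_apply, blockAt, Matrix.transpose_apply, Matrix.of_apply]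
  rw [Finset.sum_eq_single (σ k)]
  · by_cases h : i = k
    · subst h; simp
    · rw [Matrix.diagonal_apply_ne _ h, if_neg fun e => h (σ.injective e).symm, zero_mul]
  · intro j _ hj; simp [hj]
  · intro h; exact absurd (Finset.mem_univ _) h

theorem mon_mem (σ : Equiv.Perm (Fin n)) (g : Fin n → Matrix.SpecialLinearGroup (Fin 2) F) :
    mon σ g ∈ symplecticGroup (Fin n) F := by
  rw [SymplecticGroup.mem_iff', mon, Matrix.J, fromBlocks_transpose, fromBlocks_multiply,
    fromBlocks_multiply]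
  simp only [Matrix.mul_zero, zero_add, add_zero, Matrix.mul_one, Matrix.mul_neg, Matrix.neg_mul,
    Matrix.add_mul, block_transpose_mul]
  congr 1 <;>
  · ext i k
    have hd := det_two (g i)
    by_cases h : i = k
    · subst h
      simp
      first
        | ring1
        | linear_combination hd
        | linear_combination -hd
    · simp [h, Matrix.add_apply, Matrix.neg_apply, Matrix.zero_apply, Matrix.one_apply]

theorem mon_injective {σ τ : Equiv.Perm (Fin n)} {g h : Fin n → Matrix.SpecialLinearGroup (Fin 2) F}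
    (e : mon σ g = mon τ h) : σ = τ ∧ g = h := by
  rw [mon, mon, Matrix.fromBlocks_inj] at e
  obtain ⟨e1, e2, e3, e4⟩ := e
  have hσ : σ = τ := by
    refine Equiv.ext fun k => ?_
    by_contra hne
    have a1 := congrFun (congrFun e1 (σ k)) k
    have a2 := congrFun (congrFun e2 (σ k)) k
    simp [blockAt, hne] at a1 a2
    have hd := det_two (g k)
    rw [a1, a2] at hd
    simp at hd
  subst hσ
  refine ⟨rfl, funext fun k => Subtype.ext (Matrix.ext fun a b => ?_)⟩
  have a1 := congrFun (congrFun e1 (σ k)) k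
  have a2 := congrFun (congrFun e2 (σ k)) k
  have a3 := congrFun (congrFun e3 (σ k)) k
  have a4 := congrFun (congrFun e4 (σ k)) k
  simp [blockAt] at a1 a2 a3 a4
  fin_cases a <;> fin_cases b <;> assumption

/-- The sign changes. -/
def signs (F : Type*) [Field F] (n : ℕ) : (Fin n → ℤˣ) →* symplecticGroup (Fin n) F where
  toFun f := ⟨fromBlocks (diagonal fun i => sg F (f i)) 0 0 (diagonal fun i => sg F (f i)), by
    rw [SymplecticGroup.mem_iff]
    simp [Matrix.J, -Matrix.fromBlocks_diagonal, fromBlocks_transpose, fromBlocks_multiply, sg_mul_self]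
    try rw [← Matrix.diagonal_one, Matrix.diagonal_neg]⟩
  map_one' := Subtype.ext (by simp [sg])
  map_mul' f g := Subtype.ext (by simp [sg_mul, fromBlocks_multiply])

theorem signs_injective (h2 : (2 : F) ≠ 0) : Function.Injective (signs F n) := by
  intro f g h
  have h' := (fromBlocks_inj.1 (congrArg Subtype.val h)).1
  exact funext fun i => sg_injective h2 (congrFun (Matrix.diagonal_injective h') i)

theorem mon_signs (σ : Equiv.Perm (Fin n)) (g : Fin n → Matrix.SpecialLinearGroup (Fin 2) F)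
    (f : Fin n → ℤˣ) :
    mon σ g * (signs F n f).1 = (signs F n (fun i => f (σ.symm i))).1 * mon σ g := by
  show mon σ g * fromBlocks _ _ _ _ = fromBlocks _ _ _ _ * mon σ g
  rw [mon, fromBlocks_multiply, fromBlocks_multiply]
  congr 1 <;>
  · ext i k
    simp [Matrix.mul_diagonal, Matrix.diagonal_mul, blockAt]
    split_ifs with h <;> simp [h, mul_comm]

variable [Fintype F]

/-- The monomial subgroup. -/
def monomialGroup (F : Type*) [Field F] [Fintype F] (n : ℕ) : Subgroup (symplecticGroup (Fin n) F) :=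
  Subgroup.closure (Set.range fun p : Equiv.Perm (Fin n) × (Fin n → Matrix.SpecialLinearGroup (Fin 2) F) =>
    (⟨mon p.1 p.2, mon_mem p.1 p.2⟩ : symplecticGroup (Fin n) F))

theorem mem_monomialGroup {x : symplecticGroup (Fin n) F} :
    x ∈ monomialGroup F n ↔ ∃ σ g, x.1 = mon σ g := by
  refine ⟨fun hx => ?_, fun ⟨σ, g, e⟩ => Subgroup.subset_closure ⟨(σ, g), Subtype.ext e.symm⟩⟩
  have hx' : x ∈ Submonoid.closure (Set.range fun p : Equiv.Perm (Fin n) ×
      (Fin n → Matrix.SpecialLinearGroup (Fin 2) F) =>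
      (⟨mon p.1 p.2, mon_mem p.1 p.2⟩ : symplecticGroup (Fin n) F)) := by
    rw [← Subgroup.closure_toSubmonoid_of_finite]
    exact hx
  clear hx
  induction hx' using Submonoid.closure_induction with
  | mem y hy => obtain ⟨p, rfl⟩ := hy; exact ⟨p.1, p.2, rfl⟩
  | one => exact ⟨1, fun _ => 1, mon_one.symm⟩
  | mul a b _ _ ha hb =>
    obtain ⟨σ, g, hg⟩ := ha
    obtain ⟨τ, h, hh⟩ := hb
    exact ⟨σ * τ, fun k => g (τ k) * h k, by rw [← mon_mul, ← hg, ← hh]; rfl⟩

theorem card_monomialGroup :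
    Nat.card (monomialGroup F n) =
      n.factorial * (Fintype.card F * (Fintype.card F ^ 2 - 1)) ^ n := by
  rw [← SpecLin.SLTwo.card_sl_two (F := F)]
  have : Function.Bijective fun p : Equiv.Perm (Fin n) × (Fin n → Matrix.SpecialLinearGroup (Fin 2) F) =>
      (⟨⟨mon p.1 p.2, mon_mem p.1 p.2⟩, Subgroup.subset_closure ⟨p, rfl⟩⟩ : monomialGroup F n) := by
    refine ⟨fun p p' e => ?_, fun x => ?_⟩
    · obtain ⟨h1, h2⟩ := mon_injective (congrArg (fun x : monomialGroup F n => x.1.1) e)
      exact Prod.ext h1 h2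
    · obtain ⟨σ, g, e⟩ := mem_monomialGroup.1 x.2
      exact ⟨(σ, g), Subtype.ext (Subtype.ext e.symm)⟩
  rw [← Nat.card_congr (Equiv.ofBijective _ this), Nat.card_prod, Nat.card_fun, Nat.card_perm,
    Nat.card_fin]

/-- The 2-part of the monomial subgroup is that of the whole group. -/
theorem factorization_eq (hF : Odd (Fintype.card F)) :
    (Nat.card (monomialGroup F n)).factorization 2 =
      (Nat.card (symplecticGroup (Fin n) F)).factorization 2 := by
  rw [card_monomialGroup, CfsgLib.Sp.card_symplecticGroup rfl]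
  set q := Fintype.card F with hq
  have : Fact (Nat.Prime 2) := ⟨Nat.prime_two⟩
  have hq3 : 1 < q := Fintype.one_lt_card
  have hq2 : ¬ 2 ∣ q := fun h => (Nat.not_even_iff_odd.2 hF) (even_iff_two_dvd.2 h)
  rw [Nat.factorization_def _ Nat.prime_two, Nat.factorization_def _ Nat.prime_two]
  have h1 : q ^ 2 - 1 ≠ 0 := by
    have : 2 ^ 2 ≤ q ^ 2 := Nat.pow_le_pow_left hq3 2
    omega
  have hvq : padicValNat 2 q = 0 := padicValNat.eq_zero_of_not_dvd hq2
  have hv : ∀ k, k ≠ 0 → q ^ (2 * k) - 1 ≠ 0 ∧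
      padicValNat 2 (q ^ (2 * k) - 1) = padicValNat 2 (q ^ 2 - 1) + padicValNat 2 k := by
    intro k hk
    have hlt : 1 < q ^ (2 * k) := Nat.one_lt_pow (by omega) hq3
    refine ⟨by omega, ?_⟩
    have h := padicValNat.pow_two_sub_one hq3 hq2 (n := 2 * k) (by omega) (even_two_mul k)
    have hfac : q ^ 2 - 1 = (q + 1) * (q - 1) := by
      have := Nat.sq_sub_sq q 1
      simpa using this
    rw [hfac, padicValNat.mul (by omega) (by omega)]
    rw [padicValNat.mul two_ne_zero hk, padicValNat.self (by norm_num)] at h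
    omega
  have hprod : ∀ m, (∏ i ∈ Finset.range m, (q ^ (2 * (i + 1)) - 1)) ≠ 0 ∧
      padicValNat 2 (∏ i ∈ Finset.range m, (q ^ (2 * (i + 1)) - 1)) =
        m * padicValNat 2 (q ^ 2 - 1) + padicValNat 2 m.factorial := by
    intro m
    induction m with
    | zero => simp
    | succ m ih =>
      obtain ⟨hne, hval⟩ := hv (m + 1) (by omega)
      rw [Finset.prod_range_succ]
      refine ⟨mul_ne_zero ih.1 hne, ?_⟩
      rw [padicValNat.mul ih.1 hne, ih.2, hval, Nat.factorial_succ,
        padicValNat.mul (by omega) (Nat.factorial_ne_zero m)]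
      ring
  rw [padicValNat.mul (Nat.factorial_ne_zero n) (pow_ne_zero _ (mul_ne_zero (by omega) h1)),
    padicValNat.pow, padicValNat.mul (by omega) h1, hvq,
    padicValNat.mul (pow_ne_zero _ (by omega)) (hprod n).1, padicValNat.pow, hvq, (hprod n).2]
  ring

/-- A Sylow 2-subgroup of the symplectic group has a normal subgroup of all sign changes. -/
theorem exists_normal_signs (hF : Odd (Fintype.card F)) (S : Sylow 2 (symplecticGroup (Fin n) F)) :
    ∃ E : Subgroup (S : Subgroup (symplecticGroup (Fin n) F)), E.Normal ∧ IsMulCommutative E ∧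
      (∀ a ∈ E, a ^ 2 = 1) ∧ 2 ^ n ≤ Nat.card E := by
  classical
  have : Fact (Nat.Prime 2) := ⟨Nat.prime_two⟩
  have h2 : (2 : F) ≠ 0 := by
    refine Ring.two_ne_zero fun h => ?_
    rw [FiniteField.even_card_iff_char_two] at h
    have := Nat.odd_iff.1 hF
    omega
  set M := monomialGroup F n with hM
  let P : Sylow 2 M := default
  set T := (P : Subgroup M).map M.subtype with hT
  have hTc : Nat.card T = 2 ^ (Nat.card (symplecticGroup (Fin n) F)).factorization 2 := by
    rw [hT, Nat.card_congr ((P : Subgroup M).equivMapOfInjective _ M.subtype_injective).symm.toEquiv,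
      P.card_eq_multiplicity, factorization_eq hF]
  let T' : Sylow 2 (symplecticGroup (Fin n) F) := Sylow.ofCard T hTc
  obtain ⟨c, hc⟩ := MulAction.exists_smul_eq (symplecticGroup (Fin n) F) T' S
  set E₀ := (signs F n).range with hE₀
  have hnorm : ∀ x ∈ M, ∀ e ∈ E₀, x * e * x⁻¹ ∈ E₀ := by
    rintro x hx _ ⟨f, rfl⟩
    obtain ⟨σ, g, hg⟩ := mem_monomialGroup.1 hx
    refine ⟨fun i => f (σ.symm i), ?_⟩
    rw [eq_mul_inv_iff_mul_eq]
    refine Subtype.ext ?_
    show _ * x.1 = x.1 * _
    rw [hg, mon_signs]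
  have hEM : E₀ ≤ M := by
    rintro _ ⟨f, rfl⟩
    refine mem_monomialGroup.2 ⟨1, fun i => ⟨!![sg F (f i), 0; 0, sg F (f i)], by
      rw [Matrix.det_fin_two_of]; simp [sg_mul_self]⟩, ?_⟩
    show fromBlocks _ _ _ _ = fromBlocks _ _ _ _
    congr 1 <;> ext i k <;> by_cases h : i = k <;> simp [blockAt, h, Matrix.diagonal]
  have hE₀p : IsPGroup 2 E₀ := by
    rintro ⟨_, f, rfl⟩
    exact ⟨1, Subtype.ext (by rw [pow_one, Subgroup.coe_pow, ← map_pow, sq,
      show f * f = 1 from funext fun i => Int.units_mul_self _, map_one]; rfl)⟩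
  have hET : E₀ ≤ T := by
    have hn : (E₀.subgroupOf M).Normal := ⟨fun e he x => hnorm x x.2 e he⟩
    have : (E₀.comap M.subtype).Normal := hn
    intro e he
    exact ⟨⟨e, hEM he⟩,
      ((hE₀p.comap_of_injective M.subtype M.subtype_injective).le_sylow_of_normal P) he, rfl⟩
  let φ := (MulAut.conj c).toMonoidHom.comp (signs F n)
  have hmem : ∀ f, φ f ∈ (S : Subgroup (symplecticGroup (Fin n) F)) := fun f => by
    rw [← hc]
    exact ⟨signs F n f, hET ⟨f, rfl⟩, rfl⟩
  let ψ : (Fin n → ℤˣ) →* (S : Subgroup (symplecticGroup (Fin n) F)) := φ.codRestrict _ hmem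
  have hψ : Function.Injective ψ := fun f g h =>
    signs_injective h2 ((MulAut.conj c).injective (congrArg Subtype.val h))
  refine ⟨ψ.range, ⟨?_⟩, ⟨⟨?_⟩⟩, ?_, ?_⟩
  · rintro _ ⟨f, rfl⟩ y
    obtain ⟨t, ht, hty⟩ : (y : symplecticGroup (Fin n) F) ∈
        T.map (MulAut.conj c).toMonoidHom := by
      exact (SetLike.ext_iff.1 (congrArg Sylow.toSubgroup hc.symm) _).1 y.2
    obtain ⟨m, -, rfl⟩ := ht
    obtain ⟨f', hf'⟩ := hnorm (M.subtype m) m.2 _ ⟨f, rfl⟩
    refine ⟨f', Subtype.ext ?_⟩
    show MulAut.conj c (signs F n f') = (y : symplecticGroup (Fin n) F) * MulAut.conj c (signs F n f) *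
      (y : symplecticGroup (Fin n) F)⁻¹
    rw [hf', map_mul, map_mul, map_inv, ← hty]
    rfl
  · rintro ⟨_, f, rfl⟩ ⟨_, g, rfl⟩
    exact Subtype.ext (by
      show ψ f * ψ g = ψ g * ψ f
      rw [← map_mul, ← map_mul, mul_comm])
  · rintro _ ⟨f, rfl⟩
    rw [← map_pow, sq, show f * f = 1 from funext fun i => Int.units_mul_self _, map_one]
  · rw [Nat.card_congr (MonoidHom.ofInjective hψ).toEquiv.symm, Nat.card_fun, Nat.card_fin]
    simp

end CfsgLib.TwoGroups.SympMonomial
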