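import Cfsg.Agent.Lib.TwoGroups.WreathMatrix
import Cfsg.Agent.Classical.SLBasic
import Cfsg.Agent.S1217

/-!
# Wreath products of `GL₂` inside `GL_{2m}` and the `2`-part of `|SL_n|`
-/

set_option autoImplicit false
set_option linter.unusedSectionVars false

namespace CfsgLib.WreathAb

open Matrix

variable {F : Type*} [Field F] {m : ℕ}

theorem mul_permMat_apply {k : Type*} [Fintype k] [DecidableEq k] (π : Equiv.Perm k)
    (A : Matrix k k F) (i j : k) : (A * permMat F π) i j = A i (π j) := by
  simp [Matrix.mul_apply, permMat_apply, Equiv.symm_apply_eq]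

/-- Block diagonal matrices of a tuple of invertible two by two matrices. -/
def bdiag : (Fin m → GL (Fin 2) F) →* Matrix (Fin 2 × Fin m) (Fin 2 × Fin m) F where
  toFun g := blockDiagonal fun i => (g i : Matrix (Fin 2) (Fin 2) F)
  map_one' := by
    rw [show (fun i => (((1 : Fin m → GL (Fin 2) F) i : GL (Fin 2) F) : Matrix (Fin 2) (Fin 2) F)) =
      1 from rfl, blockDiagonal_one]
  map_mul' f g := by rw [← blockDiagonal_mul]; rfl

/-- A permutation of the blocks on the coordinates. -/
def dbl (π : Equiv.Perm (Fin m)) : Equiv.Perm (Fin 2 × Fin m) := Equiv.prodCongrRight fun _ => π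

/-- Permutations of the blocks. -/
def blockPerm : Equiv.Perm (Fin m) →* Matrix (Fin 2 × Fin m) (Fin 2 × Fin m) F where
  toFun π := permMat F (dbl π)
  map_one' := by rw [show dbl (1 : Equiv.Perm (Fin m)) = 1 from rfl, permMat_one]
  map_mul' π τ := by rw [← permMat_mul]; rfl

theorem det_bdiag (g : Fin m → GL (Fin 2) F) :
    (bdiag g).det = ∏ i, (g i : Matrix (Fin 2) (Fin 2) F).det := by
  show (blockDiagonal fun i => (g i : Matrix (Fin 2) (Fin 2) F)).det = _
  simp

theorem det_blockPerm (π : Equiv.Perm (Fin m)) : (blockPerm (F := F) π).det = 1 := by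
  show (permMat F (dbl π)).det = 1
  rw [permMat, det_permute, det_one, mul_one, Equiv.Perm.sign_symm, dbl,
    Equiv.Perm.sign_prodCongrRight, Fin.prod_univ_two, Int.units_mul_self, Units.val_one,
    Int.cast_one]

theorem blockPerm_mul (π : Equiv.Perm (Fin m)) (g : Fin m → GL (Fin 2) F) :
    blockPerm π * bdiag g = bdiag (g ∘ ⇑π.symm) * blockPerm π := by
  ext ⟨a, i⟩ ⟨b, j⟩
  show (permMat F (dbl π) * bdiag g) (a, i) (b, j) =
    (bdiag (g ∘ ⇑π.symm) * permMat F (dbl π)) (a, i) (b, j)
  rw [permMat_mul_apply, mul_permMat_apply]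
  show blockDiagonal (fun i => (g i : Matrix (Fin 2) (Fin 2) F)) (a, π.symm i) (b, j) =
    blockDiagonal (fun i => (g (π.symm i) : Matrix (Fin 2) (Fin 2) F)) (a, i) (b, π j)
  simp [blockDiagonal_apply, Equiv.symm_apply_eq]

theorem bdiag_mul_blockPerm_eq_one {g : Fin m → GL (Fin 2) F} {π : Equiv.Perm (Fin m)}
    (h : bdiag g * blockPerm π = 1) : g = 1 ∧ π = 1 := by
  have key : ∀ a i b j, blockDiagonal (fun i => (g i : Matrix (Fin 2) (Fin 2) F)) (a, i) (b, π j) =
      (1 : Matrix (Fin 2 × Fin m) (Fin 2 × Fin m) F) (a, i) (b, j) := fun a i b j => by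
    rw [← h]
    show _ = (bdiag g * permMat F (dbl π)) (a, i) (b, j)
    rw [mul_permMat_apply]
    rfl
  have hπ : π = 1 := by
    refine Equiv.ext fun i => ?_
    have h1 := key 0 i 0 i
    rw [blockDiagonal_apply, one_apply_eq] at h1
    by_contra hne
    rw [if_neg (fun e => hne e.symm)] at h1
    exact zero_ne_one h1
  refine ⟨funext fun i => Units.ext ?_, hπ⟩
  ext a b
  have h1 := key a i b i
  rw [hπ, blockDiagonal_apply] at h1
  simpa [Matrix.one_apply, Prod.ext_iff] using h1

/-- `SL` over isomorphic index types. -/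
def slEquiv {k l : Type*} [Fintype k] [Fintype l] [DecidableEq k] [DecidableEq l] (e : k ≃ l) :
    SpecialLinearGroup k F ≃* SpecialLinearGroup l F where
  toFun A := ⟨reindex e e A.1, by rw [det_reindex_self]; exact A.2⟩
  invFun A := ⟨reindex e.symm e.symm A.1, by rw [det_reindex_self]; exact A.2⟩
  left_inv A := Subtype.ext (by simp)
  right_inv A := Subtype.ext (by simp)
  map_mul' A B := Subtype.ext (map_mul (reindexAlgEquiv F F e) A.1 B.1)

variable [Fintype F]

/-- The exponent of `2` in `q ^ i - 1`. -/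
noncomputable def v2 (F : Type*) [Fintype F] (i : ℕ) : ℕ :=
  (Fintype.card F ^ i - 1).factorization 2

theorem pow_sub_one_ne_zero {i : ℕ} (hi : i ≠ 0) : Fintype.card F ^ i - 1 ≠ 0 := by
  have := Nat.one_lt_pow hi (Fintype.one_lt_card (α := F))
  omega

theorem factorization_pow_card (hF : Odd (Fintype.card F)) (i : ℕ) :
    (Fintype.card F ^ i).factorization 2 = 0 := by
  rw [Nat.factorization_pow, Finsupp.smul_apply,
    Nat.factorization_eq_zero_of_not_dvd (Nat.two_dvd_ne_zero.2 (Nat.odd_iff.1 hF)), smul_zero]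

theorem factorization_card_GL (hF : Odd (Fintype.card F)) (n : ℕ) :
    (Nat.card (GL (Fin n) F)).factorization 2 = ∑ i ∈ Finset.range n, v2 F (i + 1) := by
  rw [Matrix.card_GL_field,
    Fin.prod_univ_eq_prod_range (fun i => Fintype.card F ^ n - Fintype.card F ^ i) n]
  have hterm : ∀ i ∈ Finset.range n, Fintype.card F ^ n - Fintype.card F ^ i =
      Fintype.card F ^ i * (Fintype.card F ^ (n - i) - 1) := fun i hi => by
    rw [Nat.mul_sub_one, ← pow_add, Nat.add_sub_cancel' (Finset.mem_range.1 hi).le]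
  rw [Finset.prod_congr rfl hterm, factorization_prod _ _ _ fun i hi =>
    mul_ne_zero (pow_ne_zero _ Fintype.card_ne_zero)
      (pow_sub_one_ne_zero (by have := Finset.mem_range.1 hi; omega))]
  rw [Finset.sum_congr rfl fun i hi => by
    rw [Nat.factorization_mul (pow_ne_zero _ Fintype.card_ne_zero)
      (pow_sub_one_ne_zero (by have := Finset.mem_range.1 hi; omega)),
      Finsupp.add_apply, factorization_pow_card hF, zero_add]]
  rw [← Finset.sum_range_reflect]
  refine Finset.sum_congr rfl fun i hi => ?_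
  rw [Finset.mem_range] at hi
  rw [v2, show n - (n - 1 - i) = i + 1 by omega]

theorem factorization_card_SL (hF : Odd (Fintype.card F)) (n : ℕ) :
    (Nat.card (SpecialLinearGroup (Fin (n + 1)) F)).factorization 2 + v2 F 1 =
      ∑ i ∈ Finset.range (n + 1), v2 F (i + 1) := by
  rw [← factorization_card_GL hF, Cfsg.Agent.Classical.card_gl_eq_units_mul_sl,
    Cfsg.Agent.Classical.natCard_units_field, Nat.factorization_mul
      (by have := Fintype.one_lt_card (α := F); omega) Nat.card_pos.ne', Finsupp.add_apply, v2,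
    pow_one, add_comm]

theorem v2_two_mul (hF : Odd (Fintype.card F)) {i : ℕ} (hi : i ≠ 0) :
    v2 F (2 * i) = v2 F 2 + i.factorization 2 :=
  factorization_two_pow_sub_one hF Fintype.one_lt_card hi

theorem v2_odd (h3 : Fintype.card F % 4 = 3) (i : ℕ) : v2 F (2 * i + 1) = 1 := by
  have hmod : Fintype.card F ^ (2 * i + 1) % 4 = 3 := by
    rw [Nat.pow_mod, h3, pow_succ, pow_mul, Nat.mul_mod, Nat.pow_mod]
    norm_num
  obtain ⟨k, hk⟩ : ∃ k, Fintype.card F ^ (2 * i + 1) - 1 = 2 * (2 * k + 1) :=
    ⟨Fintype.card F ^ (2 * i + 1) / 4, by omega⟩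
  rw [v2, hk, Nat.factorization_mul two_ne_zero (by omega), Finsupp.add_apply,
    Nat.prime_two.factorization_self, Nat.factorization_eq_zero_of_not_dvd (by omega)]

/-- The sum of the exponents up to `2m` for `q ≡ 3 (mod 4)`. -/
theorem sum_v2 (h3 : Fintype.card F % 4 = 3) (m : ℕ) :
    ∑ i ∈ Finset.range (2 * m), v2 F (i + 1) = m * (1 + v2 F 2) + m.factorial.factorization 2 := by
  have hF : Odd (Fintype.card F) := Nat.odd_iff.2 (by omega)
  induction m with
  | zero => simp
  | succ m ih =>
    rw [show 2 * (m + 1) = 2 * m + 1 + 1 by ring, Finset.sum_range_succ, Finset.sum_range_succ, ih,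
      v2_odd h3, show 2 * m + 1 + 1 = 2 * (m + 1) by ring, v2_two_mul hF m.succ_ne_zero,
      Nat.factorial_succ, Nat.factorization_mul m.succ_ne_zero m.factorial_ne_zero,
      Finsupp.add_apply]
    ring

theorem factorization_card_GL_two (h3 : Fintype.card F % 4 = 3) :
    (Nat.card (GL (Fin 2) F)).factorization 2 = 1 + v2 F 2 := by
  rw [factorization_card_GL (Nat.odd_iff.2 (by omega)), Finset.sum_range_succ,
    Finset.sum_range_succ, Finset.sum_range_zero, zero_add,
    show v2 F (0 + 1) = 1 from v2_odd h3 0]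

theorem elemAb_sylow_GL_two (h3 : Fintype.card F % 4 = 3) (Q : Sylow 2 (GL (Fin 2) F)) :
    ElemAb (Q : Subgroup (GL (Fin 2) F)) :=
  elemAb_semidihedral ((Cfsg.Agent.S1217.result Q).1 h3)

theorem natCard_pi {A : Type*} [Group A] (Q : Subgroup A) (m : ℕ) :
    Nat.card (Subgroup.pi (Set.univ : Set (Fin m)) fun _ => Q) = Nat.card Q ^ m := by
  rw [← Nat.card_congr ((Equiv.subtypePiEquivPi (p := fun (_ : Fin m) a => a ∈ Q)).symm.trans
      (Equiv.subtypeEquivRight fun f => by simp [Subgroup.mem_pi])), Nat.card_fun, Nat.card_fin]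

end CfsgLib.WreathAb
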