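import Cfsg.Agent.Lib.TwoGroups.WreathAb

/-!
# Monomial block matrices
-/

set_option autoImplicit false
set_option linter.unusedSectionVars false

namespace CfsgLib.WreathAb

open Matrix

variable {F : Type*} [CommRing F] {m : Type*} [Fintype m] [DecidableEq m]

/-- The matrix of a permutation (as a homomorphism). -/
def permMat (F : Type*) [CommRing F] (π : Equiv.Perm m) : Matrix m m F :=
  (1 : Matrix m m F).submatrix π.symm id

theorem permMat_apply (π : Equiv.Perm m) (i j : m) :
    permMat F π i j = if π.symm i = j then 1 else 0 := by simp [permMat, Matrix.one_apply]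

theorem permMat_mul_apply (π : Equiv.Perm m) (A : Matrix m m F) (i j : m) :
    (permMat F π * A) i j = A (π.symm i) j := by
  simp [Matrix.mul_apply, permMat_apply]

theorem permMat_one : permMat F (1 : Equiv.Perm m) = 1 := by
  ext i j; rw [permMat_apply, Matrix.one_apply]; rfl

theorem permMat_mul (π τ : Equiv.Perm m) : permMat F (π * τ) = permMat F π * permMat F τ := by
  ext i j
  rw [permMat_mul_apply, permMat_apply, permMat_apply]
  rfl

theorem permMat_mul_diagonal (π : Equiv.Perm m) (a : m → F) :
    permMat F π * diagonal a = diagonal (a ∘ ⇑π.symm) * permMat F π := by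
  ext i j
  rw [permMat_mul_apply, Matrix.diagonal_mul, permMat_apply, Matrix.diagonal_apply]
  by_cases h : π.symm i = j <;> simp [h]

theorem permMat_mul_transpose (π : Equiv.Perm m) : permMat F π * (permMat F π)ᵀ = 1 := by
  ext i j
  rw [permMat_mul_apply, Matrix.transpose_apply, permMat_apply, Matrix.one_apply]
  simp [π.symm.injective.eq_iff, eq_comm]

theorem eq_one_of_diagonal_mul_permMat [Nontrivial F] {a : m → F} {π : Equiv.Perm m}
    (h : diagonal a * permMat F π = 1) : a = 1 ∧ π = 1 := by
  have hπ : π = 1 := by
    refine Equiv.ext fun i => ?_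
    have h1 := congrFun (congrFun h (π i)) (π i)
    rw [Matrix.diagonal_mul, permMat_apply, Matrix.one_apply_eq, Equiv.symm_apply_apply] at h1
    by_contra hne
    rw [if_neg (fun e => hne e.symm), mul_zero] at h1
    exact zero_ne_one h1
  refine ⟨funext fun i => ?_, hπ⟩
  have h1 := congrFun (congrFun h i) i
  rwa [hπ, permMat_one, mul_one, Matrix.diagonal_apply_eq, Matrix.one_apply_eq] at h1

end CfsgLib.WreathAb
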