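import Cfsg.Agent.Lib.TwoGroups.WreathedLocalV
import Cfsg.Agent.Lib.TwoGroups.SemidihedralCases

/-!
Fusion in a finite group with wreathed Sylow 2-subgroup: the cases of the two local indices.
-/

set_option autoImplicit false
set_option linter.unusedSectionVars false

namespace CfsgLib.TwoGroups.WRC

open Subgroup CfsgLib.TwoGroups.FT CfsgLib.TwoGroups.WR CfsgLib.TwoGroups.WRF

variable {G : Type*} [Group G] [Finite G] {S : Sylow 2 G} {n : ℕ} {x y z : (S : Subgroup G)}

/-- Coordinates adapted to the data of the statements. -/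
theorem exists_data (hS : Cfsg.IsWreathed (S : Subgroup G)) (hn : Nat.card S = 2 ^ (2 * n + 1))
    {U : Subgroup G} (hUS : U ≤ (S : Subgroup G)) (hUab : IsMulCommutative U)
    (hUcard : Nat.card U = 2 ^ (2 * n)) {Q : Subgroup G} (hQS : Q ≤ (S : Subgroup G))
    (eQ : Q ≃* QuaternionGroup 2) :
    ∃ (x y z : (S : Subgroup G)) (h : WR (S : Subgroup G) n x y z), U = uG h ∧
      Q ⊔ (center (S : Subgroup G)).map (S : Subgroup G).subtype = vG h := by
  obtain ⟨n', x, y, z, h⟩ := exists_wr hS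
  have hnn : n' = n := by
    have h1 : (2 : ℕ) ^ (2 * n' + 1) = 2 ^ (2 * n + 1) := h.card.symm.trans hn
    have := Nat.pow_right_injective le_rfl h1
    omega
  subst hnn
  obtain ⟨z', h', hqz, -⟩ := exists_coords h ((subgroupOfEquivOfLe hQS).trans eQ)
  refine ⟨x, y, z', h', eq_uG h' hUS (fun u hu v hv => ?_) hUcard, ?_⟩
  · exact congrArg Subtype.val (hUab.1.comm ⟨u, hu⟩ ⟨v, hv⟩)
  · rw [vG, ← qz_eq_vee h', ← hqz, Subgroup.map_sup, subgroupOf_map_subtype,
      inf_eq_left.mpr hQS]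

/-- The central involution. -/
def jE (h : WR (S : Subgroup G) n x y z) : (S : Subgroup G) :=
  el x y (2 ^ (n - 1)) (2 ^ (n - 1))

/-- A noncentral involution of the base. -/
def eE (h : WR (S : Subgroup G) n x y z) : (S : Subgroup G) := el x y (2 ^ (n - 1)) 0

theorem jE_central (h : WR (S : Subgroup G) n x y z) : jE h ∈ center (S : Subgroup G) :=
  (mem_center_iff h).mpr ⟨_, rfl⟩

theorem eE_mem_vee (h : WR (S : Subgroup G) n x y z) : eE h ∈ vee h :=
  (el_mem_vee h).mpr (by simp)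

theorem eE_not_central (h : WR (S : Subgroup G) n x y z) : eE h ∉ center (S : Subgroup G) := by
  intro hc
  obtain ⟨a, ha⟩ := (mem_center_iff h).mp hc
  obtain ⟨h1, h2⟩ := (h.eq_iff _ _ _ _).mp ha
  rw [zero_sub, dvd_neg] at h2
  exact not_dvd_half h (npos h) (by simpa using h1.add h2)

theorem orderOf_jE (h : WR (S : Subgroup G) n x y z) : orderOf ((jE h : (S : Subgroup G)) : G) = 2 := by
  rw [Subgroup.orderOf_coe]
  have hd : (2 : ℤ) ^ n ∣ 2 * 2 ^ (n - 1) := by rw [two_pow_split h]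
  exact orderOf_involution h _ _ hd hd fun hh => not_dvd_half h (npos h) hh.1

theorem orderOf_eE (h : WR (S : Subgroup G) n x y z) : orderOf ((eE h : (S : Subgroup G)) : G) = 2 := by
  rw [Subgroup.orderOf_coe]
  have hd : (2 : ℤ) ^ n ∣ 2 * 2 ^ (n - 1) := by rw [two_pow_split h]
  exact orderOf_involution h _ _ hd (by simp) fun hh => not_dvd_half h (npos h) hh.1

theorem orderOf_z (h : WR (S : Subgroup G) n x y z) : orderOf (z : G) = 2 := by
  rw [Subgroup.orderOf_coe]
  simpa [el_zero] using orderOf_elz_involution h 0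

theorem isConj_swap (h : WR (S : Subgroup G) n x y z) (a b : ℤ) :
    IsConj (el x y a b) (el x y b a) :=
  isConj_iff.mpr ⟨el x y 0 0 * z, conj_elz_el h 0 0 a b⟩

theorem isConj_z (h : WR (S : Subgroup G) n x y z) (a : ℤ) : IsConj (el x y a (-a) * z) z := by
  have := isConj_elz h (a := a) (b := -a) (c := 0) (d := 0) (by simp)
  rwa [el_zero, one_mul] at this

/-- There are at most three classes of involutions. -/
theorem involution_class (h : WR (S : Subgroup G) n x y z) {t : G} (ht : orderOf t = 2) :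
    IsConj t (jE h : G) ∨ IsConj t (eE h : G) ∨ IsConj t (z : G) := by
  obtain ⟨s, hs⟩ := SDF.exists_conj_mem S (t := t) (k := 1)
    (by rw [pow_one]; exact orderOf_dvd_iff_pow_eq_one.mp (dvd_of_eq ht))
  have hos : orderOf s = 2 := by
    obtain ⟨c, hc⟩ := isConj_iff.mp hs
    rw [← Subgroup.orderOf_coe, ← hc, show c * t * c⁻¹ = MulAut.conj c t from rfl,
      MulEquiv.orderOf_eq, ht]
  have hs1 : s ≠ 1 := fun e => by simp [e] at hos
  have hs2 : s ^ 2 = 1 := orderOf_dvd_iff_pow_eq_one.mp (dvd_of_eq hos)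
  rcases involution_cases h hs2 hs1 with rfl | rfl | rfl | ⟨a, rfl⟩
  · exact Or.inr (Or.inl hs)
  · exact Or.inr (Or.inl (hs.trans (SDF.isConj_coe (isConj_swap h _ _))))
  · exact Or.inl hs
  · exact Or.inr (Or.inr (hs.trans (SDF.isConj_coe (isConj_z h a))))

/-- The conjugates under an element of `N(V)` of commuting elements of `V` commute. -/
theorem conj_commute (g : G) {u v : G} (huv : Commute u v) :
    Commute (g * u * g⁻¹) (g * v * g⁻¹) :=
  huv.map (MulAut.conj g).toMonoidHom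

theorem exists_conj_vee (h : WR (S : Subgroup G) n x y z) {g : G}
    (hg : g ∈ normalizer (vG h : Set G)) {v : (S : Subgroup G)} (hv : v ∈ vee h)
    (hvc : v ∉ center (S : Subgroup G)) :
    ∃ v' ∈ vee h, v' ∉ center (S : Subgroup G) ∧ (v' : G) = g * (v : G) * g⁻¹ := by
  obtain ⟨v', hv', e⟩ := (mem_normalizer_iff.mp hg (v : G)).mp ((coe_mem_vG h).mpr hv)
  exact ⟨v', hv', not_central_conj h hg hv hvc e.symm, e⟩

/-- The element of odd order provided by a large `N(V)`. -/
theorem v_data (h : WR (S : Subgroup G) n x y z)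
    (h6 : (vG h ⊔ centralizer (vG h : Set G)).relIndex (normalizer (vG h : Set G)) = 6) :
    ∃ g ∈ normalizer (vG h : Set G), Odd (orderOf g) ∧
      (∀ u ∈ center (S : Subgroup G), g * (u : G) * g⁻¹ = u) ∧
      (∃ a : ℤ, g * (eE h : G) * g⁻¹ = ((el x y a (-a) * z : (S : Subgroup G)) : G)) ∧
      (g * ((el x y (2 ^ (n - 2)) (-2 ^ (n - 2)) : (S : Subgroup G)) : G) * g⁻¹ =
          ((el x y (2 ^ (n - 1)) 0 * z : (S : Subgroup G)) : G) ∨
        g * ((el x y (2 ^ (n - 2)) (-2 ^ (n - 2)) : (S : Subgroup G)) : G) * g⁻¹ =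
          ((el x y (2 ^ (n - 1)) 0 * z : (S : Subgroup G)) : G)⁻¹) ∧
      (g * ((el x y (2 ^ (n - 1)) 0 * z : (S : Subgroup G)) : G) * g⁻¹ =
          ((el x y (2 ^ (n - 2)) (-2 ^ (n - 2)) * (el x y (2 ^ (n - 1)) 0 * z) :
            (S : Subgroup G)) : G) ∨
        g * ((el x y (2 ^ (n - 1)) 0 * z : (S : Subgroup G)) : G) * g⁻¹ =
          ((el x y (2 ^ (n - 2)) (-2 ^ (n - 2)) * (el x y (2 ^ (n - 1)) 0 * z) :
            (S : Subgroup G)) : G)⁻¹) := by
  rcases v_index h with ⟨h2, -⟩ | ⟨-, g, hg, hgo, hfix, hkw, hwk, -⟩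
  · omega
  refine ⟨g, hg, hgo, hfix, ?_, ?_⟩
  · obtain ⟨e', he'V, he'c, he'⟩ := exists_conj_vee h hg (eE_mem_vee h) (eE_not_central h)
    obtain ⟨k', hk'V, hk'c, hk'⟩ := exists_conj_vee h hg (k0_mem h) (k0_not_central h)
    have hek : Commute e' k' := by
      apply Subtype.ext
      rw [Subgroup.coe_mul, Subgroup.coe_mul, he', hk']
      exact (conj_commute g (congrArg Subtype.val (commute_el h _ _ _ _).eq)).eq
    have hkw' : Commute k' (el x y (2 ^ (n - 1)) 0 * z) := by
      apply Subtype.ext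
      rw [Subgroup.coe_mul _ k', Subgroup.coe_mul _ (el x y (2 ^ (n - 1)) 0 * z) k', hk']
      exact hkw.eq
    have hew := commute_of_commute h hk'V (w0_mem h) hk'c (w0_not_central h) hkw' hek
    have hne : e' ≠ 1 := fun e => he'c (e ▸ one_mem _)
    have hsq : e' ^ 2 = 1 := by
      apply Subtype.ext
      have hE : (eE h : G) ^ 2 = 1 := orderOf_dvd_iff_pow_eq_one.mp (dvd_of_eq (orderOf_eE h))
      rw [Subgroup.coe_pow, he', conj_pow, hE]
      simp
    have hd : ¬ (2 : ℤ) ^ n ∣ 2 ^ (n - 1) := not_dvd_half h (npos h)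
    rcases involution_cases h hsq hne with rfl | rfl | rfl | ⟨a, rfl⟩
    · exact absurd (by simpa using (commute_el_elz h).mp hew) hd
    · exact absurd (by simpa using (commute_el_elz h).mp hew) hd
    · exact absurd (jE_central h) he'c
    · exact ⟨a, he'.symm⟩
  · have hJsq : ∀ v : (S : Subgroup G), v ^ 2 = jE h → g * ((v ^ 2 : (S : Subgroup G)) : G) * g⁻¹ =
        ((v ^ 2 : (S : Subgroup G)) : G) := fun v e => hfix _ (e ▸ jE_central h)
    have key : ∀ p q : (S : Subgroup G), p ∈ vee h → q ∈ vee h → p ∉ center (S : Subgroup G) →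
        q ∉ center (S : Subgroup G) → Commute (g * (p : G) * g⁻¹) (q : G) → p ^ 2 = jE h →
        q ^ 2 = jE h →
        g * (p : G) * g⁻¹ = (q : G) ∨ g * (p : G) * g⁻¹ = (q : G)⁻¹ := by
      intro p q hp hq hpc hqc hc hp2 hq2
      obtain ⟨p', hp'V, hp'c, hp'⟩ := exists_conj_vee h hg hp hpc
      have hc' : Commute p' q := by
        apply Subtype.ext
        rw [Subgroup.coe_mul, Subgroup.coe_mul, hp']
        exact hc.eq
      have hζ := quot_mem_center h hp'V hq hp'c hqc hc'
      have hp'2 : p' ^ 2 = jE h := by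
        apply Subtype.ext
        rw [Subgroup.coe_pow, hp', conj_pow, ← Subgroup.coe_pow, hJsq p hp2, hp2]
      obtain ⟨a, ha⟩ := (mem_center_iff h).mp hζ
      have hp'e : p' = el x y a a * q := by rw [← ha, inv_mul_cancel_right]
      have h2 : el x y a a ^ 2 = 1 := by
        have e : p' ^ 2 = el x y a a ^ 2 * q ^ 2 := by
          rw [hp'e]
          exact Commute.mul_pow (Subgroup.mem_center_iff.mp (ha ▸ hζ) q).symm 2
        rw [hp'2, hq2] at e
        exact right_eq_mul.mp e
      rw [el_pow h, el_eq_one h] at h2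
      rcases half_sq h (by simpa using h2.1) with h0 | h1
      · left
        rw [← hp', hp'e, (el_eq_one h).mpr ⟨h0, h0⟩, one_mul]
      · right
        rw [← hp', hp'e, ← Subgroup.coe_inv]
        congr 1
        refine eq_inv_of_mul_eq_one_left ?_
        rw [mul_assoc, ← pow_two, hq2, jE, el_mul h, el_eq_one h]
        have h3 : (2 : ℤ) ^ n ∣ a + 2 ^ (n - 1) := by
          rw [show a + 2 ^ (n - 1) = (a - 2 ^ (n - 1)) + 2 * 2 ^ (n - 1) by ring,
            ← two_pow_split h]
          exact h1.add dvd_rfl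
        exact ⟨h3, h3⟩
    have hk2 : (el x y (2 ^ (n - 2)) (-2 ^ (n - 2))) ^ 2 = jE h := by
      obtain ⟨q1, -⟩ := quarter h
      rw [jE, el_pow h, h.eq_iff]
      constructor
      · rw [q1]; push_cast; ring_nf; simp
      · rw [two_pow_split h, q1]; exact ⟨-1, by push_cast; ring⟩
    have hw2 : (el x y (2 ^ (n - 1)) 0 * z) ^ 2 = jE h := by
      rw [jE, el_z_sq h, h.eq_iff]
      simp
    have hkw2 : (el x y (2 ^ (n - 2)) (-2 ^ (n - 2)) * (el x y (2 ^ (n - 1)) 0 * z)) ^ 2 = jE h := by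
      rw [jE, ← mul_assoc, el_mul h, el_z_sq h, h.eq_iff]
      simp
    exact ⟨key _ _ (k0_mem h) (w0_mem h) (k0_not_central h) (w0_not_central h) hkw hk2 hw2,
      key _ _ (w0_mem h) (kw_mem h) (w0_not_central h) (kw_not_central h) hwk hw2 hkw2⟩

/-- A large `N(V)` fuses a noncentral involution of the base with `z`. -/
theorem isConj_eE_z (h : WR (S : Subgroup G) n x y z)
    (h6 : (vG h ⊔ centralizer (vG h : Set G)).relIndex (normalizer (vG h : Set G)) = 6) :
    IsConj (eE h : G) (z : G) := by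
  obtain ⟨g, -, -, -, ⟨a, ha⟩, -⟩ := v_data h h6
  exact (isConj_iff.mpr ⟨g, ha⟩).trans (SDF.isConj_coe (isConj_z h a))

section Simple

theorem isConj_jE_eE (h : WR (S : Subgroup G) n x y z)
    (h6 : (centralizer (uG h : Set G)).relIndex (normalizer (uG h : Set G)) = 6) :
    IsConj (jE h : G) (eE h : G) := by
  rcases u_index h with ⟨h2, -⟩ | ⟨-, hc, -⟩
  · omega
  · exact hc

theorem el_mem_iff_even {H : Subgroup G} (hH : H.index = 2) (h : WR (S : Subgroup G) n x y z)
    (hx : (x : G) ∉ H) (hy : (y : G) ∉ H) (a b : ℤ) :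
    ((el x y a b : (S : Subgroup G)) : G) ∈ H ↔ Even (a + b) := by
  have key : ∀ w : G, w ∉ H → ∀ k : ℤ, w ^ k ∈ H ↔ Even k := by
    intro w hw k
    have h2 : w ^ 2 ∈ H := Subgroup.sq_mem_of_index_two hH w
    rcases Int.even_or_odd k with ⟨l, rfl⟩ | ⟨l, rfl⟩
    · refine iff_of_true ?_ ⟨l, rfl⟩
      rw [show l + l = (2 : ℤ) * l by ring, zpow_mul]
      exact H.zpow_mem (by exact_mod_cast h2) l
    · refine iff_of_false (fun hh => hw ?_) (by simp [parity_simps])
      rw [zpow_add_one, zpow_mul] at hh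
      exact (H.mul_mem_cancel_left (H.zpow_mem (by exact_mod_cast h2) l)).mp hh
  rw [el, Subgroup.coe_mul, Subgroup.coe_zpow, Subgroup.coe_zpow,
    Subgroup.mul_mem_iff_of_index_two hH, key _ hx, key _ hy, Int.even_add]

theorem simple_case (h : WR (S : Subgroup G) n x y z)
    (hu : (centralizer (uG h : Set G)).relIndex (normalizer (uG h : Set G)) = 6)
    (hv : (vG h ⊔ centralizer (vG h : Set G)).relIndex (normalizer (vG h : Set G)) = 6) :
    (∀ H : Subgroup G, H.index ≠ 2) ∧
      Nat.card {C : ConjClasses G // ∃ t : G, orderOf t = 2 ∧ ConjClasses.mk t = C} = 1 := by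
  have hJE := isConj_jE_eE h hu
  have hEz := isConj_eE_z h hv
  refine ⟨fun H hH => ?_, SDF.card_classes_one (P := fun t : G => orderOf t = 2)
    (orderOf_jE h) (hJE.trans hEz) fun t ht => ?_⟩
  · have hN : H.Normal := Subgroup.normal_of_index_eq_two hH
    have hconj : ∀ {u v : G}, IsConj u v → (u ∈ H ↔ v ∈ H) := by
      intro u v huv
      obtain ⟨c, rfl⟩ := isConj_iff.mp huv
      exact ⟨fun hu => hN.conj_mem _ hu c, fun hu => by
        simpa [mul_assoc] using hN.conj_mem _ hu c⁻¹⟩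
    have hJ : (jE h : G) ∈ H := by
      obtain ⟨q1, -⟩ := quarter h
      have e : el x y (2 ^ (n - 2)) (2 ^ (n - 2)) ^ 2 = jE h := by
        rw [jE, el_pow h, h.eq_iff, q1]
        push_cast
        constructor <;> exact ⟨0, by ring⟩
      rw [← e, Subgroup.coe_pow]
      exact Subgroup.sq_mem_of_index_two hH _
    have hz : (z : G) ∈ H := (hconj (hJE.trans hEz)).mp hJ
    have hxy : (x : G) ∈ H ↔ (y : G) ∈ H := hconj (isConj_iff.mpr ⟨(z : G), by
      simpa using congrArg Subtype.val h.rel⟩)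
    by_cases hx : (x : G) ∈ H
    · have hle : (S : Subgroup G) ≤ H := by
        intro s hs
        obtain ⟨a, b, e | e⟩ := h.gen ⟨s, hs⟩
        · rw [show s = ((el x y a b : (S : Subgroup G)) : G) from congrArg Subtype.val e, el,
            Subgroup.coe_mul, Subgroup.coe_zpow, Subgroup.coe_zpow]
          exact H.mul_mem (H.zpow_mem hx a) (H.zpow_mem (hxy.mp hx) b)
        · rw [show s = ((el x y a b * z : (S : Subgroup G)) : G) from congrArg Subtype.val e, el,
            Subgroup.coe_mul, Subgroup.coe_mul, Subgroup.coe_zpow, Subgroup.coe_zpow]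
          exact H.mul_mem (H.mul_mem (H.zpow_mem hx a) (H.zpow_mem (hxy.mp hx) b)) hz
      have h3 := Subgroup.index_dvd_of_le hle
      rw [hH] at h3
      exact S.not_dvd_index h3
    · have hy : (y : G) ∉ H := fun e => hx (hxy.mpr e)
      rcases u_index h with ⟨h2, -⟩ | ⟨-, -, g, hg, -, hgJ⟩
      · omega
      have hu1 : ((el x y 1 1 : (S : Subgroup G)) : G) ∈ H :=
        (el_mem_iff_even hH h hx hy 1 1).mpr ⟨1, rfl⟩
      obtain ⟨_, ⟨a, b, rfl⟩, e⟩ := (mem_normalizer_iff.mp hg _).mp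
        ((coe_mem_uG h).mpr (el_mem_base h 1 1))
      have hv1 := hN.conj_mem _ hu1 g
      rw [← e] at hv1
      have hab := (el_mem_iff_even hH h hx hy a b).mp hv1
      have hpow : el x y a b ^ ((2 : ℤ) ^ (n - 1)) = eE h := by
        apply Subtype.ext
        rw [Subgroup.coe_zpow]
        show ((el x y a b : (S : Subgroup G)) : G) ^ ((2 : ℤ) ^ (n - 1)) = _
        rw [show ((el x y a b : (S : Subgroup G)) : G) =
          g * ((el x y 1 1 : (S : Subgroup G)) : G) * g⁻¹ from e, conj_zpow,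
          ← Subgroup.coe_zpow, el_zpow h, one_mul]
        exact hgJ
      rw [el_zpow h, eE, h.eq_iff] at hpow
      have hhalf : ∀ c : ℤ, (2 : ℤ) ^ n ∣ c * 2 ^ (n - 1) → (2 : ℤ) ∣ c := by
        intro c hc
        rw [two_pow_split h] at hc
        exact Int.dvd_of_mul_dvd_mul_right (by positivity) hc
      have ha : (2 : ℤ) ∣ a - 1 := hhalf _ (by
        rw [show (a - 1) * 2 ^ (n - 1) = a * 2 ^ (n - 1) - 2 ^ (n - 1) by ring]; exact hpow.1)
      have hb : (2 : ℤ) ∣ b := hhalf _ (by simpa using hpow.2)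
      obtain ⟨a', ha'⟩ := ha
      obtain ⟨b', hb'⟩ := hb
      obtain ⟨c, hc⟩ := hab
      omega
  · rcases involution_class h ht with e | e | e
    · exact Or.inl e
    · exact Or.inr (e.trans hEz)
    · exact Or.inr e

end Simple

end CfsgLib.TwoGroups.WRC
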