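import Cfsg.Agent.Lib.TwoGroups.WreathedVee
import Cfsg.Agent.Lib.TwoGroups.FusionTools
import Cfsg.Agent.Lib.TwoGroups.SemidihedralFusion

/-!
The two decisive local subgroups for a wreathed Sylow 2-subgroup.
-/

set_option autoImplicit false
set_option linter.unusedSectionVars false

namespace CfsgLib.TwoGroups.WRF

open Subgroup CfsgLib.TwoGroups.FT CfsgLib.TwoGroups.WR CfsgLib.TwoGroups.OddAut

section OddElements

variable {G : Type*} [Group G] [Finite G]

theorem odd_fix {X : Subgroup G} (hX : IsPGroup 2 X) {g : G} (hg : g ∈ normalizer (X : Set G))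
    (hodd : Odd (orderOf g)) {v : G} (hv : v ∈ X)
    (h : g * (g * v * g⁻¹ * v⁻¹) * g⁻¹ = g * v * g⁻¹ * v⁻¹) : g * v * g⁻¹ = v := by
  let φ : MulAut X := normalizerMonoidHom X ⟨g, hg⟩
  have hφ : Odd (orderOf φ) := by
    refine Odd.of_dvd_nat hodd ?_
    have h2 := orderOf_map_dvd (normalizerMonoidHom X) ⟨g, hg⟩
    rwa [Subgroup.orderOf_mk] at h2
  exact congrArg Subtype.val (fixed_of_quot hX hφ (g := ⟨v, hv⟩) (Subtype.ext h))

theorem odd_fix_cyclic {X : Subgroup G} (hX : IsPGroup 2 X) [hc : IsCyclic X] {g : G}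
    (hg : g ∈ normalizer (X : Set G)) (hodd : Odd (orderOf g)) {v : G} (hv : v ∈ X) :
    g * v * g⁻¹ = v := by
  let φ : MulAut X := normalizerMonoidHom X ⟨g, hg⟩
  have hφ : Odd (orderOf φ) := by
    refine Odd.of_dvd_nat hodd ?_
    have h2 := orderOf_map_dvd (normalizerMonoidHom X) ⟨g, hg⟩
    rwa [Subgroup.orderOf_mk] at h2
  have : IsCyclic (⊤ : Subgroup X) :=
    isCyclic_of_injective (Subgroup.topEquiv (G := X)).toMonoidHom Subgroup.topEquiv.injective
  exact congrArg Subtype.val (fixed_subgroup hX hφ ⊤ (fun u _ => mem_top _) ⟨v, hv⟩ (mem_top _))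

end OddElements

section Abstract

variable {S : Type*} [Group S] [Finite S] {n : ℕ} {x y z : S}

theorem sq_central (h : WR S n x y z) {u : S} (hu : u ∈ vee h) : u ^ 2 ∈ center S := by
  obtain ⟨a, b, ⟨t, ht⟩, rfl | rfl⟩ := hu
  · refine (mem_center_iff h).mpr ⟨a * 2, ?_⟩
    rw [el_pow h, h.eq_iff]
    push_cast
    refine ⟨by simp, ⟨-t, ?_⟩⟩
    rw [two_pow_split h]
    linarith
  · exact (mem_center_iff h).mpr ⟨a + b, el_z_sq h a b⟩

theorem comm_central (h : WR S n x y z) {u v : S} (hu : u ∈ vee h) (hv : v ∈ vee h) :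
    u * v * u⁻¹ * v⁻¹ ∈ center S := by
  have h1 := sq_central h ((vee h).mul_mem hu hv)
  have h2 := sq_central h hu
  have h3 := sq_central h hv
  have e : u * v * u⁻¹ * v⁻¹ = (u * v) ^ 2 * ((v ^ 2)⁻¹ * (u ^ 2)⁻¹) := by
    have h4 : v * (u ^ 2)⁻¹ = (u ^ 2)⁻¹ * v := Subgroup.mem_center_iff.mp (inv_mem h2) v
    calc u * v * u⁻¹ * v⁻¹ = (u * v) ^ 2 * (v⁻¹ * ((u ^ 2)⁻¹ * v) * (v ^ 2)⁻¹) := by
          rw [pow_two (u * v)]; group
      _ = (u * v) ^ 2 * ((u ^ 2)⁻¹ * (v ^ 2)⁻¹) := by rw [← h4]; group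
      _ = (u * v) ^ 2 * ((v ^ 2)⁻¹ * (u ^ 2)⁻¹) := by
        rw [Subgroup.mem_center_iff.mp (inv_mem h3)]
  rw [e]
  exact mul_mem h1 (mul_mem (inv_mem h3) (inv_mem h2))

theorem half_of_not_central (h : WR S n x y z) {a b : ℤ} (hab : (2 : ℤ) ^ (n - 1) ∣ a - b) :
    (2 : ℤ) ^ n ∣ a - b ∨ (2 : ℤ) ^ n ∣ a - b - 2 ^ (n - 1) := by
  apply half_sq h
  rw [two_pow_split h]
  obtain ⟨t, ht⟩ := hab
  exact ⟨t, by rw [ht]; ring⟩

/-- Commuting noncentral elements of `vee` differ by a central element. -/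
theorem quot_mem_center (h : WR S n x y z) {u v : S} (hu : u ∈ vee h) (hv : v ∈ vee h)
    (huc : u ∉ center S) (hvc : v ∉ center S) (hc : Commute u v) : u * v⁻¹ ∈ center S := by
  obtain ⟨a, b, hab, rfl | rfl⟩ := hu <;> obtain ⟨c, d, hcd, rfl | rfl⟩ := hv
  · have key : ∀ {p q : ℤ}, (2 : ℤ) ^ (n - 1) ∣ p - q → el x y p q ∉ center S →
        (2 : ℤ) ^ n ∣ p - q - 2 ^ (n - 1) := by
      intro p q hpq hne
      refine (half_of_not_central h hpq).resolve_left fun hd => hne ((mem_center_iff h).mpr ⟨q, ?_⟩)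
      exact (h.eq_iff _ _ _ _).mpr ⟨hd, by simp⟩
    rw [el_inv h, el_mul h]
    refine (mem_center_iff h).mpr ⟨b - d, (h.eq_iff _ _ _ _).mpr ⟨?_, by simp [sub_eq_add_neg]⟩⟩
    rw [show a + -c - (b - d) = (a - b - 2 ^ (n - 1)) - (c - d - 2 ^ (n - 1)) by ring]
    exact (key hab huc).sub (key hcd hvc)
  · exact absurd ((mem_center_iff h).mpr ⟨b, (h.eq_iff _ _ _ _).mpr
      ⟨(commute_el_elz h).mp hc, by simp⟩⟩) huc
  · exact absurd ((mem_center_iff h).mpr ⟨d, (h.eq_iff _ _ _ _).mpr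
      ⟨(commute_el_elz h).mp hc.symm, by simp⟩⟩) hvc
  · have e : el x y a b * z * (el x y c d * z) = el x y c d * z * (el x y a b * z) := hc
    rw [el_z_mul_el_z h, el_z_mul_el_z h, h.eq_iff] at e
    rw [el_z_inv h, el_z_mul_el_z h]
    refine (mem_center_iff h).mpr ⟨b + -d, (h.eq_iff _ _ _ _).mpr ⟨?_, by simp⟩⟩
    rw [show a + -c - (b + -d) = a + d - (c + b) by ring]
    exact e.1

theorem commute_of_commute (h : WR S n x y z) {u v w : S} (hv : v ∈ vee h) (hw : w ∈ vee h)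
    (hvc : v ∉ center S) (hwc : w ∉ center S) (hvw : Commute v w) (huv : Commute u v) :
    Commute u w := by
  have h1 := quot_mem_center h hv hw hvc hwc hvw
  have h2 : Commute u (v * w⁻¹) := Subgroup.mem_center_iff.mp h1 u
  have h3 := (h2.inv_right.mul_right huv)
  rwa [show (v * w⁻¹)⁻¹ * v = w by group] at h3

theorem k0_mem (h : WR S n x y z) : el x y (2 ^ (n - 2)) (-2 ^ (n - 2)) ∈ vee h := by
  obtain ⟨q1, -⟩ := quarter h
  exact (el_mem_vee h).mpr ⟨1, by rw [q1]; ring⟩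

theorem w0_mem (h : WR S n x y z) : el x y (2 ^ (n - 1)) 0 * z ∈ vee h :=
  (elz_mem_vee h).mpr (by simp)

theorem kw_eq (h : WR S n x y z) :
    el x y (2 ^ (n - 2)) (-2 ^ (n - 2)) * (el x y (2 ^ (n - 1)) 0 * z) =
      el x y (2 ^ (n - 2) + 2 ^ (n - 1)) (-2 ^ (n - 2)) * z := by
  rw [← mul_assoc, el_mul h, add_zero]

theorem kw_mem (h : WR S n x y z) :
    el x y (2 ^ (n - 2)) (-2 ^ (n - 2)) * (el x y (2 ^ (n - 1)) 0 * z) ∈ vee h :=
  (vee h).mul_mem (k0_mem h) (w0_mem h)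

theorem k0_not_central (h : WR S n x y z) :
    el x y (2 ^ (n - 2)) (-2 ^ (n - 2)) ∉ center S := by
  intro hc
  obtain ⟨q1, -⟩ := quarter h
  obtain ⟨a, ha⟩ := (mem_center_iff h).mp hc
  rw [h.eq_iff] at ha
  apply (half_facts h).1
  have := ha.1.sub ha.2
  rwa [show (2 : ℤ) ^ (n - 2) - a - (-2 ^ (n - 2) - a) = 2 ^ (n - 1) by rw [q1]; ring] at this

theorem elz_not_central (h : WR S n x y z) (a b : ℤ) : el x y a b * z ∉ center S := by
  intro hc
  obtain ⟨c, hc⟩ := (mem_center_iff h).mp hc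
  exact el_z_ne h _ _ _ _ hc

theorem w0_not_central (h : WR S n x y z) : el x y (2 ^ (n - 1)) 0 * z ∉ center S :=
  elz_not_central h _ _

theorem kw_not_central (h : WR S n x y z) :
    el x y (2 ^ (n - 2)) (-2 ^ (n - 2)) * (el x y (2 ^ (n - 1)) 0 * z) ∉ center S := by
  rw [kw_eq h]; exact elz_not_central h _ _

theorem not_comm_k0_w0 (h : WR S n x y z) :
    ¬ Commute (el x y (2 ^ (n - 2)) (-2 ^ (n - 2))) (el x y (2 ^ (n - 1)) 0 * z) := by
  intro hc
  obtain ⟨q1, -⟩ := quarter h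
  apply (half_facts h).1
  have := (commute_el_elz h).mp hc
  rwa [show (2 : ℤ) ^ (n - 2) - -2 ^ (n - 2) = 2 ^ (n - 1) by rw [q1]; ring] at this

theorem cases_three (h : WR S n x y z) {v : S} (hv : v ∈ vee h) (hvc : v ∉ center S) :
    Commute v (el x y (2 ^ (n - 2)) (-2 ^ (n - 2))) ∨ Commute v (el x y (2 ^ (n - 1)) 0 * z) ∨
      Commute v (el x y (2 ^ (n - 2)) (-2 ^ (n - 2)) * (el x y (2 ^ (n - 1)) 0 * z)) := by
  obtain ⟨a, b, hab, rfl | rfl⟩ := hv
  · exact Or.inl (commute_el h _ _ _ _)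
  · obtain ⟨q1, q2⟩ := quarter h
    obtain ⟨-, hd⟩ := half_facts h
    have key : ∀ c d : ℤ, (2 : ℤ) ^ n ∣ (a - b) - (c - d) →
        Commute (el x y a b * z) (el x y c d * z) := by
      intro c d hcd
      unfold Commute SemiconjBy
      rw [el_z_mul_el_z h, el_z_mul_el_z h, h.eq_iff]
      exact ⟨by rwa [show a + d - (c + b) = a - b - (c - d) by ring],
        by rw [show b + c - (d + a) = -(a - b - (c - d)) by ring, dvd_neg]; exact hcd⟩
    rcases half_of_not_central h hab with hc | hc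
    · refine Or.inr (Or.inr ?_)
      rw [kw_eq h]
      refine key _ _ ?_
      rw [show a - b - ((2 : ℤ) ^ (n - 2) + 2 ^ (n - 1) - -2 ^ (n - 2)) =
        a - b - 2 * 2 ^ (n - 1) by rw [q1]; ring]
      exact hc.sub hd
    · exact Or.inr (Or.inl (key _ _ (by rwa [sub_zero])))

/-- Conjugation by `x^q` swaps the last two classes. -/
theorem conj_quarter (h : WR S n x y z) :
    (∀ u ∈ vee h, el x y (2 ^ (n - 2)) 0 * u * (el x y (2 ^ (n - 2)) 0)⁻¹ ∈ vee h) ∧
      el x y (2 ^ (n - 2)) 0 * el x y (2 ^ (n - 2)) (-2 ^ (n - 2)) * (el x y (2 ^ (n - 2)) 0)⁻¹ =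
        el x y (2 ^ (n - 2)) (-2 ^ (n - 2)) ∧
      el x y (2 ^ (n - 2)) 0 * (el x y (2 ^ (n - 1)) 0 * z) * (el x y (2 ^ (n - 2)) 0)⁻¹ =
        el x y (2 ^ (n - 2)) (-2 ^ (n - 2)) * (el x y (2 ^ (n - 1)) 0 * z) := by
  obtain ⟨q1, -⟩ := quarter h
  refine ⟨?_, conj_el_el h _ _ _ _, ?_⟩
  · intro u hu
    obtain ⟨a, b, hab, rfl | rfl⟩ := hu
    · rw [conj_el_el h]; exact (el_mem_vee h).mpr hab
    · rw [conj_el_elz h]
      refine (elz_mem_vee h).mpr ?_
      rw [show a + 2 ^ (n - 2) - 0 - (b + 0 - 2 ^ (n - 2)) = (a - b) + 2 ^ (n - 1) by rw [q1]; ring]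
      exact hab.add dvd_rfl
  · rw [conj_el_elz h, kw_eq h]
    congr 2 <;> ring

end Abstract

variable {G : Type*} [Group G] [Finite G] {S : Sylow 2 G} {n : ℕ} {x y z : (S : Subgroup G)}

/-- `V ⊓ C(v)`. -/
def cv (V : Subgroup G) (v : G) : Subgroup G := V ⊓ centralizer ({v} : Set G)

theorem cj_cv {V : Subgroup G} {g : G} (hg : g ∈ normalizer (V : Set G)) (v : G) :
    cj g (cv V v) = cv V (g * v * g⁻¹) := by
  unfold cv cj
  rw [Subgroup.map_inf _ _ _ (MulAut.conj g).injective, CfsgLib.TwoGroups.SD.map_centralizer_conj,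
    show V.map (MulAut.conj g).toMonoidHom = V from cj_eq_of_mem_normalizer hg]

/-- The abelian subgroup of index two. -/
def uG (h : WR (S : Subgroup G) n x y z) : Subgroup G := (base h).map (S : Subgroup G).subtype

/-- `Q Z(S)`. -/
def vG (h : WR (S : Subgroup G) n x y z) : Subgroup G := (vee h).map (S : Subgroup G).subtype

theorem coe_mem_uG (h : WR (S : Subgroup G) n x y z) {u : (S : Subgroup G)} :
    (u : G) ∈ uG h ↔ u ∈ base h :=
  ⟨fun ⟨_, hv, e⟩ => Subtype.ext e ▸ hv, fun hu => ⟨u, hu, rfl⟩⟩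

theorem coe_mem_vG (h : WR (S : Subgroup G) n x y z) {u : (S : Subgroup G)} :
    (u : G) ∈ vG h ↔ u ∈ vee h :=
  ⟨fun ⟨_, hv, e⟩ => Subtype.ext e ▸ hv, fun hu => ⟨u, hu, rfl⟩⟩

theorem uG_le (h : WR (S : Subgroup G) n x y z) : uG h ≤ (S : Subgroup G) :=
  Subgroup.map_subtype_le _

theorem vG_le (h : WR (S : Subgroup G) n x y z) : vG h ≤ (S : Subgroup G) :=
  Subgroup.map_subtype_le _

theorem uG_commute (h : WR (S : Subgroup G) n x y z) {u v : G} (hu : u ∈ uG h) (hv : v ∈ uG h) :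
    Commute u v := by
  obtain ⟨u', ⟨a, b, rfl⟩, rfl⟩ := hu
  obtain ⟨v', ⟨c, d, rfl⟩, rfl⟩ := hv
  exact congrArg Subtype.val (commute_el h a b c d).eq

theorem card_uG (h : WR (S : Subgroup G) n x y z) : Nat.card (uG h) = 2 ^ (2 * n) := by
  rw [uG, ← Nat.card_congr ((base h).equivMapOfInjective _ (S : Subgroup G).subtype_injective).toEquiv,
    card_base h]

theorem eq_uG (h : WR (S : Subgroup G) n x y z) {X : Subgroup G} (hX : X ≤ (S : Subgroup G))
    (hc : ∀ u ∈ X, ∀ v ∈ X, u * v = v * u) (hcard : Nat.card X = 2 ^ (2 * n)) : X = uG h := by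
  have h1 : X.subgroupOf (S : Subgroup G) = base h := by
    refine eq_base_of_commutative h ⟨⟨fun u v => Subtype.ext (Subtype.ext ?_)⟩⟩ ?_
    · exact hc _ u.2 _ v.2
    · rw [Nat.card_congr (subgroupOfEquivOfLe hX).toEquiv, hcard]
  rw [uG, ← h1, subgroupOf_map_subtype, inf_eq_left.mpr hX]

theorem cj_uG (h : WR (S : Subgroup G) n x y z) {g : G} (hg : cj g (uG h) ≤ (S : Subgroup G)) :
    cj g (uG h) = uG h := by
  refine eq_uG h hg ?_ (by rw [card_cj, card_uG])
  rintro _ ⟨u, hu, rfl⟩ _ ⟨v, hv, rfl⟩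
  exact ((uG_commute h hu hv).map (MulAut.conj g).toMonoidHom).eq

theorem uG_le_centralizer (h : WR (S : Subgroup G) n x y z) {u : G} (hu : u ∈ uG h) :
    uG h ≤ centralizer ({u} : Set G) := fun _ hv =>
  mem_centralizer_singleton_iff.mpr (uG_commute h hv hu).eq

/-- The index of `C(U)` in `N(U)`. -/
theorem u_index (h : WR (S : Subgroup G) n x y z) :
    ((centralizer (uG h : Set G)).relIndex (normalizer (uG h : Set G)) = 2 ∧
      ¬ IsConj ((el x y (2 ^ (n - 1)) (2 ^ (n - 1)) : (S : Subgroup G)) : G)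
        ((el x y (2 ^ (n - 1)) 0 : (S : Subgroup G)) : G) ∧
      ∀ g ∈ normalizer (uG h : Set G), ∀ u ∈ uG h,
        g * u * g⁻¹ = u ∨ g * u * g⁻¹ = (z : G) * u * (z : G)⁻¹) ∨
    ((centralizer (uG h : Set G)).relIndex (normalizer (uG h : Set G)) = 6 ∧
      IsConj ((el x y (2 ^ (n - 1)) (2 ^ (n - 1)) : (S : Subgroup G)) : G)
        ((el x y (2 ^ (n - 1)) 0 : (S : Subgroup G)) : G) ∧
      ∃ g ∈ normalizer (uG h : Set G), Odd (orderOf g) ∧
        g * ((el x y (2 ^ (n - 1)) (2 ^ (n - 1)) : (S : Subgroup G)) : G) * g⁻¹ =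
          ((el x y (2 ^ (n - 1)) 0 : (S : Subgroup G)) : G)) := by
  obtain ⟨hh, hd⟩ := half_facts h
  set e : ℤ := 2 ^ (n - 1)
  set J : G := ((el x y e e : (S : Subgroup G)) : G)
  set E : G := ((el x y e 0 : (S : Subgroup G)) : G)
  set E' : G := ((el x y 0 e : (S : Subgroup G)) : G)
  set U := uG h with hUdef
  have hUp : IsPGroup 2 U := S.isPGroup'.to_le (uG_le h)
  have oJ : orderOf J = 2 := by
    rw [Subgroup.orderOf_coe]; exact orderOf_involution h _ _ hd hd fun q => hh q.1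
  have oE : orderOf E = 2 := by
    rw [Subgroup.orderOf_coe]; exact orderOf_involution h _ _ hd (by simp) fun q => hh q.1
  have oE' : orderOf E' = 2 := by
    rw [Subgroup.orderOf_coe]; exact orderOf_involution h _ _ (by simp) hd fun q => hh q.2
  have sq : ∀ {u : G}, orderOf u = 2 → u ^ 2 = 1 ∧ u ≠ 1 := fun {u} hu =>
    ⟨by rw [← hu, pow_orderOf_eq_one], fun he => by rw [he, orderOf_one] at hu; omega⟩
  have hJE : J ≠ E := fun he => hh (by
    have := ((h.eq_iff _ _ _ _).mp (Subtype.ext he)).2; rwa [sub_zero] at this)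
  have hJE' : J ≠ E' := fun he => hh (by
    have := ((h.eq_iff _ _ _ _).mp (Subtype.ext he)).1; rwa [sub_zero] at this)
  have hEE' : E ≠ E' := fun he => hh (by
    have := ((h.eq_iff _ _ _ _).mp (Subtype.ext he)).1; rwa [sub_zero] at this)
  have hJU : J ∈ U := (coe_mem_uG h).mpr (el_mem_base h _ _)
  have hEU : E ∈ U := (coe_mem_uG h).mpr (el_mem_base h _ _)
  have hE'U : E' ∈ U := (coe_mem_uG h).mpr (el_mem_base h _ _)
  have hmem : ∀ u ∈ U, u ^ 2 = 1 → u ≠ 1 → u = J ∨ u = E ∨ u = E' := by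
    intro u hu hu2 hu1
    obtain ⟨u', hu', rfl⟩ := hu
    rcases WR.involution_cases h (Subtype.ext hu2) (fun he => hu1 (congrArg Subtype.val he)) with
      e1 | e1 | e1 | ⟨a, e1⟩
    · exact Or.inr (Or.inl (congrArg Subtype.val e1))
    · exact Or.inr (Or.inr (congrArg Subtype.val e1))
    · exact Or.inl (congrArg Subtype.val e1)
    · exact absurd (e1 ▸ hu') (elz_not_mem_base h a (-a))
  have hne : ∀ {u v : G}, orderOf u = 2 → orderOf v = 2 → u ≠ v → zpowers u ≠ zpowers v :=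
    fun {u v} hu hv huv he => huv (SDF.zpowers_inj_two (sq hv).1 (sq hu).2 (he ▸ mem_zpowers u))
  have hperm : ∀ g ∈ normalizer (U : Set G), ∀ K,
      (K = zpowers J ∨ K = zpowers E ∨ K = zpowers E') →
      (cj g K = zpowers J ∨ cj g K = zpowers E ∨ cj g K = zpowers E') := by
    intro g hg K hK
    have key : ∀ u ∈ U, orderOf u = 2 → cj g (zpowers u) = zpowers J ∨ cj g (zpowers u) = zpowers E ∨
        cj g (zpowers u) = zpowers E' := by
      intro u hu ho
      rw [cj_zpowers]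
      rcases hmem _ ((mem_normalizer_iff.mp hg u).mp hu)
        (by rw [_root_.conj_pow, (sq ho).1, mul_one, mul_inv_cancel])
        (mt conj_eq_one_iff.mp (sq ho).2) with e1 | e1 | e1
      · exact Or.inl (by rw [e1])
      · exact Or.inr (Or.inl (by rw [e1]))
      · exact Or.inr (Or.inr (by rw [e1]))
    rcases hK with rfl | rfl | rfl
    · exact key J hJU oJ
    · exact key E hEU oE
    · exact key E' hE'U oE'
  have hLN : centralizer (U : Set G) ≤ normalizer (U : Set G) := by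
    intro g hg
    refine mem_normalizer_of_cj (cj_eq_of_commute fun u hu => ?_)
    rw [(mem_centralizer_iff.mp hg u hu).symm, mul_inv_cancel_right]
  have hfix : ∀ g ∈ centralizer (U : Set G), cj g (zpowers J) = zpowers J ∧
      cj g (zpowers E) = zpowers E ∧ cj g (zpowers E') = zpowers E' := by
    intro g hg
    have key : ∀ u ∈ U, cj g (zpowers u) = zpowers u := fun u hu => by
      rw [cj_zpowers, (mem_centralizer_iff.mp hg u hu).symm, mul_inv_cancel_right]
    exact ⟨key J hJU, key E hEU, key E' hE'U⟩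
  have hUC : U ≤ centralizer (U : Set G) := fun u hu =>
    mem_centralizer_iff.mpr fun v hv => (uG_commute h hv hu).eq
  have hker : ∀ g ∈ normalizer (U : Set G), cj g (zpowers J) = zpowers J →
      cj g (zpowers E) = zpowers E → cj g (zpowers E') = zpowers E' → g ∈ centralizer (U : Set G) := by
    intro g hg h1 h2 h3
    set K : Set G := {k | k ∈ normalizer (U : Set G) ∧ ∀ u ∈ U, u ^ 2 = 1 → k * u * k⁻¹ = u}
    have hgK : g ∈ K := by
      refine ⟨hg, fun u hu hu2 => ?_⟩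
      by_cases hu1 : u = 1
      · rw [hu1]; group
      have hfx : ∀ v : G, orderOf v = 2 → cj g (zpowers v) = zpowers v → g * v * g⁻¹ = v := by
        intro v hv he
        rw [cj_zpowers] at he
        exact SDF.zpowers_inj_two (sq hv).1 (mt conj_eq_one_iff.mp (sq hv).2) (he ▸ mem_zpowers _)
      rcases hmem u hu hu2 hu1 with rfl | rfl | rfl
      · exact hfx J oJ h1
      · exact hfx E oE h2
      · exact hfx E' oE' h3
    have := le_sup_centralizer S (uG_le h)
      (fun k hk => ⟨1, one_mem _, by rw [cj_one, cj_uG h hk]⟩) K (fun k hk => hk.1) ?_ ?_ ?_ ?_ g hgK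
    · exact (sup_le hUC le_rfl) this
    · rintro k ⟨hk, hk'⟩ l ⟨i, rfl⟩
      refine ⟨zpow_mem hk i, fun u hu hu2 => ?_⟩
      have hc : Commute k u := mul_inv_eq_iff_eq_mul.mp (hk' u hu hu2)
      exact mul_inv_eq_iff_eq_mul.mpr (hc.zpow_left i).eq
    · rintro m hm k ⟨hk, hk'⟩
      refine ⟨mul_mem (mul_mem hm hk) (inv_mem hm), fun u hu hu2 => ?_⟩
      have hu' : m⁻¹ * u * m ∈ U := by
        have := (mem_normalizer_iff.mp (inv_mem hm) u).mp hu
        rwa [inv_inv] at this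
      have hu2' : (m⁻¹ * u * m) ^ 2 = 1 := by
        have := congrArg (fun w => m⁻¹ * w * m) hu2
        simp only [pow_two, mul_one, inv_mul_cancel] at this ⊢
        rw [← this]; group
      calc m * k * m⁻¹ * u * (m * k * m⁻¹)⁻¹ = m * (k * (m⁻¹ * u * m) * k⁻¹) * m⁻¹ := by group
        _ = u := by rw [hk' _ hu' hu2']; group
    · rintro k ⟨-, hk'⟩ hkS
      obtain ⟨a, b, hk | hk⟩ := h.gen ⟨k, hkS⟩
      · exact ⟨_, el_mem_base h a b, (congrArg Subtype.val hk).symm⟩
      · exfalso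
        have := hk' E hEU (sq oE).1
        have e2 : (⟨k, hkS⟩ : (S : Subgroup G)) * el x y e 0 * ⟨k, hkS⟩⁻¹ = el x y e 0 :=
          Subtype.ext this
        rw [hk, conj_elz_el h] at e2
        exact hEE' (congrArg Subtype.val e2).symm
    · rintro k ⟨hk, hk'⟩ hodd
      have hall : ∀ m : ℕ, ∀ u ∈ U, orderOf u ≤ m → k * u * k⁻¹ = u := by
        intro m
        induction m with
        | zero => intro u _ hu; exact absurd hu (by have := orderOf_pos u; omega)
        | succ m ih =>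
          intro u hu hum
          by_cases hu2 : u ^ 2 = 1
          · exact hk' u hu hu2
          have hlt : orderOf (u ^ 2) ≤ m := by
            have hf : Fact (Nat.Prime 2) := ⟨Nat.prime_two⟩
            obtain ⟨i, hi⟩ := hUp ⟨u, hu⟩
            have hi' : u ^ 2 ^ i = 1 := congrArg Subtype.val hi
            obtain ⟨j, -, hj⟩ := (Nat.dvd_prime_pow Nat.prime_two).mp (orderOf_dvd_of_pow_eq_one hi')
            rcases j with _ | j
            · exact absurd (by rw [orderOf_eq_one_iff.mp (show orderOf u = 1 by simpa using hj), one_pow]) hu2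
            · have h4 : (u ^ 2) ^ 2 ^ j = 1 := by
                rw [← pow_mul, ← pow_succ', ← hj, pow_orderOf_eq_one]
              have h5 := Nat.le_of_dvd (pow_pos two_pos j) (orderOf_dvd_of_pow_eq_one h4)
              rw [hj, pow_succ 2 j] at hum
              omega
          have hsqf : k * u ^ 2 * k⁻¹ = u ^ 2 := ih _ (U.pow_mem hu 2) hlt
          refine odd_fix hUp hk hodd hu ?_
          have hku := (mem_normalizer_iff.mp hk u).mp hu
          refine hk' _ (U.mul_mem hku (U.inv_mem hu)) ?_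
          rw [(uG_commute h hku (U.inv_mem hu)).mul_pow, _root_.conj_pow, hsqf, inv_pow,
            mul_inv_cancel]
      exact mem_centralizer_iff.mpr fun u hu => (mul_inv_eq_iff_eq_mul.mp (hall _ u hu le_rfl)).symm
  have hzN : (z : G) ∈ normalizer (U : Set G) := by
    refine mem_normalizer_of_cj (cj_uG h ?_)
    rintro _ ⟨u, hu, rfl⟩
    exact mul_mem (mul_mem z.2 (uG_le h hu)) (inv_mem z.2)
  have hzc : ∀ a b : ℤ, (z : G) * ((el x y a b : (S : Subgroup G)) : G) * (z : G)⁻¹ =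
      ((el x y b a : (S : Subgroup G)) : G) := by
    intro a b
    have e1 : z * el x y a b * z⁻¹ = el x y b a := mul_inv_eq_iff_eq_mul.mpr (z_mul h a b)
    exact congrArg Subtype.val e1
  have hs : ∃ s ∈ normalizer (U : Set G), cj s (zpowers J) = zpowers J ∧
      cj s (zpowers E) = zpowers E' :=
    ⟨z, hzN, by rw [cj_zpowers, hzc], by rw [cj_zpowers, hzc]⟩
  rcases three_index _ _ _ _ _ (hne oJ oE hJE) (hne oJ oE' hJE') (hne oE oE' hEE') hperm hLN hfix
    hker hs with ⟨h2, hA⟩ | ⟨h6, g, hg, hgo, hgA, -, -⟩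
  · refine Or.inl ⟨h2, fun hc => ?_, fun g hg u hu => ?_⟩
    · obtain ⟨g, hg⟩ := isConj_iff.mp hc.symm
      have hSJ : (S : Subgroup G) ≤ centralizer ({J} : Set G) := fun w hw => by
        rw [mem_centralizer_singleton_iff]
        exact congrArg Subtype.val
          (Subgroup.mem_center_iff.mp ((mem_center_iff h).mpr ⟨e, rfl⟩) ⟨w, hw⟩)
      have hle : cj g U ≤ centralizer ({J} : Set G) := by
        rw [← hg, ← CfsgLib.TwoGroups.SD.map_centralizer_conj]
        exact cj_mono (uG_le_centralizer h hEU)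
      obtain ⟨m, hm, hmS⟩ := exists_conj_into S.isPGroup' hSJ (sylow_relIndex_odd S hSJ)
        (isPGroup_cj hUp) hle
      rw [cj_cj] at hmS
      have hn := mem_normalizer_of_cj (cj_uG h hmS)
      have h3 := hA _ hn
      rw [cj_zpowers] at h3
      have h4 : m * g * E * (m * g)⁻¹ = J := by
        calc m * g * E * (m * g)⁻¹ = m * (g * E * g⁻¹) * m⁻¹ := by group
          _ = J := by rw [hg, mem_centralizer_singleton_iff.mp hm, mul_inv_cancel_right]
      have h5 : m * g * J * (m * g)⁻¹ = J :=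
        SDF.zpowers_inj_two (sq oJ).1 (mt conj_eq_one_iff.mp (sq oJ).2) (h3 ▸ mem_zpowers _)
      exact hJE (mul_left_cancel (mul_right_cancel (h5.trans h4.symm)))
    · by_cases hgc : g ∈ centralizer (U : Set G)
      · exact Or.inl (by rw [(mem_centralizer_iff.mp hgc u hu).symm, mul_inv_cancel_right])
      · right
        have hzC : (z : G) ∉ centralizer (U : Set G) := by
          intro hz
          have := mem_centralizer_iff.mp hz E hEU
          have h6 := hzc e 0
          rw [← this, mul_inv_cancel_right] at h6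
          exact hEE' h6
        have h7 : g * (z : G) ∈ centralizer (U : Set G) := by
          have h8 : ((centralizer (U : Set G)).subgroupOf (normalizer (U : Set G))).index = 2 := h2
          have h9 := (Subgroup.mul_mem_iff_of_index_two h8 (a := ⟨g, hg⟩) (b := ⟨z, hzN⟩)).mpr
            (iff_of_false hgc hzC)
          exact h9
        have hzz : (z : G)⁻¹ = (z : G) := congrArg Subtype.val (z_inv h)
        have hmem' : (z : G) * u * (z : G)⁻¹ ∈ U := (mem_normalizer_iff.mp hzN u).mp hu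
        have h10 := (mem_centralizer_iff.mp h7 _ hmem').symm
        calc g * u * g⁻¹ = (g * z * ((z : G) * u * (z : G)⁻¹)) * (g * z)⁻¹ := by
              rw [show g * u * g⁻¹ = g * z * ((z : G)⁻¹ * u * z) * (g * z)⁻¹ by group, hzz]
          _ = (z : G) * u * (z : G)⁻¹ := by rw [h10, mul_inv_cancel_right]
  · rw [cj_zpowers] at hgA
    have e1 : g * J * g⁻¹ = E :=
      SDF.zpowers_inj_two (sq oE).1 (mt conj_eq_one_iff.mp (sq oJ).2) (hgA ▸ mem_zpowers _)
    exact Or.inr ⟨h6, isConj_iff.mpr ⟨g, e1⟩, g, hg, hgo, e1⟩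

end CfsgLib.TwoGroups.WRF
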