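import Cfsg.Agent.Lib.TwoGroups.WreathedLocal

/-!
The normalizer of `Q Z(S)` for a wreathed Sylow 2-subgroup.
-/

set_option autoImplicit false
set_option linter.unusedSectionVars false

namespace CfsgLib.TwoGroups.WRF

open Subgroup CfsgLib.TwoGroups.FT CfsgLib.TwoGroups.WR

variable {G : Type*} [Group G] [Finite G] {S : Sylow 2 G} {n : ℕ} {x y z : (S : Subgroup G)}

theorem isCyclic_center_map (h : WR (S : Subgroup G) n x y z) :
    IsCyclic ((center (S : Subgroup G)).map (S : Subgroup G).subtype) := by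
  rw [center_eq h, MonoidHom.map_zpowers]
  infer_instance

theorem not_central_conj (h : WR (S : Subgroup G) n x y z) {g : G}
    (hg : g ∈ normalizer (vG h : Set G)) {v v' : (S : Subgroup G)} (hv : v ∈ vee h)
    (hvc : v ∉ center (S : Subgroup G)) (hv' : g * (v : G) * g⁻¹ = (v' : G)) :
    v' ∉ center (S : Subgroup G) := by
  intro hc
  apply hvc
  have key : ∀ u ∈ vee h, Commute v u := by
    intro u hu
    obtain ⟨u', -, hu'e⟩ := (mem_normalizer_iff.mp hg (u : G)).mp ((coe_mem_vG h).mpr hu)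
    have e : Commute (v' : G) (u' : G) :=
      (congrArg Subtype.val (Subgroup.mem_center_iff.mp hc u')).symm
    rw [← hv', show (u' : G) = g * (u : G) * g⁻¹ from hu'e] at e
    have e2 := e.map (MulAut.conj g⁻¹).toMonoidHom
    simp only [MulEquiv.coe_toMonoidHom, MulAut.conj_apply, inv_inv] at e2
    rw [show g⁻¹ * (g * (v : G) * g⁻¹) * g = v by group,
      show g⁻¹ * (g * (u : G) * g⁻¹) * g = u by group] at e2
    exact Subtype.ext e2
  by_contra hne
  exact not_comm_k0_w0 h
    (commute_of_commute h hv (w0_mem h) hne (w0_not_central h) (key _ (w0_mem h))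
      (key _ (k0_mem h)).symm)

theorem cv_eq (h : WR (S : Subgroup G) n x y z) {v w : (S : Subgroup G)} (hv : v ∈ vee h)
    (hw : w ∈ vee h) (hvc : v ∉ center (S : Subgroup G)) (hwc : w ∉ center (S : Subgroup G))
    (hvw : Commute v w) : cv (vG h) (v : G) = cv (vG h) (w : G) := by
  have key : ∀ {p q : (S : Subgroup G)}, p ∈ vee h → q ∈ vee h → p ∉ center (S : Subgroup G) →
      q ∉ center (S : Subgroup G) → Commute p q → cv (vG h) (p : G) ≤ cv (vG h) (q : G) := by
    intro p q hp hq hpc hqc hpq u hu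
    obtain ⟨u', hu'V, rfl⟩ := hu.1
    refine ⟨hu.1, ?_⟩
    have e : Commute u' p := Subtype.ext (mem_centralizer_singleton_iff.mp hu.2)
    exact mem_centralizer_singleton_iff.mpr
      (congrArg Subtype.val (commute_of_commute h hp hq hpc hqc hpq e).eq)
  exact le_antisymm (key hv hw hvc hwc hvw) (key hw hv hwc hvc hvw.symm)

theorem mem_cv_self (h : WR (S : Subgroup G) n x y z) {v : (S : Subgroup G)} (hv : v ∈ vee h) :
    (v : G) ∈ cv (vG h) (v : G) :=
  ⟨(coe_mem_vG h).mpr hv, mem_centralizer_singleton_iff.mpr rfl⟩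

theorem conj_vG (h : WR (S : Subgroup G) n x y z) (g : G)
    (hg : cj g (vG h) ≤ (S : Subgroup G)) :
    ∃ s ∈ (S : Subgroup G), cj s (vG h) = cj g (vG h) := by
  obtain ⟨-, -, ⟨Q, ⟨e⟩, hQ⟩, -⟩ := qz_shape h (X := vee h) (fun a b => el_mem_vee h)
    (c := 2 ^ (n - 1)) (d := 0) (by simp) (w0_mem h)
  set f : (S : Subgroup G) →* G := (MulAut.conj g).toMonoidHom.comp (S : Subgroup G).subtype
  have hfinj : Function.Injective f :=
    (MulAut.conj g).injective.comp (S : Subgroup G).subtype_injective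
  have hX : cj g (vG h) = Q.map f ⊔ (center (S : Subgroup G)).map f := by
    rw [cj, vG, map_map, hQ, Subgroup.map_sup]
  have hQS : Q.map f ≤ (S : Subgroup G) := le_sup_left.trans (hX ▸ hg)
  have hZS : (center (S : Subgroup G)).map f ≤ (S : Subgroup G) := le_sup_right.trans (hX ▸ hg)
  have eQ : (Q.map f).subgroupOf (S : Subgroup G) ≃* QuaternionGroup 2 :=
    ((subgroupOfEquivOfLe hQS).trans (Q.equivMapOfInjective f hfinj).symm).trans e
  have hZ : ((center (S : Subgroup G)).map f).subgroupOf (S : Subgroup G) =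
      center (S : Subgroup G) := by
    refine Subgroup.eq_of_le_of_card_ge ?_ ?_
    · intro u hu
      refine centralizer_q8 h eQ fun v hv => ?_
      obtain ⟨u', hu', eu⟩ := hu
      obtain ⟨v', hv', ev⟩ := hv
      have hc : Commute u' v' := (Subgroup.mem_center_iff.mp hu' v').symm
      have h2 := (hc.map f).eq
      rw [eu, ev] at h2
      exact Subtype.ext h2
    · rw [Nat.card_congr (subgroupOfEquivOfLe hZS).toEquiv,
        ← Nat.card_congr ((center (S : Subgroup G)).equivMapOfInjective f hfinj).toEquiv]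
  obtain ⟨z', -, hqz, c, d, hcd, rfl⟩ := exists_coords h eQ
  obtain ⟨s, hs⟩ := qz_conj h hcd
  refine ⟨s, s.2, ?_⟩
  rw [← hqz, qz_eq_vee h] at hs
  have h1 := congrArg (Subgroup.map (S : Subgroup G).subtype) hs
  rw [Subgroup.map_sup, subgroupOf_map_subtype, inf_eq_left.mpr hQS, ← hZ,
    subgroupOf_map_subtype, inf_eq_left.mpr hZS, ← hX, map_map] at h1
  rw [← h1, cj, vG, map_map]
  congr 1

/-- The index of `V C(V)` in `N(V)`. -/
theorem v_index (h : WR (S : Subgroup G) n x y z) :
    ((vG h ⊔ centralizer (vG h : Set G)).relIndex (normalizer (vG h : Set G)) = 2 ∧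
      ∀ g ∈ normalizer (vG h : Set G),
        cj g (cv (vG h) ((el x y (2 ^ (n - 2)) (-2 ^ (n - 2)) : (S : Subgroup G)) : G)) =
          cv (vG h) ((el x y (2 ^ (n - 2)) (-2 ^ (n - 2)) : (S : Subgroup G)) : G)) ∨
    ((vG h ⊔ centralizer (vG h : Set G)).relIndex (normalizer (vG h : Set G)) = 6 ∧
      ∃ g ∈ normalizer (vG h : Set G), Odd (orderOf g) ∧
        (∀ u ∈ center (S : Subgroup G), g * (u : G) * g⁻¹ = u) ∧
        Commute (g * ((el x y (2 ^ (n - 2)) (-2 ^ (n - 2)) : (S : Subgroup G)) : G) * g⁻¹)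
          ((el x y (2 ^ (n - 1)) 0 * z : (S : Subgroup G)) : G) ∧
        Commute (g * ((el x y (2 ^ (n - 1)) 0 * z : (S : Subgroup G)) : G) * g⁻¹)
          ((el x y (2 ^ (n - 2)) (-2 ^ (n - 2)) * (el x y (2 ^ (n - 1)) 0 * z) :
            (S : Subgroup G)) : G) ∧
        Commute (g * ((el x y (2 ^ (n - 2)) (-2 ^ (n - 2)) * (el x y (2 ^ (n - 1)) 0 * z) :
            (S : Subgroup G)) : G) * g⁻¹)
          ((el x y (2 ^ (n - 2)) (-2 ^ (n - 2)) : (S : Subgroup G)) : G)) := by
  set k0 := el x y (2 ^ (n - 2)) (-2 ^ (n - 2)) with hk0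
  set w0 := el x y (2 ^ (n - 1)) 0 * z with hw0
  set V := vG h with hVdef
  set A := cv V (k0 : G)
  set B := cv V (w0 : G)
  set C := cv V ((k0 * w0 : (S : Subgroup G)) : G)
  have hVp : IsPGroup 2 V := S.isPGroup'.to_le (vG_le h)
  have hclass : ∀ v ∈ vee h, v ∉ center (S : Subgroup G) →
      cv V (v : G) = A ∨ cv V (v : G) = B ∨ cv V (v : G) = C := by
    intro v hv hvc
    rcases cases_three h hv hvc with e | e | e
    · exact Or.inl (cv_eq h hv (k0_mem h) hvc (k0_not_central h) e)
    · exact Or.inr (Or.inl (cv_eq h hv (w0_mem h) hvc (w0_not_central h) e))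
    · exact Or.inr (Or.inr (cv_eq h hv (kw_mem h) hvc (kw_not_central h) e))
  have hdist : ∀ {v w : (S : Subgroup G)}, v ∈ vee h → ¬ Commute v w →
      cv V (v : G) ≠ cv V (w : G) := fun {v w} hv hn e => by
    have := e ▸ mem_cv_self h hv
    exact hn (Subtype.ext (mem_centralizer_singleton_iff.mp this.2))
  have hAB : A ≠ B := hdist (k0_mem h) (not_comm_k0_w0 h)
  have hAC : A ≠ C := hdist (k0_mem h) fun e => not_comm_k0_w0 h (by
    have := (Commute.refl k0).inv_right.mul_right e
    rwa [inv_mul_cancel_left] at this)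
  have hBC : B ≠ C := hdist (w0_mem h) fun e => not_comm_k0_w0 h (by
    have := e.mul_right (Commute.refl w0).inv_right
    rw [mul_inv_cancel_right] at this
    exact this.symm)
  have hperm : ∀ g ∈ normalizer (V : Set G), ∀ K, (K = A ∨ K = B ∨ K = C) →
      (cj g K = A ∨ cj g K = B ∨ cj g K = C) := by
    intro g hg K hK
    have key : ∀ v ∈ vee h, v ∉ center (S : Subgroup G) →
        cj g (cv V (v : G)) = A ∨ cj g (cv V (v : G)) = B ∨ cj g (cv V (v : G)) = C := by
      intro v hv hvc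
      obtain ⟨v', hv', e⟩ := (mem_normalizer_iff.mp hg (v : G)).mp ((coe_mem_vG h).mpr hv)
      rw [cj_cv hg, ← e]
      exact hclass v' hv' (not_central_conj h hg hv hvc e.symm)
    rcases hK with rfl | rfl | rfl
    · exact key _ (k0_mem h) (k0_not_central h)
    · exact key _ (w0_mem h) (w0_not_central h)
    · exact key _ (kw_mem h) (kw_not_central h)
  have hLN : V ⊔ centralizer (V : Set G) ≤ normalizer (V : Set G) := by
    refine sup_le le_normalizer ?_
    intro g hg
    refine mem_normalizer_of_cj (cj_eq_of_commute fun u hu => ?_)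
    rw [(mem_centralizer_iff.mp hg u hu).symm, mul_inv_cancel_right]
  have hfix1 : ∀ g ∈ V ⊔ centralizer (V : Set G), ∀ v ∈ vee h, v ∉ center (S : Subgroup G) →
      cj g (cv V (v : G)) = cv V (v : G) := by
    intro g hg v hv hvc
    refine cj_eq_of_mem_normalizer ((sup_le ?_ ?_ : V ⊔ centralizer (V : Set G) ≤
      normalizer (cv V (v : G) : Set G)) hg)
    · intro u hu
      obtain ⟨u', hu', rfl⟩ := hu
      refine mem_normalizer_of_cj ?_
      have huN : (u' : G) ∈ normalizer (V : Set G) := le_normalizer ((coe_mem_vG h).mpr hu')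
      show cj (u' : G) (cv V (v : G)) = _
      rw [cj_cv huN]
      have hcc := comm_central h hu' hv
      have hm : u' * v * u'⁻¹ ∈ vee h := (vee h).mul_mem ((vee h).mul_mem hu' hv) ((vee h).inv_mem hu')
      refine cv_eq h hm hv (fun hh => hvc ?_) hvc ?_
      · have := mul_mem (inv_mem hcc) hh
        rwa [show (u' * v * u'⁻¹ * v⁻¹)⁻¹ * (u' * v * u'⁻¹) = v by group] at this
      · have h2 : Commute (u' * v * u'⁻¹ * v⁻¹) v := (Subgroup.mem_center_iff.mp hcc v).symm
        have := h2.mul_left (Commute.refl v)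
        rwa [inv_mul_cancel_right] at this
    · intro k hk
      refine mem_normalizer_of_cj ?_
      have hkN : k ∈ normalizer (V : Set G) := hLN (mem_sup_right hk)
      rw [cj_cv hkN, (mem_centralizer_iff.mp hk _ ((coe_mem_vG h).mpr hv)).symm,
        mul_inv_cancel_right]
  have hfix : ∀ g ∈ V ⊔ centralizer (V : Set G), cj g A = A ∧ cj g B = B ∧ cj g C = C :=
    fun g hg => ⟨hfix1 g hg _ (k0_mem h) (k0_not_central h),
      hfix1 g hg _ (w0_mem h) (w0_not_central h), hfix1 g hg _ (kw_mem h) (kw_not_central h)⟩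
  have hZfix : ∀ g ∈ normalizer (V : Set G), Odd (orderOf g) →
      ∀ u ∈ center (S : Subgroup G), g * (u : G) * g⁻¹ = u := by
    intro g hg hodd u hu
    have := isCyclic_center_map h
    have hN : g ∈ normalizer ((center (S : Subgroup G)).map (S : Subgroup G).subtype : Set G) := by
      refine mem_normalizer_of_cj (Subgroup.eq_of_le_of_card_ge ?_ (card_cj g _).ge)
      rintro _ ⟨_, ⟨v, hv, rfl⟩, rfl⟩
      obtain ⟨v', hv', e⟩ := (mem_normalizer_iff.mp hg (v : G)).mp
        ((coe_mem_vG h).mpr (center_le_vee h hv))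
      refine ⟨v', ?_, e⟩
      by_contra hne
      have e' : g⁻¹ * (v' : G) * g⁻¹⁻¹ = (v : G) := by
        rw [show (v' : G) = g * v * g⁻¹ from e]; group
      exact not_central_conj h (inv_mem hg) hv' hne e' hv
    exact odd_fix_cyclic ((S.isPGroup'.to_subgroup (center (S : Subgroup G))).map
      (S : Subgroup G).subtype) hN hodd ⟨u, hu, rfl⟩
  have hker : ∀ g ∈ normalizer (V : Set G), cj g A = A → cj g B = B → cj g C = C →
      g ∈ V ⊔ centralizer (V : Set G) := by
    intro g hg h1 h2 h3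
    set K := normalizer (V : Set G) ⊓ normalizer (A : Set G) ⊓ normalizer (B : Set G) ⊓
      normalizer (C : Set G) with hK
    have hgK : g ∈ K :=
      ⟨⟨⟨hg, mem_normalizer_of_cj h1⟩, mem_normalizer_of_cj h2⟩, mem_normalizer_of_cj h3⟩
    have hKfix : ∀ k ∈ K, ∀ X, (X = A ∨ X = B ∨ X = C) → cj k X = X := by
      rintro k ⟨⟨⟨-, k1⟩, k2⟩, k3⟩ X (rfl | rfl | rfl)
      · exact cj_eq_of_mem_normalizer k1
      · exact cj_eq_of_mem_normalizer k2
      · exact cj_eq_of_mem_normalizer k3
    refine le_sup_centralizer S (vG_le h) (conj_vG h) (K : Set G) (fun k hk => hk.1.1.1)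
      (fun k (hk : k ∈ K) l hl => ((Subgroup.zpowers_le (H := K)).mpr hk) hl) ?_ ?_ ?_ g hgK
    · intro m hm k hk
      have key : ∀ X, (X = A ∨ X = B ∨ X = C) → m * k * m⁻¹ ∈ normalizer (X : Set G) := by
        intro X hX
        refine mem_normalizer_of_cj ?_
        rw [← cj_cj, ← cj_cj, hKfix k hk _ (hperm m⁻¹ (inv_mem hm) X hX), cj_cj_inv]
      have h0 : m * k * m⁻¹ ∈ normalizer (V : Set G) :=
        mul_mem (mul_mem hm (show k ∈ normalizer (V : Set G) from hk.1.1.1)) (inv_mem hm)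
      exact ⟨⟨⟨h0, key A (Or.inl rfl)⟩,
        key B (Or.inr (Or.inl rfl))⟩, key C (Or.inr (Or.inr rfl))⟩
    · intro k hk hkS
      have hkV : k ∈ normalizer (V : Set G) := hk.1.1.1
      have hkB : cj k B = B := hKfix k hk B (Or.inr (Or.inl rfl))
      have hmemB : k * (w0 : G) * k⁻¹ ∈ B := hkB ▸ conj_mem_cj (mem_cv_self h (w0_mem h))
      have hc : Commute ((⟨k, hkS⟩ : (S : Subgroup G)) * w0 * ⟨k, hkS⟩⁻¹) w0 :=
        Subtype.ext (mem_centralizer_singleton_iff.mp hmemB.2)
      have key : ∀ a b : ℤ, Commute (el x y a b * z) (el x y (2 ^ (n - 1)) 0 * z) →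
          (2 : ℤ) ^ n ∣ a - b - 2 ^ (n - 1) := by
        intro a b e
        have e' : el x y a b * z * (el x y (2 ^ (n - 1)) 0 * z) =
            el x y (2 ^ (n - 1)) 0 * z * (el x y a b * z) := e
        rw [el_z_mul_el_z h, el_z_mul_el_z h, h.eq_iff] at e'
        have := e'.1
        rwa [show a + 0 - (2 ^ (n - 1) + b) = a - b - (2 : ℤ) ^ (n - 1) by ring] at this
      have hdiv : ∀ a b : ℤ, (2 : ℤ) ^ n ∣ 2 * (a - b) → (2 : ℤ) ^ (n - 1) ∣ a - b := by
        intro a b hab
        rw [two_pow_split h] at hab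
        exact Int.dvd_of_mul_dvd_mul_left two_ne_zero hab
      obtain ⟨a, b, e | e⟩ := h.gen ⟨k, hkS⟩
      · rw [e, hw0, conj_el_elz h] at hc
        have h4 := key _ _ hc
        rw [show (2 : ℤ) ^ (n - 1) + a - b - (0 + b - a) - 2 ^ (n - 1) = 2 * (a - b) by ring] at h4
        exact ⟨⟨k, hkS⟩, e.symm ▸ (el_mem_vee h).mpr (hdiv a b h4), rfl⟩
      · have e2 : el x y a b * z * (el x y (2 ^ (n - 1)) 0 * z) * (el x y a b * z)⁻¹ =
            el x y (a - b) (2 ^ (n - 1) + b - a) * z := by
          rw [el_z_mul_el_z h, el_z_inv h, ← mul_assoc, el_mul h]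
          congr 2 <;> ring
        rw [e, hw0, e2] at hc
        have h4 := key _ _ hc
        rw [show a - b - ((2 : ℤ) ^ (n - 1) + b - a) - 2 ^ (n - 1) =
          2 * (a - b) - 2 * 2 ^ (n - 1) by ring] at h4
        have h5 := h4.add (half_facts h).2
        rw [sub_add_cancel] at h5
        exact ⟨⟨k, hkS⟩, e.symm ▸ (elz_mem_vee h).mpr (hdiv a b h5), rfl⟩
    · intro k hk hodd
      have hkV : k ∈ normalizer (V : Set G) := hk.1.1.1
      refine mem_centralizer_iff.mpr ?_
      rintro _ ⟨v, hv, rfl⟩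
      show (v : G) * k = k * (v : G)
      refine (mul_inv_eq_iff_eq_mul.mp ?_).symm
      by_cases hvc : v ∈ center (S : Subgroup G)
      · exact hZfix k hkV hodd v hvc
      · refine odd_fix hVp hkV hodd ((coe_mem_vG h).mpr hv) ?_
        obtain ⟨v', hv', e⟩ := (mem_normalizer_iff.mp hkV (v : G)).mp ((coe_mem_vG h).mpr hv)
        have hm : k * (v : G) * k⁻¹ ∈ cv V (v : G) := by
          have h5 := conj_mem_cj (g := k) (mem_cv_self h hv)
          rwa [hKfix k hk _ (hclass v hv hvc)] at h5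
        rw [← e] at hm
        have hc : Commute v' v := Subtype.ext (mem_centralizer_singleton_iff.mp hm.2)
        have := hZfix k hkV hodd _
          (quot_mem_center h hv' hv (not_central_conj h hkV hv hvc e.symm) hvc hc)
        rw [Subgroup.coe_mul, Subgroup.coe_inv, show (v' : G) = k * v * k⁻¹ from e] at this
        exact this
  obtain ⟨hsV, hsA, hsB⟩ := conj_quarter h
  set s := el x y (2 ^ (n - 2)) 0 with hsdef
  have hsN : (s : G) ∈ normalizer (V : Set G) := by
    refine mem_normalizer_of_cj (Subgroup.eq_of_le_of_card_ge ?_ (card_cj _ V).ge)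
    rintro _ ⟨_, ⟨u, hu, rfl⟩, rfl⟩
    exact ⟨s * u * s⁻¹, hsV u hu, rfl⟩
  have hs : ∃ t ∈ normalizer (V : Set G), cj t A = A ∧ cj t B = C :=
    ⟨s, hsN, by rw [cj_cv hsN]; exact congrArg (fun w : (S : Subgroup G) => cv V (w : G)) hsA,
      by rw [cj_cv hsN]; exact congrArg (fun w : (S : Subgroup G) => cv V (w : G)) hsB⟩
  rcases three_index _ _ _ _ _ hAB hAC hBC hperm hLN hfix hker hs with
    h2 | ⟨h6, g, hg, hgo, gA, gB, gC⟩
  · exact Or.inl h2
  · refine Or.inr ⟨h6, g, hg, hgo, hZfix g hg hgo, ?_, ?_, ?_⟩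
    · have := conj_mem_cj (g := g) (mem_cv_self h (k0_mem h))
      rw [gA] at this
      exact mem_centralizer_singleton_iff.mp this.2
    · have := conj_mem_cj (g := g) (mem_cv_self h (w0_mem h))
      rw [gB] at this
      exact mem_centralizer_singleton_iff.mp this.2
    · have := conj_mem_cj (g := g) (mem_cv_self h (kw_mem h))
      rw [gC] at this
      exact mem_centralizer_singleton_iff.mp this.2

end CfsgLib.TwoGroups.WRF
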