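import Cfsg.Agent.Lib.TwoGroups.WreathedCases

/-!
Fusion in a finite group with wreathed Sylow 2-subgroup: small `N(U)`, large `N(V)`.
-/

set_option autoImplicit false
set_option linter.unusedSectionVars false

namespace CfsgLib.TwoGroups.WRC

open Subgroup CfsgLib.TwoGroups.FT CfsgLib.TwoGroups.WR CfsgLib.TwoGroups.WRF

variable {G : Type*} [Group G] [Finite G] {S : Sylow 2 G} {n : ℕ} {x y z : (S : Subgroup G)}

theorem central_of_commute_elz (h : WR (S : Subgroup G) n x y z) {a b c d : ℤ}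
    (hc : Commute (el x y a b) (el x y c d * z)) : el x y a b ∈ center (S : Subgroup G) :=
  (mem_center_iff h).mpr ⟨b, (h.eq_iff _ _ _ _).mpr ⟨(commute_el_elz h).mp hc, by simp⟩⟩

/-- When `N(U)` is small, a central element is not fused to another element of `U`. -/
theorem central_control (h : WR (S : Subgroup G) n x y z)
    (hu : (centralizer (uG h : Set G)).relIndex (normalizer (uG h : Set G)) = 2)
    {u u' : (S : Subgroup G)} (huc : u ∈ center (S : Subgroup G)) (hu' : u' ∈ base h)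
    (hconj : IsConj (u' : G) (u : G)) : u' = u := by
  rcases u_index h with ⟨-, -, hact⟩ | ⟨h6, -⟩
  swap
  · omega
  obtain ⟨g, hg⟩ := isConj_iff.mp hconj
  have hSM : (S : Subgroup G) ≤ centralizer ({(u : G)} : Set G) := fun s hs =>
    mem_centralizer_singleton_iff.mpr
      (congrArg Subtype.val (Subgroup.mem_center_iff.mp huc ⟨s, hs⟩))
  have hQM : cj g (uG h) ≤ centralizer ({(u : G)} : Set G) := by
    rintro _ ⟨v, hv, rfl⟩
    refine mem_centralizer_singleton_iff.mpr ?_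
    rw [← hg]
    exact (conj_commute g (uG_commute h hv ((coe_mem_uG h).mpr hu'))).eq
  obtain ⟨m, hm, hle⟩ := exists_conj_into S.isPGroup' hSM (sylow_relIndex_odd S hSM)
    (isPGroup_cj (S.isPGroup'.to_le (uG_le h))) hQM
  rw [cj_cj] at hle
  have hN : m * g ∈ normalizer (uG h : Set G) := mem_normalizer_of_cj (cj_uG h hle)
  have he : m * g * (u' : G) * (m * g)⁻¹ = (u : G) := by
    rw [show m * g * (u' : G) * (m * g)⁻¹ = m * (g * (u' : G) * g⁻¹) * m⁻¹ by group, hg,
      (mem_centralizer_singleton_iff.mp hm), mul_inv_cancel_right]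
  apply Subtype.ext
  rcases hact _ hN _ ((coe_mem_uG h).mpr hu') with e | e
  · rw [← e, he]
  · rw [he] at e
    have hzu : (z : G) * (u : G) = (u : G) * (z : G) :=
      congrArg Subtype.val (Subgroup.mem_center_iff.mp huc z)
    calc (u' : G) = (z : G)⁻¹ * ((z : G) * u' * (z : G)⁻¹) * z := by group
      _ = (z : G)⁻¹ * ((u : G) * z) := by rw [← e, mul_assoc]
      _ = u := by rw [← hzu, inv_mul_cancel_left]

/-- When `N(U)` is small, fused noncentral elements of `U` are fused in `S`. -/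
theorem base_control (h : WR (S : Subgroup G) n x y z)
    (hu : (centralizer (uG h : Set G)).relIndex (normalizer (uG h : Set G)) = 2)
    {u u' : (S : Subgroup G)} (hu1 : u ∈ base h) (hu2 : u' ∈ base h)
    (hu2c : u' ∉ center (S : Subgroup G)) (hconj : IsConj (u : G) (u' : G)) :
    u' = u ∨ u' = z * u * z⁻¹ := by
  have hf : Fact (Nat.Prime 2) := ⟨Nat.prime_two⟩
  rcases u_index h with ⟨-, -, hact⟩ | ⟨h6, -⟩
  swap
  · omega
  obtain ⟨g, hg⟩ := isConj_iff.mp hconj
  set M := centralizer ({(u' : G)} : Set G) with hMdef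
  have hUM : uG h ≤ M := uG_le_centralizer h ((coe_mem_uG h).mpr hu2)
  have hmax : ∀ P : Subgroup G, IsPGroup 2 P → uG h ≤ P → P ≤ M → P ≤ uG h := by
    intro P hP hUP hPM
    obtain ⟨R, hR⟩ := hP.exists_le_sylow
    obtain ⟨k, hk⟩ := MulAction.exists_smul_eq G R S
    have hkP : cj k P ≤ (S : Subgroup G) := by
      refine (cj_mono hR).trans (le_of_eq ?_)
      rw [← hk]; rfl
    have hkU : cj k (uG h) = uG h := cj_uG h ((cj_mono hUP).trans hkP)
    obtain ⟨w, hwb, hwc, hwe⟩ : ∃ w : (S : Subgroup G), w ∈ base h ∧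
        w ∉ center (S : Subgroup G) ∧ k * (u' : G) * k⁻¹ = (w : G) := by
      rcases hact _ (mem_normalizer_of_cj hkU) _ ((coe_mem_uG h).mpr hu2) with e | e
      · exact ⟨u', hu2, hu2c, e⟩
      · refine ⟨z * u' * z⁻¹, (base_normal h).conj_mem _ hu2 z, fun hc => hu2c ?_, e⟩
        have := (inferInstance : (center (S : Subgroup G)).Normal).conj_mem _ hc z⁻¹
        simpa [mul_assoc] using this
    have hkPU : cj k P ≤ uG h := by
      rintro _ ⟨p, hp, rfl⟩
      obtain ⟨v, hv⟩ : ∃ v : (S : Subgroup G), (v : G) = k * p * k⁻¹ :=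
        ⟨⟨_, hkP (conj_mem_cj hp)⟩, rfl⟩
      have hc : Commute w v := by
        apply Subtype.ext
        rw [Subgroup.coe_mul, Subgroup.coe_mul, hv, ← hwe]
        exact (conj_commute k (mem_centralizer_singleton_iff.mp (hPM hp)).symm).eq
      obtain ⟨a, b, rfl⟩ := hwb
      obtain ⟨c, d, rfl | rfl⟩ := h.gen v
      · show k * p * k⁻¹ ∈ uG h
        rw [← hv]
        exact (coe_mem_uG h).mpr (el_mem_base h _ _)
      · exact absurd (central_of_commute_elz h hc) hwc
    have := cj_mono (g := k⁻¹) hkPU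
    rw [cj_inv_cj] at this
    refine this.trans ?_
    conv_lhs => rw [← hkU, cj_inv_cj]
  have hodd : Odd ((uG h).relIndex M) := by
    obtain ⟨R, hR⟩ := ((S.isPGroup'.to_le (uG_le h)).comap_subtype (K := M)).exists_le_sylow
    have hRU : (R : Subgroup M) = (uG h).subgroupOf M := by
      refine le_antisymm (fun r hr => ?_) hR
      exact hmax _ (R.isPGroup'.map M.subtype)
        (fun v hv => ⟨⟨v, hUM hv⟩, hR hv, rfl⟩) (Subgroup.map_subtype_le _) ⟨r, hr, rfl⟩
    rw [Subgroup.relIndex, ← hRU, Nat.odd_iff]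
    have := R.not_dvd_index
    omega
  have hQM : cj g (uG h) ≤ M := by
    rintro _ ⟨v, hv, rfl⟩
    refine mem_centralizer_singleton_iff.mpr ?_
    rw [← hg]
    exact (conj_commute g (uG_commute h hv ((coe_mem_uG h).mpr hu1))).eq
  obtain ⟨m, hm, hle⟩ := exists_conj_into (S.isPGroup'.to_le (uG_le h)) hUM hodd
    (isPGroup_cj (S.isPGroup'.to_le (uG_le h))) hQM
  rw [cj_cj] at hle
  have hN : m * g ∈ normalizer (uG h : Set G) :=
    mem_normalizer_of_cj (cj_uG h (hle.trans (uG_le h)))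
  have he : m * g * (u : G) * (m * g)⁻¹ = (u' : G) := by
    rw [show m * g * (u : G) * (m * g)⁻¹ = m * (g * (u : G) * g⁻¹) * m⁻¹ by group, hg,
      (mem_centralizer_singleton_iff.mp hm), mul_inv_cancel_right]
  rcases hact _ hN _ ((coe_mem_uG h).mpr hu1) with e | e
  · exact Or.inl (Subtype.ext (he.symm.trans e))
  · exact Or.inr (Subtype.ext (he.symm.trans e))

theorem exists_chi (h : WR (S : Subgroup G) n x y z) :
    ∃ χ : (S : Subgroup G) →* Multiplicative (ZMod (2 ^ n)), ∀ a b : ℤ,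
      χ (el x y a b) = Multiplicative.ofAdd (((a + b : ℤ)) : ZMod (2 ^ n)) ∧
      χ (el x y a b * z) =
        Multiplicative.ofAdd (((a + b + 2 ^ (n - 1) : ℤ)) : ZMod (2 ^ n)) := by
  classical
  obtain ⟨σ, hσ⟩ := exists_sum_hom h
  set ε : Multiplicative (ZMod (2 ^ n)) :=
    Multiplicative.ofAdd (((2 ^ (n - 1) : ℤ)) : ZMod (2 ^ n)) with hε
  have hεε : ε * ε = 1 := by
    rw [hε, ← ofAdd_add, ← Int.cast_add, ← ofAdd_zero]
    congr 1
    rw [← Int.cast_zero, ZMod.intCast_eq_intCast_iff_dvd_sub, ← two_mul, ← two_pow_split h]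
    simp
  refine ⟨MonoidHom.mk' (fun g => σ g * if g ∈ base h then 1 else ε) fun g k => ?_,
    fun a b => ⟨?_, ?_⟩⟩
  · simp only [map_mul, Subgroup.mul_mem_iff_of_index_two (index_base h)]
    by_cases hg : g ∈ base h <;> by_cases hk : k ∈ base h <;> simp [hg, hk]
    · rw [mul_assoc]
    · rw [mul_right_comm]
    · rw [mul_mul_mul_comm, hεε, mul_one]
  · simp [el_mem_base h, (hσ a b).1]
  · simp only [MonoidHom.mk'_apply, (hσ a b).2, if_neg (elz_not_mem_base h a b), hε, ← ofAdd_add]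
    push_cast
    rfl

variable {χ : (S : Subgroup G) →* Multiplicative (ZMod (2 ^ n))}

/-- Every element is in the base, or fused to a noncentral base element of equal value, or of
order `2 ^ (n + 1)`. -/
theorem normal_form (h : WR (S : Subgroup G) n x y z)
    (hv : (vG h ⊔ centralizer (vG h : Set G)).relIndex (normalizer (vG h : Set G)) = 6)
    (hχ : ∀ a b : ℤ,
      χ (el x y a b) = Multiplicative.ofAdd (((a + b : ℤ)) : ZMod (2 ^ n)) ∧
      χ (el x y a b * z) =
        Multiplicative.ofAdd (((a + b + 2 ^ (n - 1) : ℤ)) : ZMod (2 ^ n)))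
    (s : (S : Subgroup G)) :
    s ∈ base h ∨
      (∃ t ∈ base h, t ∉ center (S : Subgroup G) ∧ IsConj (s : G) (t : G) ∧ χ s = χ t) ∨
      ∃ a b : ℤ, Odd (a + b) ∧ s = el x y a b * z := by
  obtain ⟨a, b, rfl | rfl⟩ := h.gen s
  · exact Or.inl (el_mem_base h a b)
  rcases Int.even_or_odd (a + b) with ⟨e, he⟩ | ho
  swap
  · exact Or.inr (Or.inr ⟨a, b, ho, rfl⟩)
  refine Or.inr (Or.inl ⟨el x y (e + 2 ^ (n - 1)) e, el_mem_base h _ _, fun hc => ?_, ?_, ?_⟩)
  · obtain ⟨c, hc⟩ := (mem_center_iff h).mp hc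
    obtain ⟨h1, h2⟩ := (h.eq_iff _ _ _ _).mp hc
    have := h1.sub h2
    rw [show e + 2 ^ (n - 1) - c - (e - c) = (2 : ℤ) ^ (n - 1) by ring] at this
    exact not_dvd_half h (npos h) this
  · obtain ⟨g, -, -, hfix, ⟨c, hc⟩, -⟩ := v_data h hv
    have h1 : g * ((el x y (e + 2 ^ (n - 1)) e : (S : Subgroup G)) : G) * g⁻¹ =
        ((el x y (e + c) (e - c) * z : (S : Subgroup G)) : G) := by
      have e1 : el x y (e + 2 ^ (n - 1)) e = el x y e e * eE h := by
        rw [eE, el_mul h, add_zero]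
      have e2 : el x y (e + c) (e - c) * z = el x y e e * (el x y c (-c) * z) := by
        rw [← mul_assoc, el_mul h, sub_eq_add_neg]
      rw [e1, e2, Subgroup.coe_mul, Subgroup.coe_mul _ (el x y e e), ← hc,
        show g * (((el x y e e : (S : Subgroup G)) : G) * (eE h : G)) * g⁻¹ =
          g * ((el x y e e : (S : Subgroup G)) : G) * g⁻¹ * (g * (eE h : G) * g⁻¹) by group,
        hfix _ ((mem_center_iff h).mpr ⟨e, rfl⟩)]
    refine (SDF.isConj_coe (isConj_elz h (c := e + c) (d := e - c) ?_)).trans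
      (isConj_iff.mpr ⟨g, h1⟩).symm
    exact ⟨0, by rw [he]; ring⟩
  · rw [(hχ _ _).2, (hχ _ _).1, he]
    congr 2
    ring

theorem odd_pow_ne_one (h : WR (S : Subgroup G) n x y z) {a b : ℤ} (ho : Odd (a + b)) :
    (el x y a b * z) ^ 2 ^ n ≠ 1 := by
  intro e
  have hn : 2 ^ n = 2 * 2 ^ (n - 1) := by rw [← pow_succ', Nat.sub_add_cancel (npos h)]
  rw [hn, pow_mul, el_z_sq h, el_pow h, el_eq_one h] at e
  have h1 := e.1
  push_cast at h1
  rw [two_pow_split h] at h1
  exact (Int.not_even_iff_odd.mpr ho)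
    (even_iff_two_dvd.mpr (Int.dvd_of_mul_dvd_mul_right (by positivity) h1))

theorem base_pow_eq_one (h : WR (S : Subgroup G) n x y z) {t : (S : Subgroup G)}
    (ht : t ∈ base h) : t ^ 2 ^ n = 1 := by
  obtain ⟨a, b, rfl⟩ := ht
  rw [el_pow h, el_eq_one h]
  push_cast
  exact ⟨⟨a, by ring⟩, ⟨b, by ring⟩⟩

theorem pow_eq_one_of_isConj {s t : (S : Subgroup G)} (hst : IsConj (s : G) (t : G)) {k : ℕ}
    (hs : s ^ k = 1) : t ^ k = 1 := by
  obtain ⟨c, hc⟩ := isConj_iff.mp hst
  apply Subtype.ext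
  rw [Subgroup.coe_pow, ← hc, conj_pow, ← Subgroup.coe_pow, hs]
  simp

/-- The invariance of `χ` under fusion. -/
theorem chi_invariant (h : WR (S : Subgroup G) n x y z)
    (hu : (centralizer (uG h : Set G)).relIndex (normalizer (uG h : Set G)) = 2)
    (hv : (vG h ⊔ centralizer (vG h : Set G)).relIndex (normalizer (vG h : Set G)) = 6)
    (hχ : ∀ a b : ℤ,
      χ (el x y a b) = Multiplicative.ofAdd (((a + b : ℤ)) : ZMod (2 ^ n)) ∧
      χ (el x y a b * z) =
        Multiplicative.ofAdd (((a + b + 2 ^ (n - 1) : ℤ)) : ZMod (2 ^ n)))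
    {s s' : (S : Subgroup G)} (hss : IsConj (s : G) (s' : G)) : χ s = χ s' := by
  have hnf : ∀ v : (S : Subgroup G), (∃ t ∈ base h, IsConj (v : G) (t : G) ∧ χ v = χ t) ∨
      ∃ a b : ℤ, Odd (a + b) ∧ v = el x y a b * z := fun v => by
    rcases normal_form h hv hχ v with hb | ⟨t, ht, -, hc, he⟩ | ho
    · exact Or.inl ⟨v, hb, IsConj.refl _, rfl⟩
    · exact Or.inl ⟨t, ht, hc, he⟩
    · exact Or.inr ho
  rcases hnf s with ⟨t, htb, hst, hte⟩ | ⟨a, b, ho, rfl⟩ <;>
    rcases hnf s' with ⟨t', ht'b, hst', hte'⟩ | ⟨c, d, ho', rfl⟩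
  · have htt : IsConj (t : G) (t' : G) := (hst.symm.trans hss).trans hst'
    rw [hte, hte']
    by_cases htc : t ∈ center (S : Subgroup G)
    · rw [central_control h hu htc ht'b htt.symm]
    by_cases ht'c : t' ∈ center (S : Subgroup G)
    · rw [central_control h hu ht'c htb htt]
    obtain ⟨p, q, rfl⟩ := htb
    rcases base_control h hu (el_mem_base h p q) ht'b ht'c htt with rfl | rfl
    · rfl
    · simp [mul_comm]
  · exact absurd (pow_eq_one_of_isConj (hst.symm.trans hss) (base_pow_eq_one h htb))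
      (odd_pow_ne_one h ho')
  · exact absurd (pow_eq_one_of_isConj (hss.trans hst').symm (base_pow_eq_one h ht'b))
      (odd_pow_ne_one h ho)
  · have hsq : IsConj (((el x y a b * z) ^ 2 : (S : Subgroup G)) : G)
        (((el x y c d * z) ^ 2 : (S : Subgroup G)) : G) := by
      obtain ⟨g, hg⟩ := isConj_iff.mp hss
      exact isConj_iff.mpr ⟨g, by rw [Subgroup.coe_pow, Subgroup.coe_pow, ← conj_pow, hg]⟩
    rw [el_z_sq h, el_z_sq h] at hsq
    have e := central_control h hu ((mem_center_iff h).mpr ⟨c + d, rfl⟩)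
      (el_mem_base h (a + b) (a + b)) hsq
    have e2 := ((h.eq_iff _ _ _ _).mp e).1
    rw [(hχ _ _).2, (hχ _ _).2]
    congr 1
    rw [ZMod.intCast_eq_intCast_iff_dvd_sub, ← dvd_neg]
    push_cast
    rwa [show -(c + d + 2 ^ (n - 1) - (a + b + 2 ^ (n - 1))) = a + b - (c + d) by ring]

/-- An element of `S` fused to a central element is that element. -/
theorem central_eq (h : WR (S : Subgroup G) n x y z)
    (hu : (centralizer (uG h : Set G)).relIndex (normalizer (uG h : Set G)) = 2)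
    (hv : (vG h ⊔ centralizer (vG h : Set G)).relIndex (normalizer (vG h : Set G)) = 6)
    {u s : (S : Subgroup G)} (huc : u ∈ center (S : Subgroup G))
    (hus : IsConj (u : G) (s : G)) : s = u := by
  obtain ⟨χ, hχ⟩ := exists_chi h
  rcases normal_form h hv hχ s with hb | ⟨t, htb, htc, hst, -⟩ | ⟨a, b, ho, rfl⟩
  · exact central_control h hu huc hb hus.symm
  · exact absurd (central_control h hu huc htb (hus.trans hst).symm ▸ huc) htc
  · obtain ⟨c, rfl⟩ := (mem_center_iff h).mp huc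
    exact absurd (pow_eq_one_of_isConj hus (base_pow_eq_one h (el_mem_base h c c)))
      (odd_pow_ne_one h ho)

theorem center_weaklyClosed (h : WR (S : Subgroup G) n x y z)
    (hu : (centralizer (uG h : Set G)).relIndex (normalizer (uG h : Set G)) = 2)
    (hv : (vG h ⊔ centralizer (vG h : Set G)).relIndex (normalizer (vG h : Set G)) = 6)
    (W : Subgroup G) (hW : W ≤ (center (S : Subgroup G)).map (S : Subgroup G).subtype) :
    Cfsg.IsWeaklyClosed W (S : Subgroup G) := by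
  refine ⟨hW.trans (Subgroup.map_subtype_le _), fun g hg => cj_eq_of_commute fun w hw => ?_⟩
  obtain ⟨w', hw', rfl⟩ := hW hw
  exact congrArg Subtype.val (central_eq h hu hv hw'
    (s := ⟨g * (w' : G) * g⁻¹, hg ⟨_, hw, rfl⟩⟩) (isConj_iff.mpr ⟨g, rfl⟩))

theorem quat_case (h : WR (S : Subgroup G) n x y z)
    (hu : (centralizer (uG h : Set G)).relIndex (normalizer (uG h : Set G)) = 2)
    (hv : (vG h ⊔ centralizer (vG h : Set G)).relIndex (normalizer (vG h : Set G)) = 6) :
    (∃ K : Subgroup G, K.Normal ∧ K.index = 2 ^ n ∧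
      (∀ P : Sylow 2 ↥K, ∃ m : ℕ, 1 ≤ m ∧
        Nonempty ((P : Subgroup ↥K) ≃* QuaternionGroup (2 ^ m))) ∧
      (∀ H : Subgroup ↥K, H.index ≠ 2)) ∧
    Nat.card {C : ConjClasses G // ∃ t : G, orderOf t = 2 ∧ ConjClasses.mk t = C} = 2 := by
  have hn0 : NeZero (2 ^ n) := ⟨(pow_pos two_pos n).ne'⟩
  refine ⟨?_, ?_⟩
  swap
  · have hEz := isConj_eE_z h hv
    refine SDF.card_classes_two (P := fun t : G => orderOf t = 2) (orderOf_jE h) (orderOf_z h)
      (fun hc => ?_) fun t ht => ?_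
    · rcases u_index h with ⟨-, hne, -⟩ | ⟨h6, -⟩
      · exact hne (hc.trans hEz.symm)
      · omega
    · rcases involution_class h ht with e | e | e
      · exact Or.inl e
      · exact Or.inr (e.trans hEz)
      · exact Or.inr e
  obtain ⟨χ, hχ⟩ := exists_chi h
  have hcA : Nat.card (Multiplicative (ZMod (2 ^ n))) = 2 ^ n :=
    (Nat.card_congr Multiplicative.toAdd).trans (Nat.card_zmod _)
  have hsurj : Function.Surjective χ := by
    intro w
    obtain ⟨a, ha⟩ := ZMod.intCast_surjective (Multiplicative.toAdd w)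
    exact ⟨el x y a 0, by rw [(hχ a 0).1, add_zero, ha, ofAdd_toAdd]⟩
  obtain ⟨K, hK, hi, hmem, hodd, hP⟩ := exists_normal_of_controlled S χ
    (IsPGroup.of_card hcA) hsurj
    (fun s g hg => (chi_invariant h hu hv hχ (isConj_iff.mpr ⟨g, rfl⟩)).symm)
  have hone : ∀ {v : ℤ}, (2 : ℤ) ^ n ∣ v →
      Multiplicative.ofAdd ((v : ℤ) : ZMod (2 ^ n)) = 1 := by
    intro v hd
    rw [← ofAdd_zero]
    congr 1
    rw [ZMod.intCast_zmod_eq_zero_iff_dvd]
    exact_mod_cast hd
  have hw : χ (el x y (2 ^ (n - 1)) 0 * z) = 1 := by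
    rw [(hχ _ _).2]
    exact hone (by rw [two_pow_split h]; exact ⟨1, by ring⟩)
  have hk : χ (el x y (2 ^ (n - 2)) (-2 ^ (n - 2))) = 1 := by
    rw [(hχ _ _).1]
    exact hone (by simp)
  have hker : χ.ker = bigQuat n x y z := by
    have hle : bigQuat n x y z ≤ χ.ker := by
      refine (Subgroup.closure_le _).mpr ?_
      rintro v (rfl | rfl)
      · rw [SetLike.mem_coe, MonoidHom.mem_ker, (hχ _ _).1]
        exact hone (by simp)
      · exact hw
    refine (Subgroup.eq_of_le_of_card_ge hle ?_).symm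
    have h1 := χ.ker.card_mul_index
    rw [Subgroup.index_ker, MonoidHom.range_eq_top.mpr hsurj,
      Nat.card_congr Subgroup.topEquiv.toEquiv, hcA, h.card] at h1
    rw [card_bigQuat h]
    refine le_of_eq (Nat.eq_of_mul_eq_mul_right (pow_pos two_pos n) ?_)
    rw [h1, ← pow_add]
    congr 1
    omega
  refine ⟨K, hK, hi.trans hcA, fun P => ⟨n - 1, ?_, ?_⟩, fun H hH => ?_⟩
  · have := h.two_le
    omega
  · obtain ⟨e⟩ := nonempty_bigQuat_equiv h
    exact ⟨((hP P).some.trans (MulEquiv.subgroupCongr hker)).trans e⟩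
  obtain ⟨g, -, hgo, -, -, hgk, hgw⟩ := v_data h hv
  set k0 := el x y (2 ^ (n - 2)) (-2 ^ (n - 2))
  set w0 := el x y (2 ^ (n - 1)) 0 * z with hw0
  set L : Subgroup (S : Subgroup G) := (H.map K.subtype).comap (S : Subgroup G).subtype with hL
  have hkK : (k0 : G) ∈ K := (hmem _).mpr hk
  have hwK : (w0 : G) ∈ K := (hmem _).mpr hw
  have hgK : g ∈ K := hodd g hgo
  have key : ∀ c : (S : Subgroup G), c * w0 * c⁻¹ ∈ L := by
    intro c
    let U' : K := ⟨(c : G) * k0 * (c : G)⁻¹, hK.conj_mem _ hkK c⟩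
    let V' : K := ⟨(c : G) * w0 * (c : G)⁻¹, hK.conj_mem _ hwK c⟩
    let g' : K := ⟨(c : G) * g * (c : G)⁻¹, hK.conj_mem _ hgK c⟩
    have h1 : g' * U' * g'⁻¹ = V' ∨ g' * U' * g'⁻¹ = V'⁻¹ := by
      rcases hgk with e | e
      · left
        apply Subtype.ext
        show (c : G) * g * (c : G)⁻¹ * ((c : G) * k0 * (c : G)⁻¹) * ((c : G) * g * (c : G)⁻¹)⁻¹ = _
        rw [show (c : G) * g * (c : G)⁻¹ * ((c : G) * k0 * (c : G)⁻¹) *
          ((c : G) * g * (c : G)⁻¹)⁻¹ = (c : G) * (g * k0 * g⁻¹) * (c : G)⁻¹ by group, e]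
      · right
        apply Subtype.ext
        show (c : G) * g * (c : G)⁻¹ * ((c : G) * k0 * (c : G)⁻¹) * ((c : G) * g * (c : G)⁻¹)⁻¹ =
          ((c : G) * w0 * (c : G)⁻¹)⁻¹
        rw [show (c : G) * g * (c : G)⁻¹ * ((c : G) * k0 * (c : G)⁻¹) *
          ((c : G) * g * (c : G)⁻¹)⁻¹ = (c : G) * (g * k0 * g⁻¹) * (c : G)⁻¹ by group, e]
        group
    have h2 : g' * V' * g'⁻¹ = U' * V' ∨ g' * V' * g'⁻¹ = (U' * V')⁻¹ := by
      rcases hgw with e | e
      · left
        apply Subtype.ext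
        show (c : G) * g * (c : G)⁻¹ * ((c : G) * w0 * (c : G)⁻¹) * ((c : G) * g * (c : G)⁻¹)⁻¹ =
          (c : G) * k0 * (c : G)⁻¹ * ((c : G) * w0 * (c : G)⁻¹)
        rw [show (c : G) * g * (c : G)⁻¹ * ((c : G) * w0 * (c : G)⁻¹) *
          ((c : G) * g * (c : G)⁻¹)⁻¹ = (c : G) * (g * w0 * g⁻¹) * (c : G)⁻¹ by group, e,
          Subgroup.coe_mul]
        group
      · right
        apply Subtype.ext
        show (c : G) * g * (c : G)⁻¹ * ((c : G) * w0 * (c : G)⁻¹) * ((c : G) * g * (c : G)⁻¹)⁻¹ =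
          ((c : G) * k0 * (c : G)⁻¹ * ((c : G) * w0 * (c : G)⁻¹))⁻¹
        rw [show (c : G) * g * (c : G)⁻¹ * ((c : G) * w0 * (c : G)⁻¹) *
          ((c : G) * g * (c : G)⁻¹)⁻¹ = (c : G) * (g * w0 * g⁻¹) * (c : G)⁻¹ by group, e,
          Subgroup.coe_mul]
        group
    exact ⟨V', (SDF.mem_of_cycle hH h1 h2).2, rfl⟩
  refine SDF.false_of_sylow_le (M := χ.ker) hmem (fun P => hP P) hH fun s hs hsK => ?_
  have hsL : s ∈ L := by
    rw [hker] at hs
    refine (Subgroup.closure_le L).mpr ?_ hs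
    have hwL : w0 ∈ L := by simpa using key 1
    rintro v (rfl | rfl)
    · have e : el x y 1 0 * w0 * (el x y 1 0)⁻¹ * w0⁻¹ = el x y 1 (-1) := by
        rw [hw0, conj_el_elz h, el_z_inv h, el_z_mul_el_z h, h.eq_iff]
        constructor <;> exact ⟨0, by ring⟩
      rw [← e]
      exact L.mul_mem (key _) (L.inv_mem hwL)
    · exact hwL
  obtain ⟨k, hk', ek⟩ := hsL
  rwa [show (⟨(s : G), hsK⟩ : K) = k from Subtype.ext ek.symm]

end CfsgLib.TwoGroups.WRC
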