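import Cfsg.Agent.Lib.TwoGroups.WreathedQuatCase

/-!
A wreathed Sylow 2-subgroup with small `N(Q Z(S))`: no element outside the base is fused into the
base.
-/

set_option autoImplicit false
set_option linter.unusedSectionVars false

namespace CfsgLib.TwoGroups.WRC

open Subgroup CfsgLib.TwoGroups.FT CfsgLib.TwoGroups.WR CfsgLib.TwoGroups.WRF

variable {G : Type*} [Group G] [Finite G] {S : Sylow 2 G} {n : ℕ} {x y z : (S : Subgroup G)}

theorem z_eq (x y z : (S : Subgroup G)) : el x y 0 0 * z = z := by rw [el_zero, one_mul]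

theorem z_mem_vee (h : WR (S : Subgroup G) n x y z) : z ∈ vee h :=
  (congrArg (· ∈ vee h) (z_eq x y z)).mp ((elz_mem_vee h).mpr (by simp))

theorem z_not_central (h : WR (S : Subgroup G) n x y z) : z ∉ center (S : Subgroup G) :=
  (congrArg (· ∉ center (S : Subgroup G)) (z_eq x y z)).mp (elz_not_central h 0 0)

/-- The centraliser of `z` in `S`. -/
def pG (h : WR (S : Subgroup G) n x y z) : Subgroup G := cv (vG h) (z : G)

theorem pG_le_vG (h : WR (S : Subgroup G) n x y z) : pG h ≤ vG h := inf_le_left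

theorem pG_le (h : WR (S : Subgroup G) n x y z) : pG h ≤ (S : Subgroup G) :=
  (pG_le_vG h).trans (vG_le h)

theorem mem_pG_iff (h : WR (S : Subgroup G) n x y z) {v : (S : Subgroup G)} :
    (v : G) ∈ pG h ↔ ∃ a : ℤ, v = el x y a a ∨ v = el x y a a * z := by
  constructor
  · intro hv
    have hc : Commute v z := Subtype.ext (mem_centralizer_singleton_iff.mp hv.2)
    rw [← z_eq x y z] at hc
    obtain ⟨a, e | e⟩ := (centralizer_elz h).mp hc
    · exact ⟨a, Or.inl e⟩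
    · exact ⟨a, Or.inr (by rwa [z_eq] at e)⟩
  · intro hv
    obtain ⟨a, e⟩ := hv
    have hvV : v ∈ vee h := by
      rcases e with rfl | rfl
      · exact (el_mem_vee h).mpr (by simp)
      · exact (elz_mem_vee h).mpr (by simp)
    refine ⟨(coe_mem_vG h).mpr hvV, mem_centralizer_singleton_iff.mpr ?_⟩
    have hc : Commute v (el x y 0 0 * z) :=
      (centralizer_elz h).mpr ⟨a, by rwa [z_eq]⟩
    rw [z_eq] at hc
    exact congrArg Subtype.val hc.eq

theorem center_le_pG (h : WR (S : Subgroup G) n x y z) :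
    (center (S : Subgroup G)).map (S : Subgroup G).subtype ≤ pG h := by
  rintro _ ⟨v, hv, rfl⟩
  obtain ⟨a, rfl⟩ := (mem_center_iff h).mp hv
  exact (mem_pG_iff h).mpr ⟨a, Or.inl rfl⟩

theorem pG_commute (h : WR (S : Subgroup G) n x y z) {u v : G} (hu : u ∈ pG h) (hv : v ∈ pG h) :
    Commute u v := by
  obtain ⟨u', rfl⟩ : ∃ u' : (S : Subgroup G), (u' : G) = u := ⟨⟨u, pG_le h hu⟩, rfl⟩
  obtain ⟨v', rfl⟩ : ∃ v' : (S : Subgroup G), (v' : G) = v := ⟨⟨v, pG_le h hv⟩, rfl⟩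
  obtain ⟨a, rfl | rfl⟩ := (mem_pG_iff h).mp hu
  · exact congrArg Subtype.val
      (Subgroup.mem_center_iff.mp ((mem_center_iff h).mpr ⟨a, rfl⟩) v').symm
  obtain ⟨b, rfl | rfl⟩ := (mem_pG_iff h).mp hv
  · exact congrArg Subtype.val
      (Subgroup.mem_center_iff.mp ((mem_center_iff h).mpr ⟨b, rfl⟩) (el x y a a * z))
  · have : el x y a a * z * (el x y b b * z) = el x y b b * z * (el x y a a * z) := by
      rw [el_z_mul_el_z h, el_z_mul_el_z h, add_comm a b]
    exact congrArg Subtype.val this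

theorem vG_le_normalizer_pG (h : WR (S : Subgroup G) n x y z) :
    vG h ≤ normalizer (pG h : Set G) := by
  rintro _ ⟨v, hv, rfl⟩
  refine mem_normalizer_of_cj (Subgroup.eq_of_le_of_card_ge ?_ (card_cj _ _).ge)
  rintro _ ⟨p, hp, rfl⟩
  obtain ⟨p', rfl⟩ : ∃ p' : (S : Subgroup G), (p' : G) = p := ⟨⟨p, pG_le h hp⟩, rfl⟩
  have hcc := comm_central h hv ((coe_mem_vG h).mp hp.1)
  have := (pG h).mul_mem (center_le_pG h ⟨_, hcc, rfl⟩) hp
  show (v : G) * (p' : G) * (v : G)⁻¹ ∈ pG h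
  simpa [mul_assoc] using this

/-- An element of odd order normalising `C_S(z)` centralises it. -/
theorem odd_fix_pG (h : WR (S : Subgroup G) n x y z) {g : G}
    (hg : g ∈ normalizer (pG h : Set G)) (hodd : Odd (orderOf g)) {p : G} (hp : p ∈ pG h) :
    g * p * g⁻¹ = p := by
  have hPp : IsPGroup 2 (pG h) := S.isPGroup'.to_le (pG_le h)
  have himg : ∀ v : (S : Subgroup G), (v : G) ∈ pG h →
      ∃ v' : (S : Subgroup G), (v' : G) ∈ pG h ∧ (v' : G) = g * (v : G) * g⁻¹ := fun v hv =>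
    ⟨⟨_, pG_le h ((mem_normalizer_iff.mp hg _).mp hv)⟩, (mem_normalizer_iff.mp hg _).mp hv, rfl⟩
  set c2 := el x y 2 2 with hc2
  have hsq : ∀ v : (S : Subgroup G), (v : G) ∈ pG h → ∃ a : ℤ, v ^ 2 = c2 ^ a := by
    intro v hv
    obtain ⟨a, rfl | rfl⟩ := (mem_pG_iff h).mp hv
    · exact ⟨a, by rw [el_pow h, hc2, el_zpow h, h.eq_iff]; push_cast; constructor <;>
        exact ⟨0, by ring⟩⟩
    · exact ⟨a, by rw [el_z_sq h, hc2, el_zpow h, h.eq_iff]; constructor <;> exact ⟨0, by ring⟩⟩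
  have hW : g ∈ normalizer (zpowers (c2 : G) : Set G) := by
    refine mem_normalizer_of_cj (Subgroup.eq_of_le_of_card_ge ?_ (card_cj _ _).ge)
    rw [cj_zpowers, Subgroup.zpowers_le]
    obtain ⟨v', hv', e⟩ := himg (el x y 1 1) ((mem_pG_iff h).mpr ⟨1, Or.inl rfl⟩)
    obtain ⟨a, ha⟩ := hsq v' hv'
    refine ⟨a, ?_⟩
    show (c2 : G) ^ a = g * (c2 : G) * g⁻¹
    rw [← Subgroup.coe_zpow, ← ha, Subgroup.coe_pow, e, conj_pow, ← Subgroup.coe_pow, el_pow h]
    norm_num [hc2]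
  have hfixsq : ∀ v : (S : Subgroup G), (v : G) ∈ pG h →
      g * (v : G) ^ 2 * g⁻¹ = (v : G) ^ 2 := by
    intro v hv
    obtain ⟨a, ha⟩ := hsq v hv
    refine odd_fix_cyclic (X := zpowers (c2 : G)) ?_ hW hodd ?_
    · exact S.isPGroup'.to_le (Subgroup.zpowers_le.mpr c2.2)
    · rw [← Subgroup.coe_pow, ha, Subgroup.coe_zpow]
      exact zpow_mem_zpowers _ _
  have hcent : ∀ a : ℤ, (2 : ℤ) ^ n ∣ a * 2 →
      g * ((el x y a a : (S : Subgroup G)) : G) * g⁻¹ = ((el x y a a : (S : Subgroup G)) : G) := by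
    intro a ha
    rcases half_sq h ha with h0 | h1
    · simp [(el_eq_one h).mpr ⟨h0, h0⟩]
    · obtain ⟨q1, -⟩ := quarter h
      have e : el x y a a = el x y (2 ^ (n - 2)) (2 ^ (n - 2)) ^ 2 := by
        rw [el_pow h, h.eq_iff]
        push_cast
        rw [show a - 2 ^ (n - 2) * 2 = a - 2 ^ (n - 1) by rw [q1]; ring]
        exact ⟨h1, h1⟩
      rw [e, Subgroup.coe_pow]
      exact hfixsq _ ((mem_pG_iff h).mpr ⟨_, Or.inl rfl⟩)
  have hzP : (z : G) ∈ pG h := (mem_pG_iff h).mpr ⟨0, Or.inr (z_eq x y z).symm⟩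
  have hzfix : g * (z : G) * g⁻¹ = (z : G) := by
    obtain ⟨v', hv', e⟩ := himg z hzP
    have hv2 : v' ^ 2 = 1 := by
      apply Subtype.ext
      rw [Subgroup.coe_pow, e, conj_pow, ← Subgroup.coe_pow, pow_two, zz h]
      simp
    obtain ⟨a, rfl | rfl⟩ := (mem_pG_iff h).mp hv'
    · rw [el_pow h, el_eq_one h] at hv2
      have e2 := hcent a (by simpa using hv2.1)
      rw [e] at e2
      have e3 : (z : G) = g * (z : G) * g⁻¹ := (mul_left_cancel (mul_right_cancel e2)).symm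
      exact absurd (Subtype.ext (e3.trans e.symm) : z = el x y a a)
        fun ee => z_not_central h (ee ▸ (mem_center_iff h).mpr ⟨a, rfl⟩)
    · rw [el_z_sq h, el_eq_one h] at hv2
      refine odd_fix hPp hg hodd hzP ?_
      rw [← e, Subgroup.coe_mul, mul_inv_cancel_right]
      exact hcent a (by simpa [mul_two] using hv2.1)
  obtain ⟨v, rfl⟩ : ∃ v : (S : Subgroup G), (v : G) = p := ⟨⟨p, pG_le h hp⟩, rfl⟩
  obtain ⟨v', hv', e⟩ := himg v hp
  refine odd_fix hPp hg hodd hp ?_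
  have hd : ((v' * v⁻¹ : (S : Subgroup G)) : G) ∈ pG h := by
    rw [Subgroup.coe_mul, Subgroup.coe_inv]
    exact mul_mem hv' (inv_mem hp)
  have hd2 : (v' * v⁻¹) ^ 2 = 1 := by
    apply Subtype.ext
    rw [Subgroup.coe_pow, Subgroup.coe_mul, Subgroup.coe_inv,
      (pG_commute h hv' (inv_mem hp)).mul_pow, e, conj_pow, hfixsq v hp, inv_pow, mul_inv_cancel]
    rfl
  rw [← e, show (v' : G) * (v : G)⁻¹ = ((v' * v⁻¹ : (S : Subgroup G)) : G) by simp]
  generalize v' * v⁻¹ = d at hd hd2 ⊢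
  obtain ⟨a, rfl | rfl⟩ := (mem_pG_iff h).mp hd
  · rw [el_pow h, el_eq_one h] at hd2
    exact hcent a (by simpa using hd2.1)
  · rw [el_z_sq h, el_eq_one h] at hd2
    rw [Subgroup.coe_mul,
      show g * (((el x y a a : (S : Subgroup G)) : G) * (z : G)) * g⁻¹ =
        g * ((el x y a a : (S : Subgroup G)) : G) * g⁻¹ * (g * (z : G) * g⁻¹) by group,
      hcent a (by simpa [mul_two] using hd2.1), hzfix]

theorem odd_relIndex_of_maximal {U M : Subgroup G} (hU : IsPGroup 2 U) (hUM : U ≤ M)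
    (hmax : ∀ P : Subgroup G, IsPGroup 2 P → U ≤ P → P ≤ M → P ≤ U) : Odd (U.relIndex M) := by
  have hf : Fact (Nat.Prime 2) := ⟨Nat.prime_two⟩
  obtain ⟨R, hR⟩ := (hU.comap_subtype (K := M)).exists_le_sylow
  have hRU : (R : Subgroup M) = U.subgroupOf M := by
    refine le_antisymm (fun r hr => ?_) hR
    exact hmax _ (R.isPGroup'.map M.subtype)
      (fun v hv => ⟨⟨v, hUM hv⟩, hR hv, rfl⟩) (Subgroup.map_subtype_le _) ⟨r, hr, rfl⟩
  rw [Subgroup.relIndex, ← hRU, Nat.odd_iff]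
  have := R.not_dvd_index
  omega

/-- `V` is a Sylow 2-subgroup of the normalizer of `C_S(z)`. -/
theorem odd_relIndex_pG (h : WR (S : Subgroup G) n x y z)
    (hv : (vG h ⊔ centralizer (vG h : Set G)).relIndex (normalizer (vG h : Set G)) = 2) :
    Odd ((vG h).relIndex (normalizer (pG h : Set G))) := by
  have hf : Fact (Nat.Prime 2) := ⟨Nat.prime_two⟩
  rcases v_index h with ⟨-, hA⟩ | ⟨h6, -⟩
  swap
  · omega
  refine odd_relIndex_of_maximal (S.isPGroup'.to_le (vG_le h)) (vG_le_normalizer_pG h)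
    fun R hR hVR hRN => ?_
  by_contra hne
  have hlt : (vG h).subgroupOf R < ⊤ := by
    rw [lt_top_iff_ne_top, Ne, Subgroup.subgroupOf_eq_top]
    exact hne
  have : Group.IsNilpotent R := hR.isNilpotent
  obtain ⟨r, hr, hrV⟩ := SetLike.exists_of_lt (normalizerCondition_of_isNilpotent _ hlt)
  have hrN : (r : G) ∈ normalizer (vG h : Set G) := by
    refine mem_normalizer_of_cj (Subgroup.eq_of_le_of_card_ge ?_ (card_cj _ _).ge)
    rintro _ ⟨v, hvV, rfl⟩
    exact (mem_normalizer_iff.mp hr ⟨v, hVR hvV⟩).mp hvV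
  set R1 := R ⊓ normalizer (vG h : Set G)
  have hR1 : IsPGroup 2 R1 := hR.to_le inf_le_left
  have hVR1 : vG h ≤ R1 := le_inf hVR le_normalizer
  obtain ⟨T, hT⟩ := hR1.exists_le_sylow
  obtain ⟨m, hm⟩ := MulAction.exists_smul_eq G T S
  have hmR : cj m R1 ≤ (S : Subgroup G) := (cj_mono hT).trans (le_of_eq (by rw [← hm]; rfl))
  obtain ⟨s, hs, hsV⟩ := conj_vG h m ((cj_mono hVR1).trans hmR)
  set k := s⁻¹ * m with hk
  have hkN : k ∈ normalizer (vG h : Set G) :=
    mem_normalizer_of_cj (by rw [hk, ← cj_cj, ← hsV, cj_inv_cj])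
  have hkR : cj k R1 ≤ (S : Subgroup G) := by
    rw [hk, ← cj_cj]
    exact (cj_mono hmR).trans (le_of_eq (cj_eq_of_mem (inv_mem hs)))
  obtain ⟨ρ, hρ⟩ : ∃ ρ : (S : Subgroup G), (ρ : G) = k * (r : G) * k⁻¹ :=
    ⟨⟨_, hkR (conj_mem_cj ⟨r.2, hrN⟩)⟩, rfl⟩
  have hρV : ρ ∉ vee h := by
    intro hρV
    have := (coe_mem_vG h).mpr hρV
    rw [hρ] at this
    exact hrV ((mem_normalizer_iff.mp hkN _).mpr this)
  obtain ⟨v', hv'V, hv'c, hv'⟩ := exists_conj_vee h hkN (z_mem_vee h) (z_not_central h)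
  have hP' : cj k (pG h) = cv (vG h) (v' : G) := by rw [pG, cj_cv hkN, hv']
  have hρP : (ρ : G) * (v' : G) * (ρ : G)⁻¹ ∈ cv (vG h) (v' : G) := by
    rw [← hP']
    have e : cj (ρ : G) (cj k (pG h)) = cj k (pG h) := by
      rw [hρ, cj_cj, show k * (r : G) * k⁻¹ * k = k * (r : G) by group, ← cj_cj,
        cj_eq_of_mem_normalizer (hRN r.2)]
    rw [← e]
    refine conj_mem_cj ?_
    rw [hP']
    exact mem_cv_self h hv'V
  have hc : Commute (ρ * v' * ρ⁻¹) v' := by
    apply Subtype.ext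
    simpa using mem_centralizer_singleton_iff.mp hρP.2
  have hbase : v' ∉ base h := by
    rintro ⟨a, b, rfl⟩
    have e1 := cv_eq h hv'V (k0_mem h) hv'c (k0_not_central h) (commute_el h _ _ _ _)
    have e2 : cj k (cv (vG h) (z : G)) =
        cj k (cv (vG h) ((el x y (2 ^ (n - 2)) (-2 ^ (n - 2)) : (S : Subgroup G)) : G)) := by
      rw [hA k hkN, cj_cv hkN, ← hv', e1]
    have e3 := cj_injective k e2
    have hz : (z : G) ∈ cv (vG h) ((el x y (2 ^ (n - 2)) (-2 ^ (n - 2)) : (S : Subgroup G)) : G) :=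
      e3 ▸ mem_cv_self h (z_mem_vee h)
    have hzk : Commute z (el x y (2 ^ (n - 2)) (-2 ^ (n - 2))) :=
      Subtype.ext (mem_centralizer_singleton_iff.mp hz.2)
    rw [← z_eq x y z] at hzk
    have := (commute_el_elz h).mp hzk.symm
    obtain ⟨q1, -⟩ := quarter h
    rw [show (2 : ℤ) ^ (n - 2) - -2 ^ (n - 2) = 2 ^ (n - 1) by rw [q1]; ring] at this
    exact not_dvd_half h (npos h) this
  obtain ⟨a, b, hab, rfl | rfl⟩ := hv'V
  · exact hbase (el_mem_base h a b)
  have hkey : ∀ p q : ℤ, Commute (el x y p q * z) (el x y a b * z) →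
      (2 : ℤ) ^ n ∣ p + b - (a + q) := by
    intro p q e
    have e' : el x y p q * z * (el x y a b * z) = el x y a b * z * (el x y p q * z) := e
    rw [el_z_mul_el_z h, el_z_mul_el_z h, h.eq_iff] at e'
    exact e'.1
  have hdiv : ∀ {c : ℤ}, (2 : ℤ) ^ n ∣ 2 * c → (2 : ℤ) ^ (n - 1) ∣ c := by
    intro c hd
    rw [two_pow_split h] at hd
    exact Int.dvd_of_mul_dvd_mul_left two_ne_zero hd
  obtain ⟨c, d, rfl | rfl⟩ := h.gen ρ
  · rw [conj_el_elz h] at hc
    have h4 := hkey _ _ hc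
    rw [show a + c - d + b - (a + (b + d - c)) = 2 * (c - d) by ring] at h4
    exact hρV ((el_mem_vee h).mpr (hdiv h4))
  · have e2 : el x y c d * z * (el x y a b * z) * (el x y c d * z)⁻¹ =
        el x y (c + b - d) (d + a - c) * z := by
      rw [el_z_mul_el_z h, el_z_inv h, ← mul_assoc, el_mul h]
      congr 2 <;> ring
    rw [e2] at hc
    have h4 := hkey _ _ hc
    rw [show c + b - d + b - (a + (d + a - c)) = 2 * ((c - d) - (a - b)) by ring] at h4
    have h5 := (hdiv h4).add hab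
    rw [sub_add_cancel] at h5
    exact hρV ((elz_mem_vee h).mpr h5)

theorem normalizer_pG_le (h : WR (S : Subgroup G) n x y z)
    (hv : (vG h ⊔ centralizer (vG h : Set G)).relIndex (normalizer (vG h : Set G)) = 2) :
    normalizer (pG h : Set G) ≤
      normalizer ((center (S : Subgroup G)).map (S : Subgroup G).subtype : Set G) := by
  have hf : Fact (Nat.Prime 2) := ⟨Nat.prime_two⟩
  set N := normalizer (pG h : Set G) with hN
  set Z := (center (S : Subgroup G)).map (S : Subgroup G).subtype with hZ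
  set M := N ⊓ normalizer (Z : Set G) with hM
  have hfixZ : ∀ k : G, (∀ p ∈ pG h, k * p * k⁻¹ = p) → k ∈ normalizer (Z : Set G) := fun k hk =>
    mem_normalizer_of_cj (cj_eq_of_commute fun u hu => hk u (center_le_pG h hu))
  have hVM : vG h ≤ M := by
    refine le_inf (vG_le_normalizer_pG h) ?_
    rintro _ ⟨v, -, rfl⟩
    refine mem_normalizer_of_cj (cj_eq_of_commute ?_)
    rintro _ ⟨u, hu, rfl⟩
    show (v : G) * (u : G) * (v : G)⁻¹ = (u : G)
    rw [← Subgroup.coe_mul, ← Subgroup.coe_inv, ← Subgroup.coe_mul,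
      Subgroup.mem_center_iff.mp hu v, mul_inv_cancel_right]
  set ρ := normalizerMonoidHom (pG h) with hρ
  have hker : ρ.ker ≤ M.subgroupOf N := by
    intro k hk
    rw [hρ, Subgroup.normalizerMonoidHom_ker] at hk
    exact ⟨k.2, hfixZ _ fun p hp => by
      rw [← mem_centralizer_iff.mp hk p hp, mul_inv_cancel_right]⟩
  have hrange : IsPGroup 2 ρ.range := by
    rintro ⟨_, g, rfl⟩
    obtain ⟨j, m, hm, hjm⟩ := Nat.exists_eq_two_pow_mul_odd (orderOf_pos g).ne'
    refine ⟨j, Subtype.ext ?_⟩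
    show ρ g ^ 2 ^ j = 1
    rw [← map_pow, ← MonoidHom.mem_ker, hρ, Subgroup.normalizerMonoidHom_ker]
    have ho : Odd (orderOf ((g ^ 2 ^ j : N) : G)) := by
      refine hm.of_dvd_nat (orderOf_dvd_of_pow_eq_one ?_)
      rw [← Subgroup.coe_pow, ← pow_mul, ← hjm, pow_orderOf_eq_one]
      rfl
    refine mem_centralizer_iff.mpr fun p hp => ?_
    have := odd_fix_pG h (g ^ 2 ^ j : N).2 ho hp
    exact (mul_inv_eq_iff_eq_mul.mp this).symm
  obtain ⟨r, hr⟩ := hrange.exists_card_eq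
  have h1 : M.relIndex N ∣ 2 ^ r := by
    rw [← hr, ← Subgroup.index_ker, Subgroup.relIndex]
    exact Subgroup.index_dvd_of_le hker
  have h2 : Odd (M.relIndex N) := (odd_relIndex_pG h hv).of_dvd_nat
    ⟨(vG h).relIndex M, by rw [mul_comm, Subgroup.relIndex_mul_relIndex _ _ _ hVM inf_le_left]⟩
  have h3 : M.relIndex N = 1 := by
    obtain ⟨i, -, hi⟩ := (Nat.dvd_prime_pow Nat.prime_two).mp h1
    rcases Nat.eq_zero_or_pos i with rfl | hpos
    · simpa using hi
    · rw [hi] at h2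
      exact absurd (Nat.even_pow.mpr ⟨even_two, hpos.ne'⟩) (Nat.not_even_iff_odd.mpr h2)
  exact (Subgroup.relIndex_eq_one.mp h3).trans inf_le_right

theorem no_large_centralizer (h : WR (S : Subgroup G) n x y z)
    (hv : (vG h ⊔ centralizer (vG h : Set G)).relIndex (normalizer (vG h : Set G)) = 2) {g : G}
    (hg : cj g (pG h) ≤ uG h) : False := by
  have hQ : cj g⁻¹ (uG h) ≤ centralizer (pG h : Set G) := by
    rintro _ ⟨u, hu, rfl⟩
    refine mem_centralizer_iff.mpr fun p hp => ?_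
    have e := conj_commute g⁻¹ (uG_commute h (hg (conj_mem_cj hp)) hu)
    rw [show g⁻¹ * (g * p * g⁻¹) * g⁻¹⁻¹ = p by group] at e
    exact e.eq
  have hCN : centralizer (pG h : Set G) ≤ normalizer (pG h : Set G) := fun k hk =>
    mem_normalizer_of_cj (cj_eq_of_commute fun u hu => by
      rw [← mem_centralizer_iff.mp hk u hu, mul_inv_cancel_right])
  obtain ⟨m, hm, hle⟩ := exists_conj_into (S.isPGroup'.to_le (vG_le h)) (vG_le_normalizer_pG h)
    (odd_relIndex_pG h hv) (isPGroup_cj (S.isPGroup'.to_le (uG_le h))) (hQ.trans hCN)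
  have hU : cj (m * g⁻¹) (uG h) = uG h := cj_uG h (by rw [← cj_cj]; exact hle.trans (vG_le h))
  have hx : ((el x y 1 0 : (S : Subgroup G)) : G) ∈ cj m (cj g⁻¹ (uG h)) := by
    rw [cj_cj, hU]
    exact (coe_mem_uG h).mpr (el_mem_base h 1 0)
  have hzP : (z : G) ∈ cj m (pG h) := by
    rw [cj_eq_of_mem_normalizer hm]
    exact (mem_pG_iff h).mpr ⟨0, Or.inr (z_eq x y z).symm⟩
  obtain ⟨q, hq, eq⟩ := hx
  obtain ⟨p, hp, ep⟩ := hzP
  have hc : Commute (el x y 1 0) (el x y 0 0 * z) := by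
    rw [z_eq]
    apply Subtype.ext
    show ((el x y 1 0 : (S : Subgroup G)) : G) * (z : G) = (z : G) * _
    rw [← eq, ← ep]
    exact (conj_commute m (mem_centralizer_iff.mp (hQ hq) p hp).symm).eq
  exact not_dvd_one h (by simpa using (commute_el_elz h).mp hc)

theorem uG_maximal (h : WR (S : Subgroup G) n x y z) {t : (S : Subgroup G)} (htb : t ∈ base h)
    (hnc : ¬ ∃ c ∈ center (S : Subgroup G), IsConj (t : G) (c : G)) (P : Subgroup G)
    (hP : IsPGroup 2 P) (hUP : uG h ≤ P) (hPM : P ≤ centralizer ({(t : G)} : Set G)) :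
    P ≤ uG h := by
  have hf : Fact (Nat.Prime 2) := ⟨Nat.prime_two⟩
  obtain ⟨R, hR⟩ := hP.exists_le_sylow
  obtain ⟨k, hk⟩ := MulAction.exists_smul_eq G R S
  have hkP : cj k P ≤ (S : Subgroup G) := (cj_mono hR).trans (le_of_eq (by rw [← hk]; rfl))
  have hkU : cj k (uG h) = uG h := cj_uG h ((cj_mono hUP).trans hkP)
  obtain ⟨w, hwb, hw⟩ : ∃ w : (S : Subgroup G), w ∈ base h ∧ k * (t : G) * k⁻¹ = (w : G) := by
    have := conj_mem_cj (g := k) ((coe_mem_uG h).mpr htb)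
    rw [hkU] at this
    obtain ⟨w, hw, e⟩ := this
    exact ⟨w, hw, e.symm⟩
  have hwc : w ∉ center (S : Subgroup G) := fun hc => hnc ⟨w, hc, isConj_iff.mpr ⟨k, hw⟩⟩
  have hkPU : cj k P ≤ uG h := by
    rintro _ ⟨p, hp, rfl⟩
    obtain ⟨v, hv⟩ : ∃ v : (S : Subgroup G), (v : G) = k * p * k⁻¹ :=
      ⟨⟨_, hkP (conj_mem_cj hp)⟩, rfl⟩
    have hc : Commute w v := by
      apply Subtype.ext
      rw [Subgroup.coe_mul, Subgroup.coe_mul, hv, ← hw]
      exact (conj_commute k (mem_centralizer_singleton_iff.mp (hPM hp)).symm).eq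
    obtain ⟨a, b, rfl⟩ := hwb
    obtain ⟨c, d, rfl | rfl⟩ := h.gen v
    · show k * p * k⁻¹ ∈ uG h
      rw [← hv]
      exact (coe_mem_uG h).mpr (el_mem_base h _ _)
    · exact absurd (central_of_commute_elz h hc) hwc
  have := cj_mono (g := k⁻¹) hkPU
  rw [cj_inv_cj] at this
  refine this.trans ?_
  conv_lhs => rw [← hkU, cj_inv_cj]

/-- With a small `N(Q Z(S))`, no element outside the base is fused into the base. -/
theorem separation (h : WR (S : Subgroup G) n x y z)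
    (hv : (vG h ⊔ centralizer (vG h : Set G)).relIndex (normalizer (vG h : Set G)) = 2)
    {s t : (S : Subgroup G)} (hs : s ∉ base h) (ht : t ∈ base h)
    (hst : IsConj (s : G) (t : G)) : False := by
  obtain ⟨a, b, rfl | rfl⟩ := h.gen s
  · exact hs (el_mem_base h a b)
  rcases Int.even_or_odd (a + b) with ⟨e, he⟩ | ho
  swap
  · exact odd_pow_ne_one h ho (pow_eq_one_of_isConj hst.symm (base_pow_eq_one h ht))
  obtain ⟨s0, hs0, hs0t⟩ : ∃ s0 : (S : Subgroup G), s0 = el x y e e * z ∧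
      IsConj (s0 : G) (t : G) :=
    ⟨_, rfl, (SDF.isConj_coe (isConj_elz h ⟨0, by rw [he]; ring⟩)).trans hst⟩
  have hs0c : ∀ p ∈ pG h, Commute p (s0 : G) := fun p hp =>
    pG_commute h hp (hs0 ▸ (mem_pG_iff h).mpr ⟨e, Or.inr rfl⟩)
  by_cases hnc : ∃ c ∈ center (S : Subgroup G), IsConj (t : G) (c : G)
  swap
  · obtain ⟨k, hk⟩ := isConj_iff.mp hs0t
    have hQM : cj k (pG h) ≤ centralizer ({(t : G)} : Set G) := by
      rintro _ ⟨p, hp, rfl⟩
      refine mem_centralizer_singleton_iff.mpr ?_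
      rw [← hk]
      exact (conj_commute k (hs0c p hp)).eq
    have hUM : uG h ≤ centralizer ({(t : G)} : Set G) :=
      uG_le_centralizer h ((coe_mem_uG h).mpr ht)
    obtain ⟨m, -, hle⟩ := exists_conj_into (S.isPGroup'.to_le (uG_le h)) hUM
      (odd_relIndex_of_maximal (S.isPGroup'.to_le (uG_le h)) hUM (uG_maximal h ht hnc))
      (isPGroup_cj (S.isPGroup'.to_le (pG_le h))) hQM
    rw [cj_cj] at hle
    exact no_large_centralizer h hv hle
  obtain ⟨c, hc, htc⟩ := hnc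
  obtain ⟨k, hk⟩ := isConj_iff.mp (hs0t.trans htc)
  have hSM : (S : Subgroup G) ≤ centralizer ({(c : G)} : Set G) := fun u hu =>
    mem_centralizer_singleton_iff.mpr
      (congrArg Subtype.val (Subgroup.mem_center_iff.mp hc ⟨u, hu⟩))
  have hQM : cj k (pG h) ≤ centralizer ({(c : G)} : Set G) := by
    rintro _ ⟨p, hp, rfl⟩
    refine mem_centralizer_singleton_iff.mpr ?_
    rw [← hk]
    exact (conj_commute k (hs0c p hp)).eq
  obtain ⟨m, hm, hle⟩ := exists_conj_into S.isPGroup' hSM (sylow_relIndex_odd S hSM)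
    (isPGroup_cj (S.isPGroup'.to_le (pG_le h))) hQM
  rw [cj_cj] at hle
  have hmk : m * k * (s0 : G) * (m * k)⁻¹ = (c : G) := by
    rw [show m * k * (s0 : G) * (m * k)⁻¹ = m * (k * (s0 : G) * k⁻¹) * m⁻¹ by group, hk,
      mem_centralizer_singleton_iff.mp hm, mul_inv_cancel_right]
  generalize m * k = f at hle hmk
  by_cases hXU : cj f (pG h) ≤ uG h
  · exact no_large_centralizer h hv hXU
  obtain ⟨w, hwX, hwU⟩ := SetLike.not_le_iff_exists.mp hXU
  obtain ⟨v, rfl⟩ : ∃ v : (S : Subgroup G), (v : G) = w := ⟨⟨w, hle hwX⟩, rfl⟩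
  have hvb : v ∉ base h := fun hh => hwU ((coe_mem_uG h).mpr hh)
  have himg : ∀ p : (S : Subgroup G), (p : G) ∈ pG h → ∃ p' : (S : Subgroup G),
      (p' : G) = f * (p : G) * f⁻¹ ∧ (p' ∈ center (S : Subgroup G) ∨ p' ∉ base h) := by
    intro p hp
    refine ⟨⟨_, hle (conj_mem_cj hp)⟩, rfl, ?_⟩
    set p' : (S : Subgroup G) := ⟨_, hle (conj_mem_cj hp)⟩ with hp'
    by_cases hb : p' ∈ base h
    · left
      obtain ⟨q, hq, eq⟩ := hwX
      have hcv : Commute p' v := by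
        apply Subtype.ext
        rw [Subgroup.coe_mul, Subgroup.coe_mul, ← eq]
        exact (conj_commute f (pG_commute h hp hq)).eq
      obtain ⟨i, j, e1⟩ := hb
      obtain ⟨i', j', rfl | rfl⟩ := h.gen v
      · exact absurd (el_mem_base h i' j') hvb
      · rw [e1] at hcv ⊢
        exact central_of_commute_elz h hcv
    · exact Or.inr hb
  have hJP : ((jE h : (S : Subgroup G)) : G) ∈ pG h :=
    (mem_pG_iff h).mpr ⟨2 ^ (n - 1), Or.inl rfl⟩
  obtain ⟨j', hj', hj'c⟩ : ∃ j' : (S : Subgroup G), (j' : G) = f * (jE h : G) * f⁻¹ ∧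
      j' ∈ center (S : Subgroup G) := by
    obtain ⟨p', hp', hcase⟩ := himg (el x y (2 ^ (n - 2)) (2 ^ (n - 2)))
      ((mem_pG_iff h).mpr ⟨_, Or.inl rfl⟩)
    refine ⟨p' ^ 2, ?_, ?_⟩
    · obtain ⟨q1, -⟩ := quarter h
      have e2 : jE h = el x y (2 ^ (n - 2)) (2 ^ (n - 2)) ^ 2 := by
        rw [el_pow h, jE, q1, mul_comm]
        rfl
      rw [Subgroup.coe_pow, hp', conj_pow, e2, Subgroup.coe_pow]
    · rcases hcase with hh | hh
      · exact pow_mem hh 2
      · obtain ⟨i, j, rfl | rfl⟩ := h.gen p'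
        · exact absurd (el_mem_base h i j) hh
        · rw [el_z_sq h]
          exact (mem_center_iff h).mpr ⟨_, rfl⟩
  obtain ⟨z', hz', hz'case⟩ := himg z ((mem_pG_iff h).mpr ⟨0, Or.inr (z_eq x y z).symm⟩)
  have hinv : ∀ {p p' : (S : Subgroup G)}, (p' : G) = f * (p : G) * f⁻¹ → orderOf (p : G) = 2 →
      p' ^ 2 = 1 ∧ p' ≠ 1 := by
    intro p p' e ho
    have ho' : orderOf p' = 2 := by
      rw [← Subgroup.orderOf_coe, e, show f * (p : G) * f⁻¹ = MulAut.conj f (p : G) from rfl,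
        MulEquiv.orderOf_eq, ho]
    exact ⟨orderOf_dvd_iff_pow_eq_one.mp (dvd_of_eq ho'), fun e' => by simp [e'] at ho'⟩
  have hjJ : ∀ {p' : (S : Subgroup G)}, p' ∈ center (S : Subgroup G) → p' ^ 2 = 1 → p' ≠ 1 →
      p' = jE h := by
    intro p' hpc hp2 hp1
    obtain ⟨i, rfl⟩ := (mem_center_iff h).mp hpc
    rw [el_pow h, el_eq_one h] at hp2
    rcases half_sq h (by simpa using hp2.1) with h0 | h1
    · exact absurd ((el_eq_one h).mpr ⟨h0, h0⟩) hp1
    · exact (h.eq_iff _ _ _ _).mpr ⟨h1, h1⟩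
  obtain ⟨hj2, hj1⟩ := hinv hj' (orderOf_jE h)
  obtain ⟨hz2, hz1⟩ := hinv hz' (orderOf_z h)
  have hz'b : z' ∉ base h := by
    rcases hz'case with hh | hh
    · exfalso
      have e1 : z' = j' := (hjJ hh hz2 hz1).trans (hjJ hj'c hj2 hj1).symm
      have e2 : f * (z : G) * f⁻¹ = f * (jE h : G) * f⁻¹ := by rw [← hz', ← hj', e1]
      have e3 : z = jE h := Subtype.ext (mul_left_cancel (mul_right_cancel e2))
      exact z_not_central h (by rw [e3]; exact jE_central h)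
    · exact hh
  obtain ⟨i, hi⟩ : ∃ i : ℤ, z' = el x y i (-i) * z := by
    rcases involution_cases h hz2 hz1 with rfl | rfl | rfl | hi
    · exact absurd (el_mem_base h _ _) hz'b
    · exact absurd (el_mem_base h _ _) hz'b
    · exact absurd (el_mem_base h _ _) hz'b
    · exact hi
  obtain ⟨s1, hs1⟩ := isConj_iff.mp (isConj_z h i)
  rw [← hi] at hs1
  set f' := (s1 : G) * f with hf'
  have hf'N : f' ∈ normalizer (pG h : Set G) := by
    refine mem_normalizer_of_cj (Subgroup.eq_of_le_of_card_ge ?_ (card_cj _ _).ge)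
    intro u hu
    have huS : u ∈ (S : Subgroup G) := by
      rw [hf', ← cj_cj] at hu
      exact (cj_eq_of_mem s1.2).le (cj_mono hle hu)
    obtain ⟨p, hp, rfl⟩ := hu
    obtain ⟨u', hu'⟩ : ∃ u' : (S : Subgroup G), (u' : G) = f' * p * f'⁻¹ := ⟨⟨_, huS⟩, rfl⟩
    show f' * p * f'⁻¹ ∈ pG h
    rw [← hu', mem_pG_iff h]
    have hcz : Commute u' (el x y 0 0 * z) := by
      rw [z_eq]
      apply Subtype.ext
      rw [Subgroup.coe_mul, Subgroup.coe_mul, hu']
      have e1 : f' * (z : G) * f'⁻¹ = (z : G) := by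
        rw [hf', show (s1 : G) * f * (z : G) * ((s1 : G) * f)⁻¹ =
          (s1 : G) * (f * (z : G) * f⁻¹) * (s1 : G)⁻¹ by group, ← hz']
        exact congrArg Subtype.val hs1
      have := conj_commute f' (pG_commute h hp ((mem_pG_iff h).mpr ⟨0, Or.inr (z_eq x y z).symm⟩))
      rw [e1] at this
      exact this.eq
    obtain ⟨i', e'⟩ := (centralizer_elz h).mp hcz
    exact ⟨i', by rwa [z_eq] at e'⟩
  have hfc : f' * (s0 : G) * f'⁻¹ = (c : G) := by
    rw [hf', show (s1 : G) * f * (s0 : G) * ((s1 : G) * f)⁻¹ =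
      (s1 : G) * (f * (s0 : G) * f⁻¹) * (s1 : G)⁻¹ by group, hmk]
    rw [← Subgroup.coe_mul, ← Subgroup.coe_inv, ← Subgroup.coe_mul,
      Subgroup.mem_center_iff.mp hc s1, mul_inv_cancel_right]
  have hmem := (mem_normalizer_iff.mp (normalizer_pG_le h hv hf'N) (s0 : G)).mpr
    (by rw [hfc]; exact ⟨c, hc, rfl⟩)
  obtain ⟨u, hu, eu⟩ := hmem
  have : s0 ∈ center (S : Subgroup G) := by
    rwa [show s0 = u from Subtype.ext eu.symm]
  exact elz_not_central h e e (hs0 ▸ this)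

end CfsgLib.TwoGroups.WRC
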