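import Cfsg.Agent.Lib.TwoGroups.WreathedSeparation

/-!
Fusion in a finite group with wreathed Sylow 2-subgroup: the cases with small `N(Q Z(S))`.
-/

set_option autoImplicit false
set_option linter.unusedSectionVars false

namespace CfsgLib.TwoGroups.WRC

open Subgroup CfsgLib.TwoGroups.FT CfsgLib.TwoGroups.WR CfsgLib.TwoGroups.WRF

variable {G : Type*} [Group G] [Finite G] {S : Sylow 2 G} {n : ℕ} {x y z : (S : Subgroup G)}

theorem card_classes_three {H : Type*} [Group H] {P : H → Prop} {u v w : H} (hu : P u) (hv : P v)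
    (hw : P w) (huv : ¬ IsConj u v) (huw : ¬ IsConj u w) (hvw : ¬ IsConj v w)
    (hall : ∀ t, P t → IsConj t u ∨ IsConj t v ∨ IsConj t w) :
    Nat.card {C : ConjClasses H // ∃ t : H, P t ∧ ConjClasses.mk t = C} = 3 := by
  show Nat.card {C : ConjClasses H | ∃ t : H, P t ∧ ConjClasses.mk t = C} = 3
  rw [show {C : ConjClasses H | ∃ t : H, P t ∧ ConjClasses.mk t = C} =
      {ConjClasses.mk u, ConjClasses.mk v, ConjClasses.mk w} from ?_, Nat.card_coe_set_eq]
  · exact Set.ncard_eq_three.mpr ⟨_, _, _, fun e => huv (ConjClasses.mk_eq_mk_iff_isConj.mp e),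
      fun e => huw (ConjClasses.mk_eq_mk_iff_isConj.mp e),
      fun e => hvw (ConjClasses.mk_eq_mk_iff_isConj.mp e), rfl⟩
  refine Set.ext fun C => ⟨?_, ?_⟩
  · rintro ⟨t, ht, rfl⟩
    rcases hall t ht with h | h | h
    · exact Or.inl (ConjClasses.mk_eq_mk_iff_isConj.mpr h)
    · exact Or.inr (Or.inl (ConjClasses.mk_eq_mk_iff_isConj.mpr h))
    · exact Or.inr (Or.inr (ConjClasses.mk_eq_mk_iff_isConj.mpr h))
  · rintro (rfl | rfl | rfl)
    · exact ⟨u, hu, rfl⟩
    · exact ⟨v, hv, rfl⟩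
    · exact ⟨w, hw, rfl⟩

theorem base_pow_parity {L : Subgroup (S : Subgroup G)} (h : WR (S : Subgroup G) n x y z)
    (hprod : ∀ u ∈ base h, ∀ v ∈ base h, u ∉ L → v ∉ L → u * v ∈ L)
    {u : (S : Subgroup G)} (hu : u ∈ base h) (huL : u ∉ L) (k : ℤ) : u ^ k ∈ L ↔ Even k := by
  have h2 : u ^ (2 : ℤ) ∈ L := by
    rw [show (2 : ℤ) = 1 + 1 from rfl, zpow_add, zpow_one]
    exact hprod u hu u hu huL huL
  rcases Int.even_or_odd k with ⟨l, rfl⟩ | ⟨l, rfl⟩
  · refine iff_of_true ?_ ⟨l, rfl⟩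
    rw [show l + l = (2 : ℤ) * l by ring, zpow_mul]
    exact L.zpow_mem h2 l
  · refine iff_of_false (fun hh => huL ?_) (by simp [parity_simps])
    rw [zpow_add_one, zpow_mul] at hh
    exact (L.mul_mem_cancel_left (L.zpow_mem h2 l)).mp hh

theorem base_le_of_invariant (h : WR (S : Subgroup G) n x y z) {g : G}
    (hg : g ∈ normalizer (uG h : Set G)) (hodd : Odd (orderOf g))
    (hgJ : g * (jE h : G) * g⁻¹ = (eE h : G)) {L : Subgroup (S : Subgroup G)}
    (hprod : ∀ u ∈ base h, ∀ v ∈ base h, u ∉ L → v ∉ L → u * v ∈ L)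
    (hinv : ∀ u ∈ base h, u ∈ L → ∀ v : (S : Subgroup G), (v : G) = g * (u : G) * g⁻¹ → v ∈ L) :
    base h ≤ L := by
  have hd : ¬ (2 : ℤ) ^ n ∣ 2 ^ (n - 1) := not_dvd_half h (npos h)
  have himg : ∀ p q : ℤ, ∃ a b : ℤ,
      ((el x y a b : (S : Subgroup G)) : G) = g * ((el x y p q : (S : Subgroup G)) : G) * g⁻¹ ∧
      ((el x y (a * 2 ^ (n - 1)) (b * 2 ^ (n - 1)) : (S : Subgroup G)) : G) =
        g * ((el x y (p * 2 ^ (n - 1)) (q * 2 ^ (n - 1)) : (S : Subgroup G)) : G) * g⁻¹ := by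
    intro p q
    obtain ⟨_, ⟨a, b, rfl⟩, e⟩ :=
      (mem_normalizer_iff.mp hg _).mp ((coe_mem_uG h).mpr (el_mem_base h p q))
    have e' : ((el x y a b : (S : Subgroup G)) : G) =
      g * ((el x y p q : (S : Subgroup G)) : G) * g⁻¹ := e
    refine ⟨a, b, e', ?_⟩
    rw [← el_zpow h, ← el_zpow h, Subgroup.coe_zpow, Subgroup.coe_zpow, e', conj_zpow]
  have hgE : g * (eE h : G) * g⁻¹ =
      ((el x y 0 (2 ^ (n - 1)) : (S : Subgroup G)) : G) := by
    obtain ⟨_, ⟨a, b, rfl⟩, e⟩ :=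
      (mem_normalizer_iff.mp hg _).mp ((coe_mem_uG h).mpr (el_mem_base h (2 ^ (n - 1)) 0))
    have e' : ((el x y a b : (S : Subgroup G)) : G) = g * (eE h : G) * g⁻¹ := e
    have hE2 : (eE h : G) ^ 2 = 1 := orderOf_dvd_iff_pow_eq_one.mp (dvd_of_eq (orderOf_eE h))
    have h2 : el x y a b ^ 2 = 1 := by
      apply Subtype.ext
      rw [Subgroup.coe_pow, e', conj_pow, hE2]
      simp
    have h1 : el x y a b ≠ 1 := by
      intro e1
      rw [e1, Subgroup.coe_one] at e'
      have e2 : (eE h : G) = 1 := conj_eq_one_iff.mp e'.symm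
      have := orderOf_eE h
      rw [e2, orderOf_one] at this
      omega
    rw [← e']
    rcases involution_cases h h2 h1 with e1 | e1 | e1 | ⟨i, e1⟩
    · exfalso
      rw [e1] at e'
      have e2 : g * (eE h : G) * g⁻¹ = g * (jE h : G) * g⁻¹ := e'.symm.trans hgJ.symm
      have e3 : eE h = jE h := Subtype.ext (mul_left_cancel (mul_right_cancel e2))
      exact eE_not_central h (by rw [e3]; exact jE_central h)
    · rw [e1]
    · exfalso
      rw [e1] at e'
      have hgg : Commute (g * g) (jE h : G) := by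
        refine mul_inv_eq_iff_eq_mul.mp ?_
        rw [show g * g * (jE h : G) * (g * g)⁻¹ = g * (g * (jE h : G) * g⁻¹) * g⁻¹ by group, hgJ]
        exact e'.symm
      obtain ⟨c, hc⟩ := hodd
      have hg1 : Commute g (jE h : G) := by
        have h3 : g = (g * g) ^ (c + 1) := by
          rw [← pow_two, ← pow_mul, show 2 * (c + 1) = 2 * c + 1 + 1 by ring, pow_succ, ← hc,
            pow_orderOf_eq_one, one_mul]
        rw [h3]
        exact hgg.pow_left _
      rw [hg1.eq, mul_inv_cancel_right] at hgJ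
      have e3 : jE h = eE h := Subtype.ext hgJ
      exact eE_not_central h (by rw [← e3]; exact jE_central h)
    · exact absurd e1.symm (el_z_ne h _ _ _ _)
  have hhalf : ∀ c : ℤ, (2 : ℤ) ^ n ∣ c * 2 ^ (n - 1) → (2 : ℤ) ∣ c := by
    intro c hc
    rw [two_pow_split h] at hc
    exact Int.dvd_of_mul_dvd_mul_right (by positivity) hc
  have hpar : ∀ a b c d : ℤ, ((el x y (a * 2 ^ (n - 1)) (b * 2 ^ (n - 1)) : (S : Subgroup G)) : G) =
      ((el x y (c * 2 ^ (n - 1)) (d * 2 ^ (n - 1)) : (S : Subgroup G)) : G) →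
      (2 : ℤ) ∣ a - c ∧ (2 : ℤ) ∣ b - d := by
    intro a b c d e
    obtain ⟨h1, h2⟩ := (h.eq_iff _ _ _ _).mp (Subtype.ext e)
    exact ⟨hhalf _ (by rwa [sub_mul]), hhalf _ (by rwa [sub_mul])⟩
  have hxb : x ∈ base h := (congrArg (· ∈ base h) el_x).mp (el_mem_base h 1 0)
  have hyb : y ∈ base h := (congrArg (· ∈ base h) el_y).mp (el_mem_base h 0 1)
  have hall : x ∈ L → y ∈ L → base h ≤ L := by
    rintro hx hy _ ⟨a, b, rfl⟩
    exact L.mul_mem (L.zpow_mem hx a) (L.zpow_mem hy b)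
  by_cases hx : x ∈ L <;> by_cases hy : y ∈ L
  · exact hall hx hy
  · exfalso
    obtain ⟨a, b, e1, e2⟩ := himg 1 0
    have hm : el x y a b ∈ L := hinv _ (el_mem_base h 1 0) (by rw [el_x]; exact hx) _ e1
    have hb : Even b := by
      rw [← base_pow_parity h hprod hyb hy]
      exact (L.mul_mem_cancel_left (L.zpow_mem hx a)).mp hm
    have e3 : ((el x y (a * 2 ^ (n - 1)) (b * 2 ^ (n - 1)) : (S : Subgroup G)) : G) =
        ((el x y (0 * 2 ^ (n - 1)) (1 * 2 ^ (n - 1)) : (S : Subgroup G)) : G) := by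
      rw [e2, one_mul, zero_mul]
      exact hgE
    obtain ⟨-, k, hk⟩ := hpar _ _ _ _ e3
    obtain ⟨l, hl⟩ := hb
    omega
  · exfalso
    obtain ⟨a, b, e1, e2⟩ := himg 0 1
    have hm : el x y a b ∈ L := hinv _ (el_mem_base h 0 1) (by rw [el_y]; exact hy) _ e1
    have ha : Even a := by
      rw [← base_pow_parity h hprod hxb hx]
      exact (L.mul_mem_cancel_right (L.zpow_mem hy b)).mp hm
    have e3 : ((el x y (a * 2 ^ (n - 1)) (b * 2 ^ (n - 1)) : (S : Subgroup G)) : G) =
        ((el x y (1 * 2 ^ (n - 1)) (1 * 2 ^ (n - 1)) : (S : Subgroup G)) : G) := by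
      have e4 : el x y 0 (2 ^ (n - 1)) = eE h * jE h := by
        rw [eE, jE, el_mul h, h.eq_iff]
        constructor
        · rw [zero_sub, dvd_neg, ← two_mul, ← two_pow_split h]
        · simp
      rw [e2, one_mul, zero_mul, e4, Subgroup.coe_mul,
        show g * ((eE h : G) * (jE h : G)) * g⁻¹ =
          g * (eE h : G) * g⁻¹ * (g * (jE h : G) * g⁻¹) by group, hgJ, hgE,
        ← Subgroup.coe_mul, eE, el_mul h, zero_add, add_zero]
    obtain ⟨⟨k, hk⟩, -⟩ := hpar _ _ _ _ e3
    obtain ⟨l, hl⟩ := ha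
    omega
  · exfalso
    obtain ⟨a, b, e1, e2⟩ := himg 1 1
    have hxy : el x y 1 1 ∈ L := by
      have := hprod x hxb y hyb hx hy
      rwa [el, zpow_one, zpow_one]
    have hm : el x y a b ∈ L := hinv _ (el_mem_base h 1 1) hxy _ e1
    have hab : Even (a - b) := by
      rw [← base_pow_parity h hprod hxb hx]
      have e4 : el x y a b = x ^ (a - b) * el x y 1 1 ^ b := by
        rw [show x ^ (a - b) = el x y (a - b) 0 by simp [el], el_zpow h, el_mul h]
        congr 1 <;> ring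
      rw [e4] at hm
      exact (L.mul_mem_cancel_right (L.zpow_mem hxy b)).mp hm
    have e3 : ((el x y (a * 2 ^ (n - 1)) (b * 2 ^ (n - 1)) : (S : Subgroup G)) : G) =
        ((el x y (1 * 2 ^ (n - 1)) (0 * 2 ^ (n - 1)) : (S : Subgroup G)) : G) := by
      rw [e2, one_mul, zero_mul]
      exact hgJ
    obtain ⟨⟨k, hk⟩, l, hl⟩ := hpar _ _ _ _ e3
    obtain ⟨i, hi⟩ := hab
    omega

theorem exists_base_normal (h : WR (S : Subgroup G) n x y z)
    (hv : (vG h ⊔ centralizer (vG h : Set G)).relIndex (normalizer (vG h : Set G)) = 2) :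
    ∃ K : Subgroup G, K.Normal ∧ K.index = 2 ∧
      (∀ s : (S : Subgroup G), (s : G) ∈ K ↔ s ∈ base h) ∧
      (∀ g : G, Odd (orderOf g) → g ∈ K) ∧
      (∀ P : Sylow 2 K, Nonempty ((P : Subgroup K) ≃* base h)) := by
  refine SDF.exists_normal_index_two (index_base h) fun s g hg => ?_
  have hc : IsConj (s : G) (g * (s : G) * g⁻¹) := isConj_iff.mpr ⟨g, rfl⟩
  constructor
  · intro hm
    by_contra hs
    exact separation h hv hs hm hc
  · intro hm
    by_contra hs
    exact separation h hv hs hm hc.symm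

theorem not_isConj_z (h : WR (S : Subgroup G) n x y z)
    (hv : (vG h ⊔ centralizer (vG h : Set G)).relIndex (normalizer (vG h : Set G)) = 2)
    {t : (S : Subgroup G)} (ht : t ∈ base h) : ¬ IsConj (t : G) (z : G) := fun hc =>
  separation h hv (z_not_mem_base h) ht hc.symm

theorem abelian_case (h : WR (S : Subgroup G) n x y z)
    (hu : (centralizer (uG h : Set G)).relIndex (normalizer (uG h : Set G)) = 6)
    (hv : (vG h ⊔ centralizer (vG h : Set G)).relIndex (normalizer (vG h : Set G)) = 2) :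
    (∃ K : Subgroup G, K.Normal ∧ K.index = 2 ∧ uG h ≤ K ∧
      (∀ H : Subgroup ↥K, H.index ≠ 2)) ∧
      Nat.card {C : ConjClasses G // ∃ t : G, orderOf t = 2 ∧ ConjClasses.mk t = C} = 2 := by
  rcases u_index h with ⟨h2, -⟩ | ⟨-, hJE, g, hg, hgo, hgJ⟩
  · omega
  refine ⟨?_, ?_⟩
  swap
  · refine SDF.card_classes_two (P := fun t : G => orderOf t = 2) (orderOf_jE h) (orderOf_z h)
      (not_isConj_z h hv (el_mem_base h _ _)) fun t ht => ?_
    rcases involution_class h ht with e | e | e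
    · exact Or.inl e
    · exact Or.inl (e.trans hJE.symm)
    · exact Or.inr e
  obtain ⟨K, hK, hi, hmem, hodd, hP⟩ := exists_base_normal h hv
  have hUK : uG h ≤ K := by
    rintro _ ⟨u, hu, rfl⟩
    exact (hmem u).mpr hu
  refine ⟨K, hK, hi, hUK, fun H hH => ?_⟩
  have hHn : H.Normal := Subgroup.normal_of_index_eq_two hH
  set L : Subgroup (S : Subgroup G) := (H.map K.subtype).comap (S : Subgroup G).subtype with hL
  have hmemL : ∀ u : (S : Subgroup G), u ∈ base h →
      ∀ hu : (u : G) ∈ K, u ∈ L ↔ (⟨(u : G), hu⟩ : K) ∈ H := by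
    intro u _ hu
    refine ⟨?_, fun hh => ⟨_, hh, rfl⟩⟩
    rintro ⟨k, hk, ek⟩
    rwa [show (⟨(u : G), hu⟩ : K) = k from Subtype.ext ek.symm]
  have hgK : g ∈ K := hodd g hgo
  have hle : base h ≤ L := by
    refine base_le_of_invariant h hg hgo hgJ ?_ ?_
    · intro u hu v hv hun hvn
      have hu' := (hmem u).mpr hu
      have hv' := (hmem v).mpr hv
      rw [hmemL u hu hu'] at hun
      rw [hmemL v hv hv'] at hvn
      rw [hmemL _ ((base h).mul_mem hu hv) (K.mul_mem hu' hv')]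
      exact (Subgroup.mul_mem_iff_of_index_two hH (a := ⟨(u : G), hu'⟩) (b := ⟨(v : G), hv'⟩)).mpr
        (iff_of_false hun hvn)
    · intro u hu huL v hv
      have hu' := (hmem u).mpr hu
      have hv' : (v : G) ∈ K := hv ▸ hK.conj_mem _ hu' g
      rw [hmemL u hu hu'] at huL
      rw [hmemL v ((hmem v).mp hv') hv']
      have := hHn.conj_mem _ huL ⟨g, hgK⟩
      rwa [show (⟨(v : G), hv'⟩ : K) = ⟨g, hgK⟩ * ⟨(u : G), hu'⟩ * ⟨g, hgK⟩⁻¹ from Subtype.ext hv]
  exact SDF.false_of_sylow_le hmem hP hH fun s hs hsK => (hmemL s hs hsK).mp (hle hs)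

theorem complement_case (h : WR (S : Subgroup G) n x y z)
    (hu : (centralizer (uG h : Set G)).relIndex (normalizer (uG h : Set G)) = 2)
    (hv : (vG h ⊔ centralizer (vG h : Set G)).relIndex (normalizer (vG h : Set G)) = 2) :
    Cfsg.HasNormalPComplement 2 G ∧
      Nat.card {C : ConjClasses G // ∃ t : G, orderOf t = 2 ∧ ConjClasses.mk t = C} = 3 := by
  have hf : Fact (Nat.Prime 2) := ⟨Nat.prime_two⟩
  rcases u_index h with ⟨-, hJE, hact⟩ | ⟨h6, -⟩
  swap
  · omega
  refine ⟨?_, card_classes_three (P := fun t : G => orderOf t = 2) (orderOf_jE h) (orderOf_eE h)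
    (orderOf_z h) hJE (not_isConj_z h hv (el_mem_base h _ _))
    (not_isConj_z h hv (el_mem_base h _ _)) fun t ht => involution_class h ht⟩
  obtain ⟨K, hK, -, hmem, hodd, hP⟩ := exists_base_normal h hv
  refine CfsgLib.Transfer.hasNormalPComplement_of_le K
    (CfsgLib.Transfer.pResidual_le_iff.mpr fun g hg => hodd g (Nat.coprime_two_right.mp hg)) ?_
  have hUK : uG h ≤ K := by
    rintro _ ⟨u, hu, rfl⟩
    exact (hmem u).mpr hu
  obtain ⟨P, hPle⟩ := ((S.isPGroup'.to_le (uG_le h)).comap_subtype (K := K)).exists_le_sylow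
  have hPeq : (uG h).subgroupOf K = (P : Subgroup K) := by
    refine Subgroup.eq_of_le_of_card_ge hPle (le_of_eq ?_)
    rw [Nat.card_congr (hP P).some.toEquiv, card_base h,
      Nat.card_congr (subgroupOfEquivOfLe hUK).toEquiv, card_uG h]
  have hPG : (P : Subgroup K).map K.subtype = uG h := by
    rw [← hPeq, subgroupOf_map_subtype, inf_eq_left.mpr hUK]
  refine CfsgLib.Transfer.hasNormalPComplement_of_normalizer_le P fun k hk => ?_
  have hkN : (k : G) ∈ normalizer (uG h : Set G) := by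
    refine mem_normalizer_of_cj (Subgroup.eq_of_le_of_card_ge ?_ (card_cj _ _).ge)
    rw [← hPG]
    rintro _ ⟨_, ⟨p, hp, rfl⟩, rfl⟩
    exact ⟨k * p * k⁻¹, (mem_normalizer_iff.mp hk p).mp hp, rfl⟩
  have hkC : (k : G) ∈ centralizer (uG h : Set G) := by
    refine mem_of_parts (fun g hg ho => ?_) (fun g hg ⟨j, hj⟩ => ?_)
    · have hgN : g ∈ normalizer (uG h : Set G) :=
        (Subgroup.zpowers_le (H := normalizer (uG h : Set G))).mpr hkN hg
      refine mem_centralizer_iff.mpr fun u hu => (mul_inv_eq_iff_eq_mul.mp ?_).symm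
      have hg2 : g * g * u * (g * g)⁻¹ = u := by
        rw [show g * g * u * (g * g)⁻¹ = g * (g * u * g⁻¹) * g⁻¹ by group]
        rcases hact g hgN u hu with e | e
        · rw [e, e]
        · have hu1 : g * u * g⁻¹ ∈ uG h := (mem_normalizer_iff.mp hgN u).mp hu
          rcases hact g hgN _ hu1 with e' | e'
          · have e2 : g * u * g⁻¹ = u := mul_left_cancel (mul_right_cancel e')
            rw [e', e2]
          · have hzz : (z : G) * (z : G) = 1 := congrArg Subtype.val (zz h)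
            rw [e', e,
              show (z : G) * ((z : G) * u * (z : G)⁻¹) * (z : G)⁻¹ =
                (z : G) * (z : G) * u * ((z : G) * (z : G))⁻¹ by group, hzz]
            simp
      obtain ⟨c, hc⟩ := ho
      have h3 : g = (g * g) ^ (c + 1) := by
        rw [← pow_two, ← pow_mul, show 2 * (c + 1) = 2 * c + 1 + 1 by ring, pow_succ, ← hc,
          pow_orderOf_eq_one, one_mul]
      have hcomm : Commute (g * g) u := mul_inv_eq_iff_eq_mul.mp hg2
      have h4 : Commute g u := h3 ▸ hcomm.pow_left _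
      rw [h4.eq, mul_inv_cancel_right]
    · have hgK : g ∈ K := (Subgroup.zpowers_le (H := K)).mpr k.2 hg
      have hgU : (⟨g, hgK⟩ : K) ∈ (P : Subgroup K) := by
        set R := (P : Subgroup K) ⊔ zpowers (⟨g, hgK⟩ : K) with hR
        have hgp : IsPGroup 2 (zpowers (⟨g, hgK⟩ : K)) := by
          obtain ⟨i, -, hi⟩ := (Nat.dvd_prime_pow Nat.prime_two).mp
            (orderOf_dvd_of_pow_eq_one (x := (⟨g, hgK⟩ : K)) (Subtype.ext (by simpa using hj)))
          exact IsPGroup.of_card (n := i) (by rw [Nat.card_zpowers, hi])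
        have hRp : IsPGroup 2 R := by
          refine IsPGroup.to_sup_of_normal_left' P.isPGroup' hgp ?_
          refine Subgroup.zpowers_le.mpr ?_
          exact (Subgroup.zpowers_le (H := normalizer ((P : Subgroup K) : Set K))).mpr hk (by
            obtain ⟨i, hi⟩ := hg
            exact ⟨i, Subtype.ext (by simpa using hi)⟩)
        rw [← P.3 hRp le_sup_left]
        exact mem_sup_right (mem_zpowers _)
      rw [← hPeq] at hgU
      exact mem_centralizer_iff.mpr fun u hu => (uG_commute h hu hgU).eq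
  refine mem_centralizer_iff.mpr fun p hp => Subtype.ext ?_
  exact mem_centralizer_iff.mp hkC _ (hPG ▸ (⟨p, hp, rfl⟩ : (p : G) ∈ (P : Subgroup K).map K.subtype))

end CfsgLib.TwoGroups.WRC
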