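import Cfsg.Agent.Lib.TwoGroups.Wreathed
import Cfsg.Agent.Lib.TwoGroups.Semidihedral

/-!
Subgroups of wreathed 2-groups: abelian, four-groups, quaternion subgroups, `Ω₁`.
-/

set_option autoImplicit false
set_option linter.unusedSectionVars false

namespace CfsgLib.TwoGroups.WR

variable {S : Type*} [Group S] [Finite S] {n : ℕ} {x y z : S}

theorem commutative_card_le (h : WR S n x y z) {M : Subgroup S} (hM : IsMulCommutative M)
    (hMb : ¬ M ≤ base h) : Nat.card M ≤ 2 * 2 ^ n := by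
  obtain ⟨g, hg, hgb⟩ := SetLike.not_le_iff_exists.mp hMb
  obtain ⟨c, d, rfl | rfl⟩ := h.gen g
  · exact absurd (el_mem_base h c d) hgb
  · have hsub : (M : Set S) ⊆ (Subgroup.center S : Set S) ∪
        (fun u => u * (el x y c d * z)) '' (Subgroup.center S : Set S) := by
      intro u hu
      have huc : Commute u (el x y c d * z) := by
        have e := hM.is_comm.comm (⟨u, hu⟩ : M) ⟨_, hg⟩
        exact (congrArg Subtype.val e :)
      obtain ⟨a, rfl | rfl⟩ := (centralizer_elz h).mp huc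
      · exact Or.inl ((mem_center_iff h).mpr ⟨a, rfl⟩)
      · exact Or.inr ⟨_, (mem_center_iff h).mpr ⟨a, rfl⟩, rfl⟩
    have hc : ((Subgroup.center S : Subgroup S) : Set S).ncard = 2 ^ n := by
      rw [← Nat.card_coe_set_eq]; exact card_center h
    calc Nat.card M = (M : Set S).ncard := Nat.card_coe_set_eq _
      _ ≤ _ := Set.ncard_le_ncard hsub
      _ ≤ _ := Set.ncard_union_le _ _
      _ ≤ 2 ^ n + 2 ^ n := add_le_add hc.le ((Set.ncard_image_le).trans hc.le)
      _ = 2 * 2 ^ n := by ring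

theorem eq_base_of_commutative (h : WR S n x y z) {M : Subgroup S} (hM : IsMulCommutative M)
    (hc : Nat.card M = 2 ^ (2 * n)) : M = base h := by
  by_cases hMb : M ≤ base h
  · exact Subgroup.eq_of_le_of_card_ge hMb (by rw [hc, card_base h])
  · exfalso
    have h1 := commutative_card_le h hM hMb
    rw [hc, two_mul, pow_add] at h1
    have h2 := Nat.le_of_mul_le_mul_right h1 (pow_pos two_pos n)
    have h3 : 4 ≤ 2 ^ n := le_of_eq_of_le (by norm_num : 4 = 2 ^ 2) (Nat.pow_le_pow_right two_pos h.two_le)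
    omega

theorem nonempty_base_equiv (h : WR S n x y z) :
    Nonempty (base h ≃* Multiplicative (ZMod (2 ^ n) × ZMod (2 ^ n))) := by
  have hcast : ∀ a : ℤ, (2 : ℤ) ^ n ∣ ((a : ZMod (2 ^ n)).cast : ℤ) - a := by
    intro a
    have := (ZMod.intCast_eq_intCast_iff_dvd_sub _ _ _).mp
      (ZMod.intCast_zmod_cast (a : ZMod (2 ^ n))).symm
    exact_mod_cast this
  let f : Multiplicative (ZMod (2 ^ n) × ZMod (2 ^ n)) → base h := fun p =>
    ⟨el x y (p.toAdd.1.cast : ℤ) (p.toAdd.2.cast : ℤ), el_mem_base h _ _⟩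
  have hmul : ∀ p q, f (p * q) = f p * f q := by
    intro p q
    apply Subtype.ext
    show el x y _ _ = el x y _ _ * el x y _ _
    rw [el_mul h, h.eq_iff]
    constructor
    · have := hcast ((p.toAdd.1.cast : ℤ) + (q.toAdd.1.cast : ℤ))
      simpa using this
    · have := hcast ((p.toAdd.2.cast : ℤ) + (q.toAdd.2.cast : ℤ))
      simpa using this
  have hbij : Function.Bijective f := by
    constructor
    · intro p q e
      have e' := (h.eq_iff _ _ _ _).mp (congrArg Subtype.val e)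
      have key : ∀ u v : ZMod (2 ^ n), (2 : ℤ) ^ n ∣ (u.cast : ℤ) - (v.cast : ℤ) → u = v := by
        intro u v huv
        have := (ZMod.intCast_eq_intCast_iff_dvd_sub (v.cast : ℤ) (u.cast : ℤ) (2 ^ n)).mpr
          (by exact_mod_cast huv)
        rw [ZMod.intCast_zmod_cast, ZMod.intCast_zmod_cast] at this
        exact this.symm
      exact Prod.ext (key _ _ e'.1) (key _ _ e'.2)
    · rintro ⟨_, a, b, rfl⟩
      refine ⟨Multiplicative.ofAdd ((a : ZMod (2 ^ n)), (b : ZMod (2 ^ n))), Subtype.ext ?_⟩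
      exact (h.eq_iff _ _ _ _).mpr ⟨hcast a, hcast b⟩
  exact ⟨(MulEquiv.ofBijective (MonoidHom.mk' f hmul) hbij).symm⟩

theorem nonempty_quotient_center_equiv (h : WR S n x y z) :
    Nonempty (S ⧸ Subgroup.center S ≃* DihedralGroup (2 ^ n)) := by
  set π := QuotientGroup.mk' (Subgroup.center S) with hπ
  have hmem : ∀ g : S, π g = 1 ↔ g ∈ Subgroup.center S := fun g => QuotientGroup.eq_one_iff g
  have hu : π x ^ (2 ^ n) = 1 := by
    rw [← el_x (x := x) (y := y), ← map_pow, el_pow h, (el_eq_one h).mpr ?_, map_one]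
    push_cast
    simp
  have hv : π z * π z = 1 := by rw [← map_mul, zz h, map_one]
  have hxy : π x * π y = 1 := by
    rw [← map_mul, hmem]
    exact (mem_center_iff h).mpr ⟨1, by simp [el]⟩
  have hvu : π z * π x * (π z)⁻¹ = (π x)⁻¹ := by
    rw [← map_inv π z, ← map_mul, ← map_mul, h.rel]
    exact (inv_eq_of_mul_eq_one_right hxy).symm
  have hord : orderOf (π x) = 2 ^ n := by
    apply Nat.dvd_antisymm (orderOf_dvd_of_pow_eq_one hu)
    have h1 := pow_orderOf_eq_one (π x)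
    rw [← el_x (x := x) (y := y), ← map_pow, el_pow h, hmem, mem_center_iff h] at h1
    obtain ⟨a, ha⟩ := h1
    rw [h.eq_iff, one_mul, zero_mul] at ha
    rw [el_x] at ha
    have := ha.1.sub ha.2
    simp only [zero_sub, sub_neg_eq_add, sub_add_cancel] at this
    exact_mod_cast this
  have hnot : π z ∉ Subgroup.zpowers (π x) := by
    rintro ⟨k, hk⟩
    have hk' : (el x y 1 0 ^ k)⁻¹ * z ∈ Subgroup.center S := by
      rw [← hmem, map_mul, map_inv, map_zpow, el_x]
      exact inv_mul_eq_one.mpr hk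
    obtain ⟨a, ha⟩ := (mem_center_iff h).mp hk'
    rw [el_zpow h, el_inv h] at ha
    exact el_z_ne h _ _ _ _ ha
  set φ := CfsgLib.TwoGroups.SD.dihedralHom (π x) (π z) hu hv hvu
  have hinj : Function.Injective φ :=
    CfsgLib.TwoGroups.SD.dihedralHom_injective _ _ hu hv hvu hord hnot
  have hcard : Nat.card (S ⧸ Subgroup.center S) = Nat.card (DihedralGroup (2 ^ n)) := by
    have h1 := (Subgroup.center S).card_mul_index
    rw [card_center h, h.card] at h1
    rw [DihedralGroup.nat_card, ← Subgroup.index_eq_card]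
    apply Nat.eq_of_mul_eq_mul_left (pow_pos two_pos n)
    rw [h1, pow_succ, two_mul, pow_add]
    ring
  have hbij : Function.Bijective φ :=
    (Nat.bijective_iff_injective_and_card φ).mpr ⟨hinj, hcard.symm⟩
  exact ⟨(MulEquiv.ofBijective φ hbij).symm⟩

/-! ### Four-groups -/

/-- The four-group of the base. -/
def baseFour (h : WR S n x y z) : Subgroup S where
  carrier := {g | g ∈ base h ∧ g ^ 2 = 1}
  one_mem' := ⟨(base h).one_mem, one_pow 2⟩
  mul_mem' := by
    intro u v hu hv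
    obtain ⟨a, b, rfl⟩ := hu.1
    obtain ⟨c, d, rfl⟩ := hv.1
    exact ⟨(base h).mul_mem hu.1 hv.1, by rw [(commute_el h a b c d).mul_pow, hu.2, hv.2, one_mul]⟩
  inv_mem' := fun {u} hu => ⟨(base h).inv_mem hu.1, by rw [inv_pow, hu.2, inv_one]⟩

/-- The four-group through an element outside the base. -/
def fourOf (h : WR S n x y z) (g : S) (hg : g ∉ base h) : Subgroup S where
  carrier := {u | Commute u g ∧ u ^ 2 = 1}
  one_mem' := ⟨Commute.one_left g, one_pow 2⟩
  mul_mem' := fun {u v} hu hv => ⟨hu.1.mul_left hv.1,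
    by rw [(show Commute u v from comm_of_commute_elz h hg hu.1 hv.1).mul_pow, hu.2, hv.2, one_mul]⟩
  inv_mem' := fun {u} hu => ⟨hu.1.inv_left, by rw [inv_pow, hu.2, inv_one]⟩

theorem baseFour_normal (h : WR S n x y z) : (baseFour h).Normal :=
  ⟨fun u hu g => ⟨(base_normal h).conj_mem u hu.1 g, by rw [conj_pow, hu.2, mul_one, mul_inv_cancel]⟩⟩

theorem isKleinFour_of_card {G : Type*} [Group G] {T : Subgroup G} (hc : Nat.card T = 4)
    (hsq : ∀ u ∈ T, u ^ 2 = 1) : IsKleinFour T := by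
  have : Nontrivial T := by
    have : Finite T := Nat.finite_of_card_ne_zero (by omega)
    exact Finite.one_lt_card_iff_nontrivial.mp (by omega)
  refine ⟨hc, ?_⟩
  exact (Monoid.exponent_eq_prime_iff Nat.prime_two).mpr fun u hu =>
    orderOf_eq_prime (Subtype.ext (hsq u u.2)) hu

theorem ncard_four {a b c : S} (ha : a ≠ 1) (hb : b ≠ 1) (hc : c ≠ 1) (hab : a ≠ b) (hac : a ≠ c)
    (hbc : b ≠ c) : ({1, a, b, c} : Set S).ncard = 4 := by
  rw [Set.ncard_insert_of_notMem, Set.ncard_insert_of_notMem, Set.ncard_insert_of_notMem,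
    Set.ncard_singleton] <;> simp [ha.symm, hb.symm, hc.symm, hab, hac, hbc]

theorem half_facts (h : WR S n x y z) :
    ¬ (2 : ℤ) ^ n ∣ 2 ^ (n - 1) ∧ (2 : ℤ) ^ n ∣ 2 * 2 ^ (n - 1) :=
  ⟨not_dvd_half h (npos h), by rw [← two_pow_split h]⟩

theorem isKleinFour_baseFour (h : WR S n x y z) : IsKleinFour (baseFour h) := by
  obtain ⟨hn, hd⟩ := half_facts h
  set e : ℤ := 2 ^ (n - 1)
  refine isKleinFour_of_card ?_ fun u hu => hu.2
  have hset : ((baseFour h : Subgroup S) : Set S) = {1, el x y e 0, el x y 0 e, el x y e e} := by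
    ext u
    constructor
    · rintro ⟨hu, hu2⟩
      by_cases hu1 : u = 1
      · exact Or.inl hu1
      rcases involution_cases h hu2 hu1 with e' | e' | e' | ⟨a, e'⟩
      · exact Or.inr (Or.inl e')
      · exact Or.inr (Or.inr (Or.inl e'))
      · exact Or.inr (Or.inr (Or.inr e'))
      · exact absurd hu (e' ▸ elz_not_mem_base h a (-a))
    · intro hu
      have key : ∀ a b : ℤ, (2 : ℤ) ^ n ∣ 2 * a → (2 : ℤ) ^ n ∣ 2 * b → el x y a b ∈ baseFour h :=
        fun a b ha hb => ⟨el_mem_base h a b, by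
          rw [el_pow h, el_eq_one h]; push_cast; exact ⟨by rwa [mul_comm], by rwa [mul_comm]⟩⟩
      rcases hu with rfl | rfl | rfl | rfl
      · exact one_mem _
      · exact key _ _ hd (by simp)
      · exact key _ _ (by simp) hd
      · exact key _ _ hd hd
  show Nat.card ((baseFour h : Subgroup S) : Set S) = 4
  rw [hset, Nat.card_coe_set_eq]
  apply ncard_four
  all_goals first
    | (rw [ne_eq, el_eq_one h]; tauto)
    | (rw [ne_eq, h.eq_iff]; simp only [sub_zero, zero_sub, sub_self, dvd_neg, dvd_zero]; tauto)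

theorem fourOf_set (h : WR S n x y z) (a : ℤ) :
    ((fourOf h _ (elz_not_mem_base h a (-a)) : Subgroup S) : Set S) =
      {1, el x y (2 ^ (n - 1)) (2 ^ (n - 1)), el x y a (-a) * z,
        el x y (2 ^ (n - 1)) (2 ^ (n - 1)) * (el x y a (-a) * z)} := by
  obtain ⟨hn, hd⟩ := half_facts h
  have hj : ∀ k, Commute (el x y (2 ^ (n - 1)) (2 ^ (n - 1))) k := fun k =>
    (Subgroup.mem_center_iff.mp ((mem_center_iff h).mpr ⟨_, rfl⟩) k).symm
  have hj2 : el x y (2 ^ (n - 1)) (2 ^ (n - 1)) ^ 2 = 1 := by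
    rw [el_pow h, el_eq_one h]; push_cast; exact ⟨by rwa [mul_comm], by rwa [mul_comm]⟩
  have hg2 : (el x y a (-a) * z) ^ 2 = 1 := by rw [el_z_sq h, add_neg_cancel, el_zero]
  ext u
  constructor
  · rintro ⟨hu, hu2⟩
    obtain ⟨b, rfl | rfl⟩ := (centralizer_elz h).mp hu
    · rw [el_pow h, el_eq_one h] at hu2
      rcases half_sq h (by simpa using hu2.1) with hb | hb
      · exact Or.inl ((el_eq_one h).mpr ⟨hb, hb⟩)
      · exact Or.inr (Or.inl ((h.eq_iff _ _ _ _).mpr ⟨hb, hb⟩))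
    · rw [((commute_el_elz h).mpr (by simp)).mul_pow, hg2, mul_one, el_pow h, el_eq_one h] at hu2
      rcases half_sq h (by simpa using hu2.1) with hb | hb
      · refine Or.inr (Or.inr (Or.inl ?_))
        rw [(el_eq_one h).mpr ⟨hb, hb⟩, one_mul]
      · refine Or.inr (Or.inr (Or.inr ?_))
        show _ = _
        rw [(h.eq_iff _ _ _ _).mpr ⟨hb, hb⟩]
  · rintro (rfl | rfl | rfl | rfl)
    · exact one_mem _
    · exact ⟨hj _, hj2⟩
    · exact ⟨Commute.refl _, hg2⟩
    · exact ⟨(hj _).mul_left (Commute.refl _), by rw [(hj _).mul_pow, hj2, hg2, one_mul]⟩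

theorem isKleinFour_fourOf (h : WR S n x y z) (a : ℤ) :
    IsKleinFour (fourOf h _ (elz_not_mem_base h a (-a))) := by
  obtain ⟨hn, hd⟩ := half_facts h
  refine isKleinFour_of_card ?_ fun u hu => hu.2
  show Nat.card ((fourOf h _ (elz_not_mem_base h a (-a)) : Subgroup S) : Set S) = 4
  rw [fourOf_set h, Nat.card_coe_set_eq]
  have hj1 : el x y (2 ^ (n - 1)) (2 ^ (n - 1)) ≠ 1 := by rw [ne_eq, el_eq_one h]; tauto
  have hg1 : el x y a (-a) * z ≠ 1 := fun e => el_z_ne h a (-a) 0 0 (e.trans el_zero.symm)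
  apply ncard_four hj1 hg1
  · rw [← mul_assoc, el_mul h]
    exact fun e => el_z_ne h _ _ 0 0 (e.trans el_zero.symm)
  · exact (el_z_ne h _ _ _ _).symm
  · rw [← mul_assoc, el_mul h]
    exact (el_z_ne h _ _ _ _).symm
  · exact fun e => hj1 (mul_eq_right.mp e.symm)

theorem klein_cases (h : WR S n x y z) {T : Subgroup S} (hT : IsKleinFour T) :
    T = baseFour h ∨ ∃ a : ℤ, T = fourOf h _ (elz_not_mem_base h a (-a)) := by
  have hsq : ∀ u ∈ T, u ^ 2 = 1 := fun u hu => by
    have := Monoid.pow_exponent_eq_one (⟨u, hu⟩ : T)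
    rw [IsKleinFour.exponent_two] at this
    exact congrArg Subtype.val this
  have hc : Nat.card T = 4 := IsKleinFour.card_four
  by_cases hb : T ≤ base h
  · left
    refine Subgroup.eq_of_le_of_card_ge (fun u hu => ⟨hb hu, hsq u hu⟩) ?_
    rw [hc, (isKleinFour_baseFour h).card_four]
  · right
    obtain ⟨g, hg, hgb⟩ := SetLike.not_le_iff_exists.mp hb
    obtain ⟨a, rfl⟩ : ∃ a : ℤ, g = el x y a (-a) * z := by
      rcases involution_cases h (hsq g hg) (fun e => hgb (e ▸ one_mem _)) with e | e | e | ha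
      · exact absurd (e ▸ el_mem_base h _ _) hgb
      · exact absurd (e ▸ el_mem_base h _ _) hgb
      · exact absurd (e ▸ el_mem_base h _ _) hgb
      · exact ha
    refine ⟨a, Subgroup.eq_of_le_of_card_ge (fun u hu => ⟨?_, hsq u hu⟩) ?_⟩
    · exact congrArg Subtype.val (mul_comm_of_exponent_two (IsKleinFour.exponent_two (G := T))
        ⟨u, hu⟩ ⟨_, hg⟩)
    · rw [hc, (isKleinFour_fourOf h a).card_four]

theorem fourOf_conj (h : WR S n x y z) (a b : ℤ) :
    ∃ s : S, (fourOf h _ (elz_not_mem_base h a (-a))).map (MulAut.conj s).toMonoidHom =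
      fourOf h _ (elz_not_mem_base h b (-b)) := by
  obtain ⟨s, hs⟩ := isConj_iff.mp (isConj_elz h (a := a) (b := -a) (c := b) (d := -b) (by simp))
  refine ⟨s, Subgroup.eq_of_le_of_card_ge ?_ ?_⟩
  · rintro _ ⟨u, hu, rfl⟩
    refine ⟨?_, by simp only [MulEquiv.coe_toMonoidHom, MulAut.conj_apply]; rw [conj_pow, hu.2, mul_one, mul_inv_cancel]⟩
    have := hu.1.map (MulAut.conj s).toMonoidHom
    simpa [← hs] using this
  · rw [Subgroup.card_map_of_injective (MulAut.conj s).injective, (isKleinFour_fourOf h a).card_four,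
      (isKleinFour_fourOf h b).card_four]

/-! ### Quaternion subgroups -/

/-- A quaternion subgroup has a standard pair of generators with the first one in the base. -/
theorem base_pair (h : WR S n x y z) {m : ℕ} (hm : 2 ≤ m) (Y : Subgroup S) {u v : S} (hu : u ∈ Y)
    (hv : v ∈ Y) (hum : u ^ m ≠ 1) (hu2 : u ^ (2 * m) = 1) (hvu : v * u * v⁻¹ = u⁻¹)
    (hvv : v ^ 2 = u ^ m) (hord : orderOf u = 2 * m) :
    ∃ k ∈ Y, ∃ g ∈ Y, k ∈ base h ∧ g * k * g⁻¹ = k⁻¹ ∧ g ^ 2 = k ^ m ∧ k ^ m ≠ 1 ∧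
      orderOf k = 2 * m := by
  by_cases hub : u ∈ base h
  · exact ⟨u, hu, v, hv, hub, hvu, hvv, hum, hord⟩
  have hu4 : u ^ 4 = 1 := by
    obtain ⟨c, d, e | e⟩ := h.gen u
    · exact absurd (e ▸ el_mem_base h c d) hub
    · have hcen : u ^ 2 ∈ Subgroup.center S := by
        rw [e, el_z_sq h]; exact (mem_center_iff h).mpr ⟨_, rfl⟩
      have h1 : v * u ^ 2 * v⁻¹ = u ^ 2 := by
        rw [Subgroup.mem_center_iff.mp hcen v, mul_inv_cancel_right]
      rw [← conj_pow, hvu, inv_pow] at h1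
      rw [show 4 = 2 + 2 from rfl, pow_add]
      nth_rw 1 [← h1]
      exact inv_mul_cancel _
  have hm2 : m = 2 := by
    have := Nat.le_of_dvd (by norm_num) (hord ▸ orderOf_dvd_of_pow_eq_one hu4)
    omega
  subst hm2
  have hv4 : ∀ w : S, w ^ 2 = u ^ 2 → orderOf w = 2 * 2 := by
    intro w hw
    have h1 : ¬ w ^ (2 ^ 1) = 1 := by rw [show (2 : ℕ) ^ 1 = 2 from rfl, hw]; exact hum
    have h2 : w ^ (2 ^ (1 + 1)) = 1 := by
      rw [show (2 : ℕ) ^ (1 + 1) = 2 * 2 from rfl, pow_mul, hw, ← pow_mul]; exact hu4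
    simpa using orderOf_eq_prime_pow h1 h2
  have hrel' : u * v = v * u⁻¹ := by
    have : v * u⁻¹ * v⁻¹ = u := by rw [← conj_inv, hvu, inv_inv]
    calc u * v = v * u⁻¹ * v⁻¹ * v := by rw [this]
      _ = v * u⁻¹ := by group
  by_cases hvb : v ∈ base h
  · refine ⟨v, hv, u, hu, hvb, ?_, hvv.symm, hvv ▸ hum, hv4 v hvv⟩
    calc u * v * u⁻¹ = v * (u ^ 2)⁻¹ := by rw [hrel']; group
      _ = v⁻¹ := by rw [← hvv]; group
  · have hk2 : (u * v) ^ 2 = u ^ 2 := by
      calc (u * v) ^ 2 = u * (v * u * v⁻¹) * v ^ 2 := by rw [pow_two, pow_two]; group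
        _ = u ^ 2 := by rw [hvu, hvv]; group
    refine ⟨u * v, Y.mul_mem hu hv, u, hu, ?_, ?_, hk2.symm, hk2 ▸ hum, hv4 _ hk2⟩
    · rw [Subgroup.mul_mem_iff_of_index_two (index_base h)]
      exact iff_of_false hub hvb
    · have h1 : u * v * u⁻¹ = v * (u ^ 2)⁻¹ := by rw [hrel']; group
      calc u * (u * v) * u⁻¹ = u * (u * v * u⁻¹) := by group
        _ = u * v * ((u * v) ^ 2)⁻¹ := by rw [h1, hk2, mul_assoc]
        _ = (u * v)⁻¹ := by group

/-- Normal form of the generators of a quaternion subgroup of order `4m`. -/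
theorem quaternion_gens (h : WR S n x y z) {m : ℕ} (hm : 2 ≤ m) (Y : Subgroup S)
    (e : Y ≃* QuaternionGroup m) : ∃ a c d : ℤ, el x y a (-a) ∈ Y ∧ el x y c d * z ∈ Y ∧
      (2 : ℤ) ^ n ∣ c + d - a * m ∧ ¬ (2 : ℤ) ^ n ∣ a * m ∧ (2 : ℤ) ^ n ∣ a * (2 * m) ∧
      Y = Subgroup.closure {el x y a (-a), el x y c d * z} := by
  have : NeZero m := ⟨by omega⟩
  set u : Y := e.symm (QuaternionGroup.a 1)
  set v : Y := e.symm (QuaternionGroup.xa 0)
  have hord : orderOf (u : S) = 2 * m := by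
    rw [Subgroup.orderOf_coe, MulEquiv.orderOf_eq, QuaternionGroup.orderOf_a_one]
  have hum : (u : S) ^ m ≠ 1 := pow_ne_one_of_lt_orderOf (by omega) (by omega)
  have hu2 : (u : S) ^ (2 * m) = 1 := by rw [← hord, pow_orderOf_eq_one]
  have hvu : (v : S) * u * (v : S)⁻¹ = (u : S)⁻¹ := by
    have hq : QuaternionGroup.xa (0 : ZMod (2 * m)) * QuaternionGroup.a 1 *
        (QuaternionGroup.xa 0)⁻¹ = (QuaternionGroup.a 1)⁻¹ := by
      rw [mul_inv_eq_iff_eq_mul, eq_inv_mul_iff_mul_eq, QuaternionGroup.xa_mul_a,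
        QuaternionGroup.a_mul_xa]
      simp
    have := congrArg e.symm hq
    rw [map_mul, map_mul, map_inv, map_inv] at this
    exact congrArg Subtype.val this
  have hvv : (v : S) ^ 2 = (u : S) ^ m := by
    have hq : QuaternionGroup.xa (0 : ZMod (2 * m)) ^ 2 = QuaternionGroup.a 1 ^ m := by
      rw [QuaternionGroup.xa_sq, QuaternionGroup.a_one_pow]
    have := congrArg e.symm hq
    rw [map_pow, map_pow] at this
    exact congrArg Subtype.val this
  obtain ⟨k, hk, g, hg, hkb, hgk, hgg, hkm, hko⟩ := base_pair h hm Y u.2 v.2 hum hu2 hvu hvv hord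
  have hk2 : k ^ 2 ≠ 1 := fun e2 => by
    have := Nat.le_of_dvd two_pos (hko ▸ orderOf_dvd_of_pow_eq_one e2)
    omega
  obtain ⟨a, c, d, rfl, rfl, hcd⟩ := quaternion_pair h hkb hgk hk2 hgg
  refine ⟨a, c, d, hk, hg, hcd, ?_, ?_, ?_⟩
  · intro hd
    rw [ne_eq, el_pow h, el_eq_one h] at hkm
    exact hkm ⟨hd, by rw [neg_mul, dvd_neg]; exact hd⟩
  · have := pow_orderOf_eq_one (el x y a (-a))
    rw [hko, el_pow h, el_eq_one h] at this
    exact_mod_cast this.1
  have hk2m : el x y a (-a) ^ (2 * m) = 1 := by rw [← hko, pow_orderOf_eq_one]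
  have hgg' : (el x y c d * z) * (el x y c d * z) = el x y a (-a) ^ m := by rw [← pow_two, hgg]
  have hnot : el x y c d * z ∉ Subgroup.zpowers (el x y a (-a)) := fun hm' =>
    elz_not_mem_base h c d ((Subgroup.zpowers_le.mpr (el_mem_base h _ _)) hm')
  have hinj := CfsgLib.TwoGroups.SD.quaternionHom_injective _ _ hk2m hgg' hgk hko hnot
  symm
  refine Subgroup.eq_of_le_of_card_ge ((Subgroup.closure_le _).mpr ?_) (le_of_eq ?_)
  · rintro w (rfl | rfl) <;> assumption
  · rw [← CfsgLib.TwoGroups.SD.range_quaternionHom _ _ hk2m hgg' hgk, Nat.card_congr e.toEquiv]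
    exact Nat.card_congr (MonoidHom.ofInjective hinj).toEquiv

/-- The generalized quaternion subgroup of order `2^(n+1)`. -/
def bigQuat (n : ℕ) (x y z : S) : Subgroup S :=
  Subgroup.closure {el x y 1 (-1), el x y (2 ^ (n - 1)) 0 * z}

theorem nonempty_bigQuat_equiv (h : WR S n x y z) :
    Nonempty (bigQuat n x y z ≃* QuaternionGroup (2 ^ (n - 1))) := by
  have hN : 2 * 2 ^ (n - 1) = 2 ^ n := by rw [← pow_succ', Nat.sub_add_cancel (npos h)]
  have h1 : el x y 1 (-1) ^ (2 * 2 ^ (n - 1)) = 1 := by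
    rw [hN, ← orderOf_el_one h (-1), pow_orderOf_eq_one]
  have hv : (el x y (2 ^ (n - 1)) 0 * z) * (el x y (2 ^ (n - 1)) 0 * z) =
      el x y 1 (-1) ^ (2 ^ (n - 1)) := by
    rw [el_z_mul_el_z h, el_pow h, h.eq_iff]
    push_cast
    constructor
    · simp
    · simpa [← two_mul, add_comm] using (half_facts h).2
  have hvu : el x y (2 ^ (n - 1)) 0 * z * el x y 1 (-1) * (el x y (2 ^ (n - 1)) 0 * z)⁻¹ =
      (el x y 1 (-1))⁻¹ := by
    rw [conj_elz_el h, el_inv h, neg_neg]
  have hnot : el x y (2 ^ (n - 1)) 0 * z ∉ Subgroup.zpowers (el x y 1 (-1)) := fun hm =>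
    elz_not_mem_base h _ _ ((Subgroup.zpowers_le.mpr (el_mem_base h _ _)) hm)
  have hinj := CfsgLib.TwoGroups.SD.quaternionHom_injective _ _ h1 hv hvu
    (by rw [orderOf_el_one h, hN]) hnot
  exact ⟨((MonoidHom.ofInjective hinj).trans (MulEquiv.subgroupCongr
    (CfsgLib.TwoGroups.SD.range_quaternionHom _ _ h1 hv hvu))).symm⟩

theorem card_bigQuat (h : WR S n x y z) : Nat.card (bigQuat n x y z) = 2 ^ (n + 1) := by
  obtain ⟨e⟩ := nonempty_bigQuat_equiv h
  have : NeZero (2 ^ (n - 1)) := ⟨(pow_pos two_pos _).ne'⟩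
  rw [Nat.card_congr e.toEquiv, Nat.card_eq_fintype_card, QuaternionGroup.card,
    show 4 = 2 ^ 2 from rfl, ← pow_add]
  congr 1
  have := npos h
  omega

theorem eq_bigQuat (h : WR S n x y z) {Y : Subgroup S}
    (e : Y ≃* QuaternionGroup (2 ^ (n - 1))) : Y = bigQuat n x y z := by
  have hm : 2 ≤ 2 ^ (n - 1) := Nat.le_self_pow (by have := h.two_le; omega) 2
  obtain ⟨a, c, d, -, -, hcd, hna, -, hY⟩ := quaternion_gens h hm Y e
  have hodd : Odd a := by
    rcases Int.even_or_odd a with ⟨q, rfl⟩ | ho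
    · exfalso
      apply hna
      exact ⟨q, by push_cast; rw [two_pow_split h]; ring⟩
    · exact ho
  have hgen : el x y 1 (-1) ∈ bigQuat n x y z := Subgroup.subset_closure (by simp)
  have hle : Y ≤ bigQuat n x y z := by
    rw [hY, Subgroup.closure_le]
    rintro w (rfl | rfl)
    · rw [show el x y a (-a) = el x y 1 (-1) ^ a by rw [el_zpow h, one_mul, neg_one_mul]]
      exact Subgroup.zpow_mem _ hgen a
    · have e2 : el x y c d * z =
          el x y 1 (-1) ^ (c - 2 ^ (n - 1)) * (el x y (2 ^ (n - 1)) 0 * z) := by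
        rw [el_zpow h, ← mul_assoc, el_mul h, el_z_eq h]
        refine ⟨by simp, ?_⟩
        obtain ⟨q, rfl⟩ := hodd
        push_cast at hcd
        rw [show d - (-1 * (c - 2 ^ (n - 1)) + 0) = (c + d - (2 * q + 1) * 2 ^ (n - 1)) +
          2 * 2 ^ (n - 1) * q by ring, ← two_pow_split h]
        exact hcd.add (dvd_mul_right _ _)
      rw [e2]
      exact Subgroup.mul_mem _ (Subgroup.zpow_mem _ hgen _) (Subgroup.subset_closure (by simp))
  refine Subgroup.eq_of_le_of_card_ge hle (le_of_eq ?_)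
  obtain ⟨e'⟩ := nonempty_bigQuat_equiv h
  rw [Nat.card_congr e.toEquiv, Nat.card_congr e'.toEquiv]

/-! ### The subgroup generated by the involutions -/

theorem omega_facts (h : WR S n x y z) :
    Nat.card (Subgroup.closure {g : S | orderOf g = 2}) = 2 ^ (n + 2) ∧
      Subgroup.closure {g : S | orderOf g = 2} ⊔ Subgroup.zpowers x = ⊤ := by
  obtain ⟨hn, hd⟩ := half_facts h
  obtain ⟨σ, hσ⟩ := exists_sum_hom h
  have hdvd : 2 ^ (n - 1) ∣ 2 ^ n := pow_dvd_pow 2 (Nat.sub_le n 1)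
  set τ : S →* Multiplicative (ZMod (2 ^ (n - 1))) :=
    (ZMod.castHom hdvd (ZMod (2 ^ (n - 1)))).toAddMonoidHom.toMultiplicative.comp σ
  have hτ : ∀ a b : ℤ, τ (el x y a b) = Multiplicative.ofAdd ((a + b : ℤ) : ZMod (2 ^ (n - 1))) ∧
      τ (el x y a b * z) = Multiplicative.ofAdd ((a + b : ℤ) : ZMod (2 ^ (n - 1))) := fun a b => by
    simp only [τ, MonoidHom.comp_apply, (hσ a b).1, (hσ a b).2]
    constructor <;> exact congrArg Multiplicative.ofAdd (map_intCast (ZMod.castHom hdvd (ZMod (2 ^ (n - 1)))) (a + b))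
  set W := Subgroup.closure {g : S | orderOf g = 2}
  have hz : z ∈ W := Subgroup.subset_closure h.ordz
  have hel : ∀ a b : ℤ, el x y a b = 1 → el x y a b ∈ W := fun a b e => e ▸ one_mem W
  have h1m : el x y 1 (-1) ∈ W := by
    have := W.mul_mem (Subgroup.subset_closure (orderOf_elz_involution h 1)) hz
    rwa [mul_assoc, zz h, mul_one] at this
  have he0 : el x y (2 ^ (n - 1)) 0 ∈ W :=
    Subgroup.subset_closure (orderOf_involution h _ _ hd (by simp) fun hh => hn hh.1)
  have hker : W = τ.ker := by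
    refine le_antisymm ((Subgroup.closure_le _).mpr ?_) ?_
    · intro g (hg : orderOf g = 2)
      have hg2 : g ^ 2 = 1 := by rw [← hg, pow_orderOf_eq_one]
      have hg1 : g ≠ 1 := fun e => by rw [e, orderOf_one] at hg; omega
      rw [SetLike.mem_coe, MonoidHom.mem_ker]
      have hc : ((2 ^ (n - 1) : ℤ) : ZMod (2 ^ (n - 1))) = 0 := by
        rw [ZMod.intCast_zmod_eq_zero_iff_dvd]; push_cast; rfl
      rcases involution_cases h hg2 hg1 with rfl | rfl | rfl | ⟨a, rfl⟩
      · rw [(hτ _ _).1, Int.cast_add, hc, Int.cast_zero, add_zero, ofAdd_zero]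
      · rw [(hτ _ _).1, Int.cast_add, hc, Int.cast_zero, add_zero, ofAdd_zero]
      · rw [(hτ _ _).1, Int.cast_add, hc, add_zero, ofAdd_zero]
      · rw [(hτ _ _).2, add_neg_cancel, Int.cast_zero, ofAdd_zero]
    · intro g hg
      rw [MonoidHom.mem_ker] at hg
      have hmem : ∀ a b : ℤ, ((a + b : ℤ) : ZMod (2 ^ (n - 1))) = 0 → el x y a b ∈ W := by
        intro a b hab
        rw [ZMod.intCast_zmod_eq_zero_iff_dvd] at hab
        obtain ⟨q, hq⟩ := hab
        push_cast at hq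
        rw [show el x y a b = el x y 1 (-1) ^ (-b) * el x y (2 ^ (n - 1)) 0 ^ q by
          rw [el_zpow h, el_zpow h, el_mul h]; congr 1 <;> linarith]
        exact W.mul_mem (W.zpow_mem h1m _) (W.zpow_mem he0 _)
      obtain ⟨a, b, rfl | rfl⟩ := h.gen g
      · rw [(hτ a b).1, ofAdd_eq_one] at hg
        exact hmem a b hg
      · rw [(hτ a b).2, ofAdd_eq_one] at hg
        exact W.mul_mem (hmem a b hg) hz
  have hsurj : Function.Surjective τ := by
    intro w
    obtain ⟨a, ha⟩ := ZMod.intCast_surjective w.toAdd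
    refine ⟨el x y a 0, ?_⟩
    rw [(hτ a 0).1, add_zero, ha]
    rfl
  refine ⟨?_, ?_⟩
  · have h1 := W.card_mul_index
    rw [h.card] at h1
    have h2 : W.index = 2 ^ (n - 1) := by
      rw [hker, Subgroup.index_ker, MonoidHom.range_eq_top.mpr hsurj, Subgroup.card_top,
        Nat.card_congr Multiplicative.toAdd, Nat.card_zmod]
    rw [h2] at h1
    apply Nat.eq_of_mul_eq_mul_right (pow_pos two_pos (n - 1))
    rw [h1, ← pow_add]
    congr 1
    have := npos h
    omega
  · rw [eq_top_iff]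
    intro g _
    have hx : el x y 1 0 ∈ W ⊔ Subgroup.zpowers x := by
      rw [el_x]; exact Subgroup.mem_sup_right (Subgroup.mem_zpowers x)
    have hel' : ∀ a b : ℤ, el x y a b ∈ W ⊔ Subgroup.zpowers x := by
      intro a b
      rw [show el x y a b = el x y 1 (-1) ^ (-b) * el x y 1 0 ^ (a + b) by
        rw [el_zpow h, el_zpow h, el_mul h]; congr 1 <;> ring]
      exact Subgroup.mul_mem _ (Subgroup.zpow_mem _ (Subgroup.mem_sup_left h1m) _)
        (Subgroup.zpow_mem _ hx _)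
    obtain ⟨a, b, rfl | rfl⟩ := h.gen g
    · exact hel' a b
    · exact Subgroup.mul_mem _ (hel' a b) (Subgroup.mem_sup_left hz)

end CfsgLib.TwoGroups.WR
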